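import Mathlib

set_option autoImplicit false
universe u v

namespace Groth.Agent.H24

open TopologicalSpace Topology

variable {X : Type u} {Y : Type v} [TopologicalSpace X] [TopologicalSpace Y]

/-- The irreducible closed subset `closure {x}`. -/
def ptClosure (x : X) : IrreducibleCloseds X :=
  ⟨closure {x}, isIrreducible_singleton.closure, isClosed_closure⟩

theorem ptClosure_le_iff {x x' : X} : ptClosure x' ≤ ptClosure x ↔ x ⤳ x' := by
  rw [specializes_iff_closure_subset]
  rfl

theorem ptClosure_lt_of_map {f : X → Y} (hc : Continuous f) {x x' : X} (h : x ⤳ x')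
    (hne : ¬ closure {f x} ⊆ closure {f x'}) : ptClosure x' < ptClosure x := by
  refine lt_of_le_of_ne (ptClosure_le_iff.mpr h) ?_
  intro heq
  apply hne
  have h' : x' ⤳ x := ptClosure_le_iff.mp heq.ge
  exact specializes_iff_closure_subset.mp (h'.map hc)

theorem exists_ltSeries_of_specializingMap [QuasiSober Y] (f : X → Y) (hc : Continuous f)
    (hf : SpecializingMap f) :
    ∀ (n : ℕ) (p : LTSeries (IrreducibleCloseds Y)), p.length = n →
      ∀ x : X, closure {f x} = (p.last : Set Y) →
        ∃ q : LTSeries (IrreducibleCloseds X), q.length = n ∧ q.last = ptClosure x := by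
  intro n
  induction n with
  | zero =>
    intro p _ x _
    exact ⟨RelSeries.singleton _ (ptClosure x), rfl, rfl⟩
  | succ n ih =>
    intro p hp x hx
    have hp0 : p.length ≠ 0 := by omega
    have hlt : p.eraseLast.last < p.last := p.eraseLast_last_rel_last hp0
    set s := p.eraseLast.last with hs
    let y' := s.isIrreducible.genericPoint
    have hy' : closure {y'} = (s : Set Y) := s.isIrreducible.closure_genericPoint s.isClosed
    have hy'mem : y' ∈ (p.last : Set Y) := by
      have h0 : y' ∈ (s : Set Y) := by
        rw [← hy']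
        exact subset_closure rfl
      exact hlt.le h0
    have hspec : f x ⤳ y' := by
      rw [specializes_iff_mem_closure, hx]
      exact hy'mem
    obtain ⟨x', hxx', hfx'⟩ := hf hspec
    have hlen : p.eraseLast.length = n := by
      rw [RelSeries.eraseLast_length]; omega
    obtain ⟨q', hq'len, hq'last⟩ := ih p.eraseLast hlen x' (by rw [hfx', hy'])
    have hrel : q'.last < ptClosure x := by
      rw [hq'last]
      apply ptClosure_lt_of_map hc hxx'
      rw [hfx', hy', hx]
      intro hsub
      exact absurd (show p.last ≤ s from hsub) (not_le_of_gt hlt)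
    refine ⟨q'.snoc (ptClosure x) hrel, ?_, ?_⟩
    · rw [RelSeries.snoc_length, hq'len]
    · exact RelSeries.last_snoc _ _ _

theorem exists_ltSeries_of_generalizingMap [QuasiSober Y] (f : X → Y) (hc : Continuous f)
    (hf : GeneralizingMap f) :
    ∀ (n : ℕ) (p : LTSeries (IrreducibleCloseds Y)), p.length = n →
      ∀ x : X, closure {f x} = (p.head : Set Y) →
        ∃ q : LTSeries (IrreducibleCloseds X), q.length = n ∧ q.head = ptClosure x := by
  intro n
  induction n with
  | zero =>
    intro p _ x _
    exact ⟨RelSeries.singleton _ (ptClosure x), rfl, rfl⟩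
  | succ n ih =>
    intro p hp x hx
    have hp0 : p.length ≠ 0 := by omega
    have hlt : p.head < (p.tail hp0).head := by
      rw [RelSeries.head_tail]
      have : NeZero p.length := ⟨hp0⟩
      exact p.strictMono Fin.one_pos'
    set s := (p.tail hp0).head with hs
    let y' := s.isIrreducible.genericPoint
    have hy' : closure {y'} = (s : Set Y) := s.isIrreducible.closure_genericPoint s.isClosed
    have hspec : y' ⤳ f x := by
      rw [specializes_iff_closure_subset, hx, hy']
      exact hlt.le
    obtain ⟨x', hxx', hfx'⟩ := hf hspec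
    have hlen : (p.tail hp0).length = n := by
      rw [RelSeries.tail_length]; omega
    obtain ⟨q', hq'len, hq'head⟩ := ih (p.tail hp0) hlen x' (by rw [hfx', hy'])
    have hrel : ptClosure x < q'.head := by
      rw [hq'head]
      apply ptClosure_lt_of_map hc hxx'
      rw [hfx', hy', hx]
      intro hsub
      exact absurd (show s ≤ p.head from hsub) (not_le_of_gt hlt)
    refine ⟨q'.cons (ptClosure x) hrel, ?_, ?_⟩
    · rw [RelSeries.cons_length, hq'len]
    · exact RelSeries.head_cons _ _ _

theorem topologicalKrullDim_le_of_specializingMap [QuasiSober Y] (f : X → Y) (hc : Continuous f)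
    (hf : SpecializingMap f) (hs : Function.Surjective f) :
    topologicalKrullDim Y ≤ topologicalKrullDim X := by
  unfold topologicalKrullDim
  rw [Order.krullDim]
  apply iSup_le
  intro p
  obtain ⟨x, hx⟩ := hs p.last.isIrreducible.genericPoint
  obtain ⟨q, hq, -⟩ := exists_ltSeries_of_specializingMap f hc hf p.length p rfl x
    (by rw [hx]; exact p.last.isIrreducible.closure_genericPoint p.last.isClosed)
  rw [← hq]
  exact Order.LTSeries.length_le_krullDim q

theorem topologicalKrullDim_le_of_generalizingMap [QuasiSober Y] (f : X → Y) (hc : Continuous f)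
    (hf : GeneralizingMap f) (hs : Function.Surjective f) :
    topologicalKrullDim Y ≤ topologicalKrullDim X := by
  unfold topologicalKrullDim
  rw [Order.krullDim]
  apply iSup_le
  intro p
  obtain ⟨x, hx⟩ := hs p.head.isIrreducible.genericPoint
  obtain ⟨q, hq, -⟩ := exists_ltSeries_of_generalizingMap f hc hf p.length p rfl x
    (by rw [hx]; exact p.head.isIrreducible.closure_genericPoint p.head.isClosed)
  rw [← hq]
  exact Order.LTSeries.length_le_krullDim q

/-- Generalizations lift along open maps out of a Noetherian quasi-sober space into a T0 space. -/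
theorem generalizingMap_of_isOpenMap_of_noetherianSpace [NoetherianSpace X] [QuasiSober X]
    [T0Space Y] (f : X → Y) (hc : Continuous f) (ho : IsOpenMap f) : GeneralizingMap f := by
  intro x y' hy'
  -- E = fibre over y'
  set E : Set X := f ⁻¹' {y'} with hE
  -- family of closed sets C with x ∈ closure (E ∩ C)
  have hx : x ∈ closure (E ∩ (⊤ : Closeds X)) := by
    simp only [Closeds.coe_top, Set.inter_univ]
    rw [mem_closure_iff]
    intro U hU hxU
    have : y' ∈ f '' U := hy'.mem_open (ho U hU) ⟨x, hxU, rfl⟩
    obtain ⟨z, hzU, hz⟩ := this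
    exact ⟨z, hzU, hz⟩
  obtain ⟨C, hC, hmin⟩ := WellFounded.has_min (wellFounded_lt (α := Closeds X))
    {C : Closeds X | x ∈ closure (E ∩ C)} ⟨⊤, hx⟩
  have hCmin : ∀ C' : Closeds X, x ∈ closure (E ∩ C') → C' ≤ C → C' = C := by
    intro C' hC' hle
    by_contra hne
    exact hmin C' hC' (lt_of_le_of_ne hle hne)
  -- E ∩ C is dense in C
  have hdense : closure (E ∩ C) = (C : Set X) := by
    have h1 : closure (E ∩ (C : Set X)) ⊆ C := C.isClosed.closure_subset_iff.mpr Set.inter_subset_right
    let C' : Closeds X := ⟨closure (E ∩ C), isClosed_closure⟩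
    have : C' = C := by
      apply hCmin C' _ h1
      show x ∈ closure (E ∩ closure (E ∩ (C : Set X)))
      refine closure_mono ?_ hC
      exact fun z hz => ⟨hz.1, subset_closure hz⟩
    exact congrArg (fun D : Closeds X => (D : Set X)) this
  have hne : (E ∩ (C : Set X)).Nonempty := by
    by_contra h
    rw [Set.not_nonempty_iff_eq_empty] at h
    rw [Set.mem_ofPred_eq, h, closure_empty] at hC
    exact hC
  -- C is irreducible
  have hirr : IsIrreducible (C : Set X) := by
    refine ⟨hne.mono Set.inter_subset_right, ?_⟩
    rw [isPreirreducible_iff_isClosed_union_isClosed]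
    intro z₁ z₂ hz₁ hz₂ hsub
    have hcov : E ∩ (C : Set X) = (E ∩ ((C : Set X) ∩ z₁)) ∪ (E ∩ ((C : Set X) ∩ z₂)) := by
      ext z
      constructor
      · rintro ⟨hzE, hzC⟩
        rcases hsub hzC with h | h
        · exact Or.inl ⟨hzE, hzC, h⟩
        · exact Or.inr ⟨hzE, hzC, h⟩
      · rintro (⟨hzE, hzC, -⟩ | ⟨hzE, hzC, -⟩) <;> exact ⟨hzE, hzC⟩
    have hC' := hC
    rw [Set.mem_ofPred_eq, hcov, closure_union] at hC'
    rcases hC' with h | h
    · left
      have := hCmin ⟨(C : Set X) ∩ z₁, C.isClosed.inter hz₁⟩ h Set.inter_subset_left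
      intro z hz
      have : z ∈ ((⟨(C : Set X) ∩ z₁, C.isClosed.inter hz₁⟩ : Closeds X) : Set X) := by
        rw [this]; exact hz
      exact this.2
    · right
      have := hCmin ⟨(C : Set X) ∩ z₂, C.isClosed.inter hz₂⟩ h Set.inter_subset_left
      intro z hz
      have : z ∈ ((⟨(C : Set X) ∩ z₂, C.isClosed.inter hz₂⟩ : Closeds X) : Set X) := by
        rw [this]; exact hz
      exact this.2
  let ξ := hirr.genericPoint
  have hξ : closure {ξ} = (C : Set X) := hirr.closure_genericPoint C.isClosed
  have hxC : x ∈ (C : Set X) := by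
    rw [← hdense]; exact hC
  refine ⟨ξ, ?_, ?_⟩
  · show ξ ⤳ x
    rw [specializes_iff_mem_closure, hξ]
    exact hxC
  · -- f ξ = y' by T0
    apply Inseparable.eq
    apply Specializes.antisymm
    · -- f ξ ⤳ y'
      obtain ⟨e, heE, heC⟩ := hne
      have : ξ ⤳ e := by
        rw [specializes_iff_mem_closure, hξ]; exact heC
      have := this.map hc
      rwa [show f e = y' from heE] at this
    · -- y' ⤳ f ξ
      rw [specializes_iff_mem_closure]
      have hsub : f '' (closure (E ∩ (C : Set X))) ⊆ closure (f '' (E ∩ (C : Set X))) :=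
        image_closure_subset_closure_image hc
      have h1 : f ξ ∈ f '' (closure (E ∩ (C : Set X))) := by
        rw [hdense, ← hξ]
        exact ⟨ξ, subset_closure rfl, rfl⟩
      have h2 : f '' (E ∩ (C : Set X)) ⊆ {y'} := by
        rintro _ ⟨z, ⟨hz, -⟩, rfl⟩
        exact hz
      exact closure_mono h2 (hsub h1)

end Groth.Agent.H24
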