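import Mathlib

/-!
# `Spec K` as the limit of the spectra of the finitely generated `A`-subalgebras of `K`
-/

set_option autoImplicit false
universe u
open CategoryTheory CategoryTheory.Limits AlgebraicGeometry Opposite

namespace Groth.Agent.H24

section FGSub

variable (A K : Type u) [CommRing A] [CommRing K] [Algebra A K]

/-- Finitely generated subalgebras. -/
abbrev FGSub := {R : Subalgebra A K // R.FG}

instance : IsDirectedOrder (FGSub A K) := ⟨fun E₁ E₂ =>
  ⟨⟨E₁.1 ⊔ E₂.1, E₁.2.sup E₂.2⟩,
    show E₁.1 ≤ E₁.1 ⊔ E₂.1 from le_sup_left, show E₂.1 ≤ E₁.1 ⊔ E₂.1 from le_sup_right⟩⟩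

instance : Nonempty (FGSub A K) := ⟨⟨⊥, Subalgebra.fg_bot⟩⟩

/-- The diagram of f.g. subalgebras. -/
noncomputable def fgSubFunctor : FGSub A K ⥤ CommRingCat.{u} where
  obj E := CommRingCat.of E.1
  map {E E'} h := CommRingCat.ofHom
    (Subalgebra.inclusion (S := E.1) (T := E'.1) (leOfHom h)).toRingHom
  map_id E := by
    ext x
    rfl
  map_comp h h' := by
    ext x
    rfl

/-- The cocone of inclusions. -/
noncomputable def fgSubCocone : Cocone (fgSubFunctor A K) where
  pt := CommRingCat.of K
  ι :=
    { app := fun E => CommRingCat.ofHom (algebraMap E.1 K)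
      naturality := fun E E' h => by
        ext x
        rfl }

/-- A ring is the colimit of its finitely generated subalgebras. -/
noncomputable def fgSubCoconeIsColimit : IsColimit (fgSubCocone A K) := by
  haveI : ReflectsColimit (fgSubFunctor A K) (forget CommRingCat.{u}) :=
    reflectsColimit_of_reflectsIsomorphisms _ _
  apply isColimitOfReflects (forget CommRingCat.{u})
  apply Types.FilteredColimit.isColimitOf'
  · intro (x : K)
    have hfg : (Algebra.adjoin A ({x} : Set K)).FG := by
      have := Subalgebra.fg_adjoin_finset (R := A) ({x} : Finset K)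
      simpa using this
    exact ⟨⟨Algebra.adjoin A {x}, hfg⟩,
      ⟨x, Algebra.subset_adjoin (Set.mem_singleton x)⟩, rfl⟩
  · intro E x y h
    refine ⟨E, 𝟙 E, ?_⟩
    have hxy : x = y := Subtype.ext h
    rw [hxy]

/-- The diagram of spectra of f.g. subalgebras. -/
noncomputable def fgSpecDiagram : (FGSub A K)ᵒᵖ ⥤ Scheme.{u} :=
  (fgSubFunctor A K).op ⋙ Scheme.Spec

/-- The cone over the diagram of spectra. -/
noncomputable def fgSpecCone : Cone (fgSpecDiagram A K) :=
  Scheme.Spec.mapCone (fgSubCocone A K).op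

/-- `Spec K` is the limit of the spectra of the f.g. subalgebras. -/
noncomputable def fgSpecConeIsLimit : IsLimit (fgSpecCone A K) :=
  isLimitOfPreserves Scheme.Spec (fgSubCoconeIsColimit A K).op

theorem fgSpecDiagram_obj (E : (FGSub A K)ᵒᵖ) :
    (fgSpecDiagram A K).obj E = Spec (CommRingCat.of E.unop.1) := rfl

theorem fgSpecDiagram_map {E E' : (FGSub A K)ᵒᵖ} (φ : E ⟶ E') :
    (fgSpecDiagram A K).map φ = Spec.map ((fgSubFunctor A K).map φ.unop) := rfl

theorem fgSpecCone_pt : (fgSpecCone A K).pt = Spec (CommRingCat.of K) := rfl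

theorem fgSpecCone_π (E : (FGSub A K)ᵒᵖ) :
    (fgSpecCone A K).π.app E = Spec.map (CommRingCat.ofHom (algebraMap E.unop.1 K)) := rfl

instance (E : (FGSub A K)ᵒᵖ) : IsAffine ((fgSpecDiagram A K).obj E) := by
  rw [fgSpecDiagram_obj]; infer_instance

instance {E E' : (FGSub A K)ᵒᵖ} (φ : E ⟶ E') : IsAffineHom ((fgSpecDiagram A K).map φ) := by
  rw [fgSpecDiagram_map]; infer_instance

/-- The structure maps of the diagram of spectra. -/
noncomputable def fgSpecDiagramβ :
    fgSpecDiagram A K ⟶ (Functor.const _).obj (Spec (CommRingCat.of A)) where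
  app E := Spec.map (CommRingCat.ofHom (algebraMap A E.unop.1))
  naturality E E' φ := by
    have h : CommRingCat.ofHom (algebraMap A E'.unop.1) ≫ (fgSubFunctor A K).map φ.unop =
        CommRingCat.ofHom (algebraMap A E.unop.1) := by
      ext x
      rfl
    refine Eq.trans ?_ (Category.comp_id _).symm
    exact (Spec.map_comp _ _).symm.trans (congrArg Spec.map h)

theorem fgSpecCone_π_β (E : (FGSub A K)ᵒᵖ) :
    (fgSpecCone A K).π.app E ≫ (fgSpecDiagramβ A K).app E =
      Spec.map (CommRingCat.ofHom (algebraMap A K)) := by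
  rw [fgSpecCone_π]
  show Spec.map _ ≫ Spec.map _ = _
  rw [← Spec.map_comp]
  congr 1

theorem fgSpecDiagramβ_map {E E' : (FGSub A K)ᵒᵖ} (φ : E ⟶ E') :
    (fgSpecDiagram A K).map φ ≫ (fgSpecDiagramβ A K).app E' = (fgSpecDiagramβ A K).app E := by
  have := (fgSpecDiagramβ A K).naturality φ
  simpa using this

/-- For a Noetherian base ring, the structure maps are of finite presentation. -/
theorem locallyOfFinitePresentation_fgSpecDiagramβ [IsNoetherianRing A] (E : (FGSub A K)ᵒᵖ) :
    LocallyOfFinitePresentation ((fgSpecDiagramβ A K).app E) := by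
  show LocallyOfFinitePresentation (Spec.map (CommRingCat.ofHom (algebraMap A E.unop.1)))
  rw [HasRingHomProperty.Spec_iff (P := @LocallyOfFinitePresentation)]
  show (algebraMap A E.unop.1).FinitePresentation
  haveI : Algebra.FiniteType A E.unop.1 := (Subalgebra.fg_iff_finiteType _).mp E.unop.2
  have : Algebra.FinitePresentation A E.unop.1 := Algebra.FinitePresentation.of_finiteType.mp this
  exact (RingHom.finitePresentation_algebraMap).mpr this

end FGSub

end Groth.Agent.H24
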