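import Mathlib

/-!
# Irreducible components under dominant maps; finite induction along cofiltered categories
(helper24)
-/

set_option autoImplicit false

open CategoryTheory TopologicalSpace Set

universe u

namespace Groth.Agent.H24

/-- Finite induction along a cofiltered category. -/
theorem exists_index_forall_finite {I : Type*} [Category I] [IsCofiltered I] {α : Type*}
    (T : Set α) (hT : T.Finite) (P : I → α → Prop)
    (hP : ∀ t ∈ T, ∀ i₁ : I, ∃ (i : I) (_ : i ⟶ i₁), ∀ (j : I) (_ : j ⟶ i), P j t) (i₀ : I) :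
    ∃ (i : I) (_ : i ⟶ i₀), ∀ (j : I) (_ : j ⟶ i), ∀ t ∈ T, P j t := by
  induction T, hT using Set.Finite.induction_on with
  | empty => exact ⟨i₀, 𝟙 _, fun _ _ t ht => absurd ht (Set.notMem_empty t)⟩
  | @insert a s ha hs ih =>
    obtain ⟨i', a', h'⟩ := ih (fun t ht => hP t (Set.mem_insert_of_mem a ht))
    obtain ⟨i, b, h⟩ := hP a (Set.mem_insert a s) i'
    refine ⟨i, b ≫ a', fun j φ t ht => ?_⟩
    rcases ht with rfl | hts
    · exact h j φ
    · exact h' j (φ ≫ b) t hts

/-- Irreducible components under a dominant continuous map satisfying a separation condition. -/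
theorem bijOn_irreducibleComponents_of_denseRange {X Y : Type*} [TopologicalSpace X]
    [TopologicalSpace Y] {f : X → Y} (hf : Continuous f) (hd : DenseRange f)
    (hfin : (irreducibleComponents X).Finite)
    (hsep : ∀ W ∈ irreducibleComponents X, ∀ W' ∈ irreducibleComponents X, W ≠ W' →
      ∃ U : Set Y, IsOpen U ∧ (U ∩ f '' W).Nonempty ∧ f ⁻¹' U ∩ W' = ∅) :
    Set.BijOn (fun W : Set X => closure (f '' W)) (irreducibleComponents X)
      (irreducibleComponents Y) := by
  -- Step 1
  have h1 : ∀ W ∈ irreducibleComponents X, ∀ W' ∈ irreducibleComponents X,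
      closure (f '' W) ⊆ closure (f '' W') → W = W' := by
    intro W hW W' hW' hsub
    by_contra hne
    obtain ⟨U, hU, ⟨y, hyU, hyW⟩, hemp⟩ := hsep W hW W' hW' hne
    have hy : y ∈ closure (f '' W') := hsub (subset_closure hyW)
    obtain ⟨z, hzU, x', hx', rfl⟩ := mem_closure_iff.mp hy U hU hyU
    have : x' ∈ f ⁻¹' U ∩ W' := ⟨hzU, hx'⟩
    rw [hemp] at this
    exact this
  have hirr : ∀ W ∈ irreducibleComponents X, IsIrreducible (closure (f '' W)) := fun W hW =>
    (hW.1.image f hf.continuousOn).closure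
  -- Step 2
  have h2 : (⋃ W ∈ irreducibleComponents X, closure (f '' W)) = univ := by
    rw [← hfin.closure_biUnion, ← Set.image_iUnion₂, ← Set.sUnion_eq_biUnion,
      sUnion_irreducibleComponents, Set.image_univ, hd.closure_range]
  -- Step 3
  have h3 : ∀ Z ∈ irreducibleComponents Y, ∃ W ∈ irreducibleComponents X,
      closure (f '' W) = Z := by
    intro Z hZ
    have hcov : Z ⊆ ⋃₀ ↑(hfin.toFinset.image fun W => closure (f '' W)) := by
      intro z _
      have : z ∈ (⋃ W ∈ irreducibleComponents X, closure (f '' W)) := h2 ▸ mem_univ z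
      simp only [mem_iUnion, exists_prop] at this
      obtain ⟨W, hW, hz⟩ := this
      simp only [Finset.coe_image, Set.Finite.coe_toFinset, sUnion_image, mem_iUnion, exists_prop]
      exact ⟨W, hW, hz⟩
    obtain ⟨C, hC, hZC⟩ := isIrreducible_iff_sUnion_isClosed.mp hZ.1 _ (by
      intro C hC
      simp only [Finset.mem_image, Set.Finite.mem_toFinset] at hC
      obtain ⟨W, -, rfl⟩ := hC
      exact isClosed_closure) hcov
    simp only [Finset.mem_image, Set.Finite.mem_toFinset] at hC
    obtain ⟨W, hW, rfl⟩ := hC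
    exact ⟨W, hW, Set.Subset.antisymm (hZ.2 (hirr W hW) hZC) hZC⟩
  refine ⟨?_, ?_, ?_⟩
  · intro W hW
    obtain ⟨Z, hZ, hWZ⟩ := exists_mem_irreducibleComponents_subset_of_isIrreducible _ (hirr W hW)
    obtain ⟨W', hW', rfl⟩ := h3 Z hZ
    have := h1 W hW W' hW' hWZ
    subst this
    exact hZ
  · intro W hW W' hW' heq
    exact h1 W hW W' hW' (le_of_eq heq)
  · intro Z hZ
    obtain ⟨W, hW, rfl⟩ := h3 Z hZ
    exact ⟨W, hW, rfl⟩

end Groth.Agent.H24
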