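import Mathlib

open CategoryTheory AlgebraicGeometry Limits

universe u

namespace Groth.Agent.H24

section

variable {I : Type u} [SmallCategory I] (D : I ⥤ Scheme.{u}) {i i₀ : I} (φ : i ⟶ i₀)
  {X₀ : Scheme.{u}} (h₀ : X₀ ⟶ D.obj i₀)

/-- transition maps of `pbDiagram` -/
noncomputable def pbMap {j k : Over i} (a : j ⟶ k) :
    pullback h₀ (D.map (j.hom ≫ φ)) ⟶ pullback h₀ (D.map (k.hom ≫ φ)) :=
  pullback.lift (pullback.fst h₀ (D.map (j.hom ≫ φ)))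
    (pullback.snd h₀ (D.map (j.hom ≫ φ)) ≫ D.map a.left)
    (by rw [Category.assoc, ← D.map_comp, ← Category.assoc, Over.w a, pullback.condition])

theorem pbMap_fst {j k : Over i} (a : j ⟶ k) :
    pbMap D φ h₀ a ≫ pullback.fst h₀ (D.map (k.hom ≫ φ)) = pullback.fst h₀ (D.map (j.hom ≫ φ)) :=
  pullback.lift_fst _ _ _

theorem pbMap_snd {j k : Over i} (a : j ⟶ k) :
    pbMap D φ h₀ a ≫ pullback.snd h₀ (D.map (k.hom ≫ φ)) =
      pullback.snd h₀ (D.map (j.hom ≫ φ)) ≫ D.map a.left :=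
  pullback.lift_snd _ _ _

theorem pbMap_id (j : Over i) : pbMap D φ h₀ (𝟙 j) = 𝟙 _ := by
  apply pullback.hom_ext
  · rw [pbMap_fst, Category.id_comp]
  · rw [pbMap_snd, Category.id_comp, Over.id_left, D.map_id, Category.comp_id]

theorem pbMap_comp {j k l : Over i} (a : j ⟶ k) (b : k ⟶ l) :
    pbMap D φ h₀ (a ≫ b) = pbMap D φ h₀ a ≫ pbMap D φ h₀ b := by
  apply pullback.hom_ext
  · rw [pbMap_fst, Category.assoc, pbMap_fst, pbMap_fst]
  · rw [pbMap_snd, Category.assoc, pbMap_snd, ← Category.assoc, pbMap_snd, Category.assoc,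
      ← D.map_comp, Over.comp_left]

/-- The diagram `j ↦ X₀ ×_{S_{i₀}} S_j` indexed by `j : Over i` (with `φ : i ⟶ i₀`). -/
noncomputable def pbDiagram : Over i ⥤ Scheme.{u} where
  obj j := pullback h₀ (D.map (j.hom ≫ φ))
  map a := pbMap D φ h₀ a
  map_id j := pbMap_id D φ h₀ j
  map_comp a b := pbMap_comp D φ h₀ a b

@[simp]
theorem pbDiagram_obj (j : Over i) :
    (pbDiagram D φ h₀).obj j = pullback h₀ (D.map (j.hom ≫ φ)) := rfl

@[simp]
theorem pbDiagram_map {j k : Over i} (a : j ⟶ k) :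
    (pbDiagram D φ h₀).map a = pbMap D φ h₀ a := rfl

/-- The projection to the original diagram. -/
noncomputable def pbDiagramπ : pbDiagram D φ h₀ ⟶ Over.forget i ⋙ D where
  app j := pullback.snd h₀ (D.map (j.hom ≫ φ))
  naturality _ _ a := pbMap_snd D φ h₀ a

theorem isPullback_pbMap {j k : Over i} (a : j ⟶ k) :
    IsPullback (pbMap D φ h₀ a) (pullback.snd h₀ (D.map (j.hom ≫ φ)))
      (pullback.snd h₀ (D.map (k.hom ≫ φ))) (D.map a.left) := by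
  have big : IsPullback (pbMap D φ h₀ a ≫ pullback.fst h₀ (D.map (k.hom ≫ φ)))
      (pullback.snd h₀ (D.map (j.hom ≫ φ))) h₀ (D.map a.left ≫ D.map (k.hom ≫ φ)) := by
    have e2 : D.map a.left ≫ D.map (k.hom ≫ φ) = D.map (j.hom ≫ φ) := by
      rw [← D.map_comp, ← Category.assoc, Over.w a]
    rw [pbMap_fst, e2]
    exact IsPullback.of_hasPullback _ _
  exact IsPullback.of_right big (pbMap_snd D φ h₀ a) (IsPullback.of_hasPullback _ _)

instance [∀ {a b : I} (f : a ⟶ b), IsAffineHom (D.map f)] {j k : Over i} (a : j ⟶ k) :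
    IsAffineHom ((pbDiagram D φ h₀).map a) :=
  MorphismProperty.of_isPullback (P := @IsAffineHom) (isPullback_pbMap D φ h₀ a).flip
    inferInstance

variable (c : Cone D)

/-- components of the cone over `pbDiagram` -/
noncomputable def pbLift {Y : Scheme.{u}} (qY : Y ⟶ X₀) (g : Y ⟶ c.pt)
    (w : qY ≫ h₀ = g ≫ c.π.app i₀) (j : Over i) : Y ⟶ pullback h₀ (D.map (j.hom ≫ φ)) :=
  pullback.lift qY (g ≫ c.π.app j.left) (by rw [w, Category.assoc, c.w])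

theorem pbLift_fst {Y : Scheme.{u}} (qY : Y ⟶ X₀) (g : Y ⟶ c.pt)
    (w : qY ≫ h₀ = g ≫ c.π.app i₀) (j : Over i) :
    pbLift D φ h₀ c qY g w j ≫ pullback.fst h₀ (D.map (j.hom ≫ φ)) = qY :=
  pullback.lift_fst _ _ _

theorem pbLift_snd {Y : Scheme.{u}} (qY : Y ⟶ X₀) (g : Y ⟶ c.pt)
    (w : qY ≫ h₀ = g ≫ c.π.app i₀) (j : Over i) :
    pbLift D φ h₀ c qY g w j ≫ pullback.snd h₀ (D.map (j.hom ≫ φ)) = g ≫ c.π.app j.left :=
  pullback.lift_snd _ _ _

theorem pbLift_pbMap {Y : Scheme.{u}} (qY : Y ⟶ X₀) (g : Y ⟶ c.pt)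
    (w : qY ≫ h₀ = g ≫ c.π.app i₀) {j k : Over i} (a : j ⟶ k) :
    pbLift D φ h₀ c qY g w j ≫ pbMap D φ h₀ a = pbLift D φ h₀ c qY g w k := by
  apply pullback.hom_ext
  · rw [Category.assoc, pbMap_fst, pbLift_fst, pbLift_fst]
  · rw [Category.assoc, pbMap_snd, ← Category.assoc, pbLift_snd, pbLift_snd, Category.assoc, c.w]

/-- A cone over `pbDiagram` from a commutative square over the limit cone. -/
noncomputable def pbCone {Y : Scheme.{u}} (qY : Y ⟶ X₀) (g : Y ⟶ c.pt)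
    (w : qY ≫ h₀ = g ≫ c.π.app i₀) : Cone (pbDiagram D φ h₀) where
  pt := Y
  π :=
    { app := fun j => pbLift D φ h₀ c qY g w j
      naturality := fun _ _ a =>
        (Category.id_comp _).trans (pbLift_pbMap D φ h₀ c qY g w a).symm }

@[simp]
theorem pbCone_pt {Y : Scheme.{u}} (qY : Y ⟶ X₀) (g : Y ⟶ c.pt)
    (w : qY ≫ h₀ = g ≫ c.π.app i₀) : (pbCone D φ h₀ c qY g w).pt = Y := rfl

@[simp]
theorem pbCone_π_app {Y : Scheme.{u}} (qY : Y ⟶ X₀) (g : Y ⟶ c.pt)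
    (w : qY ≫ h₀ = g ≫ c.π.app i₀) (j : Over i) :
    (pbCone D φ h₀ c qY g w).π.app j = pbLift D φ h₀ c qY g w j := rfl

theorem isPullback_pbLift {Y : Scheme.{u}} (qY : Y ⟶ X₀) (g : Y ⟶ c.pt)
    (hY : IsPullback qY g h₀ (c.π.app i₀)) (j : Over i) :
    IsPullback (pbLift D φ h₀ c qY g hY.w j) g (pullback.snd h₀ (D.map (j.hom ≫ φ)))
      (c.π.app j.left) := by
  have big : IsPullback (pbLift D φ h₀ c qY g hY.w j ≫
      pullback.fst h₀ (D.map (j.hom ≫ φ))) g h₀ (c.π.app j.left ≫ D.map (j.hom ≫ φ)) := by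
    rw [pbLift_fst, c.w]
    exact hY
  exact IsPullback.of_right big (pbLift_snd D φ h₀ c qY g hY.w j)
    (IsPullback.of_hasPullback _ _)

attribute [local instance] CategoryTheory.isConnected_of_hasTerminal

/-- The pullback of the limit is the limit of the pullbacks. -/
noncomputable def isLimitPbCone [IsCofiltered I] (hc : IsLimit c) {Y : Scheme.{u}} (qY : Y ⟶ X₀)
    (g : Y ⟶ c.pt) (hY : IsPullback qY g h₀ (c.π.app i₀)) :
    IsLimit (pbCone D φ h₀ c qY g hY.w) :=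
  isLimitOfIsPullbackOfIsConnected (pbDiagramπ D φ h₀) _ (c.whisker (Over.forget i))
    { hom := g
      w := fun j => (pbLift_snd D φ h₀ c qY g hY.w j).symm }
    (fun j => isPullback_pbLift D φ h₀ c qY g hY j)
    ((Functor.Initial.isLimitWhiskerEquiv (Over.forget i) c).symm hc)

end

section Rel

variable {I : Type u} [SmallCategory I] (D : I ⥤ Scheme.{u}) {i i₀ : I} (φ : i ⟶ i₀)
  {X₀ Y₀ : Scheme.{u}} (f₀ : X₀ ⟶ Y₀) (g₀ : Y₀ ⟶ D.obj i₀)

/-- the base change `f_j : X_j ⟶ Y_j` of `f₀` -/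
noncomputable def pbRel (j : Over i) :
    pullback (f₀ ≫ g₀) (D.map (j.hom ≫ φ)) ⟶ pullback g₀ (D.map (j.hom ≫ φ)) :=
  pullback.lift (pullback.fst (f₀ ≫ g₀) (D.map (j.hom ≫ φ)) ≫ f₀)
    (pullback.snd (f₀ ≫ g₀) (D.map (j.hom ≫ φ)))
    (by rw [Category.assoc, pullback.condition])

theorem pbRel_fst (j : Over i) :
    pbRel D φ f₀ g₀ j ≫ pullback.fst g₀ (D.map (j.hom ≫ φ)) =
      pullback.fst (f₀ ≫ g₀) (D.map (j.hom ≫ φ)) ≫ f₀ :=
  pullback.lift_fst _ _ _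

theorem pbRel_snd (j : Over i) :
    pbRel D φ f₀ g₀ j ≫ pullback.snd g₀ (D.map (j.hom ≫ φ)) =
      pullback.snd (f₀ ≫ g₀) (D.map (j.hom ≫ φ)) :=
  pullback.lift_snd _ _ _

/-- the square `X_j → X₀`, `Y_j → Y₀` is a pullback -/
theorem isPullback_pbRel (j : Over i) :
    IsPullback (pullback.fst (f₀ ≫ g₀) (D.map (j.hom ≫ φ))) (pbRel D φ f₀ g₀ j) f₀
      (pullback.fst g₀ (D.map (j.hom ≫ φ))) := by
  have big : IsPullback (pullback.fst (f₀ ≫ g₀) (D.map (j.hom ≫ φ)))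
      (pbRel D φ f₀ g₀ j ≫ pullback.snd g₀ (D.map (j.hom ≫ φ))) (f₀ ≫ g₀)
      (D.map (j.hom ≫ φ)) := by
    rw [pbRel_snd]
    exact IsPullback.of_hasPullback _ _
  exact IsPullback.of_bot big (pbRel_fst D φ f₀ g₀ j).symm (IsPullback.of_hasPullback _ _)

variable (c : Cone D)

theorem pbLift_pbRel {X Y : Scheme.{u}} (f : X ⟶ Y) (g : Y ⟶ c.pt) (qY : Y ⟶ Y₀) (qX : X ⟶ X₀)
    (hY : IsPullback qY g g₀ (c.π.app i₀)) (hX : IsPullback qX f f₀ qY) (j : Over i) :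
    pbLift D φ (f₀ ≫ g₀) c qX (f ≫ g) (hX.paste_vert hY).w j ≫ pbRel D φ f₀ g₀ j =
      f ≫ pbLift D φ g₀ c qY g hY.w j := by
  apply pullback.hom_ext
  · rw [Category.assoc, pbRel_fst, ← Category.assoc, pbLift_fst, Category.assoc, pbLift_fst,
      hX.w]
  · rw [Category.assoc, pbRel_snd, pbLift_snd, Category.assoc, Category.assoc, pbLift_snd]

/-- the square `X → X_j`, `Y → Y_j` is a pullback -/
theorem isPullback_pbLift_pbRel {X Y : Scheme.{u}} (f : X ⟶ Y) (g : Y ⟶ c.pt) (qY : Y ⟶ Y₀)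
    (qX : X ⟶ X₀) (hY : IsPullback qY g g₀ (c.π.app i₀)) (hX : IsPullback qX f f₀ qY)
    (j : Over i) :
    IsPullback (pbLift D φ (f₀ ≫ g₀) c qX (f ≫ g) (hX.paste_vert hY).w j) f
      (pbRel D φ f₀ g₀ j) (pbLift D φ g₀ c qY g hY.w j) := by
  have big : IsPullback (pbLift D φ (f₀ ≫ g₀) c qX (f ≫ g) (hX.paste_vert hY).w j ≫
      pullback.fst (f₀ ≫ g₀) (D.map (j.hom ≫ φ))) f f₀
      (pbLift D φ g₀ c qY g hY.w j ≫ pullback.fst g₀ (D.map (j.hom ≫ φ))) := by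
    rw [pbLift_fst, pbLift_fst]
    exact hX
  exact IsPullback.of_right big (pbLift_pbRel D φ f₀ g₀ c f g qY qX hY hX j)
    (isPullback_pbRel D φ f₀ g₀ j)

end Rel

end Groth.Agent.H24
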