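import Mathlib
import Groth.Agent.H24.IrredComp
import Groth.Agent.H24.LimPullback

/-!
# Descent of sections of monomorphisms locally of finite presentation along cofiltered limits
(helper24).

`exists_section_of_mono`: for a cofiltered diagram `D` with affine transition maps over a base
`B` (via `t : D ⟶ const B`), with some stage `D.obj i₀` quasi-compact, and a monomorphism
`m : Z ⟶ B` locally of finite presentation, any factorisation of `lim D ⟶ B` through `m` comes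
from a factorisation of `D.obj j ⟶ B` through `m` for some `j ⟶ i₀`.  (No quasi-separatedness
is needed, since sections of monomorphisms glue.)
-/

set_option autoImplicit false

open CategoryTheory AlgebraicGeometry Limits TopologicalSpace Topology

universe u

namespace Groth.Agent.H24

section Stage

variable {I : Type u} [SmallCategory I] (D : I ⥤ Scheme.{u}) (c : Limits.Cone D)

/-- The canonical map `X₀ ×_{S_{i₀}} S ⟶ X₀ ×_{S_{i₀}} S_j`. -/
noncomputable def stageLift {i₀ j : I} (φ : j ⟶ i₀) {X₀ : Scheme.{u}} (h₀ : X₀ ⟶ D.obj i₀) :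
    pullback h₀ (c.π.app i₀) ⟶ pullback h₀ (D.map φ) :=
  pullback.lift (pullback.fst h₀ (c.π.app i₀)) (pullback.snd h₀ (c.π.app i₀) ≫ c.π.app j)
    (by rw [Category.assoc, c.w, pullback.condition])

theorem stageLift_fst {i₀ j : I} (φ : j ⟶ i₀) {X₀ : Scheme.{u}} (h₀ : X₀ ⟶ D.obj i₀) :
    stageLift D c φ h₀ ≫ pullback.fst h₀ (D.map φ) = pullback.fst h₀ (c.π.app i₀) :=
  pullback.lift_fst _ _ _

theorem stageLift_snd {i₀ j : I} (φ : j ⟶ i₀) {X₀ : Scheme.{u}} (h₀ : X₀ ⟶ D.obj i₀) :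
    stageLift D c φ h₀ ≫ pullback.snd h₀ (D.map φ) =
      pullback.snd h₀ (c.π.app i₀) ≫ c.π.app j :=
  pullback.lift_snd _ _ _

theorem isPullback_stageLift {i₀ j : I} (φ : j ⟶ i₀) {X₀ : Scheme.{u}} (h₀ : X₀ ⟶ D.obj i₀) :
    IsPullback (stageLift D c φ h₀) (pullback.snd h₀ (c.π.app i₀)) (pullback.snd h₀ (D.map φ))
      (c.π.app j) := by
  have big : IsPullback (stageLift D c φ h₀ ≫ pullback.fst h₀ (D.map φ))
      (pullback.snd h₀ (c.π.app i₀)) h₀ (c.π.app j ≫ D.map φ) := by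
    rw [stageLift_fst, c.w]
    exact IsPullback.of_hasPullback _ _
  exact IsPullback.of_right big (stageLift_snd D c φ h₀) (IsPullback.of_hasPullback _ _)

/-- canonical structure maps of the over-diagram -/
noncomputable def overT (k : I) :
    Over.forget k ⋙ D ⟶ (Functor.const (Over k)).obj (D.obj k) where
  app l := D.map l.hom
  naturality l l' f := by
    change D.map f.left ≫ D.map l'.hom = D.map l.hom ≫ 𝟙 _
    rw [Category.comp_id, ← D.map_comp, Over.w f]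

@[simp]
theorem overT_app (k : I) (l : Over k) : (overT D k).app l = D.map l.hom := rfl

/-- structure maps of the restricted diagram to the base stage -/
noncomputable def opensT₀ (i₀ : I) (V : (D.obj i₀).Opens) :
    opensDiagram D i₀ V ⟶ (Functor.const (Over i₀)).obj (D.obj i₀) where
  app j := (D.map j.hom ⁻¹ᵁ V).ι ≫ D.map j.hom
  naturality j k f := by
    have h1 : (D.map f.left).resLE (D.map k.hom ⁻¹ᵁ V) (D.map j.hom ⁻¹ᵁ V)
        (by rw [← Scheme.Hom.comp_preimage, ← D.map_comp, Over.w f]) ≫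
          (D.map k.hom ⁻¹ᵁ V).ι ≫ D.map k.hom =
        ((D.map j.hom ⁻¹ᵁ V).ι ≫ D.map j.hom) ≫ 𝟙 _ := by
      rw [Scheme.Hom.resLE_comp_ι_assoc, Category.comp_id, ← D.map_comp, Over.w f]
    exact h1

@[simp]
theorem opensT₀_app (i₀ : I) (V : (D.obj i₀).Opens) (j : Over i₀) :
    (opensT₀ D i₀ V).app j = (D.map j.hom ⁻¹ᵁ V).ι ≫ D.map j.hom := rfl

variable {B : Scheme.{u}} (t : D ⟶ (Functor.const I).obj B)

theorem t_naturality' {j k : I} (f : j ⟶ k) : D.map f ≫ t.app k = t.app j := by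
  simp

/-- the structure maps of the restricted diagram -/
noncomputable def opensT (i₀ : I) (V : (D.obj i₀).Opens) :
    opensDiagram D i₀ V ⟶ (Functor.const (Over i₀)).obj B where
  app j := (D.map j.hom ⁻¹ᵁ V).ι ≫ t.app j.left
  naturality j k f := by
    have h1 : (D.map f.left).resLE (D.map k.hom ⁻¹ᵁ V) (D.map j.hom ⁻¹ᵁ V)
        (by rw [← Scheme.Hom.comp_preimage, ← D.map_comp, Over.w f]) ≫
          (D.map k.hom ⁻¹ᵁ V).ι ≫ t.app k.left =
        ((D.map j.hom ⁻¹ᵁ V).ι ≫ t.app j.left) ≫ 𝟙 _ := by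
      rw [Scheme.Hom.resLE_comp_ι_assoc, Category.comp_id, t_naturality' D t f.left]
    exact h1

@[simp]
theorem opensT_app (i₀ : I) (V : (D.obj i₀).Opens) (j : Over i₀) :
    (opensT D t i₀ V).app j = (D.map j.hom ⁻¹ᵁ V).ι ≫ t.app j.left := rfl

end Stage

section PbT

variable {I : Type u} [SmallCategory I] (D : I ⥤ Scheme.{u}) {i i₀ : I} (φ : i ⟶ i₀)
  {X₀ : Scheme.{u}} (h₀ : X₀ ⟶ D.obj i₀)

/-- structure maps of `pbDiagram` to a base under `X₀` -/
noncomputable def pbT {B : Scheme.{u}} (p : X₀ ⟶ B) :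
    pbDiagram D φ h₀ ⟶ (Functor.const (Over i)).obj B where
  app j := pullback.fst h₀ (D.map (j.hom ≫ φ)) ≫ p
  naturality j k a := by
    change pbMap D φ h₀ a ≫ pullback.fst h₀ (D.map (k.hom ≫ φ)) ≫ p =
      (pullback.fst h₀ (D.map (j.hom ≫ φ)) ≫ p) ≫ 𝟙 _
    rw [Category.comp_id, ← Category.assoc, pbMap_fst]

@[simp]
theorem pbT_app {B : Scheme.{u}} (p : X₀ ⟶ B) (j : Over i) :
    (pbT D φ h₀ p).app j = pullback.fst h₀ (D.map (j.hom ≫ φ)) ≫ p := rfl

end PbT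

section Main

variable {I : Type u} [SmallCategory I] [IsCofiltered I]
    (D : I ⥤ Scheme.{u}) (c : Limits.Cone D) (hc : Limits.IsLimit c)
    [∀ {i j : I} (f : i ⟶ j), IsAffineHom (D.map f)]
    {B Z : Scheme.{u}} (t : D ⟶ (Functor.const I).obj B) (m : Z ⟶ B)

include hc in
theorem exists_section_on_affine [LocallyOfFinitePresentation m] (i₀ : I) (a : c.pt ⟶ Z)
    (ha : a ≫ m = c.π.app i₀ ≫ t.app i₀) (V : (D.obj i₀).Opens) (hV : IsAffineOpen V) :
    ∃ (j : Over i₀) (g : (D.map j.hom ⁻¹ᵁ V).toScheme ⟶ Z),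
      g ≫ m = (D.map j.hom ⁻¹ᵁ V).ι ≫ t.app j.left := by
  have hlim := isLimitOpensCone D c hc i₀ V
  have hAff : ∀ j, IsAffine ((opensDiagram D i₀ V).obj j) := fun j => hV.preimage _
  have hcomp : ∀ j, CompactSpace ((opensDiagram D i₀ V).obj j) := fun j => inferInstance
  have hqs : ∀ j, QuasiSeparatedSpace ((opensDiagram D i₀ V).obj j) := fun j => inferInstance
  have hw : ∀ j : Over i₀, c.π.app j.left ≫ t.app j.left = c.π.app i₀ ≫ t.app i₀ := by
    intro j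
    rw [← c.w j.hom, Category.assoc, t_naturality' D t j.hom]
  obtain ⟨j, g, -, hg⟩ := Scheme.exists_π_app_comp_eq_of_locallyOfFinitePresentation
    (opensDiagram D i₀ V) (opensT D t i₀ V) m (opensCone D c i₀ V) hlim
    ((c.π.app i₀ ⁻¹ᵁ V).ι ≫ a) (by
      refine NatTrans.ext (funext fun j => ?_)
      have h1 : (c.π.app j.left).resLE (D.map j.hom ⁻¹ᵁ V) (c.π.app i₀ ⁻¹ᵁ V)
          (by rw [← Scheme.Hom.comp_preimage, c.w]) ≫ (D.map j.hom ⁻¹ᵁ V).ι ≫ t.app j.left =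
          ((c.π.app i₀ ⁻¹ᵁ V).ι ≫ a) ≫ m := by
        rw [Scheme.Hom.resLE_comp_ι_assoc, hw, Category.assoc, ha]
      exact h1)
  exact ⟨j, g, hg⟩

include hc in
/-- **Descent of sections of monomorphisms locally of finite presentation.** -/
theorem exists_section_of_mono [Mono m] [LocallyOfFinitePresentation m] (i₀ : I)
    [CompactSpace (D.obj i₀)] (a : c.pt ⟶ Z) (ha : a ≫ m = c.π.app i₀ ≫ t.app i₀) :
    ∃ (j : I) (_ : j ⟶ i₀) (g : D.obj j ⟶ Z), g ≫ m = t.app j := by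
  classical
  obtain ⟨s, hs⟩ :=
    (IsOpenCover.mk (iSup_affineOpens_eq_top (D.obj i₀))).exists_finite_of_compactSpace
  let P : Over i₀ → (D.obj i₀).affineOpens → Prop := fun j W =>
    ∃ g : (D.map j.hom ⁻¹ᵁ W.1).toScheme ⟶ Z, g ≫ m = (D.map j.hom ⁻¹ᵁ W.1).ι ≫ t.app j.left
  have hP : ∀ W ∈ (s : Set (D.obj i₀).affineOpens), ∀ i₂ : Over i₀,
      ∃ (i : Over i₀) (_ : i ⟶ i₂), ∀ (j : Over i₀) (_ : j ⟶ i), P j W := by
    intro W _ i₂
    obtain ⟨j₀, g₀, hg₀⟩ := exists_section_on_affine D c hc t m i₀ a ha W.1 W.2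
    refine ⟨IsCofiltered.min i₂ j₀, IsCofiltered.minToLeft _ _, fun j ψ => ?_⟩
    let ψ' : j ⟶ j₀ := ψ ≫ IsCofiltered.minToRight _ _
    refine ⟨(D.map ψ'.left).resLE (D.map j₀.hom ⁻¹ᵁ W.1) (D.map j.hom ⁻¹ᵁ W.1)
      (by rw [← Scheme.Hom.comp_preimage, ← D.map_comp, Over.w ψ']) ≫ g₀, ?_⟩
    rw [Category.assoc, hg₀, Scheme.Hom.resLE_comp_ι_assoc, t_naturality' D t ψ'.left]
  obtain ⟨i, _, hi⟩ := exists_index_forall_finite (I := Over i₀)
    (s : Set (D.obj i₀).affineOpens) s.finite_toSet P hP (Over.mk (𝟙 i₀))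
  have hcov : IsOpenCover (fun a : s => D.map i.hom ⁻¹ᵁ a.1.1) := by
    rw [IsOpenCover, eq_top_iff]
    intro x _
    obtain ⟨b, hb⟩ := hs.exists_mem (D.map i.hom x)
    exact Opens.mem_iSup.mpr ⟨b, hb⟩
  have hi' : ∀ b : s, ∃ g : (D.map i.hom ⁻¹ᵁ b.1.1).toScheme ⟶ Z,
      g ≫ m = (D.map i.hom ⁻¹ᵁ b.1.1).ι ≫ t.app i.left := fun b => hi i (𝟙 i) b.1 b.2
  choose g hg using hi'
  obtain ⟨𝒰, g', hg'⟩ : ∃ (𝒰 : (D.obj i.left).OpenCover) (g' : ∀ x : 𝒰.I₀, 𝒰.X x ⟶ Z),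
      ∀ x, g' x ≫ m = 𝒰.f x ≫ t.app i.left :=
    ⟨(D.obj i.left).openCoverOfIsOpenCover (fun b : s => D.map i.hom ⁻¹ᵁ b.1.1) hcov, g, hg⟩
  have hglue : ∀ x y : 𝒰.I₀, pullback.fst (𝒰.f x) (𝒰.f y) ≫ g' x =
      pullback.snd (𝒰.f x) (𝒰.f y) ≫ g' y := by
    intro x y
    rw [← cancel_mono m, Category.assoc, Category.assoc, hg' x, hg' y, ← Category.assoc,
      ← Category.assoc, pullback.condition]
  refine ⟨i.left, i.hom, 𝒰.glueMorphisms g' hglue, ?_⟩
  apply 𝒰.hom_ext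
  intro x
  rw [← Category.assoc, 𝒰.ι_glueMorphisms]
  exact hg' x

include hc in
/-- Stage version: the base is a quasi-compact stage of the diagram itself. -/
theorem exists_section_of_mono_stage (i₀ : I) [CompactSpace (D.obj i₀)] (m : Z ⟶ D.obj i₀)
    [Mono m] [LocallyOfFinitePresentation m] (a : c.pt ⟶ Z) (ha : a ≫ m = c.π.app i₀) :
    ∃ (j : I) (φ : j ⟶ i₀) (g : D.obj j ⟶ Z), g ≫ m = D.map φ := by
  have hlim : IsLimit (c.whisker (Over.forget i₀)) :=
    (Functor.Initial.isLimitWhiskerEquiv (Over.forget i₀) c).symm hc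
  have hAff : ∀ {a b : Over i₀} (f : a ⟶ b), IsAffineHom ((Over.forget i₀ ⋙ D).map f) :=
    fun f => inferInstanceAs (IsAffineHom (D.map f.left))
  have hcomp : CompactSpace ((Over.forget i₀ ⋙ D).obj (Over.mk (𝟙 i₀))) :=
    inferInstanceAs (CompactSpace (D.obj i₀))
  obtain ⟨j, _, g, hg⟩ := exists_section_of_mono (Over.forget i₀ ⋙ D) (c.whisker (Over.forget i₀))
    hlim (overT D i₀) m (Over.mk (𝟙 i₀)) a (by
      change a ≫ m = c.π.app i₀ ≫ D.map (𝟙 i₀)
      rw [D.map_id, Category.comp_id, ha])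
  exact ⟨j.left, j.hom, g, hg⟩

end Main

end Groth.Agent.H24
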