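import Mathlib
import Groth.Agent.H24.LimSection

/-!
# Isomorphisms descend to a finite stage of a cofiltered limit (helper24)

`f₀ : X₀ ⟶ Y₀` over a quasi-compact stage `S_{i₀}`, `Y₀` of finite type, quasi-compact and
quasi-separated over `S_{i₀}`, `X₀` locally of finite presentation and quasi-compact over `S_{i₀}`.
If the base change of `f₀` to the limit is an isomorphism, so is the base change to some stage.
No quasi-separatedness of `S_{i₀}` is needed: first the base change becomes a monomorphism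
(uniqueness of descent of morphisms), then it acquires a section (sections of monomorphisms glue).
-/

set_option autoImplicit false

open CategoryTheory AlgebraicGeometry Limits TopologicalSpace Topology

universe u

namespace Groth.Agent.H24

/-- Locally of finite presentation cancels against locally of finite type. -/
theorem locallyOfFinitePresentation_of_comp {X Y Z : Scheme.{u}} (f : X ⟶ Y) (g : Y ⟶ Z)
    [hfg : LocallyOfFinitePresentation (f ≫ g)] [hg : LocallyOfFiniteType g] :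
    LocallyOfFinitePresentation f := by
  have hQ : RingHom.StableUnderCompositionWithLocalizationAwaySource
      @RingHom.FinitePresentation := by
    intro R S T _ _ _ _ r _ φ hφ
    exact RingHom.finitePresentation_stableUnderComposition _ _
      (RingHom.finitePresentation_holdsForLocalizationAway S r) hφ
  rw [HasRingHomProperty.iff_exists_appLE (P := @LocallyOfFinitePresentation) hQ]
  intro x
  obtain ⟨W, hW, hxW, -⟩ := Opens.isBasis_iff_nbhd.mp Z.isBasis_affineOpens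
    (Opens.mem_top (g (f x)))
  obtain ⟨U, hU, hxU, hUW⟩ := Opens.isBasis_iff_nbhd.mp Y.isBasis_affineOpens
    (show f x ∈ g ⁻¹ᵁ W from hxW)
  obtain ⟨V, hV, hxV, hVU⟩ := Opens.isBasis_iff_nbhd.mp X.isBasis_affineOpens
    (show x ∈ f ⁻¹ᵁ U from hxU)
  refine ⟨⟨U, hU⟩, ⟨V, hV⟩, hxV, hVU, ?_⟩
  have h1 := HasRingHomProperty.appLE @LocallyOfFinitePresentation (f ≫ g) hfg ⟨W, hW⟩ ⟨V, hV⟩
    (hVU.trans (f.preimage_mono hUW))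
  have h2 := HasRingHomProperty.appLE @LocallyOfFiniteType g hg ⟨W, hW⟩ ⟨U, hU⟩ hUW
  rw [← Scheme.Hom.appLE_comp_appLE f g W U V hUW hVU, CommRingCat.hom_comp] at h1
  exact RingHom.FinitePresentation.of_comp_finiteType _ h1 h2

/-- The structure map of `X₀ ×_{Y₀} X₀`. -/
noncomputable def hW {X₀ Y₀ S₀ : Scheme.{u}} (f₀ : X₀ ⟶ Y₀) (g₀ : Y₀ ⟶ S₀) : pullback f₀ f₀ ⟶ S₀ :=
  pullback.fst f₀ f₀ ≫ f₀ ≫ g₀

theorem hW_def {X₀ Y₀ S₀ : Scheme.{u}} (f₀ : X₀ ⟶ Y₀) (g₀ : Y₀ ⟶ S₀) :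
    hW f₀ g₀ = pullback.fst f₀ f₀ ≫ f₀ ≫ g₀ := rfl

section

variable {I : Type u} [SmallCategory I] [IsCofiltered I]
    (D : I ⥤ Scheme.{u}) (c : Limits.Cone D) (hc : Limits.IsLimit c)
    [∀ {i j : I} (f : i ⟶ j), IsAffineHom (D.map f)]
    (i₀ : I) {X₀ Y₀ : Scheme.{u}} (f₀ : X₀ ⟶ Y₀) (g₀ : Y₀ ⟶ D.obj i₀)

local notation "𝒽" => (hW f₀ g₀)

/-- The two projections `X₀ ×_{Y₀} X₀ ⇉ X₀` agree after base change to the stage `j`. -/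
def DiagEq (j : Over i₀) : Prop :=
  pullback.fst 𝒽 (D.map (j.hom ≫ 𝟙 i₀)) ≫ pullback.fst f₀ f₀ =
    pullback.fst 𝒽 (D.map (j.hom ≫ 𝟙 i₀)) ≫ pullback.snd f₀ f₀

theorem diagEq_of_hom {k k' : Over i₀} (ψ : k' ⟶ k) (h : DiagEq D i₀ f₀ g₀ k) :
    DiagEq D i₀ f₀ g₀ k' := by
  unfold DiagEq at h ⊢
  rw [← pbMap_fst D (𝟙 i₀) 𝒽 ψ, Category.assoc, Category.assoc, h]

theorem mono_pbRel_of_diagEq (j : Over i₀) (h : DiagEq D i₀ f₀ g₀ j) :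
    Mono (pbRel D (𝟙 i₀) f₀ g₀ j) := by
  constructor
  intro T u v huv
  have h1 : (u ≫ pullback.fst (f₀ ≫ g₀) (D.map (j.hom ≫ 𝟙 i₀))) ≫ f₀ =
      (v ≫ pullback.fst (f₀ ≫ g₀) (D.map (j.hom ≫ 𝟙 i₀))) ≫ f₀ := by
    rw [Category.assoc, Category.assoc, ← pbRel_fst D (𝟙 i₀) f₀ g₀ j, ← Category.assoc, huv,
      Category.assoc]
  have h2 : u ≫ pullback.snd (f₀ ≫ g₀) (D.map (j.hom ≫ 𝟙 i₀)) =
      v ≫ pullback.snd (f₀ ≫ g₀) (D.map (j.hom ≫ 𝟙 i₀)) := by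
    rw [← pbRel_snd D (𝟙 i₀) f₀ g₀ j, ← Category.assoc, huv, Category.assoc]
  have hw₀ : pullback.lift (u ≫ pullback.fst (f₀ ≫ g₀) (D.map (j.hom ≫ 𝟙 i₀)))
      (v ≫ pullback.fst (f₀ ≫ g₀) (D.map (j.hom ≫ 𝟙 i₀))) h1 ≫ 𝒽 =
      (u ≫ pullback.snd (f₀ ≫ g₀) (D.map (j.hom ≫ 𝟙 i₀))) ≫ D.map (j.hom ≫ 𝟙 i₀) := by
    rw [hW_def, ← Category.assoc, pullback.lift_fst, Category.assoc, Category.assoc,
      pullback.condition]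
  have e1 : pullback.lift (pullback.lift (u ≫ pullback.fst (f₀ ≫ g₀) (D.map (j.hom ≫ 𝟙 i₀)))
      (v ≫ pullback.fst (f₀ ≫ g₀) (D.map (j.hom ≫ 𝟙 i₀))) h1)
      (u ≫ pullback.snd (f₀ ≫ g₀) (D.map (j.hom ≫ 𝟙 i₀))) hw₀ ≫
        pullback.fst 𝒽 (D.map (j.hom ≫ 𝟙 i₀)) ≫ pullback.fst f₀ f₀ =
      u ≫ pullback.fst (f₀ ≫ g₀) (D.map (j.hom ≫ 𝟙 i₀)) := by
    rw [← Category.assoc, pullback.lift_fst, pullback.lift_fst]
  have e2 : pullback.lift (pullback.lift (u ≫ pullback.fst (f₀ ≫ g₀) (D.map (j.hom ≫ 𝟙 i₀)))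
      (v ≫ pullback.fst (f₀ ≫ g₀) (D.map (j.hom ≫ 𝟙 i₀))) h1)
      (u ≫ pullback.snd (f₀ ≫ g₀) (D.map (j.hom ≫ 𝟙 i₀))) hw₀ ≫
        pullback.fst 𝒽 (D.map (j.hom ≫ 𝟙 i₀)) ≫ pullback.snd f₀ f₀ =
      v ≫ pullback.fst (f₀ ≫ g₀) (D.map (j.hom ≫ 𝟙 i₀)) := by
    rw [← Category.assoc, pullback.lift_fst, pullback.lift_snd]
  apply pullback.hom_ext
  · unfold DiagEq at h
    refine e1.symm.trans ?_
    rw [h]
    exact e2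
  · exact h2

include hc in
theorem exists_diagEq [CompactSpace (D.obj i₀)] [QuasiCompact g₀] [QuasiSeparated g₀]
    [LocallyOfFiniteType (f₀ ≫ g₀)] [QuasiCompact (f₀ ≫ g₀)]
    {X Y : Scheme.{u}} (f : X ⟶ Y) (g : Y ⟶ c.pt) (qY : Y ⟶ Y₀) (qX : X ⟶ X₀)
    (hY : IsPullback qY g g₀ (c.π.app i₀)) (hX : IsPullback qX f f₀ qY) [Mono f] :
    ∃ k : Over i₀, DiagEq D i₀ f₀ g₀ k := by
  have hX₀ : CompactSpace X₀ := QuasiCompact.compactSpace_of_compactSpace (f₀ ≫ g₀)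
  have hf₀ : QuasiCompact f₀ := QuasiCompact.of_comp f₀ g₀
  have hW₀ : CompactSpace ↥(pullback f₀ f₀) :=
    QuasiCompact.compactSpace_of_compactSpace (pullback.fst f₀ f₀)
  have hcomp : ∀ j : Over i₀, CompactSpace ↥((pbDiagram D (𝟙 i₀) 𝒽).obj j) := fun j => by
    have : IsAffineHom (pullback.fst 𝒽 (D.map (j.hom ≫ 𝟙 i₀))) :=
      MorphismProperty.pullback_fst (P := @IsAffineHom) _ _ inferInstance
    have h : CompactSpace ↥(pullback 𝒽 (D.map (j.hom ≫ 𝟙 i₀))) :=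
      QuasiCompact.compactSpace_of_compactSpace (pullback.fst 𝒽 (D.map (j.hom ≫ 𝟙 i₀)))
    exact h
  have hP : IsPullback (pullback.fst 𝒽 (c.π.app i₀)) (pullback.snd 𝒽 (c.π.app i₀)) 𝒽
      (c.π.app i₀) := IsPullback.of_hasPullback _ _
  have cond' : pullback.fst f₀ f₀ ≫ f₀ ≫ g₀ = pullback.snd f₀ f₀ ≫ f₀ ≫ g₀ := by
    rw [← Category.assoc, pullback.condition, Category.assoc]
  -- key equation at the limit
  have e : pullback.fst 𝒽 (c.π.app i₀) ≫ pullback.fst f₀ f₀ =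
      pullback.fst 𝒽 (c.π.app i₀) ≫ pullback.snd f₀ f₀ := by
    have hy : ((pullback.fst 𝒽 (c.π.app i₀) ≫ pullback.fst f₀ f₀) ≫ f₀) ≫ g₀ =
        pullback.snd 𝒽 (c.π.app i₀) ≫ c.π.app i₀ := by
      rw [← pullback.condition, hW_def, Category.assoc, Category.assoc]
    have hx1 : (pullback.fst 𝒽 (c.π.app i₀) ≫ pullback.fst f₀ f₀) ≫ f₀ =
        hY.lift ((pullback.fst 𝒽 (c.π.app i₀) ≫ pullback.fst f₀ f₀) ≫ f₀)
          (pullback.snd 𝒽 (c.π.app i₀)) hy ≫ qY := (hY.lift_fst _ _ _).symm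
    have hx2 : (pullback.fst 𝒽 (c.π.app i₀) ≫ pullback.snd f₀ f₀) ≫ f₀ =
        hY.lift ((pullback.fst 𝒽 (c.π.app i₀) ≫ pullback.fst f₀ f₀) ≫ f₀)
          (pullback.snd 𝒽 (c.π.app i₀)) hy ≫ qY := by
      rw [hY.lift_fst, Category.assoc, Category.assoc, pullback.condition]
    have h3 : hX.lift (pullback.fst 𝒽 (c.π.app i₀) ≫ pullback.fst f₀ f₀) _ hx1 =
        hX.lift (pullback.fst 𝒽 (c.π.app i₀) ≫ pullback.snd f₀ f₀) _ hx2 := by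
      rw [← cancel_mono f, hX.lift_snd, hX.lift_snd]
    calc pullback.fst 𝒽 (c.π.app i₀) ≫ pullback.fst f₀ f₀
        = hX.lift (pullback.fst 𝒽 (c.π.app i₀) ≫ pullback.fst f₀ f₀) _ hx1 ≫ qX :=
          (hX.lift_fst _ _ _).symm
      _ = hX.lift (pullback.fst 𝒽 (c.π.app i₀) ≫ pullback.snd f₀ f₀) _ hx2 ≫ qX := by rw [h3]
      _ = pullback.fst 𝒽 (c.π.app i₀) ≫ pullback.snd f₀ f₀ := hX.lift_fst _ _ _
  have ha : (pbT D (𝟙 i₀) 𝒽 𝒽).app (Over.mk (𝟙 i₀)) =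
      (pullback.fst 𝒽 (D.map ((Over.mk (𝟙 i₀)).hom ≫ 𝟙 i₀)) ≫ pullback.fst f₀ f₀) ≫ f₀ ≫ g₀ := by
    rw [pbT_app, hW_def, Category.assoc]
  have hb : (pbT D (𝟙 i₀) 𝒽 𝒽).app (Over.mk (𝟙 i₀)) =
      (pullback.fst 𝒽 (D.map ((Over.mk (𝟙 i₀)).hom ≫ 𝟙 i₀)) ≫ pullback.snd f₀ f₀) ≫ f₀ ≫ g₀ := by
    rw [pbT_app, hW_def, Category.assoc, ← cond']
  have hab : pbLift D (𝟙 i₀) 𝒽 c (pullback.fst 𝒽 (c.π.app i₀)) (pullback.snd 𝒽 (c.π.app i₀)) hP.w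
        (Over.mk (𝟙 i₀)) ≫
      (pullback.fst 𝒽 (D.map ((Over.mk (𝟙 i₀)).hom ≫ 𝟙 i₀)) ≫ pullback.fst f₀ f₀) =
      pbLift D (𝟙 i₀) 𝒽 c (pullback.fst 𝒽 (c.π.app i₀)) (pullback.snd 𝒽 (c.π.app i₀)) hP.w
        (Over.mk (𝟙 i₀)) ≫
      (pullback.fst 𝒽 (D.map ((Over.mk (𝟙 i₀)).hom ≫ 𝟙 i₀)) ≫ pullback.snd f₀ f₀) := by
    rw [← Category.assoc, ← Category.assoc, pbLift_fst]
    exact e
  obtain ⟨k, hik, hk⟩ := Scheme.exists_hom_comp_eq_comp_of_locallyOfFiniteType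
    (pbDiagram D (𝟙 i₀) 𝒽) (pbT D (𝟙 i₀) 𝒽 𝒽) (f₀ ≫ g₀)
    (pbCone D (𝟙 i₀) 𝒽 c _ _ hP.w) (isLimitPbCone D (𝟙 i₀) 𝒽 c hc _ _ hP)
    (i := Over.mk (𝟙 i₀)) _ _ ha hb hab
  refine ⟨k, ?_⟩
  have hk' : pbMap D (𝟙 i₀) 𝒽 hik ≫
      pullback.fst 𝒽 (D.map ((Over.mk (𝟙 i₀)).hom ≫ 𝟙 i₀)) ≫ pullback.fst f₀ f₀ =
      pbMap D (𝟙 i₀) 𝒽 hik ≫
      pullback.fst 𝒽 (D.map ((Over.mk (𝟙 i₀)).hom ≫ 𝟙 i₀)) ≫ pullback.snd f₀ f₀ := hk
  rw [← Category.assoc, ← Category.assoc, pbMap_fst] at hk'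
  exact hk'

include hc in
/-- **Isomorphisms descend to a finite stage.** -/
theorem exists_isIso_pbRel [CompactSpace (D.obj i₀)]
    [LocallyOfFiniteType g₀] [QuasiCompact g₀] [QuasiSeparated g₀]
    [LocallyOfFinitePresentation (f₀ ≫ g₀)] [QuasiCompact (f₀ ≫ g₀)]
    {X Y : Scheme.{u}} (f : X ⟶ Y) (g : Y ⟶ c.pt) (qY : Y ⟶ Y₀) (qX : X ⟶ X₀)
    (hY : IsPullback qY g g₀ (c.π.app i₀)) (hX : IsPullback qX f f₀ qY) [IsIso f] :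
    ∃ j : Over i₀, IsIso (pbRel D (𝟙 i₀) f₀ g₀ j) := by
  obtain ⟨k, hk⟩ := exists_diagEq D c hc i₀ f₀ g₀ f g qY qX hY hX
  have hmono : ∀ (l : Over i₀) (_ : l ⟶ k), Mono (pbRel D (𝟙 i₀) f₀ g₀ l) := fun l ψ =>
    mono_pbRel_of_diagEq D i₀ f₀ g₀ l (diagEq_of_hom D i₀ f₀ g₀ ψ hk)
  have hmk := hmono k (𝟙 k)
  have hf₀ : LocallyOfFinitePresentation f₀ := locallyOfFinitePresentation_of_comp f₀ g₀
  have hlfp : LocallyOfFinitePresentation (pbRel D (𝟙 i₀) f₀ g₀ k) :=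
    MorphismProperty.of_isPullback (P := @LocallyOfFinitePresentation)
      (isPullback_pbRel D (𝟙 i₀) f₀ g₀ k) hf₀
  have hY₀ : CompactSpace Y₀ := QuasiCompact.compactSpace_of_compactSpace g₀
  have hcompk : CompactSpace ↥((pbDiagram D (𝟙 i₀) g₀).obj k) := by
    have : IsAffineHom (pullback.fst g₀ (D.map (k.hom ≫ 𝟙 i₀))) :=
      MorphismProperty.pullback_fst (P := @IsAffineHom) _ _ inferInstance
    have h : CompactSpace ↥(pullback g₀ (D.map (k.hom ≫ 𝟙 i₀))) :=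
      QuasiCompact.compactSpace_of_compactSpace (pullback.fst g₀ (D.map (k.hom ≫ 𝟙 i₀)))
    exact h
  have ha : (inv f ≫ pbLift D (𝟙 i₀) (f₀ ≫ g₀) c qX (f ≫ g) (hX.paste_vert hY).w k) ≫
      pbRel D (𝟙 i₀) f₀ g₀ k = pbLift D (𝟙 i₀) g₀ c qY g hY.w k := by
    rw [Category.assoc, pbLift_pbRel D (𝟙 i₀) f₀ g₀ c f g qY qX hY hX k, IsIso.inv_hom_id_assoc]
  obtain ⟨l, ψ, σ, hσ⟩ := @exists_section_of_mono_stage (Over i₀) _ _ (pbDiagram D (𝟙 i₀) g₀)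
    (pbCone D (𝟙 i₀) g₀ c qY g hY.w) (isLimitPbCone D (𝟙 i₀) g₀ c hc qY g hY) _ _ k hcompk
    (pbRel D (𝟙 i₀) f₀ g₀ k) hmk hlfp _ ha
  obtain ⟨σ, hσ'⟩ : ∃ σ : pullback g₀ (D.map (l.hom ≫ 𝟙 i₀)) ⟶
      pullback (f₀ ≫ g₀) (D.map (k.hom ≫ 𝟙 i₀)),
      σ ≫ pbRel D (𝟙 i₀) f₀ g₀ k = pbMap D (𝟙 i₀) g₀ ψ := ⟨σ, hσ⟩
  refine ⟨l, ?_⟩
  have hml := hmono l ψ
  have h1 : (σ ≫ pullback.fst (f₀ ≫ g₀) (D.map (k.hom ≫ 𝟙 i₀))) ≫ f₀ =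
      pullback.fst g₀ (D.map (l.hom ≫ 𝟙 i₀)) := by
    rw [Category.assoc, ← pbRel_fst D (𝟙 i₀) f₀ g₀ k, ← Category.assoc, hσ', pbMap_fst]
  have hcond : (σ ≫ pullback.fst (f₀ ≫ g₀) (D.map (k.hom ≫ 𝟙 i₀))) ≫ f₀ ≫ g₀ =
      pullback.snd g₀ (D.map (l.hom ≫ 𝟙 i₀)) ≫ D.map (l.hom ≫ 𝟙 i₀) := by
    rw [← Category.assoc, h1, pullback.condition]
  have hsec : pullback.lift (σ ≫ pullback.fst (f₀ ≫ g₀) (D.map (k.hom ≫ 𝟙 i₀)))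
      (pullback.snd g₀ (D.map (l.hom ≫ 𝟙 i₀))) hcond ≫ pbRel D (𝟙 i₀) f₀ g₀ l = 𝟙 _ := by
    apply pullback.hom_ext
    · rw [Category.assoc, pbRel_fst, ← Category.assoc, pullback.lift_fst, h1, Category.id_comp]
    · rw [Category.assoc, pbRel_snd, pullback.lift_snd, Category.id_comp]
  have : IsSplitEpi (pbRel D (𝟙 i₀) f₀ g₀ l) := IsSplitEpi.mk' ⟨_, hsec⟩
  exact isIso_of_mono_of_isSplitEpi _

end

end Groth.Agent.H24
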