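import Mathlib
import Groth.Agent.H24.LimIso

/-!
# The diagonal of a base change (helper24)

Let `f₀ : X₀ ⟶ Y₀`, `g₀ : Y₀ ⟶ S₀`, `p : T ⟶ S₀`, and let `f_T : X_T ⟶ Y_T` be the base change
of `f₀` along `p` (given by two pullback squares).  Then `K = (X₀ ×_{Y₀} X₀) ×_{S₀} T` is a kernel
pair of `f_T`, and the diagonal of `f_T` corresponds to the base change of the diagonal of `f₀`
along `K ⟶ X₀ ×_{Y₀} X₀`.
-/

set_option autoImplicit false

open CategoryTheory AlgebraicGeometry Limits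

universe u

namespace Groth.Agent.H24

section

variable {X₀ Y₀ S₀ T : Scheme.{u}} (f₀ : X₀ ⟶ Y₀) (g₀ : Y₀ ⟶ S₀) (p : T ⟶ S₀)
  {XT YT : Scheme.{u}} {fT : XT ⟶ YT} {gT : YT ⟶ T} {qY : YT ⟶ Y₀} {qX : XT ⟶ X₀}
  (hY : IsPullback qY gT g₀ p) (hX : IsPullback qX fT f₀ qY)

/-- the map `K ⟶ Y_T` -/
noncomputable def kpY : pullback (hW f₀ g₀) p ⟶ YT :=
  hY.lift (pullback.fst (hW f₀ g₀) p ≫ pullback.fst f₀ f₀ ≫ f₀) (pullback.snd (hW f₀ g₀) p) (by
    rw [Category.assoc, Category.assoc, ← hW_def, pullback.condition])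

theorem kpY_qY : kpY f₀ g₀ p hY ≫ qY = pullback.fst (hW f₀ g₀) p ≫ pullback.fst f₀ f₀ ≫ f₀ :=
  hY.lift_fst _ _ _

theorem kpY_gT : kpY f₀ g₀ p hY ≫ gT = pullback.snd (hW f₀ g₀) p :=
  hY.lift_snd _ _ _

/-- first projection of the kernel pair -/
noncomputable def kpFst : pullback (hW f₀ g₀) p ⟶ XT :=
  hX.lift (pullback.fst (hW f₀ g₀) p ≫ pullback.fst f₀ f₀) (kpY f₀ g₀ p hY) (by
    rw [kpY_qY, Category.assoc])

/-- second projection of the kernel pair -/
noncomputable def kpSnd : pullback (hW f₀ g₀) p ⟶ XT :=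
  hX.lift (pullback.fst (hW f₀ g₀) p ≫ pullback.snd f₀ f₀) (kpY f₀ g₀ p hY) (by
    rw [kpY_qY, Category.assoc, pullback.condition])

theorem kpFst_qX : kpFst f₀ g₀ p hY hX ≫ qX = pullback.fst (hW f₀ g₀) p ≫ pullback.fst f₀ f₀ :=
  hX.lift_fst _ _ _

theorem kpFst_fT : kpFst f₀ g₀ p hY hX ≫ fT = kpY f₀ g₀ p hY :=
  hX.lift_snd _ _ _

theorem kpSnd_qX : kpSnd f₀ g₀ p hY hX ≫ qX = pullback.fst (hW f₀ g₀) p ≫ pullback.snd f₀ f₀ :=
  hX.lift_fst _ _ _

theorem kpSnd_fT : kpSnd f₀ g₀ p hY hX ≫ fT = kpY f₀ g₀ p hY :=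
  hX.lift_snd _ _ _

/-- `K` is a kernel pair of `f_T`. -/
theorem isPullback_kp : IsPullback (kpFst f₀ g₀ p hY hX) (kpSnd f₀ g₀ p hY hX) fT fT := by
  have w : kpFst f₀ g₀ p hY hX ≫ fT = kpSnd f₀ g₀ p hY hX ≫ fT := by
    rw [kpFst_fT, kpSnd_fT]
  -- the lift of a cone
  have key : ∀ {A : Scheme.{u}} (a b : A ⟶ XT), a ≫ fT = b ≫ fT →
      ∃ l : A ⟶ pullback (hW f₀ g₀) p, l ≫ kpFst f₀ g₀ p hY hX = a ∧
        l ≫ kpSnd f₀ g₀ p hY hX = b := by
    intro A a b hab
    have c1 : (a ≫ qX) ≫ f₀ = (b ≫ qX) ≫ f₀ := by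
      rw [Category.assoc, Category.assoc, hX.w, ← Category.assoc, hab, Category.assoc]
    have c2 : pullback.lift (a ≫ qX) (b ≫ qX) c1 ≫ hW f₀ g₀ = (a ≫ fT ≫ gT) ≫ p := by
      rw [hW_def, ← Category.assoc, pullback.lift_fst, Category.assoc, Category.assoc,
        Category.assoc, ← hY.w, ← Category.assoc fT, ← hX.w, Category.assoc]
    have hlY : pullback.lift (pullback.lift (a ≫ qX) (b ≫ qX) c1) (a ≫ fT ≫ gT) c2 ≫
        kpY f₀ g₀ p hY = a ≫ fT := by
      apply hY.hom_ext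
      · rw [Category.assoc, kpY_qY, ← Category.assoc, pullback.lift_fst, ← Category.assoc,
          pullback.lift_fst, Category.assoc, Category.assoc, hX.w]
      · rw [Category.assoc, kpY_gT, pullback.lift_snd, Category.assoc]
    refine ⟨pullback.lift (pullback.lift (a ≫ qX) (b ≫ qX) c1) (a ≫ fT ≫ gT) c2, ?_, ?_⟩
    · apply hX.hom_ext
      · rw [Category.assoc, kpFst_qX, ← Category.assoc, pullback.lift_fst, pullback.lift_fst]
      · rw [Category.assoc, kpFst_fT, hlY]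
    · apply hX.hom_ext
      · rw [Category.assoc, kpSnd_qX, ← Category.assoc, pullback.lift_fst, pullback.lift_snd]
      · rw [Category.assoc, kpSnd_fT, hlY, hab]
  have uniq : ∀ {A : Scheme.{u}} (m m' : A ⟶ pullback (hW f₀ g₀) p),
      m ≫ kpFst f₀ g₀ p hY hX = m' ≫ kpFst f₀ g₀ p hY hX →
      m ≫ kpSnd f₀ g₀ p hY hX = m' ≫ kpSnd f₀ g₀ p hY hX → m = m' := by
    intro A m m' h1 h2
    apply pullback.hom_ext
    · apply pullback.hom_ext
      · rw [Category.assoc, Category.assoc, ← kpFst_qX f₀ g₀ p hY hX, ← Category.assoc,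
          ← Category.assoc, h1]
      · rw [Category.assoc, Category.assoc, ← kpSnd_qX f₀ g₀ p hY hX, ← Category.assoc,
          ← Category.assoc, h2]
    · rw [← kpY_gT f₀ g₀ p hY, ← kpFst_fT f₀ g₀ p hY hX, ← Category.assoc, ← Category.assoc,
        ← Category.assoc, ← Category.assoc, h1]
  refine IsPullback.of_isLimit' ⟨w⟩ (PullbackCone.IsLimit.mk _
    (fun s => (key s.fst s.snd s.condition).choose)
    (fun s => (key s.fst s.snd s.condition).choose_spec.1)
    (fun s => (key s.fst s.snd s.condition).choose_spec.2)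
    (fun s m h1 h2 => uniq _ _
      (h1.trans (key s.fst s.snd s.condition).choose_spec.1.symm)
      (h2.trans (key s.fst s.snd s.condition).choose_spec.2.symm)))

include hY hX in
theorem kpDiag_cond : (qX ≫ pullback.diagonal f₀) ≫ hW f₀ g₀ = (fT ≫ gT) ≫ p := by
  rw [hW_def, Category.assoc, pullback.diagonal_fst_assoc, Category.assoc, ← hY.w,
    ← Category.assoc, ← Category.assoc, hX.w]

/-- the diagonal `X_T ⟶ K` -/
noncomputable def kpDiag : XT ⟶ pullback (hW f₀ g₀) p :=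
  pullback.lift (qX ≫ pullback.diagonal f₀) (fT ≫ gT) (kpDiag_cond f₀ g₀ p hY hX)

theorem kpDiag_fst : kpDiag f₀ g₀ p hY hX ≫ pullback.fst (hW f₀ g₀) p =
    qX ≫ pullback.diagonal f₀ := pullback.lift_fst _ _ _

theorem kpDiag_snd : kpDiag f₀ g₀ p hY hX ≫ pullback.snd (hW f₀ g₀) p = fT ≫ gT :=
  pullback.lift_snd _ _ _

theorem kpDiag_kpY : kpDiag f₀ g₀ p hY hX ≫ kpY f₀ g₀ p hY = fT := by
  apply hY.hom_ext
  · rw [Category.assoc, kpY_qY, ← Category.assoc, kpDiag_fst, Category.assoc,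
      pullback.diagonal_fst_assoc, hX.w]
  · rw [Category.assoc, kpY_gT, kpDiag_snd]

theorem kpDiag_kpFst : kpDiag f₀ g₀ p hY hX ≫ kpFst f₀ g₀ p hY hX = 𝟙 _ := by
  apply hX.hom_ext
  · rw [Category.assoc, kpFst_qX, ← Category.assoc, kpDiag_fst, Category.assoc,
      pullback.diagonal_fst, Category.comp_id, Category.id_comp]
  · rw [Category.assoc, kpFst_fT, kpDiag_kpY, Category.id_comp]

theorem kpDiag_kpSnd : kpDiag f₀ g₀ p hY hX ≫ kpSnd f₀ g₀ p hY hX = 𝟙 _ := by
  apply hX.hom_ext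
  · rw [Category.assoc, kpSnd_qX, ← Category.assoc, kpDiag_fst, Category.assoc,
      pullback.diagonal_snd, Category.comp_id, Category.id_comp]
  · rw [Category.assoc, kpSnd_fT, kpDiag_kpY, Category.id_comp]

/-- The diagonal of the base change is the base change of the diagonal. -/
theorem isPullback_kpDiag :
    IsPullback qX (kpDiag f₀ g₀ p hY hX) (pullback.diagonal f₀) (pullback.fst (hW f₀ g₀) p) := by
  have big : IsPullback qX (kpDiag f₀ g₀ p hY hX ≫ pullback.snd (hW f₀ g₀) p)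
      (pullback.diagonal f₀ ≫ hW f₀ g₀) p := by
    rw [kpDiag_snd, hW_def, pullback.diagonal_fst_assoc]
    exact hX.paste_vert hY
  exact IsPullback.of_bot big (kpDiag_fst f₀ g₀ p hY hX).symm (IsPullback.of_hasPullback _ _)

include hY hX in
/-- **The diagonal of a base change.**  For a property `P` respecting isomorphisms, `P` holds for
the diagonal of the base change `f_T` iff it holds for the base change of the diagonal of `f₀`
along `(X₀ ×_{Y₀} X₀) ×_{S₀} T ⟶ X₀ ×_{Y₀} X₀`. -/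
theorem diagonal_baseChange_iff (P : MorphismProperty Scheme.{u}) [P.RespectsIso] :
    P (pullback.diagonal fT) ↔
      P (pullback.snd (pullback.diagonal f₀) (pullback.fst (hW f₀ g₀) p)) := by
  have hk := isPullback_kp f₀ g₀ p hY hX
  have hd : pullback.diagonal fT = kpDiag f₀ g₀ p hY hX ≫ hk.isoPullback.hom := by
    apply pullback.hom_ext
    · rw [pullback.diagonal_fst, Category.assoc, hk.isoPullback_hom_fst, kpDiag_kpFst]
    · rw [pullback.diagonal_snd, Category.assoc, hk.isoPullback_hom_snd, kpDiag_kpSnd]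
  have hs := isPullback_kpDiag f₀ g₀ p hY hX
  rw [hd, P.cancel_right_of_respectsIso, ← hs.isoPullback_hom_snd, P.cancel_left_of_respectsIso]

end

section

variable {A B T T' : Scheme.{u}} (m : A ⟶ B)

theorem snd_snd_iff (P : MorphismProperty Scheme.{u}) [P.RespectsIso] {V : Scheme.{u}}
    (h : V ⟶ B) (q : T ⟶ V) :
    P (pullback.snd (pullback.snd m h) q) ↔ P (pullback.snd m (q ≫ h)) := by
  rw [← pullbackLeftPullbackSndIso_hom_snd m h q, P.cancel_left_of_respectsIso]

theorem snd_iff_of_eq (P : MorphismProperty Scheme.{u}) {w w' : T ⟶ B} (e : w = w') :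
    P (pullback.snd m w) ↔ P (pullback.snd m w') := by
  subst e
  rfl

/-- base change along a further map -/
theorem isPullback_lift_comp (w : T ⟶ B) (r : T' ⟶ T) :
    IsPullback (pullback.lift (pullback.fst m (r ≫ w)) (pullback.snd m (r ≫ w) ≫ r)
        (by rw [Category.assoc, pullback.condition]))
      (pullback.snd m (r ≫ w)) (pullback.snd m w) r := by
  have big : IsPullback (pullback.lift (pullback.fst m (r ≫ w)) (pullback.snd m (r ≫ w) ≫ r)
        (by rw [Category.assoc, pullback.condition]) ≫ pullback.fst m w)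
      (pullback.snd m (r ≫ w)) m (r ≫ w) := by
    rw [pullback.lift_fst]
    exact IsPullback.of_hasPullback _ _
  exact IsPullback.of_right big (pullback.lift_snd _ _ _) (IsPullback.of_hasPullback _ _)

end

end Groth.Agent.H24
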