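import Mathlib

/-!
# Connectedness and cofiltered limits of schemes (helper24)
-/

set_option autoImplicit false

open CategoryTheory AlgebraicGeometry Limits TopologicalSpace

universe u

namespace Groth.Agent.H24

theorem not_preconnectedSpace_of_opens {T : Type*} [TopologicalSpace T] (U V : Set T)
    (hU : IsOpen U) (hV : IsOpen V) (hUV : U ∩ V = ∅) (hcov : U ∪ V = Set.univ)
    (hUne : U.Nonempty) (hVne : V.Nonempty) : ¬ PreconnectedSpace T := by
  intro h
  obtain ⟨x, -, hx⟩ := h.isPreconnected_univ U V hU hV (by rw [hcov])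
    (by simpa using hUne) (by simpa using hVne)
  rw [hUV] at hx
  exact hx

theorem exists_opens_of_not_preconnectedSpace {T : Type*} [TopologicalSpace T]
    (h : ¬ PreconnectedSpace T) : ∃ U V : Set T, IsOpen U ∧ IsOpen V ∧ U ∩ V = ∅ ∧
      U ∪ V = Set.univ ∧ U.Nonempty ∧ V.Nonempty := by
  by_contra hcon
  apply h
  constructor
  intro U V hU hV hcov hUne hVne
  by_contra hne
  apply hcon
  refine ⟨U, V, hU, hV, ?_, ?_, by simpa using hUne, by simpa using hVne⟩
  · rw [Set.univ_inter] at hne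
    exact Set.not_nonempty_iff_eq_empty.mp hne
  · exact Set.eq_univ_of_univ_subset hcov

section

variable {I : Type u} [SmallCategory I] [IsCofiltered I]
    (D : I ⥤ Scheme.{u}) (c : Limits.Cone D) (hc : Limits.IsLimit c)
    [∀ {i j : I} (f : i ⟶ j), IsAffineHom (D.map f)]

include hc in
theorem exists_preimage_eq_over (U : c.pt.Opens) (hU : IsCompact (U : Set c.pt)) (i₀ : I) :
    ∃ (i : I) (_ : i ⟶ i₀) (V : (D.obj i).Opens),
      IsCompact (V : Set (D.obj i)) ∧ c.π.app i ⁻¹ᵁ V = U := by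
  obtain ⟨i₁, V₁, hV₁, rfl⟩ := exists_preimage_eq D c hc U hU
  refine ⟨IsCofiltered.min i₁ i₀, IsCofiltered.minToRight _ _,
    D.map (IsCofiltered.minToLeft i₁ i₀) ⁻¹ᵁ V₁,
    (D.map (IsCofiltered.minToLeft i₁ i₀)).isCompact_preimage hV₁, ?_⟩
  rw [← Scheme.Hom.comp_preimage, c.w]

end

end Groth.Agent.H24
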