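import Mathlib
import Groth.Agent.H24.LimConn

/-!
# Constructible sets and cofiltered limits of schemes (helper24)
-/

set_option autoImplicit false

open CategoryTheory AlgebraicGeometry Limits TopologicalSpace Topology

universe u

namespace Groth.Agent.H24

/-- In a compact quasi-separated prespectral space, constructible sets are compact. -/
theorem IsConstructible.isCompact' {X : Type*} [TopologicalSpace X] [CompactSpace X]
    [QuasiSeparatedSpace X] [PrespectralSpace X] {E : Set X} (hE : IsConstructible E) :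
    IsCompact E := by
  have hb := PrespectralSpace.isTopologicalBasis (X := X)
  let ι := {U : Set X | IsOpen U ∧ IsCompact U}
  have : Nonempty ι := ⟨⟨∅, isOpen_empty, isCompact_empty⟩⟩
  induction E, hE using IsConstructible.induction_of_isTopologicalBasis (ι := ι)
    (b := fun i => (i : Set X)) with
  | basis => simpa using hb
  | isCompact_basis i => exact i.2.2
  | sdiff i s hs =>
    exact i.2.2.diff (isOpen_biUnion fun j _ => j.2.1)
  | union s hs t ht ihs iht => exact ihs.union iht

section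

variable {I : Type u} [SmallCategory I] [IsCofiltered I]
    (D : I ⥤ Scheme.{u}) (c : Limits.Cone D) (hc : Limits.IsLimit c)
    [∀ {i j : I} (f : i ⟶ j), IsAffineHom (D.map f)]

include hc in
/-- Two compact opens of the limit descend to a common stage over `i₀`. -/
theorem exists_preimage_eq_over₂ (U V : c.pt.Opens) (hU : IsCompact (U : Set c.pt))
    (hV : IsCompact (V : Set c.pt)) (i₀ : I) :
    ∃ (i : I) (_ : i ⟶ i₀) (U' V' : (D.obj i).Opens),
      IsCompact (U' : Set (D.obj i)) ∧ IsCompact (V' : Set (D.obj i)) ∧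
      c.π.app i ⁻¹ᵁ U' = U ∧ c.π.app i ⁻¹ᵁ V' = V := by
  obtain ⟨i₁, a₁, U₁, hU₁c, hU₁⟩ := exists_preimage_eq_over D c hc U hU i₀
  obtain ⟨i₂, a₂, V₂, hV₂c, hV₂⟩ := exists_preimage_eq_over D c hc V hV i₁
  refine ⟨i₂, a₂ ≫ a₁, D.map a₂ ⁻¹ᵁ U₁, V₂, (D.map a₂).isCompact_preimage hU₁c, hV₂c, ?_, hV₂⟩
  rw [← hU₁, ← Scheme.Hom.comp_preimage, c.w]

end

/-- A compact subset of an open set in a prespectral space is contained in a compact open
subset of that open set. -/
theorem exists_isCompact_isOpen_between {X : Type*} [TopologicalSpace X] [PrespectralSpace X]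
    {K U : Set X} (hK : IsCompact K) (hU : IsOpen U) (hKU : K ⊆ U) :
    ∃ W : Set X, IsOpen W ∧ IsCompact W ∧ K ⊆ W ∧ W ⊆ U := by
  have hb := PrespectralSpace.isTopologicalBasis (X := X)
  have : ∀ x ∈ K, ∃ B : Set X, (IsOpen B ∧ IsCompact B) ∧ x ∈ B ∧ B ⊆ U := fun x hx =>
    hb.exists_subset_of_mem_open (hKU hx) hU
  choose! B hB hxB hBU using this
  obtain ⟨t, hcov⟩ := hK.elim_nhds_subcover' (fun x hx => B x) (fun x hx =>
    (hB x hx).1.mem_nhds (hxB x hx))
  refine ⟨⋃ x ∈ t, B x.1, isOpen_biUnion fun x _ => (hB x.1 x.2).1,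
    t.isCompact_biUnion fun x _ => (hB x.1 x.2).2, hcov, ?_⟩
  exact Set.iUnion₂_subset fun x _ => hBU x.1 x.2

/-- A locally closed constructible subset of a compact quasi-separated prespectral space is a
difference of two compact open subsets. -/
theorem exists_compact_opens_diff_of_isLocallyClosed {X : Type*} [TopologicalSpace X]
    [CompactSpace X] [QuasiSeparatedSpace X] [PrespectralSpace X] {Z : Set X}
    (hZ : IsConstructible Z) (hZ' : IsLocallyClosed Z) :
    ∃ U V : Set X, IsOpen U ∧ IsCompact U ∧ IsOpen V ∧ IsCompact V ∧ Z = U \ V := by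
  have hcob : IsOpen (coborder Z) := hZ'.isOpen_coborder
  obtain ⟨U, hUo, hUc, hZU, hUcob⟩ :=
    exists_isCompact_isOpen_between (IsConstructible.isCompact' hZ) hcob subset_coborder
  have hZeq : Z = closure Z ∩ U := by
    apply Set.Subset.antisymm
    · exact fun z hz => ⟨subset_closure hz, hZU hz⟩
    · rintro z ⟨hz1, hz2⟩
      have := hUcob hz2
      rw [coborder, Set.mem_compl_iff, Set.mem_sdiff, not_and, not_not] at this
      exact this hz1
  have hV : U \ Z = U ∩ (closure Z)ᶜ := by
    ext z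
    constructor
    · rintro ⟨hzU, hzZ⟩
      refine ⟨hzU, fun hzc => hzZ ?_⟩
      rw [hZeq]; exact ⟨hzc, hzU⟩
    · rintro ⟨hzU, hzc⟩
      exact ⟨hzU, fun hzZ => hzc (subset_closure hzZ)⟩
  refine ⟨U, U \ Z, hUo, hUc, ?_, ?_, ?_⟩
  · rw [hV]; exact hUo.inter isClosed_closure.isOpen_compl
  · exact IsConstructible.isCompact' ((hUc.isConstructible hUo).sdiff hZ)
  · rw [Set.sdiff_sdiff_cancel_left hZU]

section

variable {I : Type u} [SmallCategory I] [IsCofiltered I]
    (D : I ⥤ Scheme.{u}) (c : Limits.Cone D) (hc : Limits.IsLimit c)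
    [∀ {i j : I} (f : i ⟶ j), IsAffineHom (D.map f)]

include hc in
/-- A constructible subset of a quasi-compact stage whose preimage in the limit is empty has
empty preimage in some stage. -/
theorem exists_preimage_eq_empty_of_isConstructible {j : I} [CompactSpace (D.obj j)]
    (E : Set (D.obj j)) (hE : IsConstructible E) (hpre : c.π.app j ⁻¹' E = ∅) :
    ∃ (k : I) (b : k ⟶ j), D.map b ⁻¹' E = ∅ := by
  revert hpre
  induction E, hE using BooleanSubalgebra.closure_sdiff_sup_induction with
  | isSublattice =>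
    exact ⟨fun s hs t ht ↦ ⟨hs.1.union ht.1, hs.2.union ht.2⟩,
      fun s hs t ht ↦ ⟨hs.1.inter ht.1, hs.2.inter_isOpen ht.2 ht.1⟩⟩
  | bot_mem => exact ⟨isOpen_empty, .empty⟩
  | top_mem => exact ⟨isOpen_univ, .univ⟩
  | sdiff U hU V hV =>
    intro hpre
    have hUc : IsCompact U := hU.2.isCompact
    have H : c.π.app j ⁻¹ᵁ ⟨U, hU.1⟩ ≤ c.π.app j ⁻¹ᵁ ⟨V, hV.1⟩ := by
      intro x hx
      by_contra hxV
      have : x ∈ c.π.app j ⁻¹' (U \ V) := ⟨hx, hxV⟩
      rw [hpre] at this
      exact this
    obtain ⟨k, b, hb⟩ := exists_map_preimage_le_map_preimage D c hc (U := ⟨U, hU.1⟩)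
      (V := ⟨V, hV.1⟩) hUc H
    refine ⟨k, b, ?_⟩
    ext x
    simp only [Set.mem_preimage, Set.mem_sdiff, Set.mem_empty_iff_false, iff_false, not_and,
      not_not]
    intro hx
    exact hb hx
  | sup s _ t _ ihs iht =>
    intro hpre
    have hpre' : c.π.app j ⁻¹' s ∪ c.π.app j ⁻¹' t = ∅ := hpre
    rw [Set.union_empty_iff] at hpre'
    obtain ⟨ks, bs, hs⟩ := ihs hpre'.1
    obtain ⟨kt, bt, ht⟩ := iht hpre'.2
    let u : IsCofiltered.min ks kt ⟶ j := IsCofiltered.minToLeft ks kt ≫ bs
    let v : IsCofiltered.min ks kt ⟶ j := IsCofiltered.minToRight ks kt ≫ bt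
    refine ⟨IsCofiltered.eq u v, IsCofiltered.eqHom u v ≫ u, ?_⟩
    change D.map (IsCofiltered.eqHom u v ≫ u) ⁻¹' s ∪ D.map (IsCofiltered.eqHom u v ≫ u) ⁻¹' t = ∅
    rw [Set.union_empty_iff]
    constructor
    · ext x
      simp only [Set.mem_preimage, Set.mem_empty_iff_false, iff_false]
      intro hx
      have : D.map (IsCofiltered.eqHom u v ≫ IsCofiltered.minToLeft ks kt) x ∈ D.map bs ⁻¹' s := by
        simp only [Set.mem_preimage]
        rw [← Scheme.Hom.comp_apply, ← D.map_comp, Category.assoc]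
        exact hx
      rw [hs] at this
      exact this
    · rw [IsCofiltered.eq_condition]
      ext x
      simp only [Set.mem_preimage, Set.mem_empty_iff_false, iff_false]
      intro hx
      have : D.map (IsCofiltered.eqHom u v ≫ IsCofiltered.minToRight ks kt) x ∈ D.map bt ⁻¹' t := by
        simp only [Set.mem_preimage]
        rw [← Scheme.Hom.comp_apply, ← D.map_comp, Category.assoc]
        exact hx
      rw [ht] at this
      exact this

include hc in
/-- Two constructible subsets of a quasi-compact stage with the same preimage in the limit have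
the same preimage in some stage. -/
theorem exists_preimage_eq_of_isConstructible {j : I} [CompactSpace (D.obj j)]
    (E F : Set (D.obj j)) (hE : IsConstructible E) (hF : IsConstructible F)
    (hpre : c.π.app j ⁻¹' E = c.π.app j ⁻¹' F) :
    ∃ (k : I) (b : k ⟶ j), D.map b ⁻¹' E = D.map b ⁻¹' F := by
  obtain ⟨k, b, hb⟩ := exists_preimage_eq_empty_of_isConstructible D c hc
    ((E \ F) ∪ (F \ E)) ((hE.sdiff hF).union (hF.sdiff hE)) (by
      rw [Set.preimage_union, Set.preimage_sdiff, Set.preimage_sdiff, hpre]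
      simp)
  refine ⟨k, b, ?_⟩
  rw [Set.preimage_union, Set.preimage_sdiff, Set.preimage_sdiff, Set.union_empty_iff,
    Set.sdiff_eq_empty, Set.sdiff_eq_empty] at hb
  exact Set.Subset.antisymm hb.1 hb.2

end

end Groth.Agent.H24
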