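import Mathlib
import Groth.Agent.H24.ConsLim
import Groth.Agent.H24.LimIso

/-!
# Descent of properties of morphisms to a finite stage of a cofiltered limit (helper24)
-/

set_option autoImplicit false

open CategoryTheory AlgebraicGeometry Limits TopologicalSpace Topology

universe u

namespace Groth.Agent.H24

/-- the range of the base change of `f` along `g` is the preimage of the range of `f` -/
theorem range_snd_of_isPullback {P X Y Z : Scheme.{u}} {a : P ⟶ X} {b : P ⟶ Y} {f : X ⟶ Z}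
    {g : Y ⟶ Z} (h : IsPullback a b f g) : Set.range b = g ⁻¹' Set.range f := by
  rw [← Scheme.Pullback.range_snd]
  ext y
  constructor
  · rintro ⟨p, rfl⟩
    exact ⟨h.isoPullback.hom p, by rw [← Scheme.Hom.comp_apply, h.isoPullback_hom_snd]⟩
  · rintro ⟨q, rfl⟩
    exact ⟨h.isoPullback.inv q, by rw [← Scheme.Hom.comp_apply, h.isoPullback_inv_snd]⟩

section

variable {I : Type u} [SmallCategory I] [IsCofiltered I]
    (D : I ⥤ Scheme.{u}) (c : Limits.Cone D) (hc : Limits.IsLimit c)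
    [∀ {i j : I} (f : i ⟶ j), IsAffineHom (D.map f)]
    (i₀ : I) {X₀ Y₀ : Scheme.{u}} (f₀ : X₀ ⟶ Y₀) (g₀ : Y₀ ⟶ D.obj i₀)

include hc in
/-- **Surjectivity descends to a finite stage.** -/
theorem exists_surjective_pbRel [CompactSpace (D.obj i₀)] [QuasiSeparatedSpace (D.obj i₀)]
    [LocallyOfFiniteType g₀] [QuasiCompact g₀] [QuasiSeparated g₀]
    [LocallyOfFinitePresentation (f₀ ≫ g₀)] [QuasiCompact (f₀ ≫ g₀)]
    {X Y : Scheme.{u}} (f : X ⟶ Y) (g : Y ⟶ c.pt) (qY : Y ⟶ Y₀) (qX : X ⟶ X₀)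
    (hY : IsPullback qY g g₀ (c.π.app i₀)) (hX : IsPullback qX f f₀ qY) [Surjective f] :
    ∃ j : Over i₀, Surjective (pbRel D (𝟙 i₀) f₀ g₀ j) := by
  have hf₀ : LocallyOfFinitePresentation f₀ := locallyOfFinitePresentation_of_comp f₀ g₀
  have hf₀' : QuasiCompact f₀ := QuasiCompact.of_comp f₀ g₀
  have hY₀ : CompactSpace Y₀ := QuasiCompact.compactSpace_of_compactSpace g₀
  have hY₀' : QuasiSeparatedSpace Y₀ := quasiSeparatedSpace_of_quasiSeparated g₀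
  have hcons : IsConstructible (Set.range f₀) := by
    have := f₀.isConstructible_image (s := Set.univ) IsConstructible.univ
    rwa [Set.image_univ] at this
  have hcomp : CompactSpace ↥((pbDiagram D (𝟙 i₀) g₀).obj (Over.mk (𝟙 i₀))) := by
    have : IsAffineHom (pullback.fst g₀ (D.map ((Over.mk (𝟙 i₀)).hom ≫ 𝟙 i₀))) :=
      MorphismProperty.pullback_fst (P := @IsAffineHom) _ _ inferInstance
    have h : CompactSpace ↥(pullback g₀ (D.map ((Over.mk (𝟙 i₀)).hom ≫ 𝟙 i₀))) :=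
      QuasiCompact.compactSpace_of_compactSpace
        (pullback.fst g₀ (D.map ((Over.mk (𝟙 i₀)).hom ≫ 𝟙 i₀)))
    exact h
  have hE : IsConstructible (X := ↥((pbDiagram D (𝟙 i₀) g₀).obj (Over.mk (𝟙 i₀))))
      (pullback.fst g₀ (D.map ((Over.mk (𝟙 i₀)).hom ≫ 𝟙 i₀)) ⁻¹' (Set.range f₀)ᶜ) :=
    (pullback.fst g₀ (D.map ((Over.mk (𝟙 i₀)).hom ≫ 𝟙 i₀))).isConstructible_preimage hcons.compl
  have hpre : (pbCone D (𝟙 i₀) g₀ c qY g hY.w).π.app (Over.mk (𝟙 i₀)) ⁻¹'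
      (pullback.fst g₀ (D.map ((Over.mk (𝟙 i₀)).hom ≫ 𝟙 i₀)) ⁻¹' (Set.range f₀)ᶜ) = ∅ := by
    rw [Set.eq_empty_iff_forall_notMem]
    intro y hy
    have h1 : qY y ∈ (Set.range f₀)ᶜ := by
      have h2 : pullback.fst g₀ (D.map ((Over.mk (𝟙 i₀)).hom ≫ 𝟙 i₀))
          (pbLift D (𝟙 i₀) g₀ c qY g hY.w (Over.mk (𝟙 i₀)) y) ∈ (Set.range f₀)ᶜ := hy
      rwa [← Scheme.Hom.comp_apply, pbLift_fst] at h2
    obtain ⟨x, rfl⟩ := f.surjective y
    apply h1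
    exact ⟨qX x, by rw [← Scheme.Hom.comp_apply, ← Scheme.Hom.comp_apply, hX.w]⟩
  obtain ⟨k, b, hb⟩ := exists_preimage_eq_empty_of_isConstructible (pbDiagram D (𝟙 i₀) g₀)
    (pbCone D (𝟙 i₀) g₀ c qY g hY.w) (isLimitPbCone D (𝟙 i₀) g₀ c hc qY g hY) _ hE hpre
  refine ⟨k, ⟨fun y => ?_⟩⟩
  have hr := range_snd_of_isPullback (isPullback_pbRel D (𝟙 i₀) f₀ g₀ k)
  have hy : y ∈ Set.range (pbRel D (𝟙 i₀) f₀ g₀ k) := by
    rw [hr]
    by_contra hcon
    have h3 : y ∈ (pbDiagram D (𝟙 i₀) g₀).map b ⁻¹'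
        (pullback.fst g₀ (D.map ((Over.mk (𝟙 i₀)).hom ≫ 𝟙 i₀)) ⁻¹' (Set.range f₀)ᶜ) := by
      have h4 : pullback.fst g₀ (D.map ((Over.mk (𝟙 i₀)).hom ≫ 𝟙 i₀))
          (pbMap D (𝟙 i₀) g₀ b y) ∈ (Set.range f₀)ᶜ := by
        rw [← Scheme.Hom.comp_apply, pbMap_fst]
        exact hcon
      exact h4
    rw [hb] at h3
    exact h3
  exact hy

end

end Groth.Agent.H24
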