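import Mathlib
import Groth.Agent.H24.LimConn
import Groth.Agent.H24.ConsLim
import Groth.Agent.H24.IrredComp

/-!
# Openness / local closedness of preimages of constructible sets in cofiltered limits (helper24)
-/

set_option autoImplicit false

open CategoryTheory AlgebraicGeometry Limits TopologicalSpace Topology

universe u

namespace Groth.Agent.H24

/-- `PP true` is openness, `PP false` is local closedness. -/
def PP (b : Bool) {T : Type*} [TopologicalSpace T] (s : Set T) : Prop :=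
  if b then IsOpen s else IsLocallyClosed s

theorem PP_true {T : Type*} [TopologicalSpace T] (s : Set T) : PP true s ↔ IsOpen s := by
  simp [PP]

theorem PP_false {T : Type*} [TopologicalSpace T] (s : Set T) :
    PP false s ↔ IsLocallyClosed s := by
  simp [PP]

theorem PP.preimage {b : Bool} {X Y : Type*} [TopologicalSpace X] [TopologicalSpace Y]
    {f : X → Y} (hf : Continuous f) {s : Set Y} (hs : PP b s) : PP b (f ⁻¹' s) := by
  cases b
  · exact IsLocallyClosed.preimage hs hf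
  · exact IsOpen.preimage hf hs

theorem PP.of_isOpenCover {b : Bool} {X : Type*} [TopologicalSpace X] {ι : Type*}
    {U : ι → Opens X} (hU : IsOpenCover U) {s : Set X}
    (hs : ∀ i, PP b ((↑) ⁻¹' s : Set (U i))) : PP b s := by
  cases b
  · exact hU.isLocallyClosed_iff_coe_preimage.mpr hs
  · exact hU.isOpen_iff_coe_preimage.mpr hs

theorem PP.of_diff {b : Bool} {X : Type*} [TopologicalSpace X] {U V : Set X} (hU : IsOpen U)
    (hV : IsOpen V) (hb : b = true → V = ∅) : PP b (U \ V) := by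
  cases b
  · exact hU.isLocallyClosed.inter hV.isClosed_compl.isLocallyClosed
  · rw [hb rfl, Set.sdiff_empty]; exact hU

theorem PP.exists_diff {b : Bool} {X : Type*} [TopologicalSpace X] [CompactSpace X]
    [QuasiSeparatedSpace X] [PrespectralSpace X] {Z : Set X} (hZ : IsConstructible Z)
    (h : PP b Z) : ∃ U V : Set X, IsOpen U ∧ IsCompact U ∧ IsOpen V ∧ IsCompact V ∧ Z = U \ V ∧
      (b = true → V = ∅) := by
  cases b
  · obtain ⟨U, V, h1, h2, h3, h4, h5⟩ := exists_compact_opens_diff_of_isLocallyClosed hZ h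
    exact ⟨U, V, h1, h2, h3, h4, h5, fun h => absurd h (by simp)⟩
  · exact ⟨Z, ∅, h, IsConstructible.isCompact' hZ, isOpen_empty, isCompact_empty, by simp,
      fun _ => rfl⟩

theorem resLE_preimage_ι_preimage {X Y : Scheme.{u}} (f : X ⟶ Y) (U : Y.Opens) (V : X.Opens)
    (e : V ≤ f ⁻¹ᵁ U) (Z : Set Y) :
    (f.resLE U V e) ⁻¹' (U.ι ⁻¹' Z) = V.ι ⁻¹' (f ⁻¹' Z) := by
  ext x
  simp only [Set.mem_preimage]
  rw [← Scheme.Hom.comp_apply, ← Scheme.Hom.comp_apply, Scheme.Hom.resLE_comp_ι]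

section

variable {I : Type u} [SmallCategory I] [IsCofiltered I]
    (D : I ⥤ Scheme.{u}) (c : Limits.Cone D) (hc : Limits.IsLimit c)
    [∀ {i j : I} (f : i ⟶ j), IsAffineHom (D.map f)]

include hc in
/-- The qcqs case. -/
theorem exists_PP_preimage_of_qcqs (b : Bool) (i₁ : I) [CompactSpace (D.obj i₁)]
    [QuasiSeparatedSpace (D.obj i₁)] (Z₁ : Set (D.obj i₁)) (hZ : IsConstructible Z₁)
    (h : PP b (c.π.app i₁ ⁻¹' Z₁)) : ∃ (j : I) (φ : j ⟶ i₁), PP b (D.map φ ⁻¹' Z₁) := by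
  have hπ := isAffineHom_π_app D c hc
  have hqs : ∀ (i : I) (_ : i ⟶ i₁), QuasiSeparatedSpace (D.obj i) := fun i f =>
    quasiSeparatedSpace_of_quasiSeparated (D.map f)
  have hcomp : ∀ (i : I) (_ : i ⟶ i₁), CompactSpace (D.obj i) := fun i f =>
    QuasiCompact.compactSpace_of_compactSpace (D.map f)
  have : CompactSpace c.pt := QuasiCompact.compactSpace_of_compactSpace (c.π.app i₁)
  have : QuasiSeparatedSpace c.pt := quasiSeparatedSpace_of_quasiSeparated (c.π.app i₁)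
  have hZc : IsConstructible (X := c.pt) (c.π.app i₁ ⁻¹' Z₁) :=
    (c.π.app i₁).isConstructible_preimage hZ
  obtain ⟨U, V, hUo, hUc, hVo, hVc, hZUV, hbV⟩ := PP.exists_diff (X := c.pt) hZc h
  obtain ⟨j, a, U', V', hU'c, hV'c, hU', hV'⟩ :=
    exists_preimage_eq_over₂ D c hc ⟨U, hUo⟩ ⟨V, hVo⟩ hUc hVc i₁
  have := hqs j a
  have := hcomp j a
  have h1 := congrArg (fun W : c.pt.Opens => (W : Set c.pt)) hU'
  have h2 := congrArg (fun W : c.pt.Opens => (W : Set c.pt)) hV'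
  simp only [Scheme.Hom.coe_preimage, Opens.coe_mk] at h1 h2
  -- in the open case, make `V'` empty
  obtain ⟨k, d, hk⟩ := exists_preimage_eq_of_isConstructible D c hc
    ((U' : Set (D.obj j)) \ (V' : Set (D.obj j))) (D.map a ⁻¹' Z₁)
    ((hU'c.isConstructible U'.2).sdiff (hV'c.isConstructible V'.2))
    ((D.map a).isConstructible_preimage hZ) (by
      rw [Set.preimage_sdiff, h1, h2, ← hZUV]
      ext x
      simp only [Set.mem_preimage]
      rw [← Scheme.Hom.comp_apply, c.w])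
  have hk' : D.map (d ≫ a) ⁻¹' Z₁ =
      D.map d ⁻¹' (U' : Set (D.obj j)) \ D.map d ⁻¹' (V' : Set (D.obj j)) := by
    rw [← Set.preimage_sdiff, hk]
    ext x
    simp only [Set.mem_preimage]
    rw [D.map_comp, Scheme.Hom.comp_apply]
  cases b
  · refine ⟨k, d ≫ a, ?_⟩
    rw [hk']
    exact PP.of_diff (U'.2.preimage (D.map d).continuous) (V'.2.preimage (D.map d).continuous)
      (fun h => absurd h (by simp))
  · -- `V = ∅`, so `V'` has empty preimage in the limit, hence in some stage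
    have hVe : V = ∅ := hbV rfl
    have := hcomp k (d ≫ a)
    obtain ⟨l, e, hl⟩ := exists_preimage_eq_empty_of_isConstructible D c hc
      (D.map d ⁻¹' (V' : Set (D.obj j)))
      ((D.map d).isConstructible_preimage (hV'c.isConstructible V'.2)) (by
        have : c.π.app k ⁻¹' (D.map d ⁻¹' (V' : Set (D.obj j))) = c.π.app j ⁻¹' V' := by
          ext x
          simp only [Set.mem_preimage]
          rw [← Scheme.Hom.comp_apply, c.w]
        rw [this, h2, hVe])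
    refine ⟨l, e ≫ d ≫ a, ?_⟩
    have : D.map (e ≫ d ≫ a) ⁻¹' Z₁ = D.map e ⁻¹' (D.map (d ≫ a) ⁻¹' Z₁) := by
      ext x
      simp only [Set.mem_preimage]
      rw [D.map_comp, Scheme.Hom.comp_apply]
    rw [this, hk', Set.preimage_sdiff, hl, Set.sdiff_empty]
    exact (U'.2.preimage (D.map d).continuous).preimage (D.map e).continuous


include hc in
theorem exists_PP_preimage_inter_affine (b : Bool) (i₁ : I) (Z₁ : Set (D.obj i₁))
    (hZ : IsConstructible Z₁) (h : PP b (c.π.app i₁ ⁻¹' Z₁)) (W : (D.obj i₁).Opens)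
    (hW : IsAffineOpen W) :
    ∃ j₀ : Over i₁, PP b ((↑) ⁻¹' (D.map j₀.hom ⁻¹' Z₁) : Set ↥(D.map j₀.hom ⁻¹ᵁ W)) := by
  have hc' := isLimitOpensCone D c hc i₁ W
  have hAff : ∀ j, IsAffine ((opensDiagram D i₁ W).obj j) := fun j => hW.preimage _
  have hZ' : IsConstructible ((D.map (𝟙 i₁) ⁻¹ᵁ W).ι ⁻¹' Z₁) :=
    (D.map (𝟙 i₁) ⁻¹ᵁ W).ι.isConstructible_preimage hZ
  have h' : PP b ((opensCone D c i₁ W).π.app (Over.mk (𝟙 i₁)) ⁻¹'
      ((D.map (𝟙 i₁) ⁻¹ᵁ W).ι ⁻¹' Z₁)) := by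
    have : (opensCone D c i₁ W).π.app (Over.mk (𝟙 i₁)) ⁻¹' ((D.map (𝟙 i₁) ⁻¹ᵁ W).ι ⁻¹' Z₁) =
        (c.π.app i₁ ⁻¹ᵁ W).ι ⁻¹' (c.π.app i₁ ⁻¹' Z₁) :=
      resLE_preimage_ι_preimage (c.π.app i₁) (D.map (𝟙 i₁) ⁻¹ᵁ W) (c.π.app i₁ ⁻¹ᵁ W) _ Z₁
    rw [this]
    exact h.preimage (Scheme.Hom.continuous _)
  have : CompactSpace ((opensDiagram D i₁ W).obj (Over.mk (𝟙 i₁))) := inferInstance
  have : QuasiSeparatedSpace ((opensDiagram D i₁ W).obj (Over.mk (𝟙 i₁))) := inferInstance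
  obtain ⟨j₀, φ, hj₀⟩ := exists_PP_preimage_of_qcqs (opensDiagram D i₁ W) (opensCone D c i₁ W)
    hc' b (Over.mk (𝟙 i₁)) _ hZ' h'
  refine ⟨j₀, ?_⟩
  have hφ : φ.left = j₀.hom := by simpa using Over.w φ
  have key : (opensDiagram D i₁ W).map φ ⁻¹' ((D.map (𝟙 i₁) ⁻¹ᵁ W).ι ⁻¹' Z₁) =
      (D.map j₀.hom ⁻¹ᵁ W).ι ⁻¹' (D.map φ.left ⁻¹' Z₁) :=
    resLE_preimage_ι_preimage (D.map φ.left) (D.map (𝟙 i₁) ⁻¹ᵁ W) (D.map j₀.hom ⁻¹ᵁ W) _ Z₁
  rw [hφ] at key
  exact Eq.mp (congrArg (fun s => PP b s) key) hj₀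

include hc in
theorem exists_PP_preimage (b : Bool) (i₁ : I) [CompactSpace (D.obj i₁)] (Z₁ : Set (D.obj i₁))
    (hZ : IsConstructible Z₁) (h : PP b (c.π.app i₁ ⁻¹' Z₁)) :
    ∃ (j : I) (φ : j ⟶ i₁), PP b (D.map φ ⁻¹' Z₁) := by
  classical
  obtain ⟨s, hs⟩ := (IsOpenCover.mk (iSup_affineOpens_eq_top (D.obj i₁))).exists_finite_of_compactSpace
  let P : Over i₁ → (D.obj i₁).affineOpens → Prop := fun j W =>
    PP b ((↑) ⁻¹' (D.map j.hom ⁻¹' Z₁) : Set ↥(D.map j.hom ⁻¹ᵁ W.1))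
  have hP : ∀ W ∈ (s : Set (D.obj i₁).affineOpens), ∀ i₂ : Over i₁,
      ∃ (i : Over i₁) (_ : i ⟶ i₂), ∀ (j : Over i₁) (_ : j ⟶ i), P j W := by
    intro W _ i₂
    obtain ⟨j₀, hj₀⟩ := exists_PP_preimage_inter_affine D c hc b i₁ Z₁ hZ h W.1 W.2
    refine ⟨IsCofiltered.min i₂ j₀, IsCofiltered.minToLeft _ _, fun j ψ => ?_⟩
    let ψ' : j ⟶ j₀ := ψ ≫ IsCofiltered.minToRight _ _
    have hw : ψ'.left ≫ j₀.hom = j.hom := Over.w ψ'
    have hmem : ∀ x : ↥(D.map j.hom ⁻¹ᵁ W.1), D.map ψ'.left x.1 ∈ D.map j₀.hom ⁻¹ᵁ W.1 := by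
      intro x
      change D.map j₀.hom (D.map ψ'.left x.1) ∈ W.1
      rw [← Scheme.Hom.comp_apply, ← D.map_comp, hw]
      exact x.2
    let g : ↥(D.map j.hom ⁻¹ᵁ W.1) → ↥(D.map j₀.hom ⁻¹ᵁ W.1) := fun x =>
      ⟨D.map ψ'.left x.1, hmem x⟩
    have hg : Continuous g :=
      ((D.map ψ'.left).continuous.comp continuous_subtype_val).subtype_mk _
    have := hj₀.preimage hg
    convert this using 1
    ext x
    simp only [Set.mem_preimage, g]
    rw [← Scheme.Hom.comp_apply, ← D.map_comp, hw]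
  obtain ⟨i, _, hi⟩ := exists_index_forall_finite (I := Over i₁) (s : Set (D.obj i₁).affineOpens)
    s.finite_toSet P hP (Over.mk (𝟙 i₁))
  refine ⟨i.left, i.hom, ?_⟩
  have hcov : IsOpenCover (fun a : s => D.map i.hom ⁻¹ᵁ a.1.1) := by
    rw [IsOpenCover, eq_top_iff]
    intro x _
    obtain ⟨a, ha⟩ := hs.exists_mem (D.map i.hom x)
    exact Opens.mem_iSup.mpr ⟨a, ha⟩
  exact PP.of_isOpenCover hcov (fun a => hi i (𝟙 i) a.1 a.2)

end

end Groth.Agent.H24
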