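import Mathlib
import Groth.Agent.H24.ConsLim2

/-!
# Openness / local closedness of preimages of locally constructible sets in cofiltered limits
(helper24).  Generalises `ConsLim2` from constructible to locally constructible sets.
-/

set_option autoImplicit false

open CategoryTheory AlgebraicGeometry Limits TopologicalSpace Topology

universe u

namespace Groth.Agent.H24

theorem isLocallyConstructible_compl {X : Type*} [TopologicalSpace X] {s : Set X}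
    (hs : IsLocallyConstructible s) : IsLocallyConstructible sᶜ := by
  intro x
  obtain ⟨U, hxU, hU, hsU⟩ := hs x
  exact ⟨U, hxU, hU, hsU.compl⟩

/-- The range of a quasi-compact morphism locally of finite presentation is locally
constructible (Chevalley). -/
theorem isLocallyConstructible_range {X Y : Scheme.{u}} (f : X ⟶ Y)
    [LocallyOfFinitePresentation f] [QuasiCompact f] : IsLocallyConstructible (Set.range f) := by
  have := f.isLocallyConstructible_image (s := Set.univ) IsLocallyConstructible.univ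
  rwa [Set.image_univ] at this

section

variable {I : Type u} [SmallCategory I] [IsCofiltered I]
    (D : I ⥤ Scheme.{u}) (c : Limits.Cone D) (hc : Limits.IsLimit c)
    [∀ {i j : I} (f : i ⟶ j), IsAffineHom (D.map f)]

include hc in
theorem exists_PP_preimage_inter_affine' (b : Bool) (i₁ : I) (Z₁ : Set (D.obj i₁))
    (hZ : IsLocallyConstructible Z₁) (h : PP b (c.π.app i₁ ⁻¹' Z₁)) (W : (D.obj i₁).Opens)
    (hW : IsAffineOpen W) :
    ∃ j₀ : Over i₁, PP b ((↑) ⁻¹' (D.map j₀.hom ⁻¹' Z₁) : Set ↥(D.map j₀.hom ⁻¹ᵁ W)) := by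
  have hc' := isLimitOpensCone D c hc i₁ W
  have hAff : ∀ j, IsAffine ((opensDiagram D i₁ W).obj j) := fun j => hW.preimage _
  have hAff₀ : IsAffine (D.map (𝟙 i₁) ⁻¹ᵁ W).toScheme := hW.preimage _
  have hZ' : IsConstructible ((D.map (𝟙 i₁) ⁻¹ᵁ W).ι ⁻¹' Z₁) :=
    (hZ.preimage_of_isOpenEmbedding (D.map (𝟙 i₁) ⁻¹ᵁ W).ι.isOpenEmbedding).isConstructible
  have h' : PP b ((opensCone D c i₁ W).π.app (Over.mk (𝟙 i₁)) ⁻¹'
      ((D.map (𝟙 i₁) ⁻¹ᵁ W).ι ⁻¹' Z₁)) := by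
    have : (opensCone D c i₁ W).π.app (Over.mk (𝟙 i₁)) ⁻¹' ((D.map (𝟙 i₁) ⁻¹ᵁ W).ι ⁻¹' Z₁) =
        (c.π.app i₁ ⁻¹ᵁ W).ι ⁻¹' (c.π.app i₁ ⁻¹' Z₁) :=
      resLE_preimage_ι_preimage (c.π.app i₁) (D.map (𝟙 i₁) ⁻¹ᵁ W) (c.π.app i₁ ⁻¹ᵁ W) _ Z₁
    rw [this]
    exact h.preimage (Scheme.Hom.continuous _)
  have : CompactSpace ((opensDiagram D i₁ W).obj (Over.mk (𝟙 i₁))) := inferInstance
  have : QuasiSeparatedSpace ((opensDiagram D i₁ W).obj (Over.mk (𝟙 i₁))) := inferInstance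
  obtain ⟨j₀, φ, hj₀⟩ := exists_PP_preimage_of_qcqs (opensDiagram D i₁ W) (opensCone D c i₁ W)
    hc' b (Over.mk (𝟙 i₁)) _ hZ' h'
  refine ⟨j₀, ?_⟩
  have hφ : φ.left = j₀.hom := by simpa using Over.w φ
  have key : (opensDiagram D i₁ W).map φ ⁻¹' ((D.map (𝟙 i₁) ⁻¹ᵁ W).ι ⁻¹' Z₁) =
      (D.map j₀.hom ⁻¹ᵁ W).ι ⁻¹' (D.map φ.left ⁻¹' Z₁) :=
    resLE_preimage_ι_preimage (D.map φ.left) (D.map (𝟙 i₁) ⁻¹ᵁ W) (D.map j₀.hom ⁻¹ᵁ W) _ Z₁
  rw [hφ] at key
  exact Eq.mp (congrArg (fun s => PP b s) key) hj₀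

include hc in
/-- Version of `exists_PP_preimage` for locally constructible sets. -/
theorem exists_PP_preimage' (b : Bool) (i₁ : I) [CompactSpace (D.obj i₁)] (Z₁ : Set (D.obj i₁))
    (hZ : IsLocallyConstructible Z₁) (h : PP b (c.π.app i₁ ⁻¹' Z₁)) :
    ∃ (j : I) (φ : j ⟶ i₁), PP b (D.map φ ⁻¹' Z₁) := by
  classical
  obtain ⟨s, hs⟩ := (IsOpenCover.mk (iSup_affineOpens_eq_top (D.obj i₁))).exists_finite_of_compactSpace
  let P : Over i₁ → (D.obj i₁).affineOpens → Prop := fun j W =>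
    PP b ((↑) ⁻¹' (D.map j.hom ⁻¹' Z₁) : Set ↥(D.map j.hom ⁻¹ᵁ W.1))
  have hP : ∀ W ∈ (s : Set (D.obj i₁).affineOpens), ∀ i₂ : Over i₁,
      ∃ (i : Over i₁) (_ : i ⟶ i₂), ∀ (j : Over i₁) (_ : j ⟶ i), P j W := by
    intro W _ i₂
    obtain ⟨j₀, hj₀⟩ := exists_PP_preimage_inter_affine' D c hc b i₁ Z₁ hZ h W.1 W.2
    refine ⟨IsCofiltered.min i₂ j₀, IsCofiltered.minToLeft _ _, fun j ψ => ?_⟩
    let ψ' : j ⟶ j₀ := ψ ≫ IsCofiltered.minToRight _ _
    have hw : ψ'.left ≫ j₀.hom = j.hom := Over.w ψ'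
    have hmem : ∀ x : ↥(D.map j.hom ⁻¹ᵁ W.1), D.map ψ'.left x.1 ∈ D.map j₀.hom ⁻¹ᵁ W.1 := by
      intro x
      change D.map j₀.hom (D.map ψ'.left x.1) ∈ W.1
      rw [← Scheme.Hom.comp_apply, ← D.map_comp, hw]
      exact x.2
    let g : ↥(D.map j.hom ⁻¹ᵁ W.1) → ↥(D.map j₀.hom ⁻¹ᵁ W.1) := fun x =>
      ⟨D.map ψ'.left x.1, hmem x⟩
    have hg : Continuous g :=
      ((D.map ψ'.left).continuous.comp continuous_subtype_val).subtype_mk _
    have := hj₀.preimage hg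
    convert this using 1
    ext x
    simp only [Set.mem_preimage, g]
    rw [← Scheme.Hom.comp_apply, ← D.map_comp, hw]
  obtain ⟨i, _, hi⟩ := exists_index_forall_finite (I := Over i₁) (s : Set (D.obj i₁).affineOpens)
    s.finite_toSet P hP (Over.mk (𝟙 i₁))
  refine ⟨i.left, i.hom, ?_⟩
  have hcov : IsOpenCover (fun a : s => D.map i.hom ⁻¹ᵁ a.1.1) := by
    rw [IsOpenCover, eq_top_iff]
    intro x _
    obtain ⟨a, ha⟩ := hs.exists_mem (D.map i.hom x)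
    exact Opens.mem_iSup.mpr ⟨a, ha⟩
  exact PP.of_isOpenCover hcov (fun a => hi i (𝟙 i) a.1 a.2)

end

end Groth.Agent.H24
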