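import Mathlib
import Groth.Agent.H24.ConsLim3
import Groth.Agent.H24.LimSection

/-!
# Immersions of finite presentation in cofiltered limits: closed / open immersions and
factorisations are detected at a finite stage (helper24).
-/

set_option autoImplicit false

open CategoryTheory AlgebraicGeometry Limits TopologicalSpace Topology

universe u

namespace Groth.Agent.H24

variable {I : Type u} [SmallCategory I] [IsCofiltered I]
    (D : I ⥤ Scheme.{u}) (c : Limits.Cone D) (hc : Limits.IsLimit c)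
    [∀ {i j : I} (f : i ⟶ j), IsAffineHom (D.map f)]

include hc in
theorem isClosedImmersion_baseChange_iff_eventually (i₀ : I) [CompactSpace (D.obj i₀)]
    {Z₀ : Scheme.{u}} (ι₀ : Z₀ ⟶ D.obj i₀) [IsImmersion ι₀] [LocallyOfFinitePresentation ι₀]
    [QuasiCompact ι₀] :
    IsClosedImmersion (pullback.snd ι₀ (c.π.app i₀)) ↔
      ∃ (j : I) (φ : j ⟶ i₀), IsClosedImmersion (pullback.snd ι₀ (D.map φ)) := by
  constructor
  · intro h
    have hZ₁ : IsLocallyConstructible (Set.range ι₀) := isLocallyConstructible_range ι₀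
    have hcl : IsClosed (c.π.app i₀ ⁻¹' Set.range ι₀) := by
      rw [← Scheme.Pullback.range_snd]
      exact (pullback.snd ι₀ (c.π.app i₀)).isClosedEmbedding.isClosed_range
    obtain ⟨j, φ, hj⟩ := exists_PP_preimage' D c hc true i₀ (Set.range ι₀)ᶜ
      (isLocallyConstructible_compl hZ₁) ((PP_true _).mpr hcl.isOpen_compl)
    refine ⟨j, φ, IsClosedImmersion.of_isPreimmersion _ ?_⟩
    rw [Scheme.Pullback.range_snd]
    exact isOpen_compl_iff.mp ((PP_true _).mp hj)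
  · rintro ⟨j, φ, h⟩
    exact MorphismProperty.of_isPullback (P := @IsClosedImmersion)
      (isPullback_stageLift D c φ ι₀) h

include hc in
theorem isOpenImmersion_baseChange_iff_eventually (i₀ : I) [CompactSpace (D.obj i₀)]
    {Z₀ : Scheme.{u}} (ι₀ : Z₀ ⟶ D.obj i₀) [IsImmersion ι₀] [LocallyOfFinitePresentation ι₀]
    [QuasiCompact ι₀] :
    IsOpenImmersion (pullback.snd ι₀ (c.π.app i₀)) ↔
      ∃ (j : I) (φ : j ⟶ i₀), IsOpenImmersion (pullback.snd ι₀ (D.map φ)) := by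
  constructor
  · intro h
    have hZ₁ : IsLocallyConstructible (Set.range ι₀) := isLocallyConstructible_range ι₀
    have hop : IsOpen (c.π.app i₀ ⁻¹' Set.range ι₀) := by
      rw [← Scheme.Pullback.range_snd]
      exact (pullback.snd ι₀ (c.π.app i₀)).isOpenEmbedding.isOpen_range
    obtain ⟨j, φ, hj⟩ := exists_PP_preimage' D c hc true i₀ (Set.range ι₀) hZ₁
      ((PP_true _).mpr hop)
    have hjo : IsOpen (D.map φ ⁻¹' Set.range ι₀) := (PP_true _).mp hj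
    -- the open subscheme
    obtain ⟨U, hU⟩ : ∃ U : (D.obj j).Opens, (U : Set (D.obj j)) = D.map φ ⁻¹' Set.range ι₀ :=
      ⟨⟨_, hjo⟩, rfl⟩
    have hcj : CompactSpace (D.obj j) := QuasiCompact.compactSpace_of_compactSpace (D.map φ)
    have hcZ : CompactSpace ↑(pullback ι₀ (D.map φ)) :=
      QuasiCompact.compactSpace_of_compactSpace (pullback.snd ι₀ (D.map φ))
    have hUc : IsCompact (U : Set (D.obj j)) := by
      rw [hU, ← Scheme.Pullback.range_snd]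
      exact isCompact_range (pullback.snd ι₀ (D.map φ)).continuous
    have hcU : CompactSpace ↥((opensDiagram D j U).obj (Over.mk (𝟙 j))) :=
      isCompact_iff_compactSpace.mp
        (QuasiCompact.isCompact_preimage (f := D.map (Over.mk (𝟙 j)).hom) _ U.2 hUc)
    -- the section at the limit
    have hsub : Set.range (c.π.app j ⁻¹ᵁ U).ι ⊆ Set.range (pullback.snd ι₀ (c.π.app i₀)) := by
      rw [Scheme.Pullback.range_snd, Scheme.Opens.range_ι]
      intro x hx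
      have hx' : D.map φ (c.π.app j x) ∈ Set.range ι₀ := by
        have : c.π.app j x ∈ (U : Set (D.obj j)) := hx
        rw [hU] at this
        exact this
      rw [← Scheme.Hom.comp_apply, c.w] at hx'
      exact hx'
    have hl : IsOpenImmersion.lift (pullback.snd ι₀ (c.π.app i₀)) (c.π.app j ⁻¹ᵁ U).ι hsub ≫
        pullback.snd ι₀ (c.π.app i₀) = (c.π.app j ⁻¹ᵁ U).ι := IsOpenImmersion.lift_fac _ _ _
    have ha : (IsOpenImmersion.lift (pullback.snd ι₀ (c.π.app i₀)) (c.π.app j ⁻¹ᵁ U).ι hsub ≫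
        stageLift D c φ ι₀) ≫ pullback.snd ι₀ (D.map φ) =
        (c.π.app j).resLE (D.map (𝟙 j) ⁻¹ᵁ U) (c.π.app j ⁻¹ᵁ U)
          (by rw [← Scheme.Hom.comp_preimage, c.w]) ≫ (D.map (𝟙 j) ⁻¹ᵁ U).ι ≫ D.map (𝟙 j) := by
      rw [Category.assoc, stageLift_snd, ← Category.assoc, hl, Scheme.Hom.resLE_comp_ι_assoc,
        D.map_id, Category.comp_id]
    obtain ⟨k, _, g, hg⟩ := exists_section_of_mono (opensDiagram D j U) (opensCone D c j U)
      (isLimitOpensCone D c hc j U) (opensT₀ D j U) (pullback.snd ι₀ (D.map φ)) (Over.mk (𝟙 j))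
      _ ha
    obtain ⟨g, hg'⟩ : ∃ g : (D.map k.hom ⁻¹ᵁ U).toScheme ⟶ pullback ι₀ (D.map φ),
        g ≫ pullback.snd ι₀ (D.map φ) = (D.map k.hom ⁻¹ᵁ U).ι ≫ D.map k.hom := ⟨g, hg⟩
    refine ⟨k.left, k.hom ≫ φ, ?_⟩
    have hs_cond : (g ≫ pullback.fst ι₀ (D.map φ)) ≫ ι₀ =
        (D.map k.hom ⁻¹ᵁ U).ι ≫ D.map (k.hom ≫ φ) := by
      rw [Category.assoc, pullback.condition, ← Category.assoc, hg', Category.assoc,
        ← D.map_comp]
    have hs : pullback.lift (g ≫ pullback.fst ι₀ (D.map φ)) (D.map k.hom ⁻¹ᵁ U).ι hs_cond ≫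
        pullback.snd ι₀ (D.map (k.hom ≫ φ)) = (D.map k.hom ⁻¹ᵁ U).ι := pullback.lift_snd _ _ _
    have hrange : Set.range (pullback.snd ι₀ (D.map (k.hom ≫ φ))) ⊆
        Set.range (D.map k.hom ⁻¹ᵁ U).ι := by
      rw [Scheme.Pullback.range_snd, Scheme.Opens.range_ι]
      intro x hx
      have hx' : D.map φ (D.map k.hom x) ∈ Set.range ι₀ := by
        rw [← Scheme.Hom.comp_apply, ← D.map_comp]
        exact hx
      have : D.map k.hom x ∈ (U : Set (D.obj j)) := by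
        rw [hU]
        exact hx'
      exact this
    have hr : IsOpenImmersion.lift (D.map k.hom ⁻¹ᵁ U).ι (pullback.snd ι₀ (D.map (k.hom ≫ φ)))
        hrange ≫ (D.map k.hom ⁻¹ᵁ U).ι = pullback.snd ι₀ (D.map (k.hom ≫ φ)) :=
      IsOpenImmersion.lift_fac _ _ _
    have hsr : pullback.lift (g ≫ pullback.fst ι₀ (D.map φ)) (D.map k.hom ⁻¹ᵁ U).ι hs_cond ≫
        IsOpenImmersion.lift (D.map k.hom ⁻¹ᵁ U).ι (pullback.snd ι₀ (D.map (k.hom ≫ φ)))
          hrange = 𝟙 _ := by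
      rw [← cancel_mono (D.map k.hom ⁻¹ᵁ U).ι, Category.assoc, hr, hs, Category.id_comp]
    have hrs : IsOpenImmersion.lift (D.map k.hom ⁻¹ᵁ U).ι (pullback.snd ι₀ (D.map (k.hom ≫ φ)))
          hrange ≫
        pullback.lift (g ≫ pullback.fst ι₀ (D.map φ)) (D.map k.hom ⁻¹ᵁ U).ι hs_cond = 𝟙 _ := by
      rw [← cancel_mono (pullback.snd ι₀ (D.map (k.hom ≫ φ))), Category.assoc, hs, hr,
        Category.id_comp]
    have hiso : IsIso (IsOpenImmersion.lift (D.map k.hom ⁻¹ᵁ U).ι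
        (pullback.snd ι₀ (D.map (k.hom ≫ φ))) hrange) := ⟨_, hrs, hsr⟩
    have : IsOpenImmersion (IsOpenImmersion.lift (D.map k.hom ⁻¹ᵁ U).ι
        (pullback.snd ι₀ (D.map (k.hom ≫ φ))) hrange ≫ (D.map k.hom ⁻¹ᵁ U).ι) := inferInstance
    rwa [hr] at this
  · rintro ⟨j, φ, h⟩
    exact MorphismProperty.of_isPullback (P := @IsOpenImmersion)
      (isPullback_stageLift D c φ ι₀) h

include hc in
theorem immersion_factors_iff_eventually (i₀ : I) [CompactSpace (D.obj i₀)]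
    {Z₁ Z₂ : Scheme.{u}} (ι₁ : Z₁ ⟶ D.obj i₀) (ι₂ : Z₂ ⟶ D.obj i₀)
    [QuasiCompact ι₁] [Mono ι₂] [LocallyOfFinitePresentation ι₂] :
    (∃ k : pullback ι₁ (c.π.app i₀) ⟶ pullback ι₂ (c.π.app i₀),
        k ≫ pullback.snd ι₂ (c.π.app i₀) = pullback.snd ι₁ (c.π.app i₀)) ↔
      ∃ (j : I) (φ : j ⟶ i₀) (k : pullback ι₁ (D.map φ) ⟶ pullback ι₂ (D.map φ)),
        k ≫ pullback.snd ι₂ (D.map φ) = pullback.snd ι₁ (D.map φ) := by
  constructor
  · rintro ⟨K, hK⟩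
    have hY : IsPullback (pullback.fst ι₁ (c.π.app i₀)) (pullback.snd ι₁ (c.π.app i₀)) ι₁
        (c.π.app i₀) := IsPullback.of_hasPullback _ _
    have hcomp : CompactSpace ↥((pbDiagram D (𝟙 i₀) ι₁).obj (Over.mk (𝟙 i₀))) := by
      change CompactSpace ↥(pullback ι₁ (D.map (𝟙 i₀ ≫ 𝟙 i₀)))
      exact QuasiCompact.compactSpace_of_compactSpace (pullback.snd ι₁ (D.map (𝟙 i₀ ≫ 𝟙 i₀)))
    have ha : (K ≫ pullback.fst ι₂ (c.π.app i₀)) ≫ ι₂ =
        pbLift D (𝟙 i₀) ι₁ c (pullback.fst ι₁ (c.π.app i₀)) (pullback.snd ι₁ (c.π.app i₀)) hY.w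
          (Over.mk (𝟙 i₀)) ≫ pullback.fst ι₁ (D.map ((Over.mk (𝟙 i₀)).hom ≫ 𝟙 i₀)) ≫ ι₁ := by
      rw [← Category.assoc (pbLift _ _ _ _ _ _ _ _), pbLift_fst, Category.assoc,
        pullback.condition, ← Category.assoc, hK, pullback.condition]
    obtain ⟨j, _, g, hg⟩ := exists_section_of_mono (pbDiagram D (𝟙 i₀) ι₁)
      (pbCone D (𝟙 i₀) ι₁ c _ _ hY.w) (isLimitPbCone D (𝟙 i₀) ι₁ c hc _ _ hY)
      (pbT D (𝟙 i₀) ι₁ ι₁) ι₂ (Over.mk (𝟙 i₀)) (K ≫ pullback.fst ι₂ (c.π.app i₀)) ha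
    obtain ⟨g, hg'⟩ : ∃ g : pullback ι₁ (D.map (j.hom ≫ 𝟙 i₀)) ⟶ Z₂,
        g ≫ ι₂ = pullback.fst ι₁ (D.map (j.hom ≫ 𝟙 i₀)) ≫ ι₁ := ⟨g, hg⟩
    exact ⟨j.left, j.hom ≫ 𝟙 i₀,
      pullback.lift g (pullback.snd ι₁ (D.map (j.hom ≫ 𝟙 i₀))) (by rw [hg', pullback.condition]),
      pullback.lift_snd _ _ _⟩
  · rintro ⟨j, φ, k, hk⟩
    refine ⟨pullback.lift (stageLift D c φ ι₁ ≫ k ≫ pullback.fst ι₂ (D.map φ))
      (pullback.snd ι₁ (c.π.app i₀)) ?_, pullback.lift_snd _ _ _⟩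
    rw [Category.assoc, Category.assoc, pullback.condition, ← Category.assoc k, hk,
      ← Category.assoc, stageLift_snd, Category.assoc, c.w]

end Groth.Agent.H24
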