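import Mathlib
import Groth.Agent.H24.LimDescend
import Groth.Agent.H24.LimImmersion
import Groth.Agent.H24.DiagBaseChange

/-!
# Descent of properties of morphisms to a finite stage of a cofiltered limit, II (helper24)

open immersions, universally injective morphisms, separated morphisms
-/

set_option autoImplicit false

open CategoryTheory AlgebraicGeometry Limits TopologicalSpace Topology

universe u

namespace Groth.Agent.H24

section Rel

variable {I : Type u} [SmallCategory I] (D : I ⥤ Scheme.{u}) {i i₀ : I} (φ : i ⟶ i₀)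
  {X₀ Y₀ : Scheme.{u}} (f₀ : X₀ ⟶ Y₀) (g₀ : Y₀ ⟶ D.obj i₀)

theorem pbMap_pbRel {j k : Over i} (a : j ⟶ k) :
    pbMap D φ (f₀ ≫ g₀) a ≫ pbRel D φ f₀ g₀ k = pbRel D φ f₀ g₀ j ≫ pbMap D φ g₀ a := by
  apply pullback.hom_ext
  · rw [Category.assoc, pbRel_fst, ← Category.assoc, pbMap_fst, Category.assoc, pbMap_fst,
      pbRel_fst]
  · rw [Category.assoc, pbRel_snd, pbMap_snd, Category.assoc, pbMap_snd, ← Category.assoc,
      pbRel_snd]

theorem isPullback_pbMap_pbRel {j k : Over i} (a : j ⟶ k) :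
    IsPullback (pbMap D φ (f₀ ≫ g₀) a) (pbRel D φ f₀ g₀ j) (pbRel D φ f₀ g₀ k)
      (pbMap D φ g₀ a) := by
  have big : IsPullback
      (pbMap D φ (f₀ ≫ g₀) a ≫ pullback.fst (f₀ ≫ g₀) (D.map (k.hom ≫ φ)))
      (pbRel D φ f₀ g₀ j) f₀ (pbMap D φ g₀ a ≫ pullback.fst g₀ (D.map (k.hom ≫ φ))) := by
    rw [pbMap_fst, pbMap_fst]
    exact isPullback_pbRel D φ f₀ g₀ j
  exact IsPullback.of_right big (pbMap_pbRel D φ f₀ g₀ a) (isPullback_pbRel D φ f₀ g₀ k)

end Rel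

section

variable {I : Type u} [SmallCategory I] [IsCofiltered I]
    (D : I ⥤ Scheme.{u}) (c : Limits.Cone D) (hc : Limits.IsLimit c)
    [∀ {i j : I} (f : i ⟶ j), IsAffineHom (D.map f)]

include hc in
/-- Generalisation of `isOpenImmersion_baseChange_iff_eventually` to monomorphisms. -/
theorem exists_isOpenImmersion_stage_of_mono (i₀ : I) [CompactSpace (D.obj i₀)]
    {Z₀ : Scheme.{u}} (ι₀ : Z₀ ⟶ D.obj i₀) [Mono ι₀] [LocallyOfFinitePresentation ι₀]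
    [QuasiCompact ι₀] (h : IsOpenImmersion (pullback.snd ι₀ (c.π.app i₀))) :
    ∃ (j : I) (φ : j ⟶ i₀), IsOpenImmersion (pullback.snd ι₀ (D.map φ)) := by
  have hZ₁ : IsLocallyConstructible (Set.range ι₀) := isLocallyConstructible_range ι₀
  have hop : IsOpen (c.π.app i₀ ⁻¹' Set.range ι₀) := by
    rw [← Scheme.Pullback.range_snd]
    exact (pullback.snd ι₀ (c.π.app i₀)).isOpenEmbedding.isOpen_range
  obtain ⟨j, φ, hj⟩ := exists_PP_preimage' D c hc true i₀ (Set.range ι₀) hZ₁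
    ((PP_true _).mpr hop)
  have hjo : IsOpen (D.map φ ⁻¹' Set.range ι₀) := (PP_true _).mp hj
  obtain ⟨U, hU⟩ : ∃ U : (D.obj j).Opens, (U : Set (D.obj j)) = D.map φ ⁻¹' Set.range ι₀ :=
    ⟨⟨_, hjo⟩, rfl⟩
  have hcj : CompactSpace (D.obj j) := QuasiCompact.compactSpace_of_compactSpace (D.map φ)
  have hcZ : CompactSpace ↑(pullback ι₀ (D.map φ)) :=
    QuasiCompact.compactSpace_of_compactSpace (pullback.snd ι₀ (D.map φ))
  have hUc : IsCompact (U : Set (D.obj j)) := by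
    rw [hU, ← Scheme.Pullback.range_snd]
    exact isCompact_range (pullback.snd ι₀ (D.map φ)).continuous
  have hcU : CompactSpace ↥((opensDiagram D j U).obj (Over.mk (𝟙 j))) :=
    isCompact_iff_compactSpace.mp
      (QuasiCompact.isCompact_preimage (f := D.map (Over.mk (𝟙 j)).hom) _ U.2 hUc)
  have hsub : Set.range (c.π.app j ⁻¹ᵁ U).ι ⊆ Set.range (pullback.snd ι₀ (c.π.app i₀)) := by
    rw [Scheme.Pullback.range_snd, Scheme.Opens.range_ι]
    intro x hx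
    have hx' : D.map φ (c.π.app j x) ∈ Set.range ι₀ := by
      have : c.π.app j x ∈ (U : Set (D.obj j)) := hx
      rw [hU] at this
      exact this
    rw [← Scheme.Hom.comp_apply, c.w] at hx'
    exact hx'
  have hl : IsOpenImmersion.lift (pullback.snd ι₀ (c.π.app i₀)) (c.π.app j ⁻¹ᵁ U).ι hsub ≫
      pullback.snd ι₀ (c.π.app i₀) = (c.π.app j ⁻¹ᵁ U).ι := IsOpenImmersion.lift_fac _ _ _
  have ha : (IsOpenImmersion.lift (pullback.snd ι₀ (c.π.app i₀)) (c.π.app j ⁻¹ᵁ U).ι hsub ≫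
      stageLift D c φ ι₀) ≫ pullback.snd ι₀ (D.map φ) =
      (c.π.app j).resLE (D.map (𝟙 j) ⁻¹ᵁ U) (c.π.app j ⁻¹ᵁ U)
        (by rw [← Scheme.Hom.comp_preimage, c.w]) ≫ (D.map (𝟙 j) ⁻¹ᵁ U).ι ≫ D.map (𝟙 j) := by
    rw [Category.assoc, stageLift_snd, ← Category.assoc, hl, Scheme.Hom.resLE_comp_ι_assoc,
      D.map_id, Category.comp_id]
  obtain ⟨k, _, g, hg⟩ := exists_section_of_mono (opensDiagram D j U) (opensCone D c j U)
    (isLimitOpensCone D c hc j U) (opensT₀ D j U) (pullback.snd ι₀ (D.map φ)) (Over.mk (𝟙 j))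
    _ ha
  obtain ⟨g, hg'⟩ : ∃ g : (D.map k.hom ⁻¹ᵁ U).toScheme ⟶ pullback ι₀ (D.map φ),
      g ≫ pullback.snd ι₀ (D.map φ) = (D.map k.hom ⁻¹ᵁ U).ι ≫ D.map k.hom := ⟨g, hg⟩
  refine ⟨k.left, k.hom ≫ φ, ?_⟩
  have hs_cond : (g ≫ pullback.fst ι₀ (D.map φ)) ≫ ι₀ =
      (D.map k.hom ⁻¹ᵁ U).ι ≫ D.map (k.hom ≫ φ) := by
    rw [Category.assoc, pullback.condition, ← Category.assoc, hg', Category.assoc,
      ← D.map_comp]
  have hs : pullback.lift (g ≫ pullback.fst ι₀ (D.map φ)) (D.map k.hom ⁻¹ᵁ U).ι hs_cond ≫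
      pullback.snd ι₀ (D.map (k.hom ≫ φ)) = (D.map k.hom ⁻¹ᵁ U).ι := pullback.lift_snd _ _ _
  have hrange : Set.range (pullback.snd ι₀ (D.map (k.hom ≫ φ))) ⊆
      Set.range (D.map k.hom ⁻¹ᵁ U).ι := by
    rw [Scheme.Pullback.range_snd, Scheme.Opens.range_ι]
    intro x hx
    have hx' : D.map φ (D.map k.hom x) ∈ Set.range ι₀ := by
      rw [← Scheme.Hom.comp_apply, ← D.map_comp]
      exact hx
    have : D.map k.hom x ∈ (U : Set (D.obj j)) := by
      rw [hU]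
      exact hx'
    exact this
  have hr : IsOpenImmersion.lift (D.map k.hom ⁻¹ᵁ U).ι (pullback.snd ι₀ (D.map (k.hom ≫ φ)))
      hrange ≫ (D.map k.hom ⁻¹ᵁ U).ι = pullback.snd ι₀ (D.map (k.hom ≫ φ)) :=
    IsOpenImmersion.lift_fac _ _ _
  have hsr : pullback.lift (g ≫ pullback.fst ι₀ (D.map φ)) (D.map k.hom ⁻¹ᵁ U).ι hs_cond ≫
      IsOpenImmersion.lift (D.map k.hom ⁻¹ᵁ U).ι (pullback.snd ι₀ (D.map (k.hom ≫ φ)))
        hrange = 𝟙 _ := by
    rw [← cancel_mono (D.map k.hom ⁻¹ᵁ U).ι, Category.assoc, hr, hs, Category.id_comp]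
  have hrs : IsOpenImmersion.lift (D.map k.hom ⁻¹ᵁ U).ι (pullback.snd ι₀ (D.map (k.hom ≫ φ)))
        hrange ≫
      pullback.lift (g ≫ pullback.fst ι₀ (D.map φ)) (D.map k.hom ⁻¹ᵁ U).ι hs_cond = 𝟙 _ := by
    rw [← cancel_mono (pullback.snd ι₀ (D.map (k.hom ≫ φ))), Category.assoc, hs, hr,
      Category.id_comp]
  have hiso : IsIso (IsOpenImmersion.lift (D.map k.hom ⁻¹ᵁ U).ι
      (pullback.snd ι₀ (D.map (k.hom ≫ φ))) hrange) := ⟨_, hrs, hsr⟩
  have : IsOpenImmersion (IsOpenImmersion.lift (D.map k.hom ⁻¹ᵁ U).ι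
      (pullback.snd ι₀ (D.map (k.hom ≫ φ))) hrange ≫ (D.map k.hom ⁻¹ᵁ U).ι) := inferInstance
  rwa [hr] at this

include hc in
/-- constructible subsets of `W₀` with empty preimage in the limit have empty preimage at a
finite stage -/
theorem exists_preimage_fst_eq_empty (i₀ : I) {W₀ : Scheme.{u}} (h₀ : W₀ ⟶ D.obj i₀)
    [CompactSpace W₀] (E₀ : Set W₀) (hE₀ : IsConstructible E₀)
    (hpre : pullback.fst h₀ (c.π.app i₀) ⁻¹' E₀ = ∅) :
    ∃ k : Over i₀, pullback.fst h₀ (D.map (k.hom ≫ 𝟙 i₀)) ⁻¹' E₀ = ∅ := by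
  have hP : IsPullback (pullback.fst h₀ (c.π.app i₀)) (pullback.snd h₀ (c.π.app i₀)) h₀
      (c.π.app i₀) := IsPullback.of_hasPullback _ _
  have hcomp : CompactSpace ↥((pbDiagram D (𝟙 i₀) h₀).obj (Over.mk (𝟙 i₀))) := by
    have : IsAffineHom (pullback.fst h₀ (D.map ((Over.mk (𝟙 i₀)).hom ≫ 𝟙 i₀))) :=
      MorphismProperty.pullback_fst (P := @IsAffineHom) _ _ inferInstance
    have h : CompactSpace ↥(pullback h₀ (D.map ((Over.mk (𝟙 i₀)).hom ≫ 𝟙 i₀))) :=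
      QuasiCompact.compactSpace_of_compactSpace
        (pullback.fst h₀ (D.map ((Over.mk (𝟙 i₀)).hom ≫ 𝟙 i₀)))
    exact h
  have hE : IsConstructible (X := ↥((pbDiagram D (𝟙 i₀) h₀).obj (Over.mk (𝟙 i₀))))
      (pullback.fst h₀ (D.map ((Over.mk (𝟙 i₀)).hom ≫ 𝟙 i₀)) ⁻¹' E₀) :=
    (pullback.fst h₀ (D.map ((Over.mk (𝟙 i₀)).hom ≫ 𝟙 i₀))).isConstructible_preimage hE₀
  have hpre' : (pbCone D (𝟙 i₀) h₀ c _ _ hP.w).π.app (Over.mk (𝟙 i₀)) ⁻¹'
      (pullback.fst h₀ (D.map ((Over.mk (𝟙 i₀)).hom ≫ 𝟙 i₀)) ⁻¹' E₀) = ∅ := by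
    rw [Set.eq_empty_iff_forall_notMem]
    intro y hy
    have h2 : pullback.fst h₀ (D.map ((Over.mk (𝟙 i₀)).hom ≫ 𝟙 i₀))
        (pbLift D (𝟙 i₀) h₀ c _ _ hP.w (Over.mk (𝟙 i₀)) y) ∈ E₀ := hy
    rw [← Scheme.Hom.comp_apply, pbLift_fst] at h2
    have : y ∈ pullback.fst h₀ (c.π.app i₀) ⁻¹' E₀ := h2
    rw [hpre] at this
    exact this
  obtain ⟨k, b, hb⟩ := exists_preimage_eq_empty_of_isConstructible (pbDiagram D (𝟙 i₀) h₀)
    (pbCone D (𝟙 i₀) h₀ c _ _ hP.w) (isLimitPbCone D (𝟙 i₀) h₀ c hc _ _ hP) _ hE hpre'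
  refine ⟨k, ?_⟩
  rw [Set.eq_empty_iff_forall_notMem]
  intro y hy
  have h3 : y ∈ (pbDiagram D (𝟙 i₀) h₀).map b ⁻¹'
      (pullback.fst h₀ (D.map ((Over.mk (𝟙 i₀)).hom ≫ 𝟙 i₀)) ⁻¹' E₀) := by
    have h4 : pullback.fst h₀ (D.map ((Over.mk (𝟙 i₀)).hom ≫ 𝟙 i₀))
        (pbMap D (𝟙 i₀) h₀ b y) ∈ E₀ := by
      rw [← Scheme.Hom.comp_apply, pbMap_fst]
      exact hy
    exact h4
  rw [hb] at h3
  exact h3

variable (i₀ : I) {X₀ Y₀ : Scheme.{u}} (f₀ : X₀ ⟶ Y₀) (g₀ : Y₀ ⟶ D.obj i₀)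

include hc in
/-- **Open immersions descend to a finite stage.** -/
theorem exists_isOpenImmersion_pbRel [CompactSpace (D.obj i₀)]
    [LocallyOfFiniteType g₀] [QuasiCompact g₀] [QuasiSeparated g₀]
    [LocallyOfFinitePresentation (f₀ ≫ g₀)] [QuasiCompact (f₀ ≫ g₀)]
    {X Y : Scheme.{u}} (f : X ⟶ Y) (g : Y ⟶ c.pt) (qY : Y ⟶ Y₀) (qX : X ⟶ X₀)
    (hY : IsPullback qY g g₀ (c.π.app i₀)) (hX : IsPullback qX f f₀ qY) [IsOpenImmersion f] :
    ∃ j : Over i₀, IsOpenImmersion (pbRel D (𝟙 i₀) f₀ g₀ j) := by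
  obtain ⟨k, hk⟩ := exists_diagEq D c hc i₀ f₀ g₀ f g qY qX hY hX
  have hmk := mono_pbRel_of_diagEq D i₀ f₀ g₀ k hk
  have hf₀ : LocallyOfFinitePresentation f₀ := locallyOfFinitePresentation_of_comp f₀ g₀
  have hf₀' : QuasiCompact f₀ := QuasiCompact.of_comp f₀ g₀
  have hlfp : LocallyOfFinitePresentation (pbRel D (𝟙 i₀) f₀ g₀ k) :=
    MorphismProperty.of_isPullback (P := @LocallyOfFinitePresentation)
      (isPullback_pbRel D (𝟙 i₀) f₀ g₀ k) hf₀
  have hqc : QuasiCompact (pbRel D (𝟙 i₀) f₀ g₀ k) :=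
    MorphismProperty.of_isPullback (P := @QuasiCompact)
      (isPullback_pbRel D (𝟙 i₀) f₀ g₀ k) hf₀'
  have hY₀ : CompactSpace Y₀ := QuasiCompact.compactSpace_of_compactSpace g₀
  have hcompk : CompactSpace ↥((pbDiagram D (𝟙 i₀) g₀).obj k) := by
    have : IsAffineHom (pullback.fst g₀ (D.map (k.hom ≫ 𝟙 i₀))) :=
      MorphismProperty.pullback_fst (P := @IsAffineHom) _ _ inferInstance
    have h : CompactSpace ↥(pullback g₀ (D.map (k.hom ≫ 𝟙 i₀))) :=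
      QuasiCompact.compactSpace_of_compactSpace (pullback.fst g₀ (D.map (k.hom ≫ 𝟙 i₀)))
    exact h
  have sq := isPullback_pbLift_pbRel D (𝟙 i₀) f₀ g₀ c f g qY qX hY hX k
  have hopen : IsOpenImmersion (pullback.snd (pbRel D (𝟙 i₀) f₀ g₀ k)
      (pbLift D (𝟙 i₀) g₀ c qY g hY.w k)) := by
    have e : pullback.snd (pbRel D (𝟙 i₀) f₀ g₀ k) (pbLift D (𝟙 i₀) g₀ c qY g hY.w k) =
        sq.isoPullback.inv ≫ f := by
      rw [Iso.eq_inv_comp, sq.isoPullback_hom_snd]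
    rw [e]
    infer_instance
  obtain ⟨j, φ, hj⟩ := @exists_isOpenImmersion_stage_of_mono (Over i₀) _ _
    (pbDiagram D (𝟙 i₀) g₀) (pbCone D (𝟙 i₀) g₀ c qY g hY.w)
    (isLimitPbCone D (𝟙 i₀) g₀ c hc qY g hY) _ k hcompk _ (pbRel D (𝟙 i₀) f₀ g₀ k) hmk hlfp hqc
    hopen
  refine ⟨j, ?_⟩
  have sq' := isPullback_pbMap_pbRel D (𝟙 i₀) f₀ g₀ φ
  have hj' : IsOpenImmersion (pullback.snd (pbRel D (𝟙 i₀) f₀ g₀ k) (pbMap D (𝟙 i₀) g₀ φ)) := hj
  rw [← sq'.isoPullback_hom_snd]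
  infer_instance

/-- the diagonal of a morphism locally of finite type is locally of finite presentation -/
theorem locallyOfFinitePresentation_diagonal {X Y : Scheme.{u}} (f : X ⟶ Y)
    [LocallyOfFiniteType f] : LocallyOfFinitePresentation (pullback.diagonal f) := by
  have : LocallyOfFinitePresentation (pullback.diagonal f ≫ pullback.fst f f) := by
    rw [pullback.diagonal_fst]
    infer_instance
  exact locallyOfFinitePresentation_of_comp (pullback.diagonal f) (pullback.fst f f)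

include hc in
/-- **Universally injective morphisms descend to a finite stage.** -/
theorem exists_universallyInjective_pbRel [CompactSpace (D.obj i₀)]
    [QuasiSeparatedSpace (D.obj i₀)]
    [LocallyOfFiniteType g₀] [QuasiCompact g₀] [QuasiSeparated g₀]
    [LocallyOfFinitePresentation (f₀ ≫ g₀)] [QuasiCompact (f₀ ≫ g₀)] [QuasiSeparated (f₀ ≫ g₀)]
    {X Y : Scheme.{u}} (f : X ⟶ Y) (g : Y ⟶ c.pt) (qY : Y ⟶ Y₀) (qX : X ⟶ X₀)
    (hY : IsPullback qY g g₀ (c.π.app i₀)) (hX : IsPullback qX f f₀ qY)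
    [UniversallyInjective f] :
    ∃ j : Over i₀, UniversallyInjective (pbRel D (𝟙 i₀) f₀ g₀ j) := by
  have hX₀ : CompactSpace X₀ := QuasiCompact.compactSpace_of_compactSpace (f₀ ≫ g₀)
  have hX₀' : QuasiSeparatedSpace X₀ := quasiSeparatedSpace_of_quasiSeparated (f₀ ≫ g₀)
  have hf₀qc : QuasiCompact f₀ := QuasiCompact.of_comp f₀ g₀
  have hf₀qs : QuasiSeparated f₀ := QuasiSeparated.of_comp f₀ g₀
  have hf₀ : LocallyOfFinitePresentation f₀ := locallyOfFinitePresentation_of_comp f₀ g₀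
  have hW₀ : CompactSpace ↥(pullback f₀ f₀) :=
    QuasiCompact.compactSpace_of_compactSpace (pullback.fst f₀ f₀)
  have hW₀' : QuasiSeparatedSpace ↥(pullback f₀ f₀) :=
    quasiSeparatedSpace_of_quasiSeparated (pullback.fst f₀ f₀)
  have hΔ : LocallyOfFinitePresentation (pullback.diagonal f₀) :=
    locallyOfFinitePresentation_diagonal f₀
  have hcons : IsConstructible (Set.range (pullback.diagonal f₀)) := by
    have := (pullback.diagonal f₀).isConstructible_image (s := Set.univ) IsConstructible.univ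
    rwa [Set.image_univ] at this
  have h1 : Surjective (pullback.diagonal f) :=
    (UniversallyInjective.iff_diagonal f).mp inferInstance
  have h2 : Surjective (pullback.snd (pullback.diagonal f₀)
      (pullback.fst (hW f₀ g₀) (c.π.app i₀))) :=
    (diagonal_baseChange_iff f₀ g₀ (c.π.app i₀) hY hX @Surjective).mp h1
  have hpre : pullback.fst (hW f₀ g₀) (c.π.app i₀) ⁻¹'
      (Set.range (pullback.diagonal f₀))ᶜ = ∅ := by
    rw [Set.preimage_compl, ← Scheme.Pullback.range_snd, Set.compl_empty_iff]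
    exact Set.range_eq_univ.mpr h2.1
  obtain ⟨k, hk⟩ := exists_preimage_fst_eq_empty D c hc i₀ (hW f₀ g₀) _ hcons.compl hpre
  refine ⟨k, ?_⟩
  have h3 : Surjective (pullback.snd (pullback.diagonal f₀)
      (pullback.fst (hW f₀ g₀) (D.map (k.hom ≫ 𝟙 i₀)))) := by
    refine ⟨fun y => ?_⟩
    have hy : y ∈ Set.range (pullback.snd (pullback.diagonal f₀)
        (pullback.fst (hW f₀ g₀) (D.map (k.hom ≫ 𝟙 i₀)))) := by
      rw [Scheme.Pullback.range_snd]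
      by_contra hcon
      have h4 : y ∈ pullback.fst (hW f₀ g₀) (D.map (k.hom ≫ 𝟙 i₀)) ⁻¹'
          (Set.range (pullback.diagonal f₀))ᶜ := hcon
      rw [hk] at h4
      exact h4
    exact hy
  have h4 : Surjective (pullback.diagonal (pbRel D (𝟙 i₀) f₀ g₀ k)) :=
    (diagonal_baseChange_iff f₀ g₀ (D.map (k.hom ≫ 𝟙 i₀)) (IsPullback.of_hasPullback g₀ _)
      (isPullback_pbRel D (𝟙 i₀) f₀ g₀ k) @Surjective).mpr h3
  exact (UniversallyInjective.iff_diagonal _).mpr h4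

include hc in
/-- **Separatedness is detected at a finite stage.** -/
theorem isSeparated_baseChange_iff_eventually [CompactSpace Y₀]
    [LocallyOfFiniteType f₀] [QuasiCompact f₀] [QuasiSeparated f₀]
    {X Y : Scheme.{u}} (f : X ⟶ Y) (g : Y ⟶ c.pt) (qY : Y ⟶ Y₀) (qX : X ⟶ X₀)
    (hY : IsPullback qY g g₀ (c.π.app i₀)) (hX : IsPullback qX f f₀ qY) :
    IsSeparated f ↔
      ∃ (j : I) (φ : j ⟶ i₀) (Xj Yj : Scheme.{u}) (fj : Xj ⟶ Yj) (gj : Yj ⟶ D.obj j)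
        (pY : Yj ⟶ Y₀) (pX : Xj ⟶ X₀),
        IsPullback pY gj g₀ (D.map φ) ∧ IsPullback pX fj f₀ pY ∧ IsSeparated fj := by
  have hX₀ : CompactSpace X₀ := QuasiCompact.compactSpace_of_compactSpace f₀
  have hW₀ : CompactSpace ↥(pullback f₀ f₀) :=
    QuasiCompact.compactSpace_of_compactSpace (pullback.fst f₀ f₀)
  have hΔ : LocallyOfFinitePresentation (pullback.diagonal f₀) :=
    locallyOfFinitePresentation_diagonal f₀
  constructor
  · intro hsep
    have h1 : IsClosedImmersion (pullback.diagonal f) := (isSeparated_iff f).mp hsep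
    have h2 : IsClosedImmersion (pullback.snd (pullback.diagonal f₀)
        (pullback.fst (hW f₀ g₀) (c.π.app i₀))) :=
      (diagonal_baseChange_iff f₀ g₀ (c.π.app i₀) hY hX @IsClosedImmersion).mp h1
    have hP : IsPullback (pullback.fst (hW f₀ g₀) (c.π.app i₀))
        (pullback.snd (hW f₀ g₀) (c.π.app i₀)) (hW f₀ g₀) (c.π.app i₀) :=
      IsPullback.of_hasPullback _ _
    have hcomp : CompactSpace ↥((pbDiagram D (𝟙 i₀) (hW f₀ g₀)).obj (Over.mk (𝟙 i₀))) := by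
      have : IsAffineHom (pullback.fst (hW f₀ g₀) (D.map ((Over.mk (𝟙 i₀)).hom ≫ 𝟙 i₀))) :=
        MorphismProperty.pullback_fst (P := @IsAffineHom) _ _ inferInstance
      have h : CompactSpace ↥(pullback (hW f₀ g₀) (D.map ((Over.mk (𝟙 i₀)).hom ≫ 𝟙 i₀))) :=
        QuasiCompact.compactSpace_of_compactSpace
          (pullback.fst (hW f₀ g₀) (D.map ((Over.mk (𝟙 i₀)).hom ≫ 𝟙 i₀)))
      exact h
    -- the immersion over the base stage of the system
    have hi1 : IsImmersion (pullback.snd (pullback.diagonal f₀)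
        (pullback.fst (hW f₀ g₀) (D.map ((Over.mk (𝟙 i₀)).hom ≫ 𝟙 i₀)))) := inferInstance
    have hi2 : LocallyOfFinitePresentation (pullback.snd (pullback.diagonal f₀)
        (pullback.fst (hW f₀ g₀) (D.map ((Over.mk (𝟙 i₀)).hom ≫ 𝟙 i₀)))) :=
      MorphismProperty.pullback_snd (P := @LocallyOfFinitePresentation) _ _ hΔ
    have hi3 : QuasiCompact (pullback.snd (pullback.diagonal f₀)
        (pullback.fst (hW f₀ g₀) (D.map ((Over.mk (𝟙 i₀)).hom ≫ 𝟙 i₀)))) :=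
      MorphismProperty.pullback_snd (P := @QuasiCompact) _ _ inferInstance
    have h3 : IsClosedImmersion (pullback.snd (pullback.snd (pullback.diagonal f₀)
        (pullback.fst (hW f₀ g₀) (D.map ((Over.mk (𝟙 i₀)).hom ≫ 𝟙 i₀))))
        (pbLift D (𝟙 i₀) (hW f₀ g₀) c _ _ hP.w (Over.mk (𝟙 i₀)))) := by
      rw [snd_snd_iff (pullback.diagonal f₀) @IsClosedImmersion,
        snd_iff_of_eq (pullback.diagonal f₀) @IsClosedImmersion
          (pbLift_fst D (𝟙 i₀) (hW f₀ g₀) c _ _ hP.w (Over.mk (𝟙 i₀)))]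
      exact h2
    obtain ⟨j, φ, hj⟩ := (@isClosedImmersion_baseChange_iff_eventually (Over i₀) _ _
      (pbDiagram D (𝟙 i₀) (hW f₀ g₀)) (pbCone D (𝟙 i₀) (hW f₀ g₀) c _ _ hP.w)
      (isLimitPbCone D (𝟙 i₀) (hW f₀ g₀) c hc _ _ hP) _ (Over.mk (𝟙 i₀)) hcomp _
      (pullback.snd (pullback.diagonal f₀)
        (pullback.fst (hW f₀ g₀) (D.map ((Over.mk (𝟙 i₀)).hom ≫ 𝟙 i₀)))) hi1 hi2 hi3).mp h3
    have hj' : IsClosedImmersion (pullback.snd (pullback.snd (pullback.diagonal f₀)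
        (pullback.fst (hW f₀ g₀) (D.map ((Over.mk (𝟙 i₀)).hom ≫ 𝟙 i₀))))
        (pbMap D (𝟙 i₀) (hW f₀ g₀) φ)) := hj
    rw [snd_snd_iff (pullback.diagonal f₀) @IsClosedImmersion,
      snd_iff_of_eq (pullback.diagonal f₀) @IsClosedImmersion
        (pbMap_fst D (𝟙 i₀) (hW f₀ g₀) φ)] at hj'
    have h4 : IsClosedImmersion (pullback.diagonal (pbRel D (𝟙 i₀) f₀ g₀ j)) :=
      (diagonal_baseChange_iff f₀ g₀ (D.map (j.hom ≫ 𝟙 i₀)) (IsPullback.of_hasPullback g₀ _)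
        (isPullback_pbRel D (𝟙 i₀) f₀ g₀ j) @IsClosedImmersion).mpr hj'
    exact ⟨j.left, j.hom ≫ 𝟙 i₀, _, _, pbRel D (𝟙 i₀) f₀ g₀ j, pullback.snd g₀ _,
      pullback.fst g₀ _, pullback.fst (f₀ ≫ g₀) _, IsPullback.of_hasPullback _ _,
      isPullback_pbRel D (𝟙 i₀) f₀ g₀ j, (isSeparated_iff _).mpr h4⟩
  · rintro ⟨j, φ, Xj, Yj, fj, gj, pY, pX, hYj, hXj, hsep⟩
    have h1 : IsClosedImmersion (pullback.diagonal fj) := (isSeparated_iff fj).mp hsep
    have h2 : IsClosedImmersion (pullback.snd (pullback.diagonal f₀)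
        (pullback.fst (hW f₀ g₀) (D.map φ))) :=
      (diagonal_baseChange_iff f₀ g₀ (D.map φ) hYj hXj @IsClosedImmersion).mp h1
    have h3 : IsClosedImmersion (pullback.snd (pullback.diagonal f₀)
        (stageLift D c φ (hW f₀ g₀) ≫ pullback.fst (hW f₀ g₀) (D.map φ))) :=
      MorphismProperty.of_isPullback (P := @IsClosedImmersion)
        (isPullback_lift_comp (pullback.diagonal f₀) (pullback.fst (hW f₀ g₀) (D.map φ))
          (stageLift D c φ (hW f₀ g₀))) h2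
    rw [snd_iff_of_eq (pullback.diagonal f₀) @IsClosedImmersion
      (stageLift_fst D c φ (hW f₀ g₀))] at h3
    exact (isSeparated_iff f).mpr
      ((diagonal_baseChange_iff f₀ g₀ (c.π.app i₀) hY hX @IsClosedImmersion).mpr h3)

end

end Groth.Agent.H24
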