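import Mathlib
import Groth.Agent.H24.LimDescend2

/-!
# Affine morphisms descend to a finite stage of a cofiltered limit (helper24)
-/

set_option autoImplicit false

open CategoryTheory AlgebraicGeometry Limits TopologicalSpace Topology

universe u

namespace Groth.Agent.H24

variable {I : Type u} [SmallCategory I] [IsCofiltered I]
    (D : I ⥤ Scheme.{u}) (c : Limits.Cone D) (hc : Limits.IsLimit c)
    [∀ {i j : I} (f : i ⟶ j), IsAffineHom (D.map f)]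
    (i₀ : I) {X₀ Y₀ : Scheme.{u}} (f₀ : X₀ ⟶ Y₀) (g₀ : Y₀ ⟶ D.obj i₀)

include hc in
/-- **Affine morphisms descend to a finite stage.** -/
theorem exists_isAffineHom_pbRel [CompactSpace (D.obj i₀)] [QuasiSeparatedSpace (D.obj i₀)]
    [QuasiCompact g₀] [QuasiSeparated g₀]
    [QuasiCompact (f₀ ≫ g₀)] [QuasiSeparated (f₀ ≫ g₀)]
    {X Y : Scheme.{u}} (f : X ⟶ Y) (g : Y ⟶ c.pt) (qY : Y ⟶ Y₀) (qX : X ⟶ X₀)
    (hY : IsPullback qY g g₀ (c.π.app i₀)) (hX : IsPullback qX f f₀ qY) [IsAffineHom f] :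
    ∃ j : Over i₀, IsAffineHom (pbRel D (𝟙 i₀) f₀ g₀ j) := by
  classical
  have hπ := isAffineHom_π_app D c hc
  have hqY : IsAffineHom qY :=
    MorphismProperty.of_isPullback (P := @IsAffineHom) hY.flip (hπ i₀)
  have hX₀ : CompactSpace X₀ := QuasiCompact.compactSpace_of_compactSpace (f₀ ≫ g₀)
  have hX₀' : QuasiSeparatedSpace X₀ := quasiSeparatedSpace_of_quasiSeparated (f₀ ≫ g₀)
  have hY₀ : CompactSpace Y₀ := QuasiCompact.compactSpace_of_compactSpace g₀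
  have hf₀qc : QuasiCompact f₀ := QuasiCompact.of_comp f₀ g₀
  have hXY := hX.paste_vert hY
  have haffX : ∀ l : Over i₀, IsAffineHom (pullback.fst (f₀ ≫ g₀) (D.map (l.hom ≫ 𝟙 i₀))) :=
    fun l => MorphismProperty.pullback_fst (P := @IsAffineHom) _ _ inferInstance
  have haffY : ∀ l : Over i₀, IsAffineHom (pullback.fst g₀ (D.map (l.hom ≫ 𝟙 i₀))) :=
    fun l => MorphismProperty.pullback_fst (P := @IsAffineHom) _ _ inferInstance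
  have hqsX : ∀ l : Over i₀,
      QuasiSeparatedSpace ↥((pbDiagram D (𝟙 i₀) (f₀ ≫ g₀)).obj l) := fun l => by
    have h : QuasiSeparatedSpace ↥(pullback (f₀ ≫ g₀) (D.map (l.hom ≫ 𝟙 i₀))) :=
      quasiSeparatedSpace_of_quasiSeparated (pullback.fst (f₀ ≫ g₀) (D.map (l.hom ≫ 𝟙 i₀)))
    exact h
  obtain ⟨s, hs⟩ := (IsOpenCover.mk (iSup_affineOpens_eq_top Y₀)).exists_finite_of_compactSpace
  -- the opens of the base stage of the `X`-system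
  let U' : Y₀.affineOpens → ((pbDiagram D (𝟙 i₀) (f₀ ≫ g₀)).obj (Over.mk (𝟙 i₀))).Opens :=
    fun W => (pullback.fst (f₀ ≫ g₀) (D.map ((Over.mk (𝟙 i₀)).hom ≫ 𝟙 i₀))) ⁻¹ᵁ (f₀ ⁻¹ᵁ W.1)
  have hU'c : ∀ W : Y₀.affineOpens, IsCompact (U' W).1 := fun W => by
    have h1 : IsCompact (f₀ ⁻¹ᵁ W.1 : Set X₀) :=
      QuasiCompact.isCompact_preimage (f := f₀) _ W.1.2 W.2.isCompact
    exact QuasiCompact.isCompact_preimage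
      (f := pullback.fst (f₀ ≫ g₀) (D.map ((Over.mk (𝟙 i₀)).hom ≫ 𝟙 i₀))) _ (f₀ ⁻¹ᵁ W.1).2 h1
  let P : Over (Over.mk (𝟙 i₀)) → Y₀.affineOpens → Prop := fun l W =>
    IsAffine ((opensDiagram (pbDiagram D (𝟙 i₀) (f₀ ≫ g₀)) (Over.mk (𝟙 i₀)) (U' W)).obj l)
  have hP : ∀ W ∈ (s : Set Y₀.affineOpens), ∀ l₂ : Over (Over.mk (𝟙 i₀)),
      ∃ (l : Over (Over.mk (𝟙 i₀))) (_ : l ⟶ l₂),
        ∀ (l' : Over (Over.mk (𝟙 i₀))) (_ : l' ⟶ l), P l' W := by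
    intro W _ l₂
    have hcomp : ∀ l, CompactSpace ↥((opensDiagram (pbDiagram D (𝟙 i₀) (f₀ ≫ g₀))
        (Over.mk (𝟙 i₀)) (U' W)).obj l) := fun l =>
      isCompact_iff_compactSpace.mp (QuasiCompact.isCompact_preimage
        (f := (pbDiagram D (𝟙 i₀) (f₀ ≫ g₀)).map l.hom) _ (U' W).2 (hU'c W))
    have hqs : ∀ l, QuasiSeparatedSpace ↥((opensDiagram (pbDiagram D (𝟙 i₀) (f₀ ≫ g₀))
        (Over.mk (𝟙 i₀)) (U' W)).obj l) := fun l =>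
      (isQuasiSeparated_iff_quasiSeparatedSpace _
        ((pbDiagram D (𝟙 i₀) (f₀ ≫ g₀)).map l.hom ⁻¹ᵁ U' W).2).mp (.of_quasiSeparatedSpace _)
    -- the limit is affine
    have e1 : (pbLift D (𝟙 i₀) (f₀ ≫ g₀) c qX (f ≫ g) hXY.w (Over.mk (𝟙 i₀)) ≫
        pullback.fst (f₀ ≫ g₀) (D.map ((Over.mk (𝟙 i₀)).hom ≫ 𝟙 i₀))) ≫ f₀ = f ≫ qY := by
      rw [pbLift_fst, hX.w]
    have e : pbLift D (𝟙 i₀) (f₀ ≫ g₀) c qX (f ≫ g) hXY.w (Over.mk (𝟙 i₀)) ⁻¹ᵁ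
        ((pullback.fst (f₀ ≫ g₀) (D.map ((Over.mk (𝟙 i₀)).hom ≫ 𝟙 i₀))) ⁻¹ᵁ (f₀ ⁻¹ᵁ W.1)) =
        f ⁻¹ᵁ (qY ⁻¹ᵁ W.1) := by
      rw [← Scheme.Hom.comp_preimage f qY, ← e1]
      rfl
    have hpt : IsAffineOpen (pbLift D (𝟙 i₀) (f₀ ≫ g₀) c qX (f ≫ g) hXY.w (Over.mk (𝟙 i₀)) ⁻¹ᵁ
        ((pullback.fst (f₀ ≫ g₀) (D.map ((Over.mk (𝟙 i₀)).hom ≫ 𝟙 i₀))) ⁻¹ᵁ (f₀ ⁻¹ᵁ W.1))) := by
      rw [e]
      exact (W.2.preimage qY).preimage f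
    have hptaff : IsAffine (opensCone (pbDiagram D (𝟙 i₀) (f₀ ≫ g₀))
        (pbCone D (𝟙 i₀) (f₀ ≫ g₀) c qX (f ≫ g) hXY.w) (Over.mk (𝟙 i₀)) (U' W)).pt := hpt
    obtain ⟨l₀, hl₀⟩ := Scheme.exists_isAffine_of_isLimit
      (opensDiagram (pbDiagram D (𝟙 i₀) (f₀ ≫ g₀)) (Over.mk (𝟙 i₀)) (U' W))
      (opensCone (pbDiagram D (𝟙 i₀) (f₀ ≫ g₀))
        (pbCone D (𝟙 i₀) (f₀ ≫ g₀) c qX (f ≫ g) hXY.w) (Over.mk (𝟙 i₀)) (U' W))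
      (isLimitOpensCone (pbDiagram D (𝟙 i₀) (f₀ ≫ g₀))
        (pbCone D (𝟙 i₀) (f₀ ≫ g₀) c qX (f ≫ g) hXY.w)
        (isLimitPbCone D (𝟙 i₀) (f₀ ≫ g₀) c hc qX (f ≫ g) hXY) (Over.mk (𝟙 i₀)) (U' W))
    refine ⟨IsCofiltered.min l₂ l₀, IsCofiltered.minToLeft _ _, fun l' ψ => ?_⟩
    exact isAffine_of_isAffineHom ((opensDiagram (pbDiagram D (𝟙 i₀) (f₀ ≫ g₀))
      (Over.mk (𝟙 i₀)) (U' W)).map (ψ ≫ IsCofiltered.minToRight l₂ l₀))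
  obtain ⟨l, _, hl⟩ := exists_index_forall_finite (I := Over (Over.mk (𝟙 i₀)))
    (s : Set Y₀.affineOpens) s.finite_toSet P hP (Over.mk (𝟙 (Over.mk (𝟙 i₀))))
  refine ⟨l.left, isAffineHom_of_forall_exists_isAffineOpen _ fun y => ?_⟩
  obtain ⟨W, hW⟩ := hs.exists_mem (pullback.fst g₀ (D.map (l.left.hom ≫ 𝟙 i₀)) y)
  refine ⟨(pullback.fst g₀ (D.map (l.left.hom ≫ 𝟙 i₀))) ⁻¹ᵁ W.1.1, hW,
    W.1.2.preimage (pullback.fst g₀ (D.map (l.left.hom ≫ 𝟙 i₀))), ?_⟩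
  have e2 : pbRel D (𝟙 i₀) f₀ g₀ l.left ⁻¹ᵁ
      ((pullback.fst g₀ (D.map (l.left.hom ≫ 𝟙 i₀))) ⁻¹ᵁ W.1.1) =
      pbMap D (𝟙 i₀) (f₀ ≫ g₀) l.hom ⁻¹ᵁ
        ((pullback.fst (f₀ ≫ g₀) (D.map ((Over.mk (𝟙 i₀)).hom ≫ 𝟙 i₀))) ⁻¹ᵁ
          (f₀ ⁻¹ᵁ W.1.1)) := by
    rw [← Scheme.Hom.comp_preimage, pbRel_fst, ← Scheme.Hom.comp_preimage
      (pbMap D (𝟙 i₀) (f₀ ≫ g₀) l.hom), pbMap_fst]
    rfl
  rw [e2]
  exact hl l (𝟙 l) W.1 W.2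

end Groth.Agent.H24
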