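import Mathlib
import Groth.Agent.H24.IrredComp
import Groth.Agent.H24.LimPullback
import Groth.Agent.H24.DiagBaseChange
import Groth.Agent.H24.LimDescend2
import Groth.Agent.H24.LimDescendAffine

/-!
# Closed immersions descend to a finite stage along base change (helper24)

`ι₀ : Z₀ ⟶ S_{i₀}` affine and locally of finite type; if its base change to the limit is a closed
immersion then so is its base change to some stage.
-/

set_option autoImplicit false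

open CategoryTheory AlgebraicGeometry Limits TopologicalSpace Topology

universe u

namespace Groth.Agent.H24

/-- In a pushout square of commutative rings, a subring containing both images is everything. -/
theorem subring_eq_top_of_isPushout {R A B P : CommRingCat.{u}} {f : R ⟶ A}
    {g : R ⟶ B} {inl : A ⟶ P} {inr : B ⟶ P} (sq : IsPushout f g inl inr) (T : Subring P)
    (hA : ∀ a, inl a ∈ T) (hB : ∀ b, inr b ∈ T) : T = ⊤ := by
  let u : A ⟶ CommRingCat.of T := CommRingCat.ofHom (inl.hom.codRestrict T hA)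
  let v : B ⟶ CommRingCat.of T := CommRingCat.ofHom (inr.hom.codRestrict T hB)
  let ι : CommRingCat.of T ⟶ P := CommRingCat.ofHom T.subtype
  have hu : u ≫ ι = inl := rfl
  have hv : v ≫ ι = inr := rfl
  have hι : Mono ι := ConcreteCategory.mono_of_injective ι Subtype.val_injective
  have huv : f ≫ u = g ≫ v := by
    rw [← cancel_mono ι, Category.assoc, Category.assoc, hu, hv, sq.w]
  have hd : sq.desc u v huv ≫ ι = 𝟙 P := by
    apply sq.hom_ext
    · rw [← Category.assoc, sq.inl_desc, hu, Category.comp_id]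
    · rw [← Category.assoc, sq.inr_desc, hv, Category.comp_id]
  rw [eq_top_iff]
  intro x _
  have hx : ι (sq.desc u v huv x) = x := by
    have := congrArg (fun φ : P ⟶ P => φ x) hd
    simpa using this
  rw [← hx]
  exact (sq.desc u v huv x).2

theorem appTop_comp_apply {X Y Z : Scheme.{u}} (f : X ⟶ Y) (g : Y ⟶ Z) (x : Γ(Z, ⊤)) :
    (f ≫ g).appTop x = f.appTop (g.appTop x) := rfl

section affine

variable {I : Type u} [SmallCategory I] [IsCofiltered I]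
    (D : I ⥤ Scheme.{u}) (c : Limits.Cone D) (hc : Limits.IsLimit c)

include hc in
/-- Affine case. -/
theorem exists_isClosedImmersion_pullback_stage_affine [∀ i, IsAffine (D.obj i)] [IsAffine c.pt]
    (i₀ : I) {W₀ : Scheme.{u}} [IsAffine W₀] (h₀ : W₀ ⟶ D.obj i₀) [LocallyOfFiniteType h₀]
    (h : IsClosedImmersion (pullback.snd h₀ (c.π.app i₀))) :
    ∃ m : Over i₀, IsClosedImmersion (pullback.snd h₀ (D.map (m.hom ≫ 𝟙 i₀))) := by
  classical
  have hft : h₀.appTop.hom.FiniteType :=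
    HasRingHomProperty.appTop @LocallyOfFiniteType h₀ inferInstance
  obtain ⟨⟨t, ht⟩⟩ := id hft
  have hP : IsPullback (pullback.fst h₀ (c.π.app i₀)) (pullback.snd h₀ (c.π.app i₀)) h₀
      (c.π.app i₀) := IsPullback.of_hasPullback _ _
  have hsurj : Function.Surjective (pullback.snd h₀ (c.π.app i₀)).appTop :=
    (@IsClosedImmersion.isAffine_surjective_of_isAffine (pullback h₀ (c.π.app i₀)) c.pt
      ‹IsAffine c.pt› (pullback.snd h₀ (c.π.app i₀)) h).2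
  have haffE : ∀ m : Over i₀, IsAffine ((pbDiagram D (𝟙 i₀) h₀).obj m) := fun m =>
    inferInstanceAs (IsAffine (pullback h₀ (D.map (m.hom ≫ 𝟙 i₀))))
  let P : Over i₀ → Γ(W₀, ⊤) → Prop := fun m b =>
    (pullback.fst h₀ (D.map (m.hom ≫ 𝟙 i₀))).appTop b ∈
      Set.range (pullback.snd h₀ (D.map (m.hom ≫ 𝟙 i₀))).appTop
  -- key: vanishing of the difference at a stage gives `P`
  have key : ∀ (m₂ m' : Over i₀) (a : m' ⟶ m₂) (b : Γ(W₀, ⊤)) (r₂ : Γ(D.obj m₂.left, ⊤)),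
      (pbMap D (𝟙 i₀) h₀ a).appTop
        ((pullback.fst h₀ (D.map (m₂.hom ≫ 𝟙 i₀))).appTop b -
          (pullback.snd h₀ (D.map (m₂.hom ≫ 𝟙 i₀))).appTop r₂) = 0 → P m' b := by
    intro m₂ m' a b r₂ h0
    refine ⟨(D.map a.left).appTop r₂, ?_⟩
    rw [map_sub, sub_eq_zero, ← appTop_comp_apply, ← appTop_comp_apply, pbMap_fst,
      pbMap_snd] at h0
    rw [h0]
    rfl
  have hPP : ∀ b ∈ (t : Set Γ(W₀, ⊤)), ∀ m₁ : Over i₀,
      ∃ (m : Over i₀) (_ : m ⟶ m₁), ∀ (m' : Over i₀) (_ : m' ⟶ m), P m' b := by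
    intro b _ m₁
    obtain ⟨r, hr⟩ := hsurj ((pullback.fst h₀ (c.π.app i₀)).appTop b)
    obtain ⟨l₁, r₁, hr₁⟩ := exists_appTop_π_eq_of_isAffine_of_isLimit D c hc r
    obtain ⟨m₂, a₂, β, -⟩ : ∃ (m₂ : Over i₀) (_ : m₂ ⟶ m₁) (_ : m₂.left ⟶ l₁), True :=
      ⟨Over.mk (IsCofiltered.minToLeft m₁.left l₁ ≫ m₁.hom),
        Over.homMk (IsCofiltered.minToLeft m₁.left l₁) rfl,
        IsCofiltered.minToRight m₁.left l₁, trivial⟩
    have hr₂ : (c.π.app m₂.left).appTop ((D.map β).appTop r₁) = r := by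
      rw [← hr₁, ← c.w β]
      rfl
    have hy : (pbLift D (𝟙 i₀) h₀ c (pullback.fst h₀ (c.π.app i₀))
        (pullback.snd h₀ (c.π.app i₀)) hP.w m₂).appTop
        ((pullback.fst h₀ (D.map (m₂.hom ≫ 𝟙 i₀))).appTop b -
          (pullback.snd h₀ (D.map (m₂.hom ≫ 𝟙 i₀))).appTop ((D.map β).appTop r₁)) = 0 := by
      rw [map_sub, sub_eq_zero, ← appTop_comp_apply, ← appTop_comp_apply, pbLift_fst,
        pbLift_snd, appTop_comp_apply, hr₂, hr]
    obtain ⟨m₃, a₃, hm₃⟩ := exists_appTop_map_eq_zero_of_isAffine_of_isLimit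
      (pbDiagram D (𝟙 i₀) h₀) (pbCone D (𝟙 i₀) h₀ c _ _ hP.w)
      (isLimitPbCone D (𝟙 i₀) h₀ c hc _ _ hP) m₂ _ hy
    refine ⟨m₃, a₃ ≫ a₂, fun m' a' => ?_⟩
    refine key m₂ m' (a' ≫ a₃) b ((D.map β).appTop r₁) ?_
    rw [pbMap_comp, appTop_comp_apply]
    have hm₃' : (pbMap D (𝟙 i₀) h₀ a₃).appTop
        ((pullback.fst h₀ (D.map (m₂.hom ≫ 𝟙 i₀))).appTop b -
          (pullback.snd h₀ (D.map (m₂.hom ≫ 𝟙 i₀))).appTop ((D.map β).appTop r₁)) = 0 := hm₃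
    rw [hm₃', map_zero]
  obtain ⟨m, _, hm⟩ := exists_index_forall_finite (I := Over i₀) (t : Set Γ(W₀, ⊤))
    t.finite_toSet P hPP (Over.mk (𝟙 i₀))
  refine ⟨m, ?_⟩
  have sq := isPushout_appTop_of_isPullback
    (IsPullback.of_hasPullback h₀ (D.map (m.hom ≫ 𝟙 i₀)))
  apply IsClosedImmersion.of_surjective_of_isAffine
  have hT : (pullback.snd h₀ (D.map (m.hom ≫ 𝟙 i₀))).appTop.hom.range = ⊤ := by
    refine subring_eq_top_of_isPushout sq _ ?_ (fun r => ⟨r, rfl⟩)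
    intro b₀
    let _ := h₀.appTop.hom.toAlgebra
    have hb : b₀ ∈ Algebra.adjoin Γ(D.obj i₀, ⊤) (t : Set Γ(W₀, ⊤)) := by rw [ht]; trivial
    induction hb using Algebra.adjoin_induction with
    | mem x hx => exact hm m (𝟙 m) x hx
    | algebraMap r₀ =>
      refine ⟨(D.map (m.hom ≫ 𝟙 i₀)).appTop r₀, ?_⟩
      exact (ConcreteCategory.congr_hom sq.w r₀).symm
    | add x y _ _ hx hy => rw [map_add]; exact Subring.add_mem _ hx hy
    | mul x y _ _ hx hy => rw [map_mul]; exact Subring.mul_mem _ hx hy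
  intro x
  have hx : x ∈ (pullback.snd h₀ (D.map (m.hom ≫ 𝟙 i₀))).appTop.hom.range := by
    rw [hT]; trivial
  exact hx

end affine

section glob

/-- Base change along a further map preserves closed immersions (explicit pullbacks). -/
theorem isClosedImmersion_snd_comp {A B T T' : Scheme.{u}} (m : A ⟶ B) (w : T ⟶ B)
    (r : T' ⟶ T) (h : IsClosedImmersion (pullback.snd m w)) :
    IsClosedImmersion (pullback.snd m (r ≫ w)) :=
  MorphismProperty.of_isPullback (P := @IsClosedImmersion) (isPullback_lift_comp m w r) h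

/-- The restriction of a base change to an open is the base change along the inclusion. -/
theorem isClosedImmersion_restrict_snd_iff {A B T : Scheme.{u}} (m : A ⟶ B) (w : T ⟶ B)
    (U : T.Opens) :
    IsClosedImmersion (pullback.snd m w ∣_ U) ↔ IsClosedImmersion (pullback.snd m (U.ι ≫ w)) := by
  have top := isPullback_morphismRestrict (pullback.snd m w) U
  have bot := (IsPullback.of_hasPullback m w).flip
  have sq := (top.paste_vert bot).flip
  rw [← sq.isoPullback_hom_snd]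
  exact MorphismProperty.cancel_left_of_respectsIso @IsClosedImmersion _ _

/-- Restricting the base of a base change to preimages of an open. -/
theorem snd_resLE_iff (P : MorphismProperty Scheme.{u}) [P.RespectsIso] {A B T T' : Scheme.{u}}
    (m : A ⟶ B) (w : T ⟶ B) (w' : T' ⟶ B) (r : T' ⟶ T) (hr : r ≫ w = w') (O : B.Opens)
    (e : w' ⁻¹ᵁ O ≤ r ⁻¹ᵁ (w ⁻¹ᵁ O)) :
    P (pullback.snd (pullback.snd m ((w ⁻¹ᵁ O).ι ≫ w)) (r.resLE (w ⁻¹ᵁ O) (w' ⁻¹ᵁ O) e)) ↔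
      P (pullback.snd m ((w' ⁻¹ᵁ O).ι ≫ w')) := by
  have e' : r.resLE (w ⁻¹ᵁ O) (w' ⁻¹ᵁ O) e ≫ (w ⁻¹ᵁ O).ι ≫ w = (w' ⁻¹ᵁ O).ι ≫ w' := by
    rw [Scheme.Hom.resLE_comp_ι_assoc, hr]
  rw [snd_snd_iff m P, snd_iff_of_eq m P e']

theorem preimage_le_of_comp_eq {B T T' : Scheme.{u}} (w : T ⟶ B) (w' : T' ⟶ B) (r : T' ⟶ T)
    (hr : r ≫ w = w') (O : B.Opens) : w' ⁻¹ᵁ O ≤ r ⁻¹ᵁ (w ⁻¹ᵁ O) := by
  rw [← Scheme.Hom.comp_preimage, hr]

variable {I : Type u} [SmallCategory I] [IsCofiltered I]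
    (D : I ⥤ Scheme.{u}) (c : Limits.Cone D) (hc : Limits.IsLimit c)
    [∀ {i j : I} (f : i ⟶ j), IsAffineHom (D.map f)]

include hc in
/-- **Closed immersions descend along base change** (stage form): `ι₀` affine and locally of
finite type over a quasi-compact stage. -/
theorem exists_isClosedImmersion_stage_of_isAffineHom_lft (i₀ : I) [CompactSpace (D.obj i₀)]
    {Z₀ : Scheme.{u}} (ι₀ : Z₀ ⟶ D.obj i₀) [IsAffineHom ι₀] [LocallyOfFiniteType ι₀]
    (h : IsClosedImmersion (pullback.snd ι₀ (c.π.app i₀))) :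
    ∃ (j : I) (φ : j ⟶ i₀), IsClosedImmersion (pullback.snd ι₀ (D.map φ)) := by
  classical
  have hπ := isAffineHom_π_app D c hc
  obtain ⟨s, hs⟩ :=
    (IsOpenCover.mk (iSup_affineOpens_eq_top (D.obj i₀))).exists_finite_of_compactSpace
  let P : Over i₀ → (D.obj i₀).affineOpens → Prop := fun l O =>
    IsClosedImmersion (pullback.snd ι₀ ((D.map l.hom ⁻¹ᵁ O.1).ι ≫ D.map l.hom))
  have hP : ∀ O ∈ (s : Set (D.obj i₀).affineOpens), ∀ l₁ : Over i₀,
      ∃ (l : Over i₀) (_ : l ⟶ l₁), ∀ (l' : Over i₀) (_ : l' ⟶ l), P l' O := by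
    intro O _ l₁
    have pers : ∀ (l l' : Over i₀) (ψ : l' ⟶ l), P l O → P l' O := by
      intro l l' ψ hl
      have hr : D.map ψ.left ≫ D.map l.hom = D.map l'.hom := by
        rw [← D.map_comp, Over.w ψ]
      have hle := preimage_le_of_comp_eq (D.map l.hom) (D.map l'.hom) (D.map ψ.left) hr O.1
      have e : (D.map l'.hom ⁻¹ᵁ O.1).ι ≫ D.map l'.hom =
          (D.map ψ.left).resLE (D.map l.hom ⁻¹ᵁ O.1) (D.map l'.hom ⁻¹ᵁ O.1) hle ≫
            (D.map l.hom ⁻¹ᵁ O.1).ι ≫ D.map l.hom := by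
        rw [Scheme.Hom.resLE_comp_ι_assoc, hr]
      change IsClosedImmersion (pullback.snd ι₀ ((D.map l'.hom ⁻¹ᵁ O.1).ι ≫ D.map l'.hom))
      rw [snd_iff_of_eq ι₀ @IsClosedImmersion e]
      exact isClosedImmersion_snd_comp ι₀ _ _ hl
    have haff : ∀ l : Over i₀, IsAffine ((opensDiagram D i₀ O.1).obj l) := fun l =>
      O.2.preimage (D.map l.hom)
    have hptaff : IsAffine (opensCone D c i₀ O.1).pt := O.2.preimage (c.π.app i₀)
    have hW₀ : IsAffine (pullback ι₀ ((D.map (Over.mk (𝟙 i₀)).hom ⁻¹ᵁ O.1).ι ≫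
        D.map (Over.mk (𝟙 i₀)).hom)) := by
      have : IsAffine (D.map (Over.mk (𝟙 i₀)).hom ⁻¹ᵁ O.1).toScheme :=
        O.2.preimage (D.map (Over.mk (𝟙 i₀)).hom)
      exact isAffine_of_isAffineHom (pullback.snd ι₀ ((D.map (Over.mk (𝟙 i₀)).hom ⁻¹ᵁ O.1).ι ≫
        D.map (Over.mk (𝟙 i₀)).hom))
    have hrInf : c.π.app i₀ ≫ D.map (Over.mk (𝟙 i₀)).hom = c.π.app i₀ := c.w _
    have hleInf := preimage_le_of_comp_eq (D.map (Over.mk (𝟙 i₀)).hom) (c.π.app i₀) (c.π.app i₀)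
      hrInf O.1
    have hInf : IsClosedImmersion (pullback.snd (pullback.snd ι₀
        ((D.map (Over.mk (𝟙 i₀)).hom ⁻¹ᵁ O.1).ι ≫ D.map (Over.mk (𝟙 i₀)).hom))
        ((c.π.app i₀).resLE (D.map (Over.mk (𝟙 i₀)).hom ⁻¹ᵁ O.1) (c.π.app i₀ ⁻¹ᵁ O.1) hleInf)) :=
      (snd_resLE_iff @IsClosedImmersion ι₀ (D.map (Over.mk (𝟙 i₀)).hom) (c.π.app i₀)
        (c.π.app i₀) hrInf O.1 hleInf).mpr (isClosedImmersion_snd_comp ι₀ _ _ h)
    obtain ⟨m, hm⟩ := @exists_isClosedImmersion_pullback_stage_affine (Over i₀) _ _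
      (opensDiagram D i₀ O.1) (opensCone D c i₀ O.1) (isLimitOpensCone D c hc i₀ O.1) haff hptaff
      (Over.mk (𝟙 i₀)) _ hW₀
      (pullback.snd ι₀ ((D.map (Over.mk (𝟙 i₀)).hom ⁻¹ᵁ O.1).ι ≫ D.map (Over.mk (𝟙 i₀)).hom))
      (MorphismProperty.pullback_snd (P := @LocallyOfFiniteType) _ _ inferInstance) hInf
    have hrm : D.map (m.hom ≫ 𝟙 (Over.mk (𝟙 i₀))).left ≫ D.map (Over.mk (𝟙 i₀)).hom =
        D.map m.left.hom := by
      rw [← D.map_comp, Over.w (m.hom ≫ 𝟙 (Over.mk (𝟙 i₀)))]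
    have hlem := preimage_le_of_comp_eq (D.map (Over.mk (𝟙 i₀)).hom) (D.map m.left.hom)
      (D.map (m.hom ≫ 𝟙 (Over.mk (𝟙 i₀))).left) hrm O.1
    have hm1 : IsClosedImmersion (pullback.snd (pullback.snd ι₀
        ((D.map (Over.mk (𝟙 i₀)).hom ⁻¹ᵁ O.1).ι ≫ D.map (Over.mk (𝟙 i₀)).hom))
        ((D.map (m.hom ≫ 𝟙 (Over.mk (𝟙 i₀))).left).resLE (D.map (Over.mk (𝟙 i₀)).hom ⁻¹ᵁ O.1)
          (D.map m.left.hom ⁻¹ᵁ O.1) hlem)) := hm
    have hm' : P m.left O :=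
      (snd_resLE_iff @IsClosedImmersion ι₀ (D.map (Over.mk (𝟙 i₀)).hom) (D.map m.left.hom)
        (D.map (m.hom ≫ 𝟙 (Over.mk (𝟙 i₀))).left) hrm O.1 hlem).mp hm1
    refine ⟨IsCofiltered.min l₁ m.left, IsCofiltered.minToLeft _ _, fun l' ψ => ?_⟩
    exact pers m.left l' (ψ ≫ IsCofiltered.minToRight _ _) hm'
  obtain ⟨l, _, hl⟩ := exists_index_forall_finite (I := Over i₀)
    (s : Set (D.obj i₀).affineOpens) s.finite_toSet P hP (Over.mk (𝟙 i₀))
  refine ⟨l.left, l.hom, ?_⟩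
  refine IsZariskiLocalAtTarget.of_iSup_eq_top (P := @IsClosedImmersion)
    (fun O : s => D.map l.hom ⁻¹ᵁ O.1.1) ?_ (fun O => ?_)
  · refine eq_top_iff.mpr fun x _ => ?_
    obtain ⟨O, hO⟩ := hs.exists_mem (D.map l.hom x)
    exact Opens.mem_iSup.mpr ⟨O, hO⟩
  · rw [isClosedImmersion_restrict_snd_iff]
    exact hl l (𝟙 l) O.1 O.2

end glob

section descend

variable {I : Type u} [SmallCategory I] [IsCofiltered I]
    (D : I ⥤ Scheme.{u}) (c : Limits.Cone D) (hc : Limits.IsLimit c)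
    [∀ {i j : I} (f : i ⟶ j), IsAffineHom (D.map f)]
    (i₀ : I) {X₀ Y₀ : Scheme.{u}} (f₀ : X₀ ⟶ Y₀) (g₀ : Y₀ ⟶ D.obj i₀)

include hc in
/-- **Closed immersions descend to a finite stage** (`f₀` locally of finite type). -/
theorem exists_isClosedImmersion_pbRel [CompactSpace (D.obj i₀)]
    [QuasiSeparatedSpace (D.obj i₀)] [QuasiCompact g₀] [QuasiSeparated g₀]
    [QuasiCompact (f₀ ≫ g₀)] [QuasiSeparated (f₀ ≫ g₀)] [LocallyOfFiniteType f₀]
    {X Y : Scheme.{u}} (f : X ⟶ Y) (g : Y ⟶ c.pt) (qY : Y ⟶ Y₀) (qX : X ⟶ X₀)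
    (hY : IsPullback qY g g₀ (c.π.app i₀)) (hX : IsPullback qX f f₀ qY) [IsClosedImmersion f] :
    ∃ j : Over i₀, IsClosedImmersion (pbRel D (𝟙 i₀) f₀ g₀ j) := by
  obtain ⟨k, hk⟩ := exists_isAffineHom_pbRel D c hc i₀ f₀ g₀ f g qY qX hY hX
  have hlft : LocallyOfFiniteType (pbRel D (𝟙 i₀) f₀ g₀ k) :=
    MorphismProperty.of_isPullback (P := @LocallyOfFiniteType)
      (isPullback_pbRel D (𝟙 i₀) f₀ g₀ k) inferInstance
  have hY₀ : CompactSpace Y₀ := QuasiCompact.compactSpace_of_compactSpace g₀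
  have hcompk : CompactSpace ↥((pbDiagram D (𝟙 i₀) g₀).obj k) := by
    have : IsAffineHom (pullback.fst g₀ (D.map (k.hom ≫ 𝟙 i₀))) :=
      MorphismProperty.pullback_fst (P := @IsAffineHom) _ _ inferInstance
    have h : CompactSpace ↥(pullback g₀ (D.map (k.hom ≫ 𝟙 i₀))) :=
      QuasiCompact.compactSpace_of_compactSpace (pullback.fst g₀ (D.map (k.hom ≫ 𝟙 i₀)))
    exact h
  have sq := isPullback_pbLift_pbRel D (𝟙 i₀) f₀ g₀ c f g qY qX hY hX k
  have hcl : IsClosedImmersion (pullback.snd (pbRel D (𝟙 i₀) f₀ g₀ k)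
      (pbLift D (𝟙 i₀) g₀ c qY g hY.w k)) := by
    have e : pullback.snd (pbRel D (𝟙 i₀) f₀ g₀ k) (pbLift D (𝟙 i₀) g₀ c qY g hY.w k) =
        sq.isoPullback.inv ≫ f := by
      rw [Iso.eq_inv_comp, sq.isoPullback_hom_snd]
    rw [e]
    infer_instance
  obtain ⟨j, φ, hj⟩ := @exists_isClosedImmersion_stage_of_isAffineHom_lft (Over i₀) _ _
    (pbDiagram D (𝟙 i₀) g₀) (pbCone D (𝟙 i₀) g₀ c qY g hY.w)
    (isLimitPbCone D (𝟙 i₀) g₀ c hc qY g hY) _ k hcompk _ (pbRel D (𝟙 i₀) f₀ g₀ k) hk hlft hcl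
  refine ⟨j, ?_⟩
  have sq' := isPullback_pbMap_pbRel D (𝟙 i₀) f₀ g₀ φ
  have hj' : IsClosedImmersion (pullback.snd (pbRel D (𝟙 i₀) f₀ g₀ k)
      (pbMap D (𝟙 i₀) g₀ φ)) := hj
  rw [← sq'.isoPullback_hom_snd]
  infer_instance

end descend

end Groth.Agent.H24
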