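import Mathlib

/-!
# Global sections of affine cofiltered limits; flatness of the projections (helper24)
-/

set_option autoImplicit false

open CategoryTheory AlgebraicGeometry Limits TopologicalSpace

universe u

namespace Groth.Agent.H24

section

variable {I : Type u} [SmallCategory I] [IsCofiltered I]
    (D : I ⥤ Scheme.{u}) (c : Cone D)

/-- The pullback of global sections from stage `j` to the cone point, with clean types. -/
noncomputable def θΓ (j : I) : Γ(D.obj j, ⊤) →+* Γ(c.pt, ⊤) := (c.π.app j).appTop.hom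

omit [IsCofiltered I] in
theorem θΓ_map {j k : I} (f : j ⟶ k) (r : Γ(D.obj k, ⊤)) :
    θΓ D c j ((D.map f).appTop r) = θΓ D c k r := by
  simp only [θΓ]
  rw [← c.w f, Scheme.Hom.comp_appTop]
  rfl

variable (hc : IsLimit c) [∀ i, IsAffine (D.obj i)]

include hc in
theorem θΓ_surj (s : Γ(c.pt, ⊤)) : ∃ (j : I) (t : Γ(D.obj j, ⊤)), θΓ D c j t = s :=
  exists_appTop_π_eq_of_isAffine_of_isLimit D c hc s

include hc in
theorem θΓ_eq_zero (j : I) (t : Γ(D.obj j, ⊤)) (h : θΓ D c j t = 0) :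
    ∃ (k : I) (f : k ⟶ j), (D.map f).appTop t = 0 :=
  exists_appTop_map_eq_zero_of_isAffine_of_isLimit D c hc j t h

include hc in
/-- Finitely many global sections of an affine cofiltered limit come from a common stage
mapping to a given index. -/
theorem θΓ_surj_fin (i₀ : I) {l : ℕ} (x : Fin l → Γ(c.pt, ⊤)) :
    ∃ (j : I) (_ : j ⟶ i₀) (x' : Fin l → Γ(D.obj j, ⊤)), ∀ i, θΓ D c j (x' i) = x i := by
  classical
  choose jj xx hxx using fun i => θΓ_surj D c hc (x i)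
  obtain ⟨S, hS⟩ := IsCofiltered.inf_objs_exists (insert i₀ (Finset.univ.image jj))
  have hS₀ : Nonempty (S ⟶ i₀) := hS (Finset.mem_insert_self _ _)
  have hSi : ∀ i, Nonempty (S ⟶ jj i) := fun i =>
    hS (Finset.mem_insert_of_mem (Finset.mem_image_of_mem _ (Finset.mem_univ i)))
  refine ⟨S, hS₀.some, fun i => (D.map (hSi i).some).appTop (xx i), fun i => ?_⟩
  rw [θΓ_map, hxx]

include hc in
theorem flat_θΓ_of_isAffine (i₀ : I)
    (hf : ∀ (j : I) (φ : j ⟶ i₀), Flat (D.map φ)) : (θΓ D c i₀).Flat := by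
  classical
  letI algB : Algebra Γ(D.obj i₀, ⊤) Γ(c.pt, ⊤) := (θΓ D c i₀).toAlgebra
  change Module.Flat Γ(D.obj i₀, ⊤) Γ(c.pt, ⊤)
  refine Module.Flat.of_forall_isTrivialRelation ?_
  intro l f x hx
  have hsmul : ∀ (a : Γ(D.obj i₀, ⊤)) (b : Γ(c.pt, ⊤)), a • b = θΓ D c i₀ a * b :=
    fun a b => rfl
  obtain ⟨j, a, x', hx'⟩ := θΓ_surj_fin D c hc i₀ x
  have hz : θΓ D c j (∑ i, (D.map a).appTop (f i) * x' i) = 0 := by
    rw [map_sum, ← hx]
    refine Finset.sum_congr rfl fun i _ => ?_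
    rw [map_mul, θΓ_map, hx', hsmul]
  obtain ⟨k, b, hk⟩ := θΓ_eq_zero D c hc j _ hz
  have hflat : (D.map (b ≫ a)).appTop.hom.Flat := by
    have := hf k (b ≫ a)
    exact Scheme.Hom.flat_appTop _
  letI algK : Algebra Γ(D.obj i₀, ⊤) Γ(D.obj k, ⊤) := (D.map (b ≫ a)).appTop.hom.toAlgebra
  have hflat' : Module.Flat Γ(D.obj i₀, ⊤) Γ(D.obj k, ⊤) := hflat
  have hsmul' : ∀ (r : Γ(D.obj i₀, ⊤)) (y : Γ(D.obj k, ⊤)),
      r • y = (D.map (b ≫ a)).appTop r * y := fun r y => rfl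
  have hrel : ∑ i, f i • (D.map b).appTop (x' i) = 0 := by
    rw [← hk, map_sum]
    refine Finset.sum_congr rfl fun i _ => ?_
    rw [map_mul, hsmul', D.map_comp, Scheme.Hom.comp_appTop, CommRingCat.comp_apply]
  obtain ⟨k', aa, yy, h1, h2⟩ := Module.Flat.isTrivialRelation_of_sum_smul_eq_zero
    (R := Γ(D.obj i₀, ⊤)) (M := Γ(D.obj k, ⊤)) hrel
  refine ⟨k', aa, fun j' => θΓ D c k (yy j'), fun i => ?_, h2⟩
  have hθ : θΓ D c k ((D.map b).appTop (x' i)) = x i := by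
    rw [θΓ_map, hx']
  have h1i : (D.map b).appTop (x' i) = ∑ j', aa i j' • yy j' := h1 i
  rw [← hθ, h1i, map_sum]
  refine Finset.sum_congr rfl fun j' _ => ?_
  rw [hsmul', map_mul, hsmul, θΓ_map]

end

end Groth.Agent.H24
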