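import Mathlib
import Groth.Agent.S4848
import Groth.Agent.H24.LimBCClosed
import Groth.Agent.H24.LimGamma

/-!
# Flatness descends to a finite stage of a cofiltered limit (helper24)

Built on helper48's ring-level theorem `S4848` (EGA IV 11.2.6, ring form).
-/

set_option autoImplicit false

open CategoryTheory AlgebraicGeometry Limits TopologicalSpace Topology TensorProduct Opposite

universe u

namespace Groth.Agent.H24

/-- A cofiltered small category receives a "cofinal" codirected system indexed by a directed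
poset. -/
theorem exists_directed_cofinal (J : Type u) [SmallCategory J] [IsCofiltered J] :
    ∃ (α : Type u) (_ : PartialOrder α) (_ : IsDirected α (· ≤ ·)) (_ : Nonempty α)
      (k : α → J) (τ : ∀ {a b : α}, a ≤ b → (k b ⟶ k a)),
      (∀ a, τ (le_refl a) = 𝟙 (k a)) ∧
      (∀ {a b c : α} (h₁ : a ≤ b) (h₂ : b ≤ c), τ (h₁.trans h₂) = τ h₂ ≫ τ h₁) ∧
      (∀ j : J, ∃ a, Nonempty (k a ⟶ j)) ∧
      (∀ (a : α) (j : J) (u : j ⟶ k a), ∃ (b : α) (hab : a ≤ b) (v : k b ⟶ j),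
        v ≫ u = τ hab) := by
  obtain ⟨α, _, hdir, hne, F, hF⟩ := IsFiltered.exists_directed (Jᵒᵖ)
  have hfil : IsFiltered α := by
    have := hdir
    have := hne
    infer_instance
  refine ⟨α, inferInstance, hdir, hne, fun a => (F.obj a).unop,
    fun {a b} h => (F.map (homOfLE h)).unop, ?_, ?_, ?_, ?_⟩
  · intro a
    have : homOfLE (le_refl a) = 𝟙 a := Subsingleton.elim _ _
    change (F.map (homOfLE (le_refl a))).unop = 𝟙 _
    rw [this, F.map_id]
    rfl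
  · intro a b c h₁ h₂
    have : homOfLE (h₁.trans h₂) = homOfLE h₁ ≫ homOfLE h₂ := Subsingleton.elim _ _
    change (F.map (homOfLE (h₁.trans h₂))).unop =
      (F.map (homOfLE h₂)).unop ≫ (F.map (homOfLE h₁)).unop
    rw [this, F.map_comp]
    rfl
  · intro j
    obtain ⟨a, ⟨f⟩⟩ := ((Functor.final_iff_of_isFiltered F).1 hF).1 (op j)
    exact ⟨a, ⟨f.unop⟩⟩
  · intro a j u
    obtain ⟨c₁, ⟨s⟩⟩ := ((Functor.final_iff_of_isFiltered F).1 hF).1 (op j)
    obtain ⟨c₂, h₁, h₂⟩ := hdir.directed a c₁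
    obtain ⟨c₃, t, ht⟩ := Functor.Final.exists_coeq (F := F)
      (u.op ≫ s ≫ F.map (homOfLE h₂)) (F.map (homOfLE h₁))
    have h₃ : c₂ ≤ c₃ := leOfHom t
    refine ⟨c₃, h₁.trans h₃, (s ≫ F.map (homOfLE h₂) ≫ F.map t).unop, ?_⟩
    have e : homOfLE (h₁.trans h₃) = homOfLE h₁ ≫ t := Subsingleton.elim _ _
    change (s ≫ F.map (homOfLE h₂) ≫ F.map t).unop ≫ u = (F.map (homOfLE (h₁.trans h₃))).unop
    rw [e, F.map_comp, ← ht]
    simp

/-- In a pushout square of commutative rings, flatness of the coprojection from `A` is flatness of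
`A ⊗[R] B` over `A`. -/
theorem flat_inr_iff_of_isPushout {R A B P : CommRingCat.{u}} {f : R ⟶ B} {g : R ⟶ A}
    {inl : B ⟶ P} {inr : A ⟶ P} (sq : IsPushout f g inl inr) :
    letI := g.hom.toAlgebra
    letI := f.hom.toAlgebra
    inr.hom.Flat ↔ Module.Flat A (A ⊗[R] B) := by
  letI := g.hom.toAlgebra
  letI := f.hom.toAlgebra
  have sq' : IsPushout (CommRingCat.ofHom (algebraMap R A)) (CommRingCat.ofHom (algebraMap R B))
      inr inl := sq.flip
  let e : P ≅ CommRingCat.of (A ⊗[R] B) :=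
    sq'.isColimit.coconePointUniqueUpToIso (CommRingCat.pushoutCoconeIsColimit R A B)
  have he : inr ≫ e.hom = CommRingCat.ofHom
      (Algebra.TensorProduct.includeLeftRingHom (R := R) (A := A) (B := B)) :=
    sq'.isColimit.comp_coconePointUniqueUpToIso_hom
      (CommRingCat.pushoutCoconeIsColimit R A B) WalkingSpan.left
  have he' : (e.hom.hom).comp inr.hom =
      Algebra.TensorProduct.includeLeftRingHom (R := R) (A := A) (B := B) :=
    congrArg CommRingCat.Hom.hom he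
  rw [← RingHom.Flat.respectsIso.cancel_right_isIso inr e.hom, he']
  have h2 : (algebraMap A (A ⊗[R] B)) =
      Algebra.TensorProduct.includeLeftRingHom (R := R) (A := A) (B := B) := by
    ext a
    simp
  rw [← h2, RingHom.flat_algebraMap_iff]

/-- Flatness of the base change of a morphism of affine schemes, in terms of tensor products. -/
theorem flat_snd_iff_flat_tensor {W T Z : Scheme.{u}} [IsAffine W] [IsAffine T] [IsAffine Z]
    (h : W ⟶ Z) (w : T ⟶ Z) :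
    letI := w.appTop.hom.toAlgebra
    letI := h.appTop.hom.toAlgebra
    Flat (pullback.snd h w) ↔ Module.Flat Γ(T, ⊤) (Γ(T, ⊤) ⊗[Γ(Z, ⊤)] Γ(W, ⊤)) := by
  have sq := isPushout_appTop_of_isPullback (IsPullback.of_hasPullback h w)
  rw [← flat_inr_iff_of_isPushout sq]
  exact HasRingHomProperty.iff_of_isAffine (P := @Flat)

section affine

variable {I : Type u} [SmallCategory I] [IsCofiltered I]
    (D : I ⥤ Scheme.{u}) (c : Limits.Cone D) (hc : Limits.IsLimit c)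

include hc in
/-- Affine case of flat descent. -/
theorem exists_flat_pullback_stage_affine [∀ i, IsAffine (D.obj i)] [IsAffine c.pt]
    (i₀ : I) {W₀ : Scheme.{u}} [IsAffine W₀] (h₀ : W₀ ⟶ D.obj i₀)
    [LocallyOfFinitePresentation h₀] (h : Flat (pullback.snd h₀ (c.π.app i₀))) :
    ∃ m : Over i₀, Flat (pullback.snd h₀ (D.map m.hom)) := by
  classical
  obtain ⟨α, _, hdir, hne, k, τ, hτ1, hτ2, hcof1, hcof2⟩ := exists_directed_cofinal (Over i₀)
  letI algA : Algebra Γ(D.obj i₀, ⊤) Γ(c.pt, ⊤) := (c.π.app i₀).appTop.hom.toAlgebra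
  letI algB : Algebra Γ(D.obj i₀, ⊤) Γ(W₀, ⊤) := h₀.appTop.hom.toAlgebra
  letI algG : ∀ a : α, Algebra Γ(D.obj i₀, ⊤) Γ(D.obj (k a).left, ⊤) :=
    fun a => (D.map (k a).hom).appTop.hom.toAlgebra
  letI algGA : ∀ a : α, Algebra Γ(D.obj (k a).left, ⊤) Γ(c.pt, ⊤) :=
    fun a => (c.π.app (k a).left).appTop.hom.toAlgebra
  haveI tower : ∀ a : α,
      IsScalarTower Γ(D.obj i₀, ⊤) Γ(D.obj (k a).left, ⊤) Γ(c.pt, ⊤) := fun a =>
    IsScalarTower.of_algebraMap_eq (fun x => by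
      change (c.π.app i₀).appTop x =
        (c.π.app (k a).left).appTop ((D.map (k a).hom).appTop x)
      rw [← appTop_comp_apply, c.w])
  haveI hfp : Algebra.FinitePresentation Γ(D.obj i₀, ⊤) Γ(W₀, ⊤) :=
    HasRingHomProperty.appTop @LocallyOfFinitePresentation h₀ inferInstance
  let g : ∀ a b : α, a ≤ b →
      Γ(D.obj (k a).left, ⊤) →ₐ[Γ(D.obj i₀, ⊤)] Γ(D.obj (k b).left, ⊤) := fun a b hab =>
    { (D.map (τ hab).left).appTop.hom with
      commutes' := fun x => by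
        change (D.map (τ hab).left).appTop ((D.map (k a).hom).appTop x) =
          (D.map (k b).hom).appTop x
        rw [← appTop_comp_apply, ← D.map_comp, Over.w (τ hab)] }
  have hcolim : FlatCA.IsDirectedColimitRing (fun a : α => Γ(D.obj (k a).left, ⊤))
      (fun a b hab => (g a b hab).toRingHom) Γ(c.pt, ⊤) := by
    refine ⟨hdir, hne, ?_, ?_, ?_, ?_, ?_⟩
    · intro a
      refine RingHom.ext fun x => ?_
      change (D.map (τ (le_refl a)).left).appTop x = x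
      rw [hτ1, Over.id_left, D.map_id]
      simp
    · intro a b c' hab hbc
      refine RingHom.ext fun x => ?_
      change (D.map (τ hbc).left).appTop ((D.map (τ hab).left).appTop x) =
        (D.map (τ (hab.trans hbc)).left).appTop x
      rw [hτ2 hab hbc, Over.comp_left, D.map_comp, appTop_comp_apply]
    · intro a b hab
      refine RingHom.ext fun x => ?_
      change (c.π.app (k b).left).appTop ((D.map (τ hab).left).appTop x) =
        (c.π.app (k a).left).appTop x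
      rw [← appTop_comp_apply, c.w]
    · intro x
      obtain ⟨i, y, hy⟩ := exists_appTop_π_eq_of_isAffine_of_isLimit D c hc x
      obtain ⟨a, ⟨v⟩⟩ := hcof1 (Over.mk (IsCofiltered.minToRight i i₀))
      refine ⟨a, (D.map (v.left ≫ IsCofiltered.minToLeft i i₀)).appTop y, ?_⟩
      change (c.π.app (k a).left).appTop
        ((D.map (v.left ≫ IsCofiltered.minToLeft i i₀)).appTop y) = x
      rw [← appTop_comp_apply, c.w, hy]
    · intro a x hx
      obtain ⟨j, f, hf⟩ :=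
        exists_appTop_map_eq_zero_of_isAffine_of_isLimit D c hc (k a).left x hx
      obtain ⟨b, hab, v, hv⟩ := hcof2 a (Over.mk (f ≫ (k a).hom)) (Over.homMk f rfl)
      refine ⟨b, hab, ?_⟩
      change (D.map (τ hab).left).appTop x = 0
      rw [← hv, Over.comp_left, D.map_comp, appTop_comp_apply]
      have h0 : (D.map (Over.homMk f rfl : Over.mk (f ≫ (k a).hom) ⟶ k a).left).appTop x = 0 :=
        hf
      rw [h0, map_zero]
  have key := Groth.Agent.S4848.result (A₀ := Γ(D.obj i₀, ⊤))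
    (fun a : α => Γ(D.obj (k a).left, ⊤)) g Γ(c.pt, ⊤) hcolim (B₀ := Γ(W₀, ⊤)) Γ(W₀, ⊤)
  have h1 : Module.Flat Γ(c.pt, ⊤) (Γ(c.pt, ⊤) ⊗[Γ(D.obj i₀, ⊤)] Γ(W₀, ⊤)) :=
    (flat_snd_iff_flat_tensor (T := c.pt) h₀ (c.π.app i₀)).mp h
  obtain ⟨a, ha⟩ := key.mp h1
  exact ⟨k a, (flat_snd_iff_flat_tensor h₀ (D.map (k a).hom)).mpr ha⟩

end affine

section glob

/-- Base change along a further map. -/
theorem snd_comp_of_stable (P : MorphismProperty Scheme.{u}) [P.IsStableUnderBaseChange]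
    {A B T T' : Scheme.{u}} (m : A ⟶ B) (w : T ⟶ B) (r : T' ⟶ T) (h : P (pullback.snd m w)) :
    P (pullback.snd m (r ≫ w)) :=
  MorphismProperty.of_isPullback (P := P) (isPullback_lift_comp m w r) h

/-- Restricting the source of a base change to the preimage of an open. -/
theorem snd_restrict_source_iff (P : MorphismProperty Scheme.{u}) [P.RespectsIso]
    {A B T : Scheme.{u}} (m : A ⟶ B) (w : T ⟶ B) (W : A.Opens) :
    P ((pullback.fst m w ⁻¹ᵁ W).ι ≫ pullback.snd m w) ↔ P (pullback.snd (W.ι ≫ m) w) := by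
  have top := isPullback_morphismRestrict (pullback.fst m w) W
  have sq := top.paste_vert (IsPullback.of_hasPullback m w)
  rw [← sq.isoPullback_hom_snd, P.cancel_left_of_respectsIso]

/-- Factoring the target of a base change through an open. -/
theorem flat_snd_resLE_target_iff {A B T : Scheme.{u}} (m : A ⟶ B) (W : A.Opens) (O' : B.Opens)
    (hW : W ≤ m ⁻¹ᵁ O') (r : T ⟶ B) (U : T.Opens) (hU : U = r ⁻¹ᵁ O') (e : U ≤ r ⁻¹ᵁ O') :
    Flat (pullback.snd (W.ι ≫ m) r) ↔ Flat (pullback.snd (m.resLE O' W hW) (r.resLE O' U e)) := by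
  subst hU
  have bot : IsPullback (r.resLE O' (r ⁻¹ᵁ O') e) (r ⁻¹ᵁ O').ι O'.ι r := by
    rw [Scheme.Hom.resLE_eq_morphismRestrict]
    exact isPullback_morphismRestrict r O'
  have top := (IsPullback.of_hasPullback (m.resLE O' W hW) (r.resLE O' (r ⁻¹ᵁ O') e)).flip
  have sq := (top.paste_horiz bot.flip).flip
  rw [Scheme.Hom.resLE_comp_ι] at sq
  have e1 : pullback.snd (W.ι ≫ m) r = sq.isoPullback.inv ≫
      (pullback.snd (m.resLE O' W hW) (r.resLE O' (r ⁻¹ᵁ O') e) ≫ (r ⁻¹ᵁ O').ι) := by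
    rw [Iso.eq_inv_comp, sq.isoPullback_hom_snd]
  rw [e1, MorphismProperty.cancel_left_of_respectsIso @Flat]
  constructor
  · intro h
    exact MorphismProperty.of_postcomp (W := @Flat) (W' := @IsOpenImmersion) _ (r ⁻¹ᵁ O').ι
      inferInstance h
  · intro h
    infer_instance

variable {I : Type u} [SmallCategory I] [IsCofiltered I]
    (D : I ⥤ Scheme.{u}) (c : Limits.Cone D) (hc : Limits.IsLimit c)
    [∀ {i j : I} (f : i ⟶ j), IsAffineHom (D.map f)]

include hc in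
/-- **Flatness descends along base change** (stage form): `ι₀` locally of finite presentation
with quasi-compact source. -/
theorem exists_flat_stage_of_lfp (i₀ : I) {Z₀ : Scheme.{u}} [CompactSpace Z₀]
    (ι₀ : Z₀ ⟶ D.obj i₀) [LocallyOfFinitePresentation ι₀]
    (h : Flat (pullback.snd ι₀ (c.π.app i₀))) :
    ∃ (j : I) (φ : j ⟶ i₀), Flat (pullback.snd ι₀ (D.map φ)) := by
  classical
  have hπ := isAffineHom_π_app D c hc
  let 𝔹 := {p : Z₀.affineOpens × (D.obj i₀).affineOpens // (p.1 : Z₀.Opens) ≤ ι₀ ⁻¹ᵁ p.2.1}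
  have hcov : IsOpenCover (fun p : 𝔹 => (p.1.1 : Z₀.Opens)) := by
    refine IsOpenCover.mk (eq_top_iff.mpr fun x _ => ?_)
    obtain ⟨_, ⟨V, hV : IsAffineOpen V, rfl⟩, hxV, -⟩ :=
      (D.obj i₀).isBasis_affineOpens.exists_subset_of_mem_open (Set.mem_univ (ι₀ x)) isOpen_univ
    obtain ⟨_, ⟨U, hU : IsAffineOpen U, rfl⟩, hxU, hUV⟩ :=
      Z₀.isBasis_affineOpens.exists_subset_of_mem_open
        (show x ∈ ((ι₀ ⁻¹ᵁ V : Z₀.Opens) : Set Z₀) from hxV) (ι₀ ⁻¹ᵁ V).isOpen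
    exact Opens.mem_iSup.mpr ⟨⟨⟨⟨U, hU⟩, ⟨V, hV⟩⟩, hUV⟩, hxU⟩
  obtain ⟨t, ht⟩ := hcov.exists_finite_of_compactSpace
  let P : Over i₀ → 𝔹 → Prop := fun l p =>
    Flat (pullback.snd (p.1.1.1.ι ≫ ι₀) (D.map l.hom))
  have hP : ∀ p ∈ (t : Set 𝔹), ∀ l₁ : Over i₀,
      ∃ (l : Over i₀) (_ : l ⟶ l₁), ∀ (l' : Over i₀) (_ : l' ⟶ l), P l' p := by
    intro p _ l₁
    have pers : ∀ (l l' : Over i₀) (ψ : l' ⟶ l), P l p → P l' p := by
      intro l l' ψ hl
      have e : D.map l'.hom = D.map ψ.left ≫ D.map l.hom := by rw [← D.map_comp, Over.w ψ]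
      change Flat (pullback.snd (p.1.1.1.ι ≫ ι₀) (D.map l'.hom))
      rw [snd_iff_of_eq (p.1.1.1.ι ≫ ι₀) @Flat e]
      exact snd_comp_of_stable @Flat _ _ _ hl
    obtain ⟨⟨W, O⟩, hWO⟩ := p
    have hO' : D.map (Over.mk (𝟙 i₀)).hom ⁻¹ᵁ O.1 = O.1 := by
      change D.map (𝟙 i₀) ⁻¹ᵁ O.1 = O.1
      rw [D.map_id]
      rfl
    have hWO' : W.1 ≤ ι₀ ⁻¹ᵁ (D.map (Over.mk (𝟙 i₀)).hom ⁻¹ᵁ O.1) := by
      rw [hO']
      exact hWO
    have haff : ∀ l : Over i₀, IsAffine ((opensDiagram D i₀ O.1).obj l) := fun l =>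
      O.2.preimage (D.map l.hom)
    have hptaff : IsAffine (opensCone D c i₀ O.1).pt := O.2.preimage (c.π.app i₀)
    have hWaff : IsAffine W.1.toScheme := W.2
    have hlfp : LocallyOfFinitePresentation
        (ι₀.resLE (D.map (Over.mk (𝟙 i₀)).hom ⁻¹ᵁ O.1) W.1 hWO') := by
      have : LocallyOfFinitePresentation
          (ι₀.resLE (D.map (Over.mk (𝟙 i₀)).hom ⁻¹ᵁ O.1) W.1 hWO' ≫
            (D.map (Over.mk (𝟙 i₀)).hom ⁻¹ᵁ O.1).ι) := by
        rw [Scheme.Hom.resLE_comp_ι]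
        infer_instance
      exact locallyOfFinitePresentation_of_comp _ (D.map (Over.mk (𝟙 i₀)).hom ⁻¹ᵁ O.1).ι
    -- the hypothesis at the limit
    have hrInf : c.π.app i₀ ≫ D.map (Over.mk (𝟙 i₀)).hom = c.π.app i₀ := c.w _
    have hUInf : c.π.app i₀ ⁻¹ᵁ O.1 =
        c.π.app i₀ ⁻¹ᵁ (D.map (Over.mk (𝟙 i₀)).hom ⁻¹ᵁ O.1) := by
      rw [← Scheme.Hom.comp_preimage, hrInf]
    have hsrc : Flat (pullback.snd (W.1.ι ≫ ι₀) (c.π.app i₀)) := by
      rw [← snd_restrict_source_iff @Flat]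
      exact IsZariskiLocalAtSource.comp (P := @Flat) h _
    have hInf : Flat (pullback.snd (ι₀.resLE (D.map (Over.mk (𝟙 i₀)).hom ⁻¹ᵁ O.1) W.1 hWO')
        ((c.π.app i₀).resLE (D.map (Over.mk (𝟙 i₀)).hom ⁻¹ᵁ O.1) (c.π.app i₀ ⁻¹ᵁ O.1)
          hUInf.le)) :=
      (flat_snd_resLE_target_iff ι₀ W.1 _ hWO' (c.π.app i₀) (c.π.app i₀ ⁻¹ᵁ O.1) hUInf
        hUInf.le).mp hsrc
    obtain ⟨m, hm⟩ := @exists_flat_pullback_stage_affine (Over i₀) _ _
      (opensDiagram D i₀ O.1) (opensCone D c i₀ O.1) (isLimitOpensCone D c hc i₀ O.1) haff hptaff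
      (Over.mk (𝟙 i₀)) _ hWaff
      (ι₀.resLE (D.map (Over.mk (𝟙 i₀)).hom ⁻¹ᵁ O.1) W.1 hWO') hlfp hInf
    have hUm : D.map m.left.hom ⁻¹ᵁ O.1 =
        D.map m.hom.left ⁻¹ᵁ (D.map (Over.mk (𝟙 i₀)).hom ⁻¹ᵁ O.1) := by
      rw [← Scheme.Hom.comp_preimage, ← D.map_comp, Over.w m.hom]
    have hm1 : Flat (pullback.snd (ι₀.resLE (D.map (Over.mk (𝟙 i₀)).hom ⁻¹ᵁ O.1) W.1 hWO')
        ((D.map m.hom.left).resLE (D.map (Over.mk (𝟙 i₀)).hom ⁻¹ᵁ O.1)
          (D.map m.left.hom ⁻¹ᵁ O.1) hUm.le)) := hm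
    have hm2 : Flat (pullback.snd (W.1.ι ≫ ι₀) (D.map m.hom.left)) :=
      (flat_snd_resLE_target_iff ι₀ W.1 _ hWO' (D.map m.hom.left) (D.map m.left.hom ⁻¹ᵁ O.1) hUm
        hUm.le).mpr hm1
    have em : D.map m.hom.left = D.map m.left.hom :=
      congrArg D.map (by simpa using Over.w m.hom)
    have hm' : P m.left ⟨⟨W, O⟩, hWO⟩ := by
      change Flat (pullback.snd (W.1.ι ≫ ι₀) (D.map m.left.hom))
      rw [← snd_iff_of_eq (W.1.ι ≫ ι₀) @Flat em]
      exact hm2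
    refine ⟨IsCofiltered.min l₁ m.left, IsCofiltered.minToLeft _ _, fun l' ψ => ?_⟩
    exact pers m.left l' (ψ ≫ IsCofiltered.minToRight _ _) hm'
  obtain ⟨l, _, hl⟩ := exists_index_forall_finite (I := Over i₀) (t : Set 𝔹) t.finite_toSet P hP
    (Over.mk (𝟙 i₀))
  refine ⟨l.left, l.hom, ?_⟩
  refine IsZariskiLocalAtSource.of_iSup_eq_top (P := @Flat)
    (fun p : t => pullback.fst ι₀ (D.map l.hom) ⁻¹ᵁ p.1.1.1.1) ?_ (fun p => ?_)
  · refine eq_top_iff.mpr fun x _ => ?_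
    obtain ⟨p, hp⟩ := ht.exists_mem (pullback.fst ι₀ (D.map l.hom) x)
    exact Opens.mem_iSup.mpr ⟨p, hp⟩
  · rw [snd_restrict_source_iff @Flat]
    exact hl l (𝟙 l) p.1 p.2

end glob

end Groth.Agent.H24
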