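import Mathlib
import Groth.Agent.S9697
import Groth.Agent.H24.LimPullback

/-!
# The unramified locus and base change (helper24)

Uses helper48's `S9697` (unramified neighbourhoods and base change).
-/

set_option autoImplicit false

open CategoryTheory AlgebraicGeometry Limits TopologicalSpace Topology

universe u

namespace Groth.Agent.H24

/-- The unramified locus of a morphism, as an open subset of the source. -/
noncomputable def unramLocus {X Y : Scheme.{u}} (f : X ⟶ Y) : X.Opens :=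
  ⨆ U : {U : X.Opens // FormallyUnramified (U.ι ≫ f)}, U.1

theorem mem_unramLocus {X Y : Scheme.{u}} (f : X ⟶ Y) (x : X) :
    x ∈ unramLocus f ↔ ∃ U : X.Opens, x ∈ U ∧ FormallyUnramified (U.ι ≫ f) := by
  unfold unramLocus
  rw [Opens.mem_iSup]
  constructor
  · rintro ⟨U, hU⟩
    exact ⟨U.1, hU, U.2⟩
  · rintro ⟨U, hx, hU⟩
    exact ⟨⟨U, hU⟩, hx⟩

theorem formallyUnramified_iff_unramLocus_eq_top {X Y : Scheme.{u}} (f : X ⟶ Y) :
    FormallyUnramified f ↔ unramLocus f = ⊤ := by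
  constructor
  · intro h
    refine eq_top_iff.mpr fun x _ => (mem_unramLocus f x).mpr ⟨⊤, trivial,
      IsZariskiLocalAtSource.comp (P := @FormallyUnramified) h _⟩
  · intro h
    exact IsZariskiLocalAtSource.of_iSup_eq_top (P := @FormallyUnramified)
      (fun U : {U : X.Opens // FormallyUnramified (U.ι ≫ f)} => U.1) h (fun U => U.2)

theorem exists_unramified_nhd_of_isIso {X X' Y : Scheme.{u}} (e : X ⟶ X') [IsIso e]
    (f' : X' ⟶ Y) (x : X)
    (h : ∃ U' : X'.Opens, e x ∈ U' ∧ FormallyUnramified (U'.ι ≫ f')) :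
    ∃ U : X.Opens, x ∈ U ∧ FormallyUnramified (U.ι ≫ e ≫ f') := by
  obtain ⟨U', hx, hU'⟩ := h
  refine ⟨e ⁻¹ᵁ U', hx, ?_⟩
  rw [← morphismRestrict_ι_assoc]
  exact IsZariskiLocalAtSource.comp (P := @FormallyUnramified) hU' _

/-- Unramified neighbourhoods and base change, for an arbitrary pullback square. -/
theorem unramified_nhd_iff_of_isPullback {X Y X₀ Y₀ : Scheme.{u}} {f : X ⟶ Y} {f₀ : X₀ ⟶ Y₀}
    {qX : X ⟶ X₀} {qY : Y ⟶ Y₀} (hX : IsPullback qX f f₀ qY) [LocallyOfFiniteType f₀] (x : X) :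
    (∃ U : X.Opens, x ∈ U ∧ FormallyUnramified (U.ι ≫ f)) ↔
      (∃ U : X₀.Opens, qX x ∈ U ∧ FormallyUnramified (U.ι ≫ f₀)) := by
  have e1 : hX.isoPullback.hom ≫ pullback.fst f₀ qY = qX := hX.isoPullback_hom_fst
  have e2 : hX.isoPullback.hom ≫ pullback.snd f₀ qY = f := hX.isoPullback_hom_snd
  have e3 : hX.isoPullback.inv ≫ f = pullback.snd f₀ qY := by
    rw [Iso.inv_comp_eq, e2]
  have hpt : (pullback.fst f₀ qY) (hX.isoPullback.hom x) = qX x := by
    rw [← Scheme.Hom.comp_apply, e1]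
  have hpt' : hX.isoPullback.inv (hX.isoPullback.hom x) = x := by
    rw [← Scheme.Hom.comp_apply, Iso.hom_inv_id]
    rfl
  have key := Groth.Agent.S9697.result f₀ qY (hX.isoPullback.hom x)
  constructor
  · intro h
    have h' : ∃ U' : (pullback f₀ qY).Opens, hX.isoPullback.hom x ∈ U' ∧
        FormallyUnramified (U'.ι ≫ pullback.snd f₀ qY) := by
      have := exists_unramified_nhd_of_isIso hX.isoPullback.inv f (hX.isoPullback.hom x)
        (by rw [hpt']; exact h)
      rw [e3] at this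
      exact this
    obtain ⟨U, hxU, hU⟩ := key.mp h'
    exact ⟨U, by rw [← hpt]; exact hxU, hU⟩
  · rintro ⟨U, hxU, hU⟩
    have h' := key.mpr ⟨U, by rw [hpt]; exact hxU, hU⟩
    have := exists_unramified_nhd_of_isIso hX.isoPullback.hom (pullback.snd f₀ qY) x h'
    rw [e2] at this
    exact this

theorem unramLocus_eq_preimage_of_isPullback {X Y X₀ Y₀ : Scheme.{u}} {f : X ⟶ Y}
    {f₀ : X₀ ⟶ Y₀} {qX : X ⟶ X₀} {qY : Y ⟶ Y₀} (hX : IsPullback qX f f₀ qY)
    [LocallyOfFiniteType f₀] : unramLocus f = qX ⁻¹ᵁ unramLocus f₀ := by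
  ext x
  change x ∈ unramLocus f ↔ qX x ∈ unramLocus f₀
  rw [mem_unramLocus, mem_unramLocus, unramified_nhd_iff_of_isPullback hX x]

end Groth.Agent.H24
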