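import Mathlib
import Groth.Agent.S2155
import Groth.Agent.H24.LimFlat
import Groth.Agent.H24.UnramLocus
import Groth.Agent.H24.LimDescend2

/-!
# Flat, smooth, unramified and étale morphisms descend to a finite stage (helper24)
-/

set_option autoImplicit false

open CategoryTheory AlgebraicGeometry Limits TopologicalSpace Topology

universe u

namespace Groth.Agent.H24

section descend

variable {I : Type u} [SmallCategory I] [IsCofiltered I]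
    (D : I ⥤ Scheme.{u}) (c : Limits.Cone D) (hc : Limits.IsLimit c)
    [∀ {i j : I} (f : i ⟶ j), IsAffineHom (D.map f)]
    (i₀ : I) {X₀ Y₀ : Scheme.{u}} (f₀ : X₀ ⟶ Y₀) (g₀ : Y₀ ⟶ D.obj i₀)

omit [IsCofiltered I] in
theorem compactSpace_pbDiagram_obj [CompactSpace X₀] (l : Over i₀) :
    CompactSpace ↥((pbDiagram D (𝟙 i₀) (f₀ ≫ g₀)).obj l) := by
  have : IsAffineHom (pullback.fst (f₀ ≫ g₀) (D.map (l.hom ≫ 𝟙 i₀))) :=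
    MorphismProperty.pullback_fst (P := @IsAffineHom) _ _ inferInstance
  have h : CompactSpace ↥(pullback (f₀ ≫ g₀) (D.map (l.hom ≫ 𝟙 i₀))) :=
    QuasiCompact.compactSpace_of_compactSpace (pullback.fst (f₀ ≫ g₀) (D.map (l.hom ≫ 𝟙 i₀)))
  exact h

/-- The limit morphism is the base change of any stage (given by pullback squares). -/
theorem exists_isPullback_of_stage {X Y : Scheme.{u}} (f : X ⟶ Y) (g : Y ⟶ c.pt) (qY : Y ⟶ Y₀)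
    (qX : X ⟶ X₀) (hY : IsPullback qY g g₀ (c.π.app i₀)) (hX : IsPullback qX f f₀ qY)
    {j : I} (φ : j ⟶ i₀) {Xj Yj : Scheme.{u}} (fj : Xj ⟶ Yj) (gj : Yj ⟶ D.obj j) (pY : Yj ⟶ Y₀)
    (pX : Xj ⟶ X₀) (hYj : IsPullback pY gj g₀ (D.map φ)) (hXj : IsPullback pX fj f₀ pY) :
    ∃ (rX : X ⟶ Xj) (rY : Y ⟶ Yj), IsPullback rX f fj rY ∧ rX ≫ pX = qX ∧ rY ≫ pY = qY ∧
      rY ≫ gj = g ≫ c.π.app j := by
  have e1 : qY ≫ g₀ = (g ≫ c.π.app j) ≫ D.map φ := by rw [Category.assoc, c.w, hY.w]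
  obtain ⟨rY, hrY1, hrY2⟩ : ∃ rY : Y ⟶ Yj, rY ≫ pY = qY ∧ rY ≫ gj = g ≫ c.π.app j :=
    ⟨hYj.lift qY (g ≫ c.π.app j) e1, hYj.lift_fst _ _ _, hYj.lift_snd _ _ _⟩
  have e2 : qX ≫ f₀ = (f ≫ rY) ≫ pY := by rw [Category.assoc, hrY1, hX.w]
  obtain ⟨rX, hrX1, hrX2⟩ : ∃ rX : X ⟶ Xj, rX ≫ pX = qX ∧ rX ≫ fj = f ≫ rY :=
    ⟨hXj.lift qX (f ≫ rY) e2, hXj.lift_fst _ _ _, hXj.lift_snd _ _ _⟩
  refine ⟨rX, rY, ?_, hrX1, hrY1, hrY2⟩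
  have big : IsPullback (rX ≫ pX) f f₀ (rY ≫ pY) := by
    rw [hrX1, hrY1]
    exact hX
  exact IsPullback.of_right big hrX2 hXj

include hc in
/-- **Flat morphisms descend to a finite stage.** -/
theorem exists_flat_pbRel [CompactSpace X₀] [LocallyOfFinitePresentation f₀]
    {X Y : Scheme.{u}} (f : X ⟶ Y) (g : Y ⟶ c.pt) (qY : Y ⟶ Y₀) (qX : X ⟶ X₀)
    (hY : IsPullback qY g g₀ (c.π.app i₀)) (hX : IsPullback qX f f₀ qY) [Flat f] :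
    ∃ j : Over i₀, Flat (pbRel D (𝟙 i₀) f₀ g₀ j) := by
  have hlfp : LocallyOfFinitePresentation (pbRel D (𝟙 i₀) f₀ g₀ (Over.mk (𝟙 i₀))) :=
    MorphismProperty.of_isPullback (P := @LocallyOfFinitePresentation)
      (isPullback_pbRel D (𝟙 i₀) f₀ g₀ (Over.mk (𝟙 i₀))) inferInstance
  have hcomp : CompactSpace ↥(pullback (f₀ ≫ g₀) (D.map ((Over.mk (𝟙 i₀)).hom ≫ 𝟙 i₀))) :=
    compactSpace_pbDiagram_obj D i₀ f₀ g₀ (Over.mk (𝟙 i₀))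
  have sq := isPullback_pbLift_pbRel D (𝟙 i₀) f₀ g₀ c f g qY qX hY hX (Over.mk (𝟙 i₀))
  have hfl : Flat (pullback.snd (pbRel D (𝟙 i₀) f₀ g₀ (Over.mk (𝟙 i₀)))
      (pbLift D (𝟙 i₀) g₀ c qY g hY.w (Over.mk (𝟙 i₀)))) := by
    have e : pullback.snd (pbRel D (𝟙 i₀) f₀ g₀ (Over.mk (𝟙 i₀)))
        (pbLift D (𝟙 i₀) g₀ c qY g hY.w (Over.mk (𝟙 i₀))) = sq.isoPullback.inv ≫ f := by
      rw [Iso.eq_inv_comp, sq.isoPullback_hom_snd]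
    rw [e]
    infer_instance
  obtain ⟨j, φ, hj⟩ := @exists_flat_stage_of_lfp (Over i₀) _ _
    (pbDiagram D (𝟙 i₀) g₀) (pbCone D (𝟙 i₀) g₀ c qY g hY.w)
    (isLimitPbCone D (𝟙 i₀) g₀ c hc qY g hY) _ (Over.mk (𝟙 i₀)) _ hcomp
    (pbRel D (𝟙 i₀) f₀ g₀ (Over.mk (𝟙 i₀))) hlfp hfl
  refine ⟨j, ?_⟩
  have sq' := isPullback_pbMap_pbRel D (𝟙 i₀) f₀ g₀ φ
  have hj' : Flat (pullback.snd (pbRel D (𝟙 i₀) f₀ g₀ (Over.mk (𝟙 i₀)))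
      (pbMap D (𝟙 i₀) g₀ φ)) := hj
  rw [← sq'.isoPullback_hom_snd]
  infer_instance

include hc in
/-- **Unramified morphisms descend to a finite stage** (only `X₀` quasi-compact). -/
theorem exists_formallyUnramified_pbRel' [CompactSpace X₀] [LocallyOfFiniteType f₀]
    {X Y : Scheme.{u}} (f : X ⟶ Y) (g : Y ⟶ c.pt) (qY : Y ⟶ Y₀) (qX : X ⟶ X₀)
    (hY : IsPullback qY g g₀ (c.π.app i₀)) (hX : IsPullback qX f f₀ qY)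
    [hf : FormallyUnramified f] :
    ∃ j : Over i₀, FormallyUnramified (pbRel D (𝟙 i₀) f₀ g₀ j) := by
  have hXY := hX.paste_vert hY
  have hcX : ∀ l : Over i₀, CompactSpace ↥((pbDiagram D (𝟙 i₀) (f₀ ≫ g₀)).obj l) :=
    compactSpace_pbDiagram_obj D i₀ f₀ g₀
  have htop : (pbCone D (𝟙 i₀) (f₀ ≫ g₀) c qX (f ≫ g) hXY.w).π.app (Over.mk (𝟙 i₀)) ⁻¹ᵁ
      (pullback.fst (f₀ ≫ g₀) (D.map ((Over.mk (𝟙 i₀)).hom ≫ 𝟙 i₀)) ⁻¹ᵁ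
        unramLocus f₀) = ⊤ := by
    change pbLift D (𝟙 i₀) (f₀ ≫ g₀) c qX (f ≫ g) hXY.w (Over.mk (𝟙 i₀)) ⁻¹ᵁ
      (pullback.fst (f₀ ≫ g₀) (D.map ((Over.mk (𝟙 i₀)).hom ≫ 𝟙 i₀)) ⁻¹ᵁ
        unramLocus f₀) = ⊤
    rw [← Scheme.Hom.comp_preimage, pbLift_fst, ← unramLocus_eq_preimage_of_isPullback hX]
    exact (formallyUnramified_iff_unramLocus_eq_top f).mp hf
  obtain ⟨j, a, hj⟩ := exists_map_eq_top (pbDiagram D (𝟙 i₀) (f₀ ≫ g₀))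
    (pbCone D (𝟙 i₀) (f₀ ≫ g₀) c qX (f ≫ g) hXY.w)
    (isLimitPbCone D (𝟙 i₀) (f₀ ≫ g₀) c hc qX (f ≫ g) hXY) _ htop
  have hj' : pbMap D (𝟙 i₀) (f₀ ≫ g₀) a ⁻¹ᵁ
      (pullback.fst (f₀ ≫ g₀) (D.map ((Over.mk (𝟙 i₀)).hom ≫ 𝟙 i₀)) ⁻¹ᵁ
        unramLocus f₀) = ⊤ := hj
  rw [← Scheme.Hom.comp_preimage, pbMap_fst] at hj'
  refine ⟨j, ?_⟩
  rw [formallyUnramified_iff_unramLocus_eq_top,
    unramLocus_eq_preimage_of_isPullback (isPullback_pbRel D (𝟙 i₀) f₀ g₀ j)]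
  exact hj'

include hc in
/-- **Smooth morphisms descend to a finite stage.** -/
theorem exists_smooth_pbRel [CompactSpace X₀] [LocallyOfFinitePresentation f₀]
    {X Y : Scheme.{u}} (f : X ⟶ Y) (g : Y ⟶ c.pt) (qY : Y ⟶ Y₀) (qX : X ⟶ X₀)
    (hY : IsPullback qY g g₀ (c.π.app i₀)) (hX : IsPullback qX f f₀ qY) [Smooth f] :
    ∃ j : Over i₀, Smooth (pbRel D (𝟙 i₀) f₀ g₀ j) := by
  have hXY := hX.paste_vert hY
  have hcX : ∀ l : Over i₀, CompactSpace ↥((pbDiagram D (𝟙 i₀) (f₀ ≫ g₀)).obj l) :=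
    compactSpace_pbDiagram_obj D i₀ f₀ g₀
  have hlfp : ∀ l : Over i₀, LocallyOfFinitePresentation (pbRel D (𝟙 i₀) f₀ g₀ l) := fun l =>
    MorphismProperty.of_isPullback (P := @LocallyOfFinitePresentation)
      (isPullback_pbRel D (𝟙 i₀) f₀ g₀ l) inferInstance
  have hlfpf : LocallyOfFinitePresentation f :=
    MorphismProperty.of_isPullback (P := @LocallyOfFinitePresentation) hX inferInstance
  obtain ⟨k, hk⟩ := exists_flat_pbRel D c hc i₀ f₀ g₀ f g qY qX hY hX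
  have sq := isPullback_pbLift_pbRel D (𝟙 i₀) f₀ g₀ c f g qY qX hY hX k
  have e1 := Groth.Agent.S2155.result (pbRel D (𝟙 i₀) f₀ g₀ k)
    (pbLift D (𝟙 i₀) g₀ c qY g hY.w k) f
    (pbLift D (𝟙 i₀) (f₀ ≫ g₀) c qX (f ≫ g) hXY.w k) sq (Or.inl hk)
  have htop : (pbCone D (𝟙 i₀) (f₀ ≫ g₀) c qX (f ≫ g) hXY.w).π.app k ⁻¹ᵁ
      (pbRel D (𝟙 i₀) f₀ g₀ k).smoothLocus = ⊤ := by
    change pbLift D (𝟙 i₀) (f₀ ≫ g₀) c qX (f ≫ g) hXY.w k ⁻¹ᵁ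
      (pbRel D (𝟙 i₀) f₀ g₀ k).smoothLocus = ⊤
    rw [← e1]
    exact f.smoothLocus_eq_top
  obtain ⟨j, a, hj⟩ := exists_map_eq_top (pbDiagram D (𝟙 i₀) (f₀ ≫ g₀))
    (pbCone D (𝟙 i₀) (f₀ ≫ g₀) c qX (f ≫ g) hXY.w)
    (isLimitPbCone D (𝟙 i₀) (f₀ ≫ g₀) c hc qX (f ≫ g) hXY) _ htop
  have hj' : pbMap D (𝟙 i₀) (f₀ ≫ g₀) a ⁻¹ᵁ (pbRel D (𝟙 i₀) f₀ g₀ k).smoothLocus = ⊤ := hj
  have e2 := Groth.Agent.S2155.result (pbRel D (𝟙 i₀) f₀ g₀ k) (pbMap D (𝟙 i₀) g₀ a)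
    (pbRel D (𝟙 i₀) f₀ g₀ j) (pbMap D (𝟙 i₀) (f₀ ≫ g₀) a)
    (isPullback_pbMap_pbRel D (𝟙 i₀) f₀ g₀ a) (Or.inl hk)
  refine ⟨j, ?_⟩
  rw [← Scheme.Hom.smoothLocus_eq_top_iff, e2]
  exact hj'

include hc in
/-- **Étale morphisms descend to a finite stage.** -/
theorem exists_etale_pbRel [CompactSpace X₀] [LocallyOfFinitePresentation f₀]
    {X Y : Scheme.{u}} (f : X ⟶ Y) (g : Y ⟶ c.pt) (qY : Y ⟶ Y₀) (qX : X ⟶ X₀)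
    (hY : IsPullback qY g g₀ (c.π.app i₀)) (hX : IsPullback qX f f₀ qY) [Etale f] :
    ∃ j : Over i₀, Etale (pbRel D (𝟙 i₀) f₀ g₀ j) := by
  have hlfp : ∀ l : Over i₀, LocallyOfFinitePresentation (pbRel D (𝟙 i₀) f₀ g₀ l) := fun l =>
    MorphismProperty.of_isPullback (P := @LocallyOfFinitePresentation)
      (isPullback_pbRel D (𝟙 i₀) f₀ g₀ l) inferInstance
  obtain ⟨j₁, h₁⟩ := exists_flat_pbRel D c hc i₀ f₀ g₀ f g qY qX hY hX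
  obtain ⟨j₂, h₂⟩ := exists_formallyUnramified_pbRel' D c hc i₀ f₀ g₀ f g qY qX hY hX
  refine ⟨IsCofiltered.min j₁ j₂, ?_⟩
  have s₁ := isPullback_pbMap_pbRel D (𝟙 i₀) f₀ g₀ (IsCofiltered.minToLeft j₁ j₂)
  have s₂ := isPullback_pbMap_pbRel D (𝟙 i₀) f₀ g₀ (IsCofiltered.minToRight j₁ j₂)
  have hfl : Flat (pbRel D (𝟙 i₀) f₀ g₀ (IsCofiltered.min j₁ j₂)) :=
    MorphismProperty.of_isPullback (P := @Flat) s₁ h₁
  have hun : FormallyUnramified (pbRel D (𝟙 i₀) f₀ g₀ (IsCofiltered.min j₁ j₂)) :=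
    MorphismProperty.of_isPullback (P := @FormallyUnramified) s₂ h₂
  have := hlfp (IsCofiltered.min j₁ j₂)
  exact Etale.of_formallyUnramified_of_flat _

end descend

end Groth.Agent.H24
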