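import Mathlib
import Groth.Prelude.Def_W4ega4s0809p4Pair
import Groth.Agent.H24.FGSubLimit
import Groth.Agent.H24.LimFlat2

/-!
# Ind-constructibility of "geometrically there is a morphism with property `Q`"
-/

set_option autoImplicit false
universe u
open CategoryTheory CategoryTheory.Limits AlgebraicGeometry Opposite Topology

namespace Groth.Agent.H24

/-- the relation "after a field extension there is a morphism `X' ⟶ Y'` with property `Q`" -/
def GeomHom (Q : MorphismProperty Scheme.{u}) :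
    ∀ ⦃X Y T : Scheme.{u}⦄, (X ⟶ T) → (Y ⟶ T) → Prop :=
  fun X Y T gX gY => ∃ (T' X' Y' : Scheme.{u}) (h : T' ⟶ T) (gX' : X' ⟶ T') (gY' : Y' ⟶ T')
    (eX : X' ⟶ X) (eY : Y' ⟶ Y), IsIntegral T' ∧ Subsingleton ↥T' ∧
      IsPullback eX gX' gX h ∧ IsPullback eY gY' gY h ∧
        ∃ g : X' ⟶ Y', g ≫ gY' = gX' ∧ Q g

section L0

variable {X Y T T' : Scheme.{u}} (g : X ⟶ Y) (gY : Y ⟶ T) (k : T' ⟶ T)

/-- base change of a `T`-morphism `g` along `k : T' ⟶ T` -/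
noncomputable def bcHom : pullback (g ≫ gY) k ⟶ pullback gY k :=
  pullback.lift (pullback.fst (g ≫ gY) k ≫ g) (pullback.snd (g ≫ gY) k)
    (by rw [Category.assoc, pullback.condition])

theorem bcHom_fst : bcHom g gY k ≫ pullback.fst gY k = pullback.fst (g ≫ gY) k ≫ g :=
  pullback.lift_fst _ _ _

theorem bcHom_snd : bcHom g gY k ≫ pullback.snd gY k = pullback.snd (g ≫ gY) k :=
  pullback.lift_snd _ _ _

theorem isPullback_bcHom :
    IsPullback (pullback.fst (g ≫ gY) k) (bcHom g gY k) g (pullback.fst gY k) := by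
  have big : IsPullback (pullback.fst (g ≫ gY) k) (bcHom g gY k ≫ pullback.snd gY k) (g ≫ gY) k := by
    rw [bcHom_snd]
    exact IsPullback.of_hasPullback _ _
  exact IsPullback.of_bot big (bcHom_fst g gY k).symm (IsPullback.of_hasPullback gY k)

theorem bcHom_prop (Q : MorphismProperty Scheme.{u}) [Q.IsStableUnderBaseChange] (h : Q g) :
    Q (bcHom g gY k) :=
  MorphismProperty.of_isPullback (P := Q) (isPullback_bcHom g gY k) h

end L0

section L1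

variable (Q : MorphismProperty Scheme.{u}) [Q.IsStableUnderBaseChange]

theorem isFieldStablePair_PP : ConsPropPair.IsFieldStablePair (GeomHom Q) := by
  intro X X' Y Y' T T' gX gY gX' gY' eX eY h _ _ _ _ _ _ _ _ hX hY
  constructor
  · rintro ⟨T₁, X₁, Y₁, h₁, gX₁, gY₁, eX₁, eY₁, hT₁i, hT₁s, hX₁, hY₁, g₁, hg₁, hP⟩
    subst hg₁
    -- a point of `T₁ ×_T T'`
    obtain ⟨t₁⟩ : Nonempty T₁ := inferInstance
    obtain ⟨t'⟩ : Nonempty T' := inferInstance
    obtain ⟨z, -, -⟩ := Scheme.Pullback.exists_preimage_pullback (f := h₁) (g := h) t₁ t'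
      (Subsingleton.elim _ _)
    obtain ⟨T'', hT''i, hT''s, a, b, hab⟩ : ∃ (T'' : Scheme.{u}) (_ : IsIntegral T'')
        (_ : Subsingleton T'') (a : T'' ⟶ T₁) (b : T'' ⟶ T'), a ≫ h₁ = b ≫ h :=
      ⟨Spec ((pullback h₁ h).residueField z), inferInstance, inferInstance,
        (pullback h₁ h).fromSpecResidueField z ≫ pullback.fst h₁ h,
        (pullback h₁ h).fromSpecResidueField z ≫ pullback.snd h₁ h, by
          simp only [Category.assoc, pullback.condition]⟩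
    -- the new squares
    have hXa : IsPullback (pullback.fst (g₁ ≫ gY₁) a ≫ eX₁) (pullback.snd (g₁ ≫ gY₁) a) gX (a ≫ h₁) :=
      (IsPullback.of_hasPullback (g₁ ≫ gY₁) a).paste_horiz hX₁
    have hYa : IsPullback (pullback.fst gY₁ a ≫ eY₁) (pullback.snd gY₁ a) gY (a ≫ h₁) :=
      (IsPullback.of_hasPullback gY₁ a).paste_horiz hY₁
    have wX : (pullback.fst (g₁ ≫ gY₁) a ≫ eX₁) ≫ gX = (pullback.snd (g₁ ≫ gY₁) a ≫ b) ≫ h := by
      rw [hXa.w, Category.assoc, hab]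
    have wY : (pullback.fst gY₁ a ≫ eY₁) ≫ gY = (pullback.snd gY₁ a ≫ b) ≫ h := by
      rw [hYa.w, Category.assoc, hab]
    have hX'' : IsPullback (hX.lift _ _ wX) (pullback.snd (g₁ ≫ gY₁) a) gX' b := by
      refine IsPullback.of_right ?_ (hX.lift_snd _ _ wX) hX
      rw [hX.lift_fst, ← hab]
      exact hXa
    have hY'' : IsPullback (hY.lift _ _ wY) (pullback.snd gY₁ a) gY' b := by
      refine IsPullback.of_right ?_ (hY.lift_snd _ _ wY) hY
      rw [hY.lift_fst, ← hab]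
      exact hYa
    exact ⟨_, _, _, b, _, _, _, _, hT''i, hT''s, hX'', hY'',
      bcHom g₁ gY₁ a, bcHom_snd g₁ gY₁ a, bcHom_prop g₁ gY₁ a Q hP⟩
  · rintro ⟨T₁, X₁, Y₁, h₁, gX₁, gY₁, eX₁, eY₁, hT₁i, hT₁s, hX₁, hY₁, g₁, hg₁, hP⟩
    exact ⟨T₁, X₁, Y₁, h₁ ≫ h, gX₁, gY₁, eX₁ ≫ eX, eY₁ ≫ eY, hT₁i, hT₁s,
      hX₁.paste_horiz hX, hY₁.paste_horiz hY, g₁, hg₁, hP⟩

end L1

section L2

variable (Q : MorphismProperty Scheme.{u}) [Q.IsStableUnderBaseChange]

/-- If over `w : W ⟶ S` the base changes of `X` and `Y` admit a `W`-morphism with `Q`, then the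
whole image of `w` lies in the locus. -/
theorem range_subset_locusPair {X Y S W XW YW : Scheme.{u}} (u : X ⟶ S) (v : Y ⟶ S) (w : W ⟶ S)
    (pX : XW ⟶ W) (pY : YW ⟶ W) (eX : XW ⟶ X) (eY : YW ⟶ Y)
    (hX : IsPullback eX pX u w) (hY : IsPullback eY pY v w) (gW : XW ⟶ YW) (hg : gW ≫ pY = pX)
    (hP : Q gW) : Set.range w ⊆ ConsPropPair.locusPair (GeomHom Q) u v := by
  rintro _ ⟨z, rfl⟩
  subst hg
  show GeomHom Q (u.fiberToSpecResidueField (w z)) (v.fiberToSpecResidueField (w z))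
  exact ⟨Spec (W.residueField z), _, _, Spec.map (w.residueFieldMap z), _, _, _, _,
    inferInstance, inferInstance,
    isPullback_fiberToSpecResidueField_of_isPullback hX z,
    isPullback_fiberToSpecResidueField_of_isPullback hY z,
    bcHom gW pY (W.fromSpecResidueField z), bcHom_snd gW pY _, bcHom_prop gW pY _ Q hP⟩

end L2

section L3

theorem exists_isOpen_subset_of_isConstructible {S : Type*} [TopologicalSpace S] {η : S}
    (hη : IsGenericPoint η (⊤ : Set S)) (E : Set S) (hE : IsConstructible E) (h : η ∈ E) :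
    ∃ V : Set S, IsOpen V ∧ η ∈ V ∧ V ⊆ E := by
  revert h
  induction E, hE using BooleanSubalgebra.closure_sdiff_sup_induction with
  | isSublattice =>
    exact ⟨fun s hs t ht ↦ ⟨hs.1.union ht.1, hs.2.union ht.2⟩,
      fun s hs t ht ↦ ⟨hs.1.inter ht.1, hs.2.inter_isOpen ht.2 ht.1⟩⟩
  | bot_mem => exact ⟨isOpen_empty, .empty⟩
  | top_mem => exact ⟨isOpen_univ, .univ⟩
  | sdiff U hU V hV =>
    intro h
    have hV' : V = ∅ := by
      by_contra hne
      obtain ⟨y, hy⟩ := Set.nonempty_iff_ne_empty.mpr hne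
      have : η ∈ V := (hη.mem_open_set_iff hV.1).mpr ⟨y, trivial, hy⟩
      exact h.2 this
    exact ⟨U, hU.1, h.1, by rw [hV']; intro x hx; exact ⟨hx, fun h => h⟩⟩
  | sup s _ t _ ihs iht =>
    intro h
    rcases h with h | h
    · obtain ⟨V, hV, hηV, hVs⟩ := ihs h
      exact ⟨V, hV, hηV, hVs.trans Set.subset_union_left⟩
    · obtain ⟨V, hV, hηV, hVs⟩ := iht h
      exact ⟨V, hV, hηV, hVs.trans Set.subset_union_right⟩

end L3


/-- `Q` descends along cofiltered limits with affine transition maps (the statement shape of the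
`EGA43` rows 8.10.5). -/
def Descends (Q : MorphismProperty Scheme.{u}) : Prop :=
  ∀ {I : Type u} [SmallCategory I] [IsCofiltered I]
    (D : I ⥤ Scheme.{u}) (c : Limits.Cone D) (_ : Limits.IsLimit c)
    [∀ (i j : I) (f : i ⟶ j), IsAffineHom (D.map f)] (i₀ : I) [CompactSpace (D.obj i₀)]
    [QuasiSeparatedSpace (D.obj i₀)] {X₀ Y₀ : Scheme.{u}} (f₀ : X₀ ⟶ Y₀) (g₀ : Y₀ ⟶ D.obj i₀)
    [LocallyOfFinitePresentation g₀] [QuasiCompact g₀] [QuasiSeparated g₀]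
    [LocallyOfFinitePresentation (f₀ ≫ g₀)] [QuasiCompact (f₀ ≫ g₀)] [QuasiSeparated (f₀ ≫ g₀)]
    {X Y : Scheme.{u}} (f : X ⟶ Y) (g : Y ⟶ c.pt) (qY : Y ⟶ Y₀) (qX : X ⟶ X₀)
    (_ : IsPullback qY g g₀ (c.π.app i₀)) (_ : IsPullback qX f f₀ qY), Q f →
    ∃ (i : I) (φ : i ⟶ i₀) (Xi Yi : Scheme.{u}) (fi : Xi ⟶ Yi) (gi : Yi ⟶ D.obj i) (pY : Yi ⟶ Y₀)
      (pX : Xi ⟶ X₀), IsPullback pY gi g₀ (D.map φ) ∧ IsPullback pX fi f₀ pY ∧ Q fi

section LA

variable {I : Type u} [SmallCategory I] [IsCofiltered I]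
    (D : I ⥤ Scheme.{u}) (c : Limits.Cone D) (hc : Limits.IsLimit c)
    [∀ (i j : I) (f : i ⟶ j), IsAffineHom (D.map f)]

omit [IsCofiltered I] in
theorem quasiSeparatedSpace_pbDiagram_obj (i₀ : I) {X₀ : Scheme.{u}} (h₀ : X₀ ⟶ D.obj i₀)
    [QuasiSeparatedSpace X₀] (l : Over i₀) :
    QuasiSeparatedSpace ↥((pbDiagram D (𝟙 i₀) h₀).obj l) := by
  have : IsAffineHom (pullback.fst h₀ (D.map (l.hom ≫ 𝟙 i₀))) :=
    MorphismProperty.pullback_fst (P := @IsAffineHom) _ _ inferInstance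
  have h : QuasiSeparatedSpace ↥(pullback h₀ (D.map (l.hom ≫ 𝟙 i₀))) :=
    quasiSeparatedSpace_of_quasiSeparated (pullback.fst h₀ (D.map (l.hom ≫ 𝟙 i₀)))
  exact h

omit [IsCofiltered I] in
theorem compactSpace_pbDiagram_obj' (i₀ : I) {X₀ : Scheme.{u}} (h₀ : X₀ ⟶ D.obj i₀)
    [CompactSpace X₀] (l : Over i₀) :
    CompactSpace ↥((pbDiagram D (𝟙 i₀) h₀).obj l) := by
  have : IsAffineHom (pullback.fst h₀ (D.map (l.hom ≫ 𝟙 i₀))) :=
    MorphismProperty.pullback_fst (P := @IsAffineHom) _ _ inferInstance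
  have h : CompactSpace ↥(pullback h₀ (D.map (l.hom ≫ 𝟙 i₀))) :=
    QuasiCompact.compactSpace_of_compactSpace (pullback.fst h₀ (D.map (l.hom ≫ 𝟙 i₀)))
  exact h

include hc in
/-- A morphism over the limit between base changes of finitely presented schemes over a stage,
having a property `Q` that descends, comes from a morphism with `Q` over some stage. -/
theorem exists_stage_hom (Q : MorphismProperty Scheme.{u}) (hdesc : Descends Q)
    (i₀ : I) [CompactSpace (D.obj i₀)] [QuasiSeparatedSpace (D.obj i₀)]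
    {X₀ Y₀ : Scheme.{u}} (h₀ : X₀ ⟶ D.obj i₀) (g₀ : Y₀ ⟶ D.obj i₀)
    [LocallyOfFinitePresentation g₀] [QuasiCompact g₀] [QuasiSeparated g₀]
    [LocallyOfFinitePresentation h₀] [QuasiCompact h₀] [QuasiSeparated h₀]
    {X' Y' : Scheme.{u}} (gX' : X' ⟶ c.pt) (gY' : Y' ⟶ c.pt) (qX : X' ⟶ X₀) (qY : Y' ⟶ Y₀)
    (hX : IsPullback qX gX' h₀ (c.π.app i₀)) (hY : IsPullback qY gY' g₀ (c.π.app i₀))
    (g : X' ⟶ Y') (hg : g ≫ gY' = gX') (hQ : Q g) :
    ∃ (i : I) (ψ : i ⟶ i₀) (Xi Yi : Scheme.{u}) (fi : Xi ⟶ Yi) (pX : Xi ⟶ D.obj i)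
      (pY : Yi ⟶ D.obj i) (eX : Xi ⟶ X₀) (eY : Yi ⟶ Y₀),
      IsPullback eX pX h₀ (D.map ψ) ∧ IsPullback eY pY g₀ (D.map ψ) ∧ fi ≫ pY = pX ∧ Q fi := by
  have hAff : ∀ {i j : I} (f : i ⟶ j), IsAffineHom (D.map f) := fun f => inferInstance
  subst hg
  have hcX₀ : CompactSpace X₀ := QuasiCompact.compactSpace_of_compactSpace h₀
  have hqX₀ : QuasiSeparatedSpace X₀ := quasiSeparatedSpace_of_quasiSeparated h₀
  have hcX : ∀ l : Over i₀, CompactSpace ↥((pbDiagram D (𝟙 i₀) h₀).obj l) :=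
    compactSpace_pbDiagram_obj' D i₀ h₀
  have hqX : ∀ l : Over i₀, QuasiSeparatedSpace ↥((pbDiagram D (𝟙 i₀) h₀).obj l) :=
    quasiSeparatedSpace_pbDiagram_obj D i₀ h₀
  -- descend the morphism `g ≫ qY : X' ⟶ Y₀`
  let t : pbDiagram D (𝟙 i₀) h₀ ⟶ (Functor.const (Over i₀)).obj (D.obj i₀) :=
    { app := fun j => pullback.fst h₀ (D.map (j.hom ≫ 𝟙 i₀)) ≫ h₀
      naturality := fun j k a => by
        show pbMap D (𝟙 i₀) h₀ a ≫ pullback.fst h₀ (D.map (k.hom ≫ 𝟙 i₀)) ≫ h₀ = _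
        rw [← Category.assoc, pbMap_fst]
        exact (Category.comp_id _).symm }
  obtain ⟨j, (gl : pullback h₀ (D.map (j.hom ≫ 𝟙 i₀)) ⟶ Y₀), hgl1, hgl2⟩ :=
    Scheme.exists_π_app_comp_eq_of_locallyOfFinitePresentation
    (pbDiagram D (𝟙 i₀) h₀) t g₀ (pbCone D (𝟙 i₀) h₀ c qX (g ≫ gY') hX.w)
    (isLimitPbCone D (𝟙 i₀) h₀ c hc qX (g ≫ gY') hX) (g ≫ qY) (by
      ext j
      show pbLift D (𝟙 i₀) h₀ c qX (g ≫ gY') hX.w j ≫ pullback.fst h₀ (D.map (j.hom ≫ 𝟙 i₀)) ≫ h₀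
        = (g ≫ qY) ≫ g₀
      rw [← Category.assoc, pbLift_fst, hX.w, Category.assoc, Category.assoc, hY.w])
  have hgl1' : pbLift D (𝟙 i₀) h₀ c qX (g ≫ gY') hX.w j ≫ gl = g ≫ qY := hgl1
  have hgl2' : gl ≫ g₀ = pullback.fst h₀ (D.map (j.hom ≫ 𝟙 i₀)) ≫ h₀ := hgl2
  -- the morphism at stage `j`
  obtain ⟨f₁, hf₁fst, hf₁snd⟩ : ∃ f₁ : pullback h₀ (D.map (j.hom ≫ 𝟙 i₀)) ⟶
      pullback g₀ (D.map (j.hom ≫ 𝟙 i₀)),
      f₁ ≫ pullback.fst g₀ (D.map (j.hom ≫ 𝟙 i₀)) = gl ∧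
        f₁ ≫ pullback.snd g₀ (D.map (j.hom ≫ 𝟙 i₀)) = pullback.snd h₀ (D.map (j.hom ≫ 𝟙 i₀)) :=
    ⟨pullback.lift gl (pullback.snd h₀ _) (by rw [hgl2', pullback.condition]),
      pullback.lift_fst _ _ _, pullback.lift_snd _ _ _⟩
  have hcj : CompactSpace (D.obj j.left) := QuasiCompact.compactSpace_of_compactSpace (D.map j.hom)
  have hqj : QuasiSeparatedSpace (D.obj j.left) := quasiSeparatedSpace_of_quasiSeparated (D.map j.hom)
  have i1 : LocallyOfFinitePresentation (f₁ ≫ pullback.snd g₀ (D.map (j.hom ≫ 𝟙 i₀))) := by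
    rw [hf₁snd]; infer_instance
  have i2 : QuasiCompact (f₁ ≫ pullback.snd g₀ (D.map (j.hom ≫ 𝟙 i₀))) := by
    rw [hf₁snd]; infer_instance
  have i3 : QuasiSeparated (f₁ ≫ pullback.snd g₀ (D.map (j.hom ≫ 𝟙 i₀))) := by
    rw [hf₁snd]; infer_instance
  have hY' := isPullback_pbLift D (𝟙 i₀) g₀ c qY gY' hY j
  have hX' : IsPullback (pbLift D (𝟙 i₀) h₀ c qX (g ≫ gY') hX.w j) g f₁
      (pbLift D (𝟙 i₀) g₀ c qY gY' hY.w j) := by
    have big : IsPullback (pbLift D (𝟙 i₀) h₀ c qX (g ≫ gY') hX.w j) (g ≫ gY')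
        (f₁ ≫ pullback.snd g₀ (D.map (j.hom ≫ 𝟙 i₀))) (c.π.app j.left) := by
      rw [hf₁snd]
      exact isPullback_pbLift D (𝟙 i₀) h₀ c qX (g ≫ gY') hX j
    refine IsPullback.of_bot big ?_ hY'
    apply pullback.hom_ext
    · rw [Category.assoc, hf₁fst, hgl1', Category.assoc, pbLift_fst]
    · rw [Category.assoc, hf₁snd, pbLift_snd]
      simp only [Category.assoc, pbLift_snd]
  obtain ⟨i, φ, Xi, Yi, fi, gi, pY, pX, hYi, hXi, hQi⟩ :=
    hdesc D c hc j.left f₁ (pullback.snd g₀ (D.map (j.hom ≫ 𝟙 i₀))) g gY' _ _ hY' hX' hQ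
  have e : D.map φ ≫ D.map (j.hom ≫ 𝟙 i₀) = D.map (φ ≫ j.hom) := by
    rw [Category.comp_id, D.map_comp]
  have sqX : IsPullback pX (fi ≫ gi) (pullback.snd h₀ (D.map (j.hom ≫ 𝟙 i₀))) (D.map φ) := by
    have := hXi.paste_vert hYi
    rwa [hf₁snd] at this
  refine ⟨i, φ ≫ j.hom, Xi, Yi, fi, fi ≫ gi, gi, pX ≫ pullback.fst h₀ _, pY ≫ pullback.fst g₀ _,
    ?_, ?_, rfl, hQi⟩
  · exact e ▸ (sqX.paste_horiz (IsPullback.of_hasPullback h₀ (D.map (j.hom ≫ 𝟙 i₀))))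
  · exact e ▸ (hYi.paste_horiz (IsPullback.of_hasPullback g₀ (D.map (j.hom ≫ 𝟙 i₀))))

include hc in
/-- The locus contains the image of some stage. -/
theorem exists_range_subset_locusPair (Q : MorphismProperty Scheme.{u})
    [Q.IsStableUnderBaseChange] (hdesc : Descends Q)
    [∀ i, CompactSpace (D.obj i)] [∀ i, QuasiSeparatedSpace (D.obj i)]
    {X Y S : Scheme.{u}} (u : X ⟶ S) (v : Y ⟶ S)
    [LocallyOfFinitePresentation u] [QuasiCompact u] [QuasiSeparated u]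
    [LocallyOfFinitePresentation v] [QuasiCompact v] [QuasiSeparated v]
    (β : D ⟶ (Functor.const I).obj S)
    {X' Y' : Scheme.{u}} (gX' : X' ⟶ c.pt) (gY' : Y' ⟶ c.pt) (eX : X' ⟶ X) (eY : Y' ⟶ Y)
    (t : c.pt ⟶ S) (ht : ∀ i, c.π.app i ≫ β.app i = t)
    (hX : IsPullback eX gX' u t) (hY : IsPullback eY gY' v t)
    (g : X' ⟶ Y') (hg : g ≫ gY' = gX') (hQ : Q g) :
    ∃ i : I, Set.range (β.app i) ⊆ ConsPropPair.locusPair (GeomHom Q) u v := by
  obtain ⟨i₀⟩ : Nonempty I := IsCofiltered.nonempty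
  have wX : eX ≫ u = (gX' ≫ c.π.app i₀) ≫ β.app i₀ := by rw [hX.w, Category.assoc, ht]
  have wY : eY ≫ v = (gY' ≫ c.π.app i₀) ≫ β.app i₀ := by rw [hY.w, Category.assoc, ht]
  have hX₀ : IsPullback (pullback.lift eX (gX' ≫ c.π.app i₀) wX) gX'
      (pullback.snd u (β.app i₀)) (c.π.app i₀) := by
    refine IsPullback.of_right ?_ (pullback.lift_snd _ _ _) (IsPullback.of_hasPullback u (β.app i₀))
    rw [pullback.lift_fst, ht]
    exact hX
  have hY₀ : IsPullback (pullback.lift eY (gY' ≫ c.π.app i₀) wY) gY'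
      (pullback.snd v (β.app i₀)) (c.π.app i₀) := by
    refine IsPullback.of_right ?_ (pullback.lift_snd _ _ _) (IsPullback.of_hasPullback v (β.app i₀))
    rw [pullback.lift_fst, ht]
    exact hY
  obtain ⟨i, ψ, Xi, Yi, fi, pX, pY, eXi, eYi, sX, sY, hfi, hQi⟩ :=
    exists_stage_hom D c hc Q hdesc i₀ (pullback.snd u (β.app i₀)) (pullback.snd v (β.app i₀))
      gX' gY' _ _ hX₀ hY₀ g hg hQ
  have nat : D.map ψ ≫ β.app i₀ = β.app i := by
    have := β.naturality ψ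
    simpa using this
  have sX' : IsPullback (eXi ≫ pullback.fst u (β.app i₀)) pX u (β.app i) :=
    nat ▸ sX.paste_horiz (IsPullback.of_hasPullback u (β.app i₀))
  have sY' : IsPullback (eYi ≫ pullback.fst v (β.app i₀)) pY v (β.app i) :=
    nat ▸ sY.paste_horiz (IsPullback.of_hasPullback v (β.app i₀))
  exact ⟨i, range_subset_locusPair Q u v (β.app i) pX pY _ _ sX' sY' fi hfi hQi⟩

end LA

section Main

/-- **Generic ind-constructibility**: if `Q` is stable under base change and descends along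
cofiltered limits, then "geometrically there is a morphism with `Q`" is an ind-constructible
property of pairs. -/
theorem isIndConsPair (Q : MorphismProperty Scheme.{u}) [Q.IsStableUnderBaseChange]
    (hdesc : Descends Q) : ConsPropPair.IsIndConsPair (GeomHom Q) := by
  refine ⟨isFieldStablePair_PP Q, ?_⟩
  intro X Y S u v _ _ _ _ _ _ hη
  obtain ⟨T', X', Y', h, gX', gY', eX, eY, hT'i, hT's, hX, hY, g, hg, hQ⟩ := hη
  -- squares over `S`
  have hXS : IsPullback (eX ≫ u.fiberι (genericPoint S)) gX' u (h ≫ S.fromSpecResidueField (genericPoint S)) :=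
    hX.paste_horiz (IsPullback.of_hasPullback u (S.fromSpecResidueField (genericPoint S)))
  have hYS : IsPullback (eY ≫ v.fiberι (genericPoint S)) gY' v (h ≫ S.fromSpecResidueField (genericPoint S)) :=
    hY.paste_horiz (IsPullback.of_hasPullback v (S.fromSpecResidueField (genericPoint S)))
  obtain ⟨t, htdef⟩ : ∃ t : T' ⟶ S, t = h ≫ S.fromSpecResidueField (genericPoint S) := ⟨_, rfl⟩
  rw [← htdef] at hXS hYS
  have htη : ∀ z : T', t z = (genericPoint S) := by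
    intro z
    rw [htdef, Scheme.Hom.comp_apply, Scheme.fromSpecResidueField_apply]
  -- an affine open neighbourhood of `(genericPoint S)`
  obtain ⟨_, ⟨U₀, hU₀, rfl⟩, hηU, -⟩ :=
    S.isBasis_affineOpens.exists_subset_of_mem_open (Set.mem_univ (genericPoint S)) isOpen_univ
  have hA : IsNoetherianRing Γ(S, U₀) := IsLocallyNoetherian.component_noetherian ⟨U₀, hU₀⟩
  have hrange : Set.range t ⊆ Set.range hU₀.fromSpec := by
    rintro _ ⟨z, rfl⟩
    rw [htη, hU₀.range_fromSpec]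
    exact hηU
  obtain ⟨t', ht'⟩ : ∃ t' : T' ⟶ Spec Γ(S, U₀), t' ≫ hU₀.fromSpec = t :=
    ⟨IsOpenImmersion.lift hU₀.fromSpec t hrange, IsOpenImmersion.lift_fac _ _ _⟩
  -- `T'` is affine
  have hT'a : IsAffine T' := inferInstance
  obtain ⟨φ, hφ⟩ : ∃ φ : Γ(S, U₀) ⟶ Γ(T', ⊤), Spec.map φ = T'.isoSpec.inv ≫ t' :=
    ⟨Spec.preimage (T'.isoSpec.inv ≫ t'), Spec.map_preimage _⟩
  letI : Algebra Γ(S, U₀) Γ(T', ⊤) := φ.hom.toAlgebra
  have hφ' : CommRingCat.ofHom (algebraMap Γ(S, U₀) Γ(T', ⊤)) = φ := rfl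
  -- the limit system
  let c₀ := fgSpecCone Γ(S, U₀) Γ(T', ⊤)
  let c : Cone (fgSpecDiagram Γ(S, U₀) Γ(T', ⊤)) := c₀.extend T'.isoSpec.hom
  have hc : IsLimit c :=
    IsLimit.ofIsoLimit (fgSpecConeIsLimit Γ(S, U₀) Γ(T', ⊤)) (c₀.extendIso T'.isoSpec.symm)
  let β : fgSpecDiagram Γ(S, U₀) Γ(T', ⊤) ⟶ (Functor.const _).obj S :=
    fgSpecDiagramβ Γ(S, U₀) Γ(T', ⊤) ≫ (Functor.const _).map hU₀.fromSpec
  have ht : ∀ i, c.π.app i ≫ β.app i = t := by
    intro i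
    obtain ⟨π₀, hπ₀⟩ : ∃ π₀ : Spec Γ(T', ⊤) ⟶ (fgSpecDiagram Γ(S, U₀) Γ(T', ⊤)).obj i,
      π₀ = c₀.π.app i := ⟨_, rfl⟩
    obtain ⟨b₀, hb₀⟩ : ∃ b₀ : (fgSpecDiagram Γ(S, U₀) Γ(T', ⊤)).obj i ⟶ Spec Γ(S, U₀),
      b₀ = (fgSpecDiagramβ _ _).app i := ⟨_, rfl⟩
    have key : π₀ ≫ b₀ = T'.isoSpec.inv ≫ t' := by
      rw [hπ₀, hb₀, ← hφ, ← hφ']; exact fgSpecCone_π_β _ _ i
    have e1 : c.π.app i ≫ β.app i = (T'.isoSpec.hom ≫ π₀) ≫ b₀ ≫ hU₀.fromSpec := by
      rw [hπ₀, hb₀]; rfl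
    rw [e1, Category.assoc, ← Category.assoc π₀, key, Category.assoc, Iso.hom_inv_id_assoc, ht']
  have hXloc : IsLocallyNoetherian X := LocallyOfFiniteType.isLocallyNoetherian u
  have hYloc : IsLocallyNoetherian Y := LocallyOfFiniteType.isLocallyNoetherian v
  have hulfp : LocallyOfFinitePresentation u :=
    LocallyOfFinitePresentation.iff_locallyOfFiniteType.mpr inferInstance
  have hvlfp : LocallyOfFinitePresentation v :=
    LocallyOfFinitePresentation.iff_locallyOfFiniteType.mpr inferInstance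
  have hAffD : ∀ (i j : (FGSub Γ(S, U₀) Γ(T', ⊤))ᵒᵖ) (f : i ⟶ j),
      IsAffineHom ((fgSpecDiagram Γ(S, U₀) Γ(T', ⊤)).map f) := fun _ _ f => inferInstance
  have hcD : ∀ i, CompactSpace ((fgSpecDiagram Γ(S, U₀) Γ(T', ⊤)).obj i) := fun i => inferInstance
  have hqD : ∀ i, QuasiSeparatedSpace ((fgSpecDiagram Γ(S, U₀) Γ(T', ⊤)).obj i) :=
    fun i => inferInstance
  obtain ⟨i, hi⟩ := exists_range_subset_locusPair (fgSpecDiagram Γ(S, U₀) Γ(T', ⊤)) c hc Q hdesc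
    u v β gX' gY' _ _ t ht hXS hYS g hg hQ
  -- the image of stage `i` is constructible and contains the generic point
  obtain ⟨w, hw⟩ : ∃ w : (fgSpecDiagram Γ(S, U₀) Γ(T', ⊤)).obj i ⟶ S, w = β.app i := ⟨_, rfl⟩
  rw [← hw] at hi
  have hwlfp : LocallyOfFinitePresentation w := by
    have := locallyOfFinitePresentation_fgSpecDiagramβ Γ(S, U₀) Γ(T', ⊤) i
    rw [hw]
    show LocallyOfFinitePresentation ((fgSpecDiagramβ _ _).app i ≫ hU₀.fromSpec)
    infer_instance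
  have hwqc : QuasiCompact w := inferInstance
  have hcons : IsConstructible (Set.range w) := by
    have := Scheme.Hom.isConstructible_image w (s := Set.univ) IsConstructible.univ
    rwa [Set.image_univ] at this
  obtain ⟨z⟩ : Nonempty T' := inferInstance
  have hηmem : genericPoint S ∈ Set.range w :=
    ⟨c.π.app i z, by rw [hw, ← Scheme.Hom.comp_apply, ht, htη]⟩
  obtain ⟨V, hVo, hηV, hV⟩ := exists_isOpen_subset_of_isConstructible (genericPoint_spec S) _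
    hcons hηmem
  exact ⟨genericPoint S, interior_maximal (hV.trans hi) hVo hηV⟩

end Main

end Groth.Agent.H24
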