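import Mathlib
import Groth.Agent.H24.LimFlat2
import Groth.Agent.H24.LimIso

/-!
# "P on a neighbourhood of x" holds in the limit iff it holds at some finite stage (helper24)
-/

set_option autoImplicit false

open CategoryTheory AlgebraicGeometry Limits TopologicalSpace Topology

universe u

namespace Groth.Agent.H24

/-- Two base changes of the same morphism `F`, where the first base factors through the second: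
`P` passes from the second to the first. -/
theorem of_isPullback_of_fac {C : Type*} [Category C] (P : MorphismProperty C)
    [P.IsStableUnderBaseChange]
    {X Y X1 Y1 X2 Y2 : C} {F : X ⟶ Y} {a1 : X1 ⟶ X} {p1 : X1 ⟶ Y1} {b1 : Y1 ⟶ Y}
    {a2 : X2 ⟶ X} {p2 : X2 ⟶ Y2} {b2 : Y2 ⟶ Y}
    (h1 : IsPullback a1 p1 F b1) (h2 : IsPullback a2 p2 F b2) (e : Y1 ⟶ Y2) (he : e ≫ b2 = b1)
    (hp : P p2) : P p1 := by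
  have w : a1 ≫ F = (p1 ≫ e) ≫ b2 := by rw [Category.assoc, he, h1.w]
  have big : IsPullback (h2.lift a1 (p1 ≫ e) w ≫ a2) p1 F (e ≫ b2) := by
    rw [h2.lift_fst, he]
    exact h1
  exact P.of_isPullback (IsPullback.of_right big (h2.lift_snd _ _ _) h2) hp

/-- restriction of a base-change square to an open subset of the source -/
theorem isPullback_restrict {X Y X' Y' : Scheme.{u}} {r : X ⟶ X'} {f : X ⟶ Y} {f' : X' ⟶ Y'}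
    {s : Y ⟶ Y'} (h : IsPullback r f f' s) (V : X'.Opens) :
    IsPullback (r ∣_ V) ((r ⁻¹ᵁ V).ι ≫ f) (V.ι ≫ f') s :=
  (isPullback_morphismRestrict r V).paste_vert h

section

variable (P : MorphismProperty Scheme.{u}) [P.IsStableUnderBaseChange]
  {I : Type u} [SmallCategory I] [IsCofiltered I]
  (D : I ⥤ Scheme.{u}) (c : Limits.Cone D)
  [∀ {i j : I} (f : i ⟶ j), IsAffineHom (D.map f)]

/-- from a stage to the limit -/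
theorem nhd_of_stage (i₀ : I) {X₀ Y₀ : Scheme.{u}} (f₀ : X₀ ⟶ Y₀) (g₀ : Y₀ ⟶ D.obj i₀)
    {X Y : Scheme.{u}} (f : X ⟶ Y) (g : Y ⟶ c.pt) (qY : Y ⟶ Y₀) (qX : X ⟶ X₀)
    (hY : IsPullback qY g g₀ (c.π.app i₀)) (hX : IsPullback qX f f₀ qY) (x : ↥X)
    {j : I} (φ : j ⟶ i₀) {Xj Yj : Scheme.{u}} (fj : Xj ⟶ Yj) (gj : Yj ⟶ D.obj j) (pY : Yj ⟶ Y₀)
    (pX : Xj ⟶ X₀) (rX : X ⟶ Xj) (hYj : IsPullback pY gj g₀ (D.map φ))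
    (hXj : IsPullback pX fj f₀ pY)
    (e1 : rX ≫ pX = qX) (e2 : rX ≫ fj ≫ gj = f ≫ g ≫ c.π.app j) (V : Xj.Opens) (hxV : rX x ∈ V)
    (hP : P (V.ι ≫ fj)) : ∃ U : X.Opens, x ∈ U ∧ P (U.ι ≫ f) := by
  obtain ⟨rX', rY, sq, h1, h2, h3⟩ :=
    exists_isPullback_of_stage D c i₀ f₀ g₀ f g qY qX hY hX φ fj gj pY pX hYj hXj
  have hr : rX' = rX := by
    apply (hXj.paste_vert hYj).hom_ext
    · rw [h1, e1]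
    · calc rX' ≫ fj ≫ gj = (rX' ≫ fj) ≫ gj := (Category.assoc _ _ _).symm
        _ = (f ≫ rY) ≫ gj := by rw [sq.w]
        _ = f ≫ g ≫ c.π.app j := by rw [Category.assoc, h3]
        _ = rX ≫ fj ≫ gj := e2.symm
  subst hr
  exact ⟨rX' ⁻¹ᵁ V, hxV, P.of_isPullback (isPullback_restrict sq V) hP⟩

/-- re-basing at a later stage -/
theorem P_restrict_pbRel_of_rebase (i₀ : I) {X₀ Y₀ : Scheme.{u}} (f₀ : X₀ ⟶ Y₀)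
    (g₀ : Y₀ ⟶ D.obj i₀) (l : Over i₀)
    (V : (pullback (f₀ ≫ g₀) (D.map (l.hom ≫ 𝟙 i₀))).Opens) (m : Over l.left)
    (hm : P (pbRel D (𝟙 l.left) (V.ι ≫ pbRel D (𝟙 i₀) f₀ g₀ l)
      (pullback.snd g₀ (D.map (l.hom ≫ 𝟙 i₀))) m)) :
    P ((pbMap D (𝟙 i₀) (f₀ ≫ g₀) (Over.homMk m.hom rfl : Over.mk (m.hom ≫ l.hom) ⟶ l) ⁻¹ᵁ V).ι ≫
      pbRel D (𝟙 i₀) f₀ g₀ (Over.mk (m.hom ≫ l.hom))) := by
  have h1 := isPullback_restrict (isPullback_pbMap_pbRel D (𝟙 i₀) f₀ g₀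
    (Over.homMk m.hom rfl : Over.mk (m.hom ≫ l.hom) ⟶ l)) V
  have h2 := isPullback_pbRel D (𝟙 l.left) (V.ι ≫ pbRel D (𝟙 i₀) f₀ g₀ l)
    (pullback.snd g₀ (D.map (l.hom ≫ 𝟙 i₀))) m
  have w : pbMap D (𝟙 i₀) g₀ (Over.homMk m.hom rfl : Over.mk (m.hom ≫ l.hom) ⟶ l) ≫
      pullback.snd g₀ (D.map (l.hom ≫ 𝟙 i₀)) =
      pullback.snd g₀ (D.map ((Over.mk (m.hom ≫ l.hom)).hom ≫ 𝟙 i₀)) ≫
        D.map (m.hom ≫ 𝟙 l.left) := by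
    have e : m.hom ≫ 𝟙 l.left = m.hom := Category.comp_id m.hom
    rw [e]
    exact pbMap_snd D (𝟙 i₀) g₀ (Over.homMk m.hom rfl : Over.mk (m.hom ≫ l.hom) ⟶ l)
  exact of_isPullback_of_fac P h1 h2
    (pullback.lift (pbMap D (𝟙 i₀) g₀ (Over.homMk m.hom rfl : Over.mk (m.hom ≫ l.hom) ⟶ l))
      (pullback.snd g₀ (D.map ((Over.mk (m.hom ≫ l.hom)).hom ≫ 𝟙 i₀))) w)
    (pullback.lift_fst _ _ _) hm

variable [IsZariskiLocalAtSource P] (hc : Limits.IsLimit c)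

include hc in
/-- from the limit to a stage -/
theorem exists_stage_of_nhd
    (hdesc : ∀ (i₁ : I) {X₁ Y₁ : Scheme.{u}} (f₁ : X₁ ⟶ Y₁) (g₁ : Y₁ ⟶ D.obj i₁)
      [CompactSpace X₁] [LocallyOfFinitePresentation f₁] {X' Y' : Scheme.{u}} (f' : X' ⟶ Y')
      (g' : Y' ⟶ c.pt) (qY' : Y' ⟶ Y₁) (qX' : X' ⟶ X₁) (_ : IsPullback qY' g' g₁ (c.π.app i₁))
      (_ : IsPullback qX' f' f₁ qY'), P f' → ∃ j : Over i₁, P (pbRel D (𝟙 i₁) f₁ g₁ j))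
    (i₀ : I) {X₀ Y₀ : Scheme.{u}} (f₀ : X₀ ⟶ Y₀) (g₀ : Y₀ ⟶ D.obj i₀)
    [LocallyOfFinitePresentation g₀] [LocallyOfFinitePresentation (f₀ ≫ g₀)]
    {X Y : Scheme.{u}} (f : X ⟶ Y) (g : Y ⟶ c.pt) (qY : Y ⟶ Y₀) (qX : X ⟶ X₀)
    (hY : IsPullback qY g g₀ (c.π.app i₀)) (hX : IsPullback qX f f₀ qY) (x : ↥X)
    (U : X.Opens) (hxU : x ∈ U) (hPU : P (U.ι ≫ f)) :
    ∃ (n : Over i₀) (V : (pullback (f₀ ≫ g₀) (D.map (n.hom ≫ 𝟙 i₀))).Opens),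
      pbLift D (𝟙 i₀) (f₀ ≫ g₀) c qX (f ≫ g) (hX.paste_vert hY).w n x ∈ V ∧
        P (V.ι ≫ pbRel D (𝟙 i₀) f₀ g₀ n) := by
  have hXY := hX.paste_vert hY
  have hf₀ : LocallyOfFinitePresentation f₀ := locallyOfFinitePresentation_of_comp f₀ g₀
  obtain ⟨l, V, hV, hxV, hVU⟩ : ∃ (l : Over i₀)
      (V : (pullback (f₀ ≫ g₀) (D.map (l.hom ≫ 𝟙 i₀))).Opens),
      IsAffineOpen V ∧ x ∈ pbLift D (𝟙 i₀) (f₀ ≫ g₀) c qX (f ≫ g) hXY.w l ⁻¹ᵁ V ∧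
        pbLift D (𝟙 i₀) (f₀ ≫ g₀) c qX (f ≫ g) hXY.w l ⁻¹ᵁ V ≤ U := by
    obtain ⟨_, ⟨l, V, hV, rfl⟩, hxV, hVU⟩ := Opens.isBasis_iff_nbhd.mp
      (isBasis_preimage_isAffineOpen (pbDiagram D (𝟙 i₀) (f₀ ≫ g₀))
        (pbCone D (𝟙 i₀) (f₀ ≫ g₀) c qX (f ≫ g) hXY.w)
        (isLimitPbCone D (𝟙 i₀) (f₀ ≫ g₀) c hc qX (f ≫ g) hXY)) hxU
    exact ⟨l, V, hV, hxV, hVU⟩
  haveI : IsAffine V.toScheme := hV
  have hlfp : LocallyOfFinitePresentation (V.ι ≫ pbRel D (𝟙 i₀) f₀ g₀ l) := by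
    have : LocallyOfFinitePresentation (pbRel D (𝟙 i₀) f₀ g₀ l) :=
      MorphismProperty.of_isPullback (P := @LocallyOfFinitePresentation)
        (isPullback_pbRel D (𝟙 i₀) f₀ g₀ l) hf₀
    infer_instance
  have hPf' : P ((pbLift D (𝟙 i₀) (f₀ ≫ g₀) c qX (f ≫ g) hXY.w l ⁻¹ᵁ V).ι ≫ f) := by
    have e : (pbLift D (𝟙 i₀) (f₀ ≫ g₀) c qX (f ≫ g) hXY.w l ⁻¹ᵁ V).ι =
        X.homOfLE hVU ≫ U.ι := (X.homOfLE_ι hVU).symm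
    rw [e, Category.assoc]
    exact IsZariskiLocalAtSource.comp (P := P) hPU _
  obtain ⟨m, hm⟩ := hdesc l.left (V.ι ≫ pbRel D (𝟙 i₀) f₀ g₀ l)
    (pullback.snd g₀ (D.map (l.hom ≫ 𝟙 i₀)))
    ((pbLift D (𝟙 i₀) (f₀ ≫ g₀) c qX (f ≫ g) hXY.w l ⁻¹ᵁ V).ι ≫ f) g
    (pbLift D (𝟙 i₀) g₀ c qY g hY.w l)
    (pbLift D (𝟙 i₀) (f₀ ≫ g₀) c qX (f ≫ g) hXY.w l ∣_ V)
    (isPullback_pbLift D (𝟙 i₀) g₀ c qY g hY l)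
    (isPullback_restrict (isPullback_pbLift_pbRel D (𝟙 i₀) f₀ g₀ c f g qY qX hY hX l) V) hPf'
  refine ⟨Over.mk (m.hom ≫ l.hom),
    pbMap D (𝟙 i₀) (f₀ ≫ g₀) (Over.homMk m.hom rfl : Over.mk (m.hom ≫ l.hom) ⟶ l) ⁻¹ᵁ V, ?_,
    P_restrict_pbRel_of_rebase P D i₀ f₀ g₀ l V m hm⟩
  have e := pbLift_pbMap D (𝟙 i₀) (f₀ ≫ g₀) c qX (f ≫ g) hXY.w
    (Over.homMk m.hom rfl : Over.mk (m.hom ≫ l.hom) ⟶ l)
  have e' : pbMap D (𝟙 i₀) (f₀ ≫ g₀) (Over.homMk m.hom rfl : Over.mk (m.hom ≫ l.hom) ⟶ l)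
      (pbLift D (𝟙 i₀) (f₀ ≫ g₀) c qX (f ≫ g) hXY.w (Over.mk (m.hom ≫ l.hom)) x) =
      pbLift D (𝟙 i₀) (f₀ ≫ g₀) c qX (f ≫ g) hXY.w l x := by
    rw [← Scheme.Hom.comp_apply, e]
  show pbMap D (𝟙 i₀) (f₀ ≫ g₀) (Over.homMk m.hom rfl : Over.mk (m.hom ≫ l.hom) ⟶ l)
      (pbLift D (𝟙 i₀) (f₀ ≫ g₀) c qX (f ≫ g) hXY.w (Over.mk (m.hom ≫ l.hom)) x) ∈ V
  rw [e']
  exact hxV

include hc in
/-- **`P` holds near `x` in the limit iff it holds near the image of `x` at some stage.** -/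
theorem nhd_iff_eventually_stage
    (hdesc : ∀ (i₁ : I) {X₁ Y₁ : Scheme.{u}} (f₁ : X₁ ⟶ Y₁) (g₁ : Y₁ ⟶ D.obj i₁)
      [CompactSpace X₁] [LocallyOfFinitePresentation f₁] {X' Y' : Scheme.{u}} (f' : X' ⟶ Y')
      (g' : Y' ⟶ c.pt) (qY' : Y' ⟶ Y₁) (qX' : X' ⟶ X₁) (_ : IsPullback qY' g' g₁ (c.π.app i₁))
      (_ : IsPullback qX' f' f₁ qY'), P f' → ∃ j : Over i₁, P (pbRel D (𝟙 i₁) f₁ g₁ j))
    (i₀ : I) {X₀ Y₀ : Scheme.{u}} (f₀ : X₀ ⟶ Y₀) (g₀ : Y₀ ⟶ D.obj i₀)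
    [LocallyOfFinitePresentation g₀] [LocallyOfFinitePresentation (f₀ ≫ g₀)]
    {X Y : Scheme.{u}} (f : X ⟶ Y) (g : Y ⟶ c.pt) (qY : Y ⟶ Y₀) (qX : X ⟶ X₀)
    (hY : IsPullback qY g g₀ (c.π.app i₀)) (hX : IsPullback qX f f₀ qY) (x : ↥X) :
    (∃ U : X.Opens, x ∈ U ∧ P (U.ι ≫ f)) ↔
      ∃ (j : I) (φ : j ⟶ i₀) (Xj Yj : Scheme.{u}) (fj : Xj ⟶ Yj) (gj : Yj ⟶ D.obj j)
        (pY : Yj ⟶ Y₀) (pX : Xj ⟶ X₀) (rX : X ⟶ Xj), IsPullback pY gj g₀ (D.map φ) ∧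
          IsPullback pX fj f₀ pY ∧ rX ≫ pX = qX ∧ rX ≫ fj ≫ gj = f ≫ g ≫ c.π.app j ∧
            ∃ V : Xj.Opens, rX.base x ∈ V ∧ P (V.ι ≫ fj) := by
  constructor
  · rintro ⟨U, hxU, hPU⟩
    obtain ⟨n, V, hxV, hPV⟩ := exists_stage_of_nhd P D c hc hdesc i₀ f₀ g₀ f g qY qX hY hX x U
      hxU hPU
    refine ⟨n.left, n.hom ≫ 𝟙 i₀, _, _, pbRel D (𝟙 i₀) f₀ g₀ n, pullback.snd g₀ _,
      pullback.fst g₀ _, pullback.fst (f₀ ≫ g₀) _,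
      pbLift D (𝟙 i₀) (f₀ ≫ g₀) c qX (f ≫ g) (hX.paste_vert hY).w n,
      IsPullback.of_hasPullback _ _, isPullback_pbRel D (𝟙 i₀) f₀ g₀ n,
      pbLift_fst D (𝟙 i₀) (f₀ ≫ g₀) c qX (f ≫ g) (hX.paste_vert hY).w n, ?_, V, hxV, hPV⟩
    rw [pbRel_snd, pbLift_snd, Category.assoc]
  · rintro ⟨j, φ, Xj, Yj, fj, gj, pY, pX, rX, hYj, hXj, e1, e2, V, hxV, hPV⟩
    exact nhd_of_stage P D c i₀ f₀ g₀ f g qY qX hY hX x φ fj gj pY pX rX hYj hXj e1 e2 V hxV hPV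

end

end Groth.Agent.H24
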