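import Mathlib
import Groth.Agent.H24.LimFlat2
import Groth.Agent.H24.NhdStage

/-!
# The quasi-finite locus and base change; locally quasi-finite morphisms descend (helper24)
-/

set_option autoImplicit false

open CategoryTheory AlgebraicGeometry Limits TopologicalSpace Topology

universe u

namespace Groth.Agent.H24

/-- Quasi-finiteness at a point of a fibre is openness of the point in that fibre. -/
theorem quasiFiniteAt_fiberι_iff {X Y : Scheme.{u}} (f : X ⟶ Y) [LocallyOfFiniteType f] {y : Y}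
    (z : f.fiber y) : f.QuasiFiniteAt (f.fiberι y z) ↔ IsOpen ({z} : Set (f.fiber y)) := by
  have key : ∀ (x : X) (y : Y) (z : f.fiber y), f.fiberι y z = x →
      (f.QuasiFiniteAt x ↔ IsOpen ({z} : Set (f.fiber y))) := by
    intro x y z hz
    have hy : f x = y := by
      have hmem : f.fiberι y z ∈ f ⁻¹' {y} := by
        rw [← f.range_fiberι y]
        exact Set.mem_range_self z
      rw [← hz]
      exact hmem
    subst hy
    have hz' : z = f.asFiber x :=
      (f.fiberι (f x)).isEmbedding.injective (by rw [hz, f.fiberι_asFiber])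
    rw [hz']
    exact Scheme.Hom.quasiFiniteAt_iff_isOpen_singleton_asFiber
  exact key _ y z rfl

/-- Quasi-finiteness at a point descends along arbitrary base change. -/
theorem quasiFiniteAt_of_isPullback {P X Y Z : Scheme.{u}} {fst : P ⟶ X} {snd : P ⟶ Y}
    {f : X ⟶ Z} {g : Y ⟶ Z} (h : IsPullback fst snd f g) [LocallyOfFiniteType f] (x' : P)
    (hx' : snd.QuasiFiniteAt x') : f.QuasiFiniteAt (fst x') := by
  have hsnd : LocallyOfFiniteType snd :=
    MorphismProperty.of_isPullback (P := @LocallyOfFiniteType) h inferInstance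
  have hop : IsOpen ({snd.asFiber x'} : Set (snd.fiber (snd x'))) :=
    Scheme.Hom.quasiFiniteAt_iff_isOpen_singleton_asFiber.mp hx'
  obtain ⟨p, sq, hp⟩ : ∃ p : snd.fiber (snd x') ⟶ f.fiber (g (snd x')),
      IsPullback p (snd.fiberToSpecResidueField (snd x'))
        (f.fiberToSpecResidueField (g (snd x'))) (Spec.map (g.residueFieldMap (snd x'))) ∧
      p ≫ f.fiberι (g (snd x')) = snd.fiberι (snd x') ≫ fst :=
    ⟨_, isPullback_fiberToSpecResidueField_of_isPullback h (snd x'), pullback.lift_fst _ _ _⟩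
  have hsub : Subsingleton ↥(Spec (Z.residueField (g (snd x')))) :=
    inferInstanceAs (Subsingleton (PrimeSpectrum (Z.residueField (g (snd x')))))
  have huo : UniversallyOpen p :=
    MorphismProperty.of_isPullback (P := @UniversallyOpen) sq.flip inferInstance
  have hop' : IsOpen ({p (snd.asFiber x')} : Set (f.fiber (g (snd x')))) := by
    have := p.isOpenMap _ hop
    rwa [Set.image_singleton] at this
  have hq := (quasiFiniteAt_fiberι_iff f (p (snd.asFiber x'))).mpr hop'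
  have e : f.fiberι (g (snd x')) (p (snd.asFiber x')) = fst x' := by
    rw [← Scheme.Hom.comp_apply, hp, Scheme.Hom.comp_apply, snd.fiberι_asFiber]
  rwa [e] at hq

/-- If the preimage of the quasi-finite locus is everything, the base change is locally
quasi-finite. -/
theorem locallyQuasiFinite_of_preimage_quasiFiniteLocus_eq_top {P X Y Z : Scheme.{u}}
    {fst : P ⟶ X} {snd : P ⟶ Y} {f : X ⟶ Z} {g : Y ⟶ Z} (h : IsPullback fst snd f g)
    [LocallyOfFiniteType f] (htop : fst ⁻¹ᵁ f.quasiFiniteLocus = ⊤) :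
    LocallyQuasiFinite snd := by
  have h1 : LocallyQuasiFinite ((fst ⁻¹ᵁ f.quasiFiniteLocus).ι ≫ snd) :=
    MorphismProperty.of_isPullback (P := @LocallyQuasiFinite)
      (isPullback_restrict h f.quasiFiniteLocus) inferInstance
  refine IsZariskiLocalAtSource.of_iSup_eq_top (P := @LocallyQuasiFinite)
    (fun _ : Unit => fst ⁻¹ᵁ f.quasiFiniteLocus) ?_ (fun _ => h1)
  rw [iSup_const, htop]

/-- The quasi-finite locus commutes with base change. -/
theorem quasiFiniteLocus_eq_preimage_of_isPullback {P X Y Z : Scheme.{u}}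
    {fst : P ⟶ X} {snd : P ⟶ Y} {f : X ⟶ Z} {g : Y ⟶ Z} (h : IsPullback fst snd f g)
    [LocallyOfFiniteType f] [LocallyOfFiniteType snd] :
    snd.quasiFiniteLocus = fst ⁻¹ᵁ f.quasiFiniteLocus := by
  apply le_antisymm
  · intro x' hx'
    exact quasiFiniteAt_of_isPullback h x' hx'
  · have h1 : LocallyQuasiFinite ((fst ⁻¹ᵁ f.quasiFiniteLocus).ι ≫ snd) :=
      MorphismProperty.of_isPullback (P := @LocallyQuasiFinite)
        (isPullback_restrict h f.quasiFiniteLocus) inferInstance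
    have h2 := (Scheme.Hom.quasiFiniteLocus_eq_top_iff
      ((fst ⁻¹ᵁ f.quasiFiniteLocus).ι ≫ snd)).mpr h1
    rw [Scheme.Hom.quasiFiniteLocus_comp] at h2
    intro x' hx'
    have hmem : (⟨x', hx'⟩ : ↥(fst ⁻¹ᵁ f.quasiFiniteLocus)) ∈
        (fst ⁻¹ᵁ f.quasiFiniteLocus).ι ⁻¹ᵁ snd.quasiFiniteLocus := by
      rw [h2]
      trivial
    exact hmem

section descend

variable {I : Type u} [SmallCategory I] [IsCofiltered I]
    (D : I ⥤ Scheme.{u}) (c : Limits.Cone D) (hc : Limits.IsLimit c)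
    [∀ {i j : I} (f : i ⟶ j), IsAffineHom (D.map f)]
    (i₀ : I) {X₀ Y₀ : Scheme.{u}} (f₀ : X₀ ⟶ Y₀) (g₀ : Y₀ ⟶ D.obj i₀)

include hc in
/-- **Locally quasi-finite morphisms descend to a finite stage** (only `X₀` quasi-compact). -/
theorem exists_locallyQuasiFinite_pbRel [CompactSpace X₀] [LocallyOfFiniteType f₀]
    {X Y : Scheme.{u}} (f : X ⟶ Y) (g : Y ⟶ c.pt) (qY : Y ⟶ Y₀) (qX : X ⟶ X₀)
    (hY : IsPullback qY g g₀ (c.π.app i₀)) (hX : IsPullback qX f f₀ qY)
    [hf : LocallyQuasiFinite f] :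
    ∃ j : Over i₀, LocallyQuasiFinite (pbRel D (𝟙 i₀) f₀ g₀ j) := by
  have hXY := hX.paste_vert hY
  have hcX : ∀ l : Over i₀, CompactSpace ↥((pbDiagram D (𝟙 i₀) (f₀ ≫ g₀)).obj l) :=
    compactSpace_pbDiagram_obj D i₀ f₀ g₀
  have hlft : ∀ l : Over i₀, LocallyOfFiniteType (pbRel D (𝟙 i₀) f₀ g₀ l) := fun l =>
    MorphismProperty.of_isPullback (P := @LocallyOfFiniteType)
      (isPullback_pbRel D (𝟙 i₀) f₀ g₀ l) inferInstance
  have sq := isPullback_pbLift_pbRel D (𝟙 i₀) f₀ g₀ c f g qY qX hY hX (Over.mk (𝟙 i₀))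
  have htop : (pbCone D (𝟙 i₀) (f₀ ≫ g₀) c qX (f ≫ g) hXY.w).π.app (Over.mk (𝟙 i₀)) ⁻¹ᵁ
      (pbRel D (𝟙 i₀) f₀ g₀ (Over.mk (𝟙 i₀))).quasiFiniteLocus = ⊤ := by
    change pbLift D (𝟙 i₀) (f₀ ≫ g₀) c qX (f ≫ g) hXY.w (Over.mk (𝟙 i₀)) ⁻¹ᵁ
      (pbRel D (𝟙 i₀) f₀ g₀ (Over.mk (𝟙 i₀))).quasiFiniteLocus = ⊤
    rw [eq_top_iff]
    intro x _
    exact quasiFiniteAt_of_isPullback sq x (f.quasiFiniteAt x)
  obtain ⟨j, a, hj⟩ := exists_map_eq_top (pbDiagram D (𝟙 i₀) (f₀ ≫ g₀))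
    (pbCone D (𝟙 i₀) (f₀ ≫ g₀) c qX (f ≫ g) hXY.w)
    (isLimitPbCone D (𝟙 i₀) (f₀ ≫ g₀) c hc qX (f ≫ g) hXY) _ htop
  have hj' : pbMap D (𝟙 i₀) (f₀ ≫ g₀) a ⁻¹ᵁ
      (pbRel D (𝟙 i₀) f₀ g₀ (Over.mk (𝟙 i₀))).quasiFiniteLocus = ⊤ := hj
  exact ⟨j, locallyQuasiFinite_of_preimage_quasiFiniteLocus_eq_top
    (isPullback_pbMap_pbRel D (𝟙 i₀) f₀ g₀ a) hj'⟩

end descend

end Groth.Agent.H24
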