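import Mathlib
import Groth.Prelude.Def_EGA4Misc
import Groth.Agent.H24.IndCons
import Groth.Agent.H24.QFLocus
import Groth.Agent.H7.QFLocus
import Groth.Agent.H7.FibreUInj

/-!
# Constructible properties: quasi-finite, finite, radicial
-/

set_option autoImplicit false
universe u
open CategoryTheory CategoryTheory.Limits AlgebraicGeometry Opposite Topology

namespace Groth.Agent.H24

/-- A locally constructible subset of an integral Noetherian scheme or its complement has nonempty
interior. -/
theorem nonempty_interior_or_of_isLocallyConstructible (S : Scheme.{u}) [IsIntegral S]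
    [IsNoetherian S] (E : Set S) (hE : IsLocallyConstructible E) :
    (interior E).Nonempty ∨ (interior Eᶜ).Nonempty := by
  have hc : IsConstructible E := hE.isConstructible
  by_cases hη : genericPoint S ∈ E
  · obtain ⟨V, hVo, hηV, hV⟩ := exists_isOpen_subset_of_isConstructible (genericPoint_spec S) _
      hc hη
    exact Or.inl ⟨genericPoint S, interior_maximal hV hVo hηV⟩
  · obtain ⟨V, hVo, hηV, hV⟩ := exists_isOpen_subset_of_isConstructible (genericPoint_spec S) _
      hc.compl hη
    exact Or.inr ⟨genericPoint S, interior_maximal hV hVo hηV⟩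

section fin

variable {X Y S : Scheme.{u}} (f : X ⟶ Y) (g : Y ⟶ S)

/-- finite presentation data over a Noetherian base -/
theorem lfp_of_lft_noetherian [IsLocallyNoetherian S] (u : X ⟶ S) [LocallyOfFiniteType u] :
    LocallyOfFinitePresentation u :=
  LocallyOfFinitePresentation.iff_locallyOfFiniteType.mpr inferInstance

theorem qs_of_lft_noetherian [IsLocallyNoetherian S] (u : X ⟶ S) [LocallyOfFiniteType u] :
    QuasiSeparated u := by
  have : IsLocallyNoetherian X := LocallyOfFiniteType.isLocallyNoetherian u
  infer_instance

end fin

/-- a morphism from a one-point integral scheme is surjective onto a one-point scheme -/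
theorem surjective_of_subsingleton {T T' : Scheme.{u}} (h : T' ⟶ T) [Subsingleton T]
    [Nonempty T'] : Surjective h := by
  refine ⟨fun t => ?_⟩
  obtain ⟨t'⟩ : Nonempty T' := inferInstance
  exact ⟨t', Subsingleton.elim _ _⟩

/-- base change of a morphism of one-point integral schemes is an fpqc covering -/
theorem fpqc_of_isPullback {T T' Y Y' : Scheme.{u}} {h : T' ⟶ T} {g : Y ⟶ T} {g' : Y' ⟶ T'}
    {eY : Y' ⟶ Y} [IsIntegral T] [Subsingleton T]
    [IsIntegral T'] [Subsingleton T'] (hY : IsPullback eY g' g h) :
    (@Surjective ⊓ @Flat ⊓ @QuasiCompact : MorphismProperty Scheme.{u}) eY := by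
  have h1 : Surjective h := surjective_of_subsingleton h
  have h2 : Flat h := inferInstance
  have h3 : QuasiCompact h := inferInstance
  exact ⟨⟨MorphismProperty.of_isPullback (P := @Surjective) hY.flip h1,
    MorphismProperty.of_isPullback (P := @Flat) hY.flip h2⟩,
    MorphismProperty.of_isPullback (P := @QuasiCompact) hY.flip h3⟩

/-! ### radicial -/

theorem isConsMor_universallyInjective :
    ConsProp.IsConsMor.{u} (fun X Y T f g => AlgebraicGeometry.UniversallyInjective f) := by
  refine ⟨?_, ?_⟩
  · intro X X' Y Y' T T' f g f' g' eX eY h _ _ _ _ _ _ _ _ hY hX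
    constructor
    · intro hf
      exact MorphismProperty.of_isPullback (P := @UniversallyInjective) hX hf
    · intro hf'
      have hf'' : UniversallyInjective f' := hf'
      have hfpqc := fpqc_of_isPullback hY
      exact MorphismProperty.of_isPullback_of_descendsAlong (P := @UniversallyInjective)
        (Q := (@Surjective ⊓ @Flat ⊓ @QuasiCompact : MorphismProperty Scheme.{u})) hX.flip hfpqc hf''
  · intro X Y S f g _ _ _ _ _ _
    have i1 := lfp_of_lft_noetherian g
    have i2 := qs_of_lft_noetherian g
    have i3 := lfp_of_lft_noetherian (f ≫ g)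
    have i4 := qs_of_lft_noetherian (f ≫ g)
    exact nonempty_interior_or_of_isLocallyConstructible S _
      (Groth.Agent.H7.isLocallyConstructible_setOf_universallyInjective_fibreMap f g)

/-! ### quasi-finite -/

/-- descent of local quasi-finiteness along a surjective base change -/
theorem locallyQuasiFinite_of_isPullback_of_surjective {X X' Y Y' : Scheme.{u}} {f : X ⟶ Y}
    {f' : X' ⟶ Y'} {eX : X' ⟶ X} {eY : Y' ⟶ Y} (hX : IsPullback eX f' f eY)
    [LocallyOfFiniteType f] [Surjective eX] [LocallyQuasiFinite f'] : LocallyQuasiFinite f := by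
  have hf' : LocallyOfFiniteType f' :=
    MorphismProperty.of_isPullback (P := @LocallyOfFiniteType) hX inferInstance
  have h1 := quasiFiniteLocus_eq_preimage_of_isPullback hX
  have h2 : f'.quasiFiniteLocus = ⊤ := f'.quasiFiniteLocus_eq_top
  rw [← Scheme.Hom.quasiFiniteLocus_eq_top_iff]
  rw [h2] at h1
  ext x
  simp only [TopologicalSpace.Opens.coe_top, Set.mem_univ, iff_true]
  obtain ⟨x', rfl⟩ := eX.surjective x
  have : x' ∈ eX ⁻¹ᵁ f.quasiFiniteLocus := by rw [← h1]; trivial
  exact this

theorem isConsMor_quasiFinite :
    ConsProp.IsConsMor.{u}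
      (fun X Y T f g => AlgebraicGeometry.LocallyOfFiniteType f ∧ AlgebraicGeometry.QuasiCompact f ∧
        AlgebraicGeometry.LocallyQuasiFinite f) := by
  refine ⟨?_, ?_⟩
  · intro X X' Y Y' T T' f g f' g' eX eY h _ _ _ _ _ _ _ _ hY hX
    have hYloc : IsLocallyNoetherian Y := by
      have : IsLocallyNoetherian T := inferInstance
      exact LocallyOfFiniteType.isLocallyNoetherian g
    have hlft : LocallyOfFiniteType f := locallyOfFiniteType_of_comp f g
    have hqc : QuasiCompact f := QuasiCompact.of_comp f g
    constructor
    · rintro ⟨h1, h2, h3⟩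
      exact ⟨MorphismProperty.of_isPullback (P := @LocallyOfFiniteType) hX h1,
        MorphismProperty.of_isPullback (P := @QuasiCompact) hX h2,
        MorphismProperty.of_isPullback (P := @LocallyQuasiFinite) hX h3⟩
    · rintro ⟨h1, h2, h3⟩
      have hsY : Surjective eY :=
        MorphismProperty.of_isPullback (P := @Surjective) hY.flip (surjective_of_subsingleton h)
      have hsX : Surjective eX :=
        MorphismProperty.of_isPullback (P := @Surjective) hX.flip hsY
      exact ⟨hlft, hqc, locallyQuasiFinite_of_isPullback_of_surjective hX⟩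
  · intro X Y S f g _ _ _ _ _ _
    have i1 := lfp_of_lft_noetherian g
    have i2 := qs_of_lft_noetherian g
    have i3 := lfp_of_lft_noetherian (f ≫ g)
    have i4 := qs_of_lft_noetherian (f ≫ g)
    have hE := Groth.Agent.H7.isLocallyConstructible_setOf_locallyQuasiFinite_fibreMap f g
    have e : ConsProp.locusMor (fun X Y T f g => AlgebraicGeometry.LocallyOfFiniteType f ∧
        AlgebraicGeometry.QuasiCompact f ∧ AlgebraicGeometry.LocallyQuasiFinite f) f g =
        {s : S | LocallyQuasiFinite (Groth.Agent.H7.fibreMap f g s)} := by
      ext s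
      constructor
      · rintro ⟨-, -, h3⟩
        exact h3
      · intro h3
        have e1 : Groth.Agent.H7.fibreMap f g s ≫ g.fiberToSpecResidueField s =
            (f ≫ g).fiberToSpecResidueField s := pullback.lift_snd _ _ _
        have b1 : LocallyOfFiniteType ((f ≫ g).fiberToSpecResidueField s) := by
          show LocallyOfFiniteType (pullback.snd (f ≫ g) _); infer_instance
        have b2 : QuasiCompact ((f ≫ g).fiberToSpecResidueField s) := by
          show QuasiCompact (pullback.snd (f ≫ g) _); infer_instance
        have b3 : QuasiSeparated (g.fiberToSpecResidueField s) := by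
          show QuasiSeparated (pullback.snd g _); infer_instance
        have a1 : LocallyOfFiniteType
            (Groth.Agent.H7.fibreMap f g s ≫ g.fiberToSpecResidueField s) := by
          rw [e1]; exact b1
        have a2 : QuasiCompact
            (Groth.Agent.H7.fibreMap f g s ≫ g.fiberToSpecResidueField s) := by
          rw [e1]; exact b2
        have c1 : LocallyOfFiniteType (Groth.Agent.H7.fibreMap f g s) :=
          locallyOfFiniteType_of_comp (Groth.Agent.H7.fibreMap f g s)
            (g.fiberToSpecResidueField s)
        have c2 : QuasiCompact (Groth.Agent.H7.fibreMap f g s) :=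
          QuasiCompact.of_comp (Groth.Agent.H7.fibreMap f g s) (g.fiberToSpecResidueField s)
        exact ⟨c1, c2, h3⟩
    rw [e]
    exact nonempty_interior_or_of_isLocallyConstructible S _ hE

/-! ### one scheme over the base -/

theorem fibreMap_id_iff (Q : MorphismProperty Scheme.{u}) [Q.RespectsIso] {X S : Scheme.{u}}
    (u : X ⟶ S) (s : S) :
    Q (Groth.Agent.H7.fibreMap u (𝟙 S) s) ↔ Q (u.fiberToSpecResidueField s) := by
  have e1 : Groth.Agent.H7.fibreMap u (𝟙 S) s ≫ pullback.snd (𝟙 S) (S.fromSpecResidueField s) =
      pullback.snd (u ≫ 𝟙 S) (S.fromSpecResidueField s) := pullback.lift_snd _ _ _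
  have key : ∀ (u' : X ⟶ S), u' = u →
      (Q (pullback.snd u' (S.fromSpecResidueField s)) ↔
        Q (pullback.snd u (S.fromSpecResidueField s))) := by
    intro u' hu'
    subst hu'
    exact Iff.rfl
  rw [← Q.cancel_right_of_respectsIso (Groth.Agent.H7.fibreMap u (𝟙 S) s)
    (pullback.snd (𝟙 S) (S.fromSpecResidueField s)), e1]
  exact key _ (Category.comp_id u)

theorem fpqc_of_subsingleton' {T T' : Scheme.{u}} (h : T' ⟶ T) [IsIntegral T] [Subsingleton T]
    [IsIntegral T'] [Subsingleton T'] :
    (@Surjective ⊓ @Flat ⊓ @QuasiCompact : MorphismProperty Scheme.{u}) h :=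
  fpqc_of_isPullback (h := h) (g := 𝟙 T) (g' := 𝟙 T') (eY := h)
    (IsPullback.of_vert_isIso ⟨by simp⟩)

theorem isCons_universallyInjective :
    ConsProp.IsCons.{u} (fun Y T g => AlgebraicGeometry.UniversallyInjective g) := by
  refine ⟨?_, ?_⟩
  · intro Y Y' T T' g g' e h _ _ _ _ _ _ sq
    constructor
    · intro hg
      exact MorphismProperty.of_isPullback (P := @UniversallyInjective) sq hg
    · intro hg'
      have hg'' : UniversallyInjective g' := hg'
      exact MorphismProperty.of_isPullback_of_descendsAlong (P := @UniversallyInjective)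
        (Q := (@Surjective ⊓ @Flat ⊓ @QuasiCompact : MorphismProperty Scheme.{u})) sq.flip
        (fpqc_of_subsingleton' h) hg''
  · intro X S u _ _ _ _
    have i1 := lfp_of_lft_noetherian u
    have i2 := qs_of_lft_noetherian u
    have hE := Groth.Agent.H7.isLocallyConstructible_setOf_universallyInjective_fibreMap u (𝟙 S)
    have e : ConsProp.locus (fun Y T g => AlgebraicGeometry.UniversallyInjective g) u =
        {s : S | UniversallyInjective (Groth.Agent.H7.fibreMap u (𝟙 S) s)} := by
      ext s
      exact (fibreMap_id_iff @UniversallyInjective u s).symm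
    rw [e]
    exact nonempty_interior_or_of_isLocallyConstructible S _ hE

/-- over a one-point integral scheme, finite = quasi-finite -/
theorem isFinite_iff_locallyQuasiFinite_of_subsingleton {Y T : Scheme.{u}} (g : Y ⟶ T)
    [IsIntegral T] [Subsingleton T] [QuasiCompact g] :
    IsFinite g ↔ LocallyQuasiFinite g := by
  constructor
  · intro _
    infer_instance
  · intro _
    have : IsLocallyArtinian T := inferInstance
    exact IsFinite.of_locallyQuasiFinite g

theorem isCons_isFinite :
    ConsProp.IsCons.{u} (fun Y T g => AlgebraicGeometry.IsFinite g) := by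
  refine ⟨?_, ?_⟩
  · intro Y Y' T T' g g' e h _ _ _ _ _ _ sq
    constructor
    · intro hg
      exact MorphismProperty.of_isPullback (P := @IsFinite) sq hg
    · intro hg'
      have hg'' : IsFinite g' := hg'
      have hs : Surjective e :=
        MorphismProperty.of_isPullback (P := @Surjective) sq.flip (surjective_of_subsingleton h)
      have : LocallyQuasiFinite g := locallyQuasiFinite_of_isPullback_of_surjective sq
      exact (isFinite_iff_locallyQuasiFinite_of_subsingleton g).mpr this
  · intro X S u _ _ _ _
    have i1 := lfp_of_lft_noetherian u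
    have i2 := qs_of_lft_noetherian u
    have hE := Groth.Agent.H7.isLocallyConstructible_setOf_locallyQuasiFinite_fibreMap u (𝟙 S)
    have e : ConsProp.locus (fun Y T g => AlgebraicGeometry.IsFinite g) u =
        {s : S | LocallyQuasiFinite (Groth.Agent.H7.fibreMap u (𝟙 S) s)} := by
      ext s
      have hqc : QuasiCompact (u.fiberToSpecResidueField s) := by
        show QuasiCompact (pullback.snd u _); infer_instance
      have h1 : IsFinite (u.fiberToSpecResidueField s) ↔
          LocallyQuasiFinite (u.fiberToSpecResidueField s) :=
        isFinite_iff_locallyQuasiFinite_of_subsingleton _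
      exact h1.trans (fibreMap_id_iff @LocallyQuasiFinite u s).symm
    rw [e]
    exact nonempty_interior_or_of_isLocallyConstructible S _ hE

end Groth.Agent.H24
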