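import Mathlib
import Groth.Prelude.Def_EGA4Misc
import Groth.Agent.S2266
import Groth.Agent.H24.ConsPropRows

/-!
# Fibrewise constructible / ind-constructible properties (EGA IV 9.2.? "P holds for all fibres")
-/

set_option autoImplicit false
universe u
open CategoryTheory CategoryTheory.Limits AlgebraicGeometry Opposite Topology TopologicalSpace

namespace Groth.Agent.H24

/-! ### A: integral closed subscheme on the closure of a point -/

theorem exists_integral_closedImmersion (Y : Scheme.{u}) [QuasiSeparatedSpace Y] (ξ : Y) :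
    ∃ (Z : Scheme.{u}) (i : Z ⟶ Y), IsClosedImmersion i ∧ IsIntegral Z ∧
      Set.range i = closure {ξ} := by
  have hqc : QuasiCompact (Y.fromSpecResidueField ξ) := inferInstance
  obtain ⟨h1, h2⟩ := Groth.Agent.S2266.result (Y.fromSpecResidueField ξ)
  have h3 : IrreducibleSpace (Y.fromSpecResidueField ξ).image := h2 hqc inferInstance
  have h4 : IsIntegral (Y.fromSpecResidueField ξ).image :=
    isIntegral_of_irreducibleSpace_of_isReduced _
  refine ⟨_, (Y.fromSpecResidueField ξ).imageι, inferInstance, h4, ?_⟩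
  rw [Scheme.IdealSheafData.range_subschemeι, Scheme.Hom.support_ker,
    Scheme.range_fromSpecResidueField]

/-! ### B: fibres of a base change -/

theorem fibre_iff_of_isPullback {P : ∀ ⦃Y T : Scheme.{u}⦄, (Y ⟶ T) → Prop}
    (hP : ConsProp.IsFieldStable P) {X X' Y Y' : Scheme.{u}} {f : X ⟶ Y} {f' : X' ⟶ Y'}
    {eX : X' ⟶ X} {eY : Y' ⟶ Y} (sq : IsPullback eX f' f eY) [LocallyOfFiniteType f]
    [QuasiCompact f] (y' : Y') :
    P (f'.fiberToSpecResidueField y') ↔ P (f.fiberToSpecResidueField (eY y')) := by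
  have h := isPullback_fiberToSpecResidueField_of_isPullback sq y'
  have i1 : ∀ y, LocallyOfFiniteType (f.fiberToSpecResidueField y) := fun y => by
    show LocallyOfFiniteType (pullback.snd f _); infer_instance
  have i2 : ∀ y, QuasiCompact (f.fiberToSpecResidueField y) := fun y => by
    show QuasiCompact (pullback.snd f _); infer_instance
  have i3 : ∀ y, Subsingleton ↥(Spec (Y.residueField y)) := fun y =>
    inferInstanceAs (Subsingleton (PrimeSpectrum _))
  have i4 : ∀ y, Subsingleton ↥(Spec (Y'.residueField y)) := fun y =>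
    inferInstanceAs (Subsingleton (PrimeSpectrum _))
  exact (@hP _ _ _ _ _ _ _ _ inferInstance (i3 _) inferInstance (i4 _) (i1 _) (i2 _) h).symm

/-- the generic-openness half shared by constructible and ind-constructible properties -/
def GenOpen (P : ∀ ⦃Y T : Scheme.{u}⦄, (Y ⟶ T) → Prop) : Prop :=
  ∀ ⦃X S : Scheme.{u}⦄ (u : X ⟶ S) [IsIntegral S] [IsNoetherian S]
    [LocallyOfFiniteType u] [QuasiCompact u],
    genericPoint S ∈ ConsProp.locus P u → (interior (ConsProp.locus P u)).Nonempty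

/-! ### C: openness along irreducible closed subsets -/

theorem isNoetherian_of_isClosedImmersion {Z Y : Scheme.{u}} (i : Z ⟶ Y) [IsClosedImmersion i]
    [IsNoetherian Y] : IsNoetherian Z := by
  have : IsLocallyNoetherian Z := LocallyOfFiniteType.isLocallyNoetherian i
  have : CompactSpace Z := QuasiCompact.compactSpace_of_compactSpace i
  exact ⟨⟩

theorem exists_open_inter_closure_subset_locus {P : ∀ ⦃Y T : Scheme.{u}⦄, (Y ⟶ T) → Prop}
    (hP : ConsProp.IsFieldStable P) (hG : GenOpen P) {X Y : Scheme.{u}} (f : X ⟶ Y)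
    [IsNoetherian Y] [LocallyOfFiniteType f] [QuasiCompact f] (ξ : Y)
    (hξ : ξ ∈ ConsProp.locus P f) :
    ∃ U : Set Y, IsOpen U ∧ ξ ∈ U ∧ U ∩ closure {ξ} ⊆ ConsProp.locus P f := by
  obtain ⟨Z, i, hi, hZ, hr⟩ := exists_integral_closedImmersion Y ξ
  have : IsNoetherian Z := isNoetherian_of_isClosedImmersion i
  have sq : IsPullback (pullback.fst f i) (pullback.snd f i) f i := IsPullback.of_hasPullback f i
  have hloc : ConsProp.locus P (pullback.snd f i) = i ⁻¹' (ConsProp.locus P f) := by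
    ext z
    exact fibre_iff_of_isPullback hP sq z
  have hmem : ξ ∈ closure ({ξ} : Set Y) := subset_closure (Set.mem_singleton ξ)
  rw [← hr] at hmem
  obtain ⟨z₀, hz₀⟩ := hmem
  have hgen : IsGenericPoint z₀ (⊤ : Set Z) := by
    rw [isGenericPoint_def, i.isEmbedding.closure_eq_preimage_closure_image, Set.image_singleton,
      hz₀, ← hr]
    ext z
    simp
  have hz₀' : genericPoint Z = z₀ := (genericPoint_spec Z).eq hgen
  have hne : (interior (ConsProp.locus P (pullback.snd f i))).Nonempty := by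
    apply hG
    rw [hz₀', hloc]
    show i z₀ ∈ ConsProp.locus P f
    rw [hz₀]
    exact hξ
  obtain ⟨U, hU, hUW⟩ := i.isEmbedding.isInducing.isOpen_iff.mp
    (isOpen_interior (s := ConsProp.locus P (pullback.snd f i)))
  refine ⟨U, hU, ?_, ?_⟩
  · have h1 : z₀ ∈ interior (ConsProp.locus P (pullback.snd f i)) := by
      rw [hgen.mem_open_set_iff isOpen_interior]
      simpa using hne
    rw [← hUW] at h1
    rw [← hz₀]
    exact h1
  · rintro y ⟨hyU, hyZ⟩
    rw [← hr] at hyZ
    obtain ⟨z, rfl⟩ := hyZ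
    have h1 : z ∈ i ⁻¹' U := hyU
    rw [hUW] at h1
    have h2 := interior_subset h1
    rw [hloc] at h2
    exact h2

/-! ### D: Noetherian induction -/

theorem exists_open_preimage_subset {Y S : Type*} [TopologicalSpace Y] [TopologicalSpace S]
    [NoetherianSpace Y] [QuasiSober Y] [T0Space S]
    (g : Y → S) (hg : Continuous g) (η : S) (hη : IsGenericPoint η (⊤ : Set S)) (E : Set Y)
    (hE : ∀ ξ ∈ E, ∃ U : Set Y, IsOpen U ∧ ξ ∈ U ∧ U ∩ closure {ξ} ⊆ E)
    (Z : Closeds Y) (hZ : (Z : Set Y) ∩ g ⁻¹' {η} ⊆ E) :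
    ∃ V : Set S, IsOpen V ∧ η ∈ V ∧ (Z : Set Y) ∩ g ⁻¹' V ⊆ E := by
  induction Z using WellFoundedLT.induction with
  | ind Z ih =>
  by_cases hirr : IsPreirreducible (Z : Set Y)
  · by_cases hne : (Z : Set Y).Nonempty
    · have hZirr : IsIrreducible (Z : Set Y) := ⟨hne, hirr⟩
      obtain ⟨ξ, hξ⟩ := QuasiSober.sober hZirr Z.isClosed
      by_cases hgξ : g ξ = η
      · have hξE : ξ ∈ E := hZ ⟨hξ.mem, hgξ⟩
        obtain ⟨U, hU, hξU, hUE⟩ := hE ξ hξE
        have hcl : IsClosed ((Z : Set Y) ∩ Uᶜ) := Z.isClosed.inter hU.isClosed_compl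
        have hlt : (⟨(Z : Set Y) ∩ Uᶜ, hcl⟩ : Closeds Y) < Z := by
          refine lt_of_le_of_ne (fun y hy => hy.1) ?_
          intro h
          have : ξ ∈ ((⟨(Z : Set Y) ∩ Uᶜ, hcl⟩ : Closeds Y) : Set Y) := by rw [h]; exact hξ.mem
          exact this.2 hξU
        obtain ⟨V, hV, hηV, hVE⟩ := ih _ hlt (fun y hy => hZ ⟨hy.1.1, hy.2⟩)
        refine ⟨V, hV, hηV, ?_⟩
        rintro y ⟨hyZ, hyV⟩
        by_cases hyU : y ∈ U
        · exact hUE ⟨hyU, by rw [hξ.def]; exact hyZ⟩
        · exact hVE ⟨⟨hyZ, hyU⟩, hyV⟩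
      · refine ⟨(closure {g ξ})ᶜ, isClosed_closure.isOpen_compl, ?_, ?_⟩
        · intro h
          have h1 : g ξ ⤳ η := specializes_iff_mem_closure.mpr h
          have h2 : η ⤳ g ξ := hη.specializes trivial
          exact hgξ (h1.antisymm h2).eq
        · rintro y ⟨hyZ, hyV⟩
          exfalso
          apply hyV
          have h1 : ξ ⤳ y := hξ.specializes hyZ
          exact specializes_iff_mem_closure.mp (h1.map hg)
    · refine ⟨Set.univ, isOpen_univ, trivial, ?_⟩
      rintro y ⟨hyZ, -⟩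
      exact absurd ⟨y, hyZ⟩ hne
  · rw [isPreirreducible_iff_isClosed_union_isClosed] at hirr
    push Not at hirr
    obtain ⟨z₁, z₂, hz₁, hz₂, hsub, hn₁, hn₂⟩ := hirr
    have hcl₁ : IsClosed ((Z : Set Y) ∩ z₁) := Z.isClosed.inter hz₁
    have hcl₂ : IsClosed ((Z : Set Y) ∩ z₂) := Z.isClosed.inter hz₂
    have hlt₁ : (⟨(Z : Set Y) ∩ z₁, hcl₁⟩ : Closeds Y) < Z := by
      refine lt_of_le_of_ne (fun y hy => hy.1) ?_
      intro h
      apply hn₁
      intro y hy
      have : y ∈ ((⟨(Z : Set Y) ∩ z₁, hcl₁⟩ : Closeds Y) : Set Y) := by rw [h]; exact hy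
      exact this.2
    have hlt₂ : (⟨(Z : Set Y) ∩ z₂, hcl₂⟩ : Closeds Y) < Z := by
      refine lt_of_le_of_ne (fun y hy => hy.1) ?_
      intro h
      apply hn₂
      intro y hy
      have : y ∈ ((⟨(Z : Set Y) ∩ z₂, hcl₂⟩ : Closeds Y) : Set Y) := by rw [h]; exact hy
      exact this.2
    obtain ⟨V₁, hV₁, hηV₁, hVE₁⟩ := ih _ hlt₁ (fun y hy => hZ ⟨hy.1.1, hy.2⟩)
    obtain ⟨V₂, hV₂, hηV₂, hVE₂⟩ := ih _ hlt₂ (fun y hy => hZ ⟨hy.1.1, hy.2⟩)
    refine ⟨V₁ ∩ V₂, hV₁.inter hV₂, ⟨hηV₁, hηV₂⟩, ?_⟩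
    rintro y ⟨hyZ, hyV₁, hyV₂⟩
    rcases hsub hyZ with h | h
    · exact hVE₁ ⟨⟨hyZ, h⟩, hyV₁⟩
    · exact hVE₂ ⟨⟨hyZ, h⟩, hyV₂⟩

/-! ### E: assembly -/

theorem locusMor_fibrewise {P : ∀ ⦃Y T : Scheme.{u}⦄, (Y ⟶ T) → Prop}
    (hP : ConsProp.IsFieldStable P) {X Y S : Scheme.{u}} (f : X ⟶ Y) (g : Y ⟶ S)
    [LocallyOfFiniteType f] [QuasiCompact f] :
    ConsProp.locusMor (fun X Y T f g => ∀ y : ↥Y, P (f.fiberToSpecResidueField y)) f g =
      {s | g ⁻¹' {s} ⊆ ConsProp.locus P f} := by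
  ext s
  have sq := (Groth.Agent.H7.isPullback_fibreMap f g s).flip
  have key : ∀ y : ↥(pullback g (S.fromSpecResidueField s)),
      P ((Groth.Agent.H7.fibreMap f g s).fiberToSpecResidueField y) ↔
        P (f.fiberToSpecResidueField ((pullback.fst g (S.fromSpecResidueField s)) y)) :=
    fun y => fibre_iff_of_isPullback hP sq y
  have hr : Set.range (pullback.fst g (S.fromSpecResidueField s)) = g ⁻¹' {s} :=
    g.range_fiberι s
  constructor
  · intro h y hy
    rw [← hr] at hy
    obtain ⟨y', rfl⟩ := hy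
    exact (key y').mp (h y')
  · intro h y'
    refine (key y').mpr (h ?_)
    rw [← hr]
    exact ⟨y', rfl⟩

theorem isFieldStableMor_fibrewise {P : ∀ ⦃Y T : Scheme.{u}⦄, (Y ⟶ T) → Prop}
    (hP : ConsProp.IsFieldStable P) :
    ConsProp.IsFieldStableMor (fun X Y T f g => ∀ y : ↥Y, P (f.fiberToSpecResidueField y)) := by
  intro X X' Y Y' T T' f g f' g' eX eY h _ _ _ _ _ _ _ _ hY hX
  have hYloc : IsLocallyNoetherian Y := by
    have : IsLocallyNoetherian T := inferInstance
    exact LocallyOfFiniteType.isLocallyNoetherian g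
  have hlft : LocallyOfFiniteType f := locallyOfFiniteType_of_comp f g
  have hqc : QuasiCompact f := QuasiCompact.of_comp f g
  have hsY : Surjective eY :=
    MorphismProperty.of_isPullback (P := @Surjective) hY.flip (surjective_of_subsingleton h)
  constructor
  · intro H y'
    exact (fibre_iff_of_isPullback hP hX y').mpr (H _)
  · intro H y
    obtain ⟨y', rfl⟩ := eY.surjective y
    exact (fibre_iff_of_isPullback hP hX y').mp (H y')

theorem genOpen_of_isCons {P : ∀ ⦃Y T : Scheme.{u}⦄, (Y ⟶ T) → Prop} (hP : ConsProp.IsCons P) :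
    GenOpen P := by
  intro X S u _ _ _ _ hη
  rcases hP.2 u with h | h
  · exact h
  · exfalso
    have : genericPoint S ∈ interior (ConsProp.locus P u)ᶜ := by
      rw [(genericPoint_spec S).mem_open_set_iff isOpen_interior]
      simpa using h
    exact interior_subset this hη

theorem genOpen_not_of_isCons {P : ∀ ⦃Y T : Scheme.{u}⦄, (Y ⟶ T) → Prop}
    (hP : ConsProp.IsCons P) : GenOpen (fun Y T g => ¬ P g) := by
  intro X S u _ _ _ _ hη
  have e : ConsProp.locus (fun Y T g => ¬ P g) u = (ConsProp.locus P u)ᶜ := rfl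
  rw [e] at hη ⊢
  rcases hP.2 u with h | h
  · exfalso
    have : genericPoint S ∈ interior (ConsProp.locus P u) := by
      rw [(genericPoint_spec S).mem_open_set_iff isOpen_interior]
      simpa using h
    exact hη (interior_subset this)
  · exact h

theorem isFieldStable_not {P : ∀ ⦃Y T : Scheme.{u}⦄, (Y ⟶ T) → Prop}
    (hP : ConsProp.IsFieldStable P) : ConsProp.IsFieldStable (fun Y T g => ¬ P g) := by
  intro Y Y' T T' g g' e h _ _ _ _ _ _ sq
  exact not_congr (hP g g' e h sq)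

theorem isNoetherian_of_lft {Y S : Scheme.{u}} (g : Y ⟶ S) [IsNoetherian S]
    [LocallyOfFiniteType g] [QuasiCompact g] : IsNoetherian Y := by
  have : IsLocallyNoetherian Y := LocallyOfFiniteType.isLocallyNoetherian g
  have : CompactSpace Y := QuasiCompact.compactSpace_of_compactSpace g
  exact ⟨⟩

theorem interior_locusMor_fibrewise_nonempty {P : ∀ ⦃Y T : Scheme.{u}⦄, (Y ⟶ T) → Prop}
    (hP : ConsProp.IsFieldStable P) (hG : GenOpen P) {X Y S : Scheme.{u}} (f : X ⟶ Y)
    (g : Y ⟶ S) [IsIntegral S] [IsNoetherian S] [LocallyOfFiniteType g] [QuasiCompact g]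
    [LocallyOfFiniteType (f ≫ g)] [QuasiCompact (f ≫ g)]
    (hη : genericPoint S ∈ ConsProp.locusMor
      (fun X Y T f g => ∀ y : ↥Y, P (f.fiberToSpecResidueField y)) f g) :
    (interior (ConsProp.locusMor
      (fun X Y T f g => ∀ y : ↥Y, P (f.fiberToSpecResidueField y)) f g)).Nonempty := by
  have i2 := qs_of_lft_noetherian g
  have hlft : LocallyOfFiniteType f := locallyOfFiniteType_of_comp f g
  have hqc : QuasiCompact f := QuasiCompact.of_comp f g
  have hY : IsNoetherian Y := isNoetherian_of_lft g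
  rw [locusMor_fibrewise hP] at hη ⊢
  obtain ⟨V, hV, hηV, hVE⟩ := exists_open_preimage_subset g g.continuous (genericPoint S)
    (genericPoint_spec S) (ConsProp.locus P f)
    (fun ξ hξ => exists_open_inter_closure_subset_locus hP hG f ξ hξ) ⊤ (fun y hy => hη hy.2)
  refine ⟨genericPoint S, interior_maximal ?_ hV hηV⟩
  intro s hs y hy
  refine hVE ⟨trivial, ?_⟩
  have : g y = s := hy
  show g y ∈ V
  rw [this]
  exact hs

theorem isIndConsMor_fibrewise {P : ∀ ⦃Y T : Scheme.{u}⦄, (Y ⟶ T) → Prop}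
    (hP : ConsProp.IsIndCons P) :
    ConsProp.IsIndConsMor
      (fun X Y T f g => ∀ y : ↥Y, P (f.fiberToSpecResidueField y)) := by
  refine ⟨isFieldStableMor_fibrewise hP.1, ?_⟩
  intro X Y S f g _ _ _ _ _ _ hη
  exact interior_locusMor_fibrewise_nonempty hP.1 hP.2 f g hη

theorem isConsMor_fibrewise {P : ∀ ⦃Y T : Scheme.{u}⦄, (Y ⟶ T) → Prop}
    (hP : ConsProp.IsCons P) :
    ConsProp.IsConsMor
      (fun X Y T f g => ∀ y : ↥Y, P (f.fiberToSpecResidueField y)) := by
  refine ⟨isFieldStableMor_fibrewise hP.1, ?_⟩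
  intro X Y S f g _ _ _ _ _ _
  by_cases hη : genericPoint S ∈ ConsProp.locusMor
      (fun X Y T f g => ∀ y : ↥Y, P (f.fiberToSpecResidueField y)) f g
  · exact Or.inl (interior_locusMor_fibrewise_nonempty hP.1 (genOpen_of_isCons hP) f g hη)
  · right
    have i1 := lfp_of_lft_noetherian g
    have i2 := qs_of_lft_noetherian g
    have hlft : LocallyOfFiniteType f := locallyOfFiniteType_of_comp f g
    have hqc : QuasiCompact f := QuasiCompact.of_comp f g
    have hY : IsNoetherian Y := isNoetherian_of_lft g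
    rw [locusMor_fibrewise hP.1] at hη ⊢
    rw [Set.mem_setOf_eq, Set.not_subset] at hη
    obtain ⟨y₀, hy₀, hy₀E⟩ := hη
    have hy₀E' : y₀ ∈ ConsProp.locus (fun Y T g => ¬ P g) f := hy₀E
    obtain ⟨U, hU, hy₀U, hUE⟩ := exists_open_inter_closure_subset_locus
      (isFieldStable_not hP.1) (genOpen_not_of_isCons hP) f y₀ hy₀E'
    have hUc : IsConstructible U := (NoetherianSpace.isCompact U).isConstructible hU
    have hZc : IsConstructible (closure ({y₀} : Set Y)) :=
      ((NoetherianSpace.isCompact _).isConstructible isClosed_closure.isOpen_compl).of_compl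
    have himg : IsConstructible (g '' (U ∩ closure {y₀})) :=
      g.isConstructible_image (hUc.inter hZc)
    have hmem : genericPoint S ∈ g '' (U ∩ closure {y₀}) :=
      ⟨y₀, ⟨hy₀U, subset_closure (Set.mem_singleton y₀)⟩, hy₀⟩
    obtain ⟨V, hV, hηV, hVsub⟩ := exists_isOpen_subset_of_isConstructible
      (genericPoint_spec S) _ himg hmem
    refine ⟨genericPoint S, interior_maximal ?_ hV hηV⟩
    intro s hs hsub
    obtain ⟨y, hy, rfl⟩ := hVsub hs
    exact hUE hy (hsub rfl)

end Groth.Agent.H24
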