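import Mathlib

/-!
# Gluing two opens and base change (helper24)

* `quasiSeparatedSpace_of_two_opens`: a prespectral space covered by two quasi-separated opens with
  quasi-compact intersection is quasi-separated.
* `twoCover`, `exists_glue_two`, `hom_ext_two`, `of_two_cover_source`, `isIso_of_two_cover`:
  the open cover given by two jointly surjective open immersions.
* `pushout_inl_eq_inr_iff`, `pushout_jointly_surjective`: points of a pushout of open immersions.
* `isPullback_glue`: base change commutes with gluing two opens.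
* `pushout_desc_finitePresentation`.
-/

set_option autoImplicit false

open CategoryTheory AlgebraicGeometry Limits TopologicalSpace Topology

universe u

namespace Groth.Agent.H24

section Top

variable {T : Type*} [TopologicalSpace T]

/-- A prespectral space covered by two quasi-separated opens with quasi-compact intersection is
quasi-separated. -/
theorem quasiSeparatedSpace_of_two_opens [PrespectralSpace T] {O₁ O₂ : Set T} (hO₁ : IsOpen O₁)
    (hO₂ : IsOpen O₂) (hcov : ∀ x, x ∈ O₁ ∨ x ∈ O₂) (h₁ : IsQuasiSeparated O₁)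
    (h₂ : IsQuasiSeparated O₂) (h₁₂ : IsCompact (O₁ ∩ O₂)) : QuasiSeparatedSpace T := by
  have hM : IsOpen (O₁ ∩ O₂) := hO₁.inter hO₂
  have mixed : ∀ K L : Set T, IsOpen K → IsCompact K → K ⊆ O₁ → IsOpen L → IsCompact L → L ⊆ O₂ →
      IsCompact (K ∩ L) := by
    intro K L hKo hKc hK hLo hLc hL
    have e : K ∩ L = (K ∩ (O₁ ∩ O₂)) ∩ (L ∩ (O₁ ∩ O₂)) := by
      ext x
      constructor
      · rintro ⟨hx1, hx2⟩
        exact ⟨⟨hx1, hK hx1, hL hx2⟩, ⟨hx2, hK hx1, hL hx2⟩⟩
      · rintro ⟨⟨hx1, _⟩, ⟨hx2, _⟩⟩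
        exact ⟨hx1, hx2⟩
    rw [e]
    have c1 : IsCompact (K ∩ (O₁ ∩ O₂)) :=
      h₁ K (O₁ ∩ O₂) hK hKo hKc Set.inter_subset_left hM h₁₂
    have c2 : IsCompact (L ∩ (O₁ ∩ O₂)) :=
      h₂ L (O₁ ∩ O₂) hL hLo hLc Set.inter_subset_right hM h₁₂
    exact h₂ _ _ (Set.inter_subset_right.trans Set.inter_subset_right) (hKo.inter hM) c1
      (Set.inter_subset_right.trans Set.inter_subset_right) (hLo.inter hM) c2
  refine QuasiSeparatedSpace.of_isTopologicalBasis
    (b := fun K : {K : Set T // IsOpen K ∧ IsCompact K ∧ (K ⊆ O₁ ∨ K ⊆ O₂)} => K.1) ?_ ?_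
  · refine isTopologicalBasis_of_isOpen_of_nhds ?_ ?_
    · rintro _ ⟨K, rfl⟩
      exact K.2.1
    · intro a u hau hu
      have hb := PrespectralSpace.isTopologicalBasis (X := T)
      rcases hcov a with ha | ha
      · obtain ⟨v, ⟨hvo, hvc⟩, hav, hvu⟩ :=
          hb.exists_subset_of_mem_open (show a ∈ u ∩ O₁ from ⟨hau, ha⟩) (hu.inter hO₁)
        exact ⟨v, ⟨⟨v, hvo, hvc, Or.inl (hvu.trans Set.inter_subset_right)⟩, rfl⟩, hav,
          hvu.trans Set.inter_subset_left⟩
      · obtain ⟨v, ⟨hvo, hvc⟩, hav, hvu⟩ :=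
          hb.exists_subset_of_mem_open (show a ∈ u ∩ O₂ from ⟨hau, ha⟩) (hu.inter hO₂)
        exact ⟨v, ⟨⟨v, hvo, hvc, Or.inr (hvu.trans Set.inter_subset_right)⟩, rfl⟩, hav,
          hvu.trans Set.inter_subset_left⟩
  · rintro ⟨K, hKo, hKc, hK⟩ ⟨L, hLo, hLc, hL⟩
    show IsCompact (K ∩ L)
    rcases hK with hK | hK <;> rcases hL with hL | hL
    · exact h₁ K L hK hKo hKc hL hLo hLc
    · exact mixed K L hKo hKc hK hLo hLc hL
    · rw [Set.inter_comm]
      exact mixed L K hLo hLc hL hKo hKc hK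
    · exact h₂ K L hK hKo hKc hL hLo hLc

end Top

section TwoCover

variable {X Z₁ Z₂ : Scheme.{u}} (j₁ : Z₁ ⟶ X) (j₂ : Z₂ ⟶ X) [IsOpenImmersion j₁]
  [IsOpenImmersion j₂] (hcov : ∀ x : X, x ∈ Set.range j₁ ∨ x ∈ Set.range j₂)

/-- The open cover given by two jointly surjective open immersions. -/
noncomputable def twoCover : X.OpenCover :=
  Scheme.Cover.mkOfCovers Bool (fun b => cond b Z₁ Z₂)
    (fun b => match b with
      | true => j₁
      | false => j₂)
    (fun x => by
      rcases hcov x with ⟨y, hy⟩ | ⟨y, hy⟩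
      · exact ⟨true, y, hy⟩
      · exact ⟨false, y, hy⟩)
    (fun b => by
      cases b
      · exact inferInstanceAs (IsOpenImmersion j₂)
      · exact inferInstanceAs (IsOpenImmersion j₁))

include hcov in
theorem exists_glue_two {Y : Scheme.{u}} (g₁ : Z₁ ⟶ Y) (g₂ : Z₂ ⟶ Y)
    (h : pullback.fst j₁ j₂ ≫ g₁ = pullback.snd j₁ j₂ ≫ g₂) :
    ∃ g : X ⟶ Y, j₁ ≫ g = g₁ ∧ j₂ ≫ g = g₂ := by
  let G : ∀ b : Bool, (twoCover j₁ j₂ hcov).X b ⟶ Y := fun b =>
    match b with
    | true => g₁
    | false => g₂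
  have hG : ∀ x y, pullback.fst ((twoCover j₁ j₂ hcov).f x) ((twoCover j₁ j₂ hcov).f y) ≫ G x =
      pullback.snd ((twoCover j₁ j₂ hcov).f x) ((twoCover j₁ j₂ hcov).f y) ≫ G y := by
    intro x y
    cases x <;> cases y
    · show pullback.fst j₂ j₂ ≫ g₂ = pullback.snd j₂ j₂ ≫ g₂
      have : pullback.fst j₂ j₂ = pullback.snd j₂ j₂ := by
        rw [← cancel_mono j₂]
        exact pullback.condition
      rw [this]
    · show pullback.fst j₂ j₁ ≫ g₂ = pullback.snd j₂ j₁ ≫ g₁
      have e1 := pullbackSymmetry_hom_comp_snd j₂ j₁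
      have e2 := pullbackSymmetry_hom_comp_fst j₂ j₁
      rw [← e1, ← e2, Category.assoc, Category.assoc, h]
    · exact h
    · show pullback.fst j₁ j₁ ≫ g₁ = pullback.snd j₁ j₁ ≫ g₁
      have : pullback.fst j₁ j₁ = pullback.snd j₁ j₁ := by
        rw [← cancel_mono j₁]
        exact pullback.condition
      rw [this]
  exact ⟨(twoCover j₁ j₂ hcov).glueMorphisms G hG,
    (twoCover j₁ j₂ hcov).ι_glueMorphisms G hG true,
    (twoCover j₁ j₂ hcov).ι_glueMorphisms G hG false⟩

include hcov in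
theorem hom_ext_two {Y : Scheme.{u}} {a b : X ⟶ Y} (h₁ : j₁ ≫ a = j₁ ≫ b)
    (h₂ : j₂ ≫ a = j₂ ≫ b) : a = b :=
  (twoCover j₁ j₂ hcov).hom_ext a b (fun x => by
    cases x
    · exact h₂
    · exact h₁)

include hcov in
theorem of_two_cover_source (P : MorphismProperty Scheme.{u}) [IsZariskiLocalAtSource P]
    {Y : Scheme.{u}} (f : X ⟶ Y) (h₁ : P (j₁ ≫ f)) (h₂ : P (j₂ ≫ f)) : P f :=
  (IsZariskiLocalAtSource.iff_of_openCover (P := P) (twoCover j₁ j₂ hcov)).mpr (fun x => by
    cases x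
    · exact h₂
    · exact h₁)

end TwoCover

theorem isIso_of_two_cover {X P Z₁ Z₂ : Scheme.{u}} (k : X ⟶ P) (e₁ : Z₁ ⟶ P) (e₂ : Z₂ ⟶ P)
    [IsOpenImmersion e₁] [IsOpenImmersion e₂]
    (hcov : ∀ p : P, p ∈ Set.range e₁ ∨ p ∈ Set.range e₂) (i₁ : Z₁ ⟶ X) (i₂ : Z₂ ⟶ X)
    (h₁ : IsPullback i₁ (𝟙 Z₁) k e₁) (h₂ : IsPullback i₂ (𝟙 Z₂) k e₂) : IsIso k := by
  have := (IsZariskiLocalAtTarget.iff_of_openCover (P := MorphismProperty.isomorphisms Scheme.{u})
    (f := k) (twoCover e₁ e₂ hcov)).mpr ?_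
  · exact this
  · intro b
    cases b
    · show IsIso (pullback.snd k e₂)
      have e : h₂.isoPullback.hom ≫ pullback.snd k e₂ = 𝟙 _ := h₂.isoPullback_hom_snd
      exact IsIso.of_isIso_fac_left e
    · show IsIso (pullback.snd k e₁)
      have e : h₁.isoPullback.hom ≫ pullback.snd k e₁ = 𝟙 _ := h₁.isoPullback_hom_snd
      exact IsIso.of_isIso_fac_left e

section Pushout

variable {V A B : Scheme.{u}} (vA : V ⟶ A) (vB : V ⟶ B) [IsOpenImmersion vA] [IsOpenImmersion vB]

instance span_map_isOpenImmersion {i j : WalkingSpan} (f : i ⟶ j) :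
    IsOpenImmersion ((span vA vB).map f) := by
  rcases f with _ | j
  · have : (span vA vB).map (WidePushoutShape.Hom.id i) = 𝟙 _ := (span vA vB).map_id i
    rw [this]
    infer_instance
  · cases j
    · exact inferInstanceAs (IsOpenImmersion vA)
    · exact inferInstanceAs (IsOpenImmersion vB)

instance pushout_inl_isOpenImmersion : IsOpenImmersion (pushout.inl vA vB) :=
  inferInstanceAs (IsOpenImmersion (colimit.ι (span vA vB) WalkingSpan.left))

instance pushout_inr_isOpenImmersion : IsOpenImmersion (pushout.inr vA vB) :=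
  inferInstanceAs (IsOpenImmersion (colimit.ι (span vA vB) WalkingSpan.right))

theorem pushout_inl_eq_inr_iff {a₀ : A} {b₀ : B} :
    pushout.inl vA vB a₀ = pushout.inr vA vB b₀ ↔ ∃ v : V, vA v = a₀ ∧ vB v = b₀ := by
  constructor
  · intro h
    obtain ⟨k, fi, fj, y, h1, h2⟩ := (Scheme.IsLocallyDirected.ι_eq_ι_iff (span vA vB)
      (i := WalkingSpan.left) (j := WalkingSpan.right)).mp h
    rcases fi with _ | _
    · rcases fj with _ | _
    · rcases fj with _ | _
      exact ⟨y, h1, h2⟩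
  · rintro ⟨v, rfl, rfl⟩
    rw [← Scheme.Hom.comp_apply, ← Scheme.Hom.comp_apply, pushout.condition]

theorem pushout_jointly_surjective (x : ↥(pushout vA vB)) :
    x ∈ Set.range (pushout.inl vA vB) ∨ x ∈ Set.range (pushout.inr vA vB) := by
  obtain ⟨i, xi, rfl⟩ := Scheme.IsLocallyDirected.ι_jointly_surjective (span vA vB) x
  rcases i with _ | (_ | _)
  · left
    refine ⟨vA xi, ?_⟩
    have := colimit.w (span vA vB) (WidePushoutShape.Hom.init WalkingPair.left)
    rw [← this]
    rfl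
  · exact Or.inl ⟨xi, rfl⟩
  · exact Or.inr ⟨xi, rfl⟩

end Pushout

section Glue

variable {V A B : Scheme.{u}} (vA : V ⟶ A) (vB : V ⟶ B) [IsOpenImmersion vA] [IsOpenImmersion vB]

/-- Base change commutes with gluing two opens. -/
theorem isPullback_glue {S T : Scheme.{u}} (π : S ⟶ T)
    (a : A ⟶ T) (b : B ⟶ T) (hab : vA ≫ a = vB ≫ b)
    {X Z₁ Z₂ : Scheme.{u}} (f : X ⟶ S) (j₁ : Z₁ ⟶ X) (j₂ : Z₂ ⟶ X) [IsOpenImmersion j₁]
    [IsOpenImmersion j₂] (hcov : ∀ x : X, x ∈ Set.range j₁ ∨ x ∈ Set.range j₂)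
    (gA : Z₁ ⟶ A) (gB : Z₂ ⟶ B)
    (sqA : IsPullback gA (j₁ ≫ f) a π) (sqB : IsPullback gB (j₂ ≫ f) b π)
    (gV : pullback j₁ j₂ ⟶ V)
    (sqVA : IsPullback gV (pullback.fst j₁ j₂) vA gA)
    (sqVB : IsPullback gV (pullback.snd j₁ j₂) vB gB) :
    ∃ g : X ⟶ pushout vA vB, IsPullback g f (pushout.desc a b hab) π := by
  obtain ⟨g, hg₁, hg₂⟩ := exists_glue_two j₁ j₂ hcov (gA ≫ pushout.inl vA vB)
    (gB ≫ pushout.inr vA vB) (by
      rw [← Category.assoc, ← sqVA.w, ← Category.assoc, ← sqVB.w, Category.assoc, Category.assoc,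
        pushout.condition])
  refine ⟨g, ?_⟩
  have hw : g ≫ pushout.desc a b hab = f ≫ π := by
    apply hom_ext_two j₁ j₂ hcov
    · rw [← Category.assoc, hg₁, Category.assoc, pushout.inl_desc, ← Category.assoc, sqA.w]
    · rw [← Category.assoc, hg₂, Category.assoc, pushout.inr_desc, ← Category.assoc, sqB.w]
  -- the preimages of the two opens
  have hrA : g ⁻¹ᵁ (pushout.inl vA vB).opensRange = j₁.opensRange := by
    apply TopologicalSpace.Opens.ext
    show g ⁻¹' (Set.range (pushout.inl vA vB)) = Set.range j₁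
    ext x
    constructor
    · rintro ⟨a₀, ha₀⟩
      rcases hcov x with hx | ⟨z', rfl⟩
      · exact hx
      · have h1 : g (j₂ z') = pushout.inr vA vB (gB z') := by
          rw [← Scheme.Hom.comp_apply, hg₂]
          rfl
        rw [h1] at ha₀
        obtain ⟨v, hv1, hv2⟩ := (pushout_inl_eq_inr_iff vA vB).mp ha₀
        obtain ⟨w, hw1, hw2⟩ := Scheme.exists_preimage_of_isPullback sqVB v z' hv2
        refine ⟨pullback.fst j₁ j₂ w, ?_⟩
        rw [← hw2, ← Scheme.Hom.comp_apply, ← Scheme.Hom.comp_apply, pullback.condition]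
    · rintro ⟨z, rfl⟩
      refine ⟨gA z, ?_⟩
      rw [← Scheme.Hom.comp_apply, ← Scheme.Hom.comp_apply, hg₁]
  have hrB : g ⁻¹ᵁ (pushout.inr vA vB).opensRange = j₂.opensRange := by
    apply TopologicalSpace.Opens.ext
    show g ⁻¹' (Set.range (pushout.inr vA vB)) = Set.range j₂
    ext x
    constructor
    · rintro ⟨b₀, hb₀⟩
      rcases hcov x with ⟨z', rfl⟩ | hx
      · have h1 : g (j₁ z') = pushout.inl vA vB (gA z') := by
          rw [← Scheme.Hom.comp_apply, hg₁]
          rfl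
        rw [h1] at hb₀
        obtain ⟨v, hv1, hv2⟩ := (pushout_inl_eq_inr_iff vA vB).mp hb₀.symm
        obtain ⟨w, hw1, hw2⟩ := Scheme.exists_preimage_of_isPullback sqVA v z' hv1
        refine ⟨pullback.snd j₁ j₂ w, ?_⟩
        rw [← hw2, ← Scheme.Hom.comp_apply, ← Scheme.Hom.comp_apply, pullback.condition]
      · exact hx
    · rintro ⟨z, rfl⟩
      refine ⟨gB z, ?_⟩
      rw [← Scheme.Hom.comp_apply, ← Scheme.Hom.comp_apply, hg₂]
  have hA' : IsPullback gA j₁ (pushout.inl vA vB) g :=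
    IsOpenImmersion.isPullback gA j₁ (pushout.inl vA vB) g hg₁ hrA
  have hB' : IsPullback gB j₂ (pushout.inr vA vB) g :=
    IsOpenImmersion.isPullback gB j₂ (pushout.inr vA vB) g hg₂ hrB
  -- the comparison map
  obtain ⟨k, hk₁, hk₂⟩ : ∃ k : X ⟶ pullback (pushout.desc a b hab) π,
      k ≫ pullback.fst (pushout.desc a b hab) π = g ∧
        k ≫ pullback.snd (pushout.desc a b hab) π = f :=
    ⟨pullback.lift g f hw, pullback.lift_fst _ _ _, pullback.lift_snd _ _ _⟩
  have hR₁ : IsPullback gA (j₁ ≫ k) (pushout.inl vA vB)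
      (pullback.fst (pushout.desc a b hab) π) := by
    refine IsPullback.of_bot ?_ ?_ (IsPullback.of_hasPullback (pushout.desc a b hab) π)
    · rw [Category.assoc, hk₂, pushout.inl_desc]
      exact sqA
    · rw [Category.assoc, hk₁, hg₁]
  have hR₂ : IsPullback gB (j₂ ≫ k) (pushout.inr vA vB)
      (pullback.fst (pushout.desc a b hab) π) := by
    refine IsPullback.of_bot ?_ ?_ (IsPullback.of_hasPullback (pushout.desc a b hab) π)
    · rw [Category.assoc, hk₂, pushout.inr_desc]
      exact sqB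
    · rw [Category.assoc, hk₁, hg₂]
  have hL₁ : IsPullback (𝟙 Z₁) j₁ (j₁ ≫ k) k := by
    refine IsPullback.of_right ?_ (Category.id_comp _) hR₁
    rw [Category.id_comp, hk₁]
    exact hA'
  have hL₂ : IsPullback (𝟙 Z₂) j₂ (j₂ ≫ k) k := by
    refine IsPullback.of_right ?_ (Category.id_comp _) hR₂
    rw [Category.id_comp, hk₁]
    exact hB'
  have ho₁ : IsOpenImmersion (j₁ ≫ k) :=
    MorphismProperty.of_isPullback (P := @IsOpenImmersion) hR₁ inferInstance
  have ho₂ : IsOpenImmersion (j₂ ≫ k) :=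
    MorphismProperty.of_isPullback (P := @IsOpenImmersion) hR₂ inferInstance
  have hcovP : ∀ p : ↥(pullback (pushout.desc a b hab) π),
      p ∈ Set.range (j₁ ≫ k) ∨ p ∈ Set.range (j₂ ≫ k) := by
    intro p
    rcases pushout_jointly_surjective vA vB (pullback.fst (pushout.desc a b hab) π p) with
      ⟨a₀, ha₀⟩ | ⟨b₀, hb₀⟩
    · obtain ⟨z, _, hz⟩ := Scheme.exists_preimage_of_isPullback hR₁ a₀ p ha₀
      exact Or.inl ⟨z, hz⟩
    · obtain ⟨z, _, hz⟩ := Scheme.exists_preimage_of_isPullback hR₂ b₀ p hb₀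
      exact Or.inr ⟨z, hz⟩
  have hiso : IsIso k := isIso_of_two_cover k (j₁ ≫ k) (j₂ ≫ k) hcovP j₁ j₂ hL₁.flip hL₂.flip
  exact IsPullback.of_iso_pullback ⟨hw⟩ (asIso k) hk₁ hk₂

/-- The glued structure morphism is of finite presentation. -/
theorem pushout_desc_finitePresentation {T : Scheme.{u}} (a : A ⟶ T) (b : B ⟶ T)
    (hab : vA ≫ a = vB ≫ b) [LocallyOfFinitePresentation a] [LocallyOfFinitePresentation b]
    [CompactSpace A] [CompactSpace B] [QuasiSeparatedSpace A] [QuasiSeparatedSpace B]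
    [CompactSpace V] [QuasiSeparatedSpace T] :
    LocallyOfFinitePresentation (pushout.desc a b hab) ∧ QuasiCompact (pushout.desc a b hab) ∧
      QuasiSeparated (pushout.desc a b hab) := by
  have hcov := pushout_jointly_surjective vA vB
  have hloc : IsZariskiLocalAtSource (@LocallyOfFinitePresentation : MorphismProperty Scheme.{u}) :=
    HasRingHomProperty.instIsZariskiLocalAtSource (Q := RingHom.FinitePresentation)
  have h1 : LocallyOfFinitePresentation (pushout.desc a b hab) :=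
    of_two_cover_source (pushout.inl vA vB) (pushout.inr vA vB) hcov
      (@LocallyOfFinitePresentation : MorphismProperty Scheme.{u}) _
      (by rw [pushout.inl_desc]; infer_instance) (by rw [pushout.inr_desc]; infer_instance)
  have hc : CompactSpace ↥(pushout vA vB) := by
    rw [← isCompact_univ_iff]
    have : (Set.univ : Set ↥(pushout vA vB)) =
        Set.range (pushout.inl vA vB) ∪ Set.range (pushout.inr vA vB) := by
      ext x
      simp only [Set.mem_univ, true_iff]
      exact hcov x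
    rw [this]
    exact (isCompact_range (pushout.inl vA vB).continuous).union
      (isCompact_range (pushout.inr vA vB).continuous)
  have hq : QuasiSeparatedSpace ↥(pushout vA vB) := by
    refine quasiSeparatedSpace_of_two_opens (pushout.inl vA vB).opensRange.2
      (pushout.inr vA vB).opensRange.2 hcov ?_ ?_ ?_
    · have := (pushout.inl vA vB).isOpenEmbedding.isQuasiSeparated_iff (s := Set.univ)
      rw [Set.image_univ] at this
      exact this.mp isQuasiSeparated_univ
    · have := (pushout.inr vA vB).isOpenEmbedding.isQuasiSeparated_iff (s := Set.univ)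
      rw [Set.image_univ] at this
      exact this.mp isQuasiSeparated_univ
    · have : Set.range (pushout.inl vA vB) ∩ Set.range (pushout.inr vA vB) =
          Set.range (vA ≫ pushout.inl vA vB) := by
        ext x
        constructor
        · rintro ⟨⟨a₀, rfl⟩, ⟨b₀, hb₀⟩⟩
          obtain ⟨v, rfl, _⟩ := (pushout_inl_eq_inr_iff vA vB).mp hb₀.symm
          exact ⟨v, rfl⟩
        · rintro ⟨v, rfl⟩
          refine ⟨⟨vA v, rfl⟩, ⟨vB v, ?_⟩⟩
          rw [← Scheme.Hom.comp_apply, ← pushout.condition]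
      show IsCompact (Set.range (pushout.inl vA vB) ∩ Set.range (pushout.inr vA vB))
      rw [this]
      exact isCompact_range (vA ≫ pushout.inl vA vB).continuous
  have h2 : QuasiCompact (pushout.desc a b hab) := inferInstance
  have h3 : QuasiSeparated (pushout.desc a b hab) := by
    have : QuasiSeparated (pushout.desc a b hab ≫ terminal.from T) := by
      rw [terminal.comp_from]
      exact (quasiSeparatedSpace_iff_quasiSeparated _).mp hq
    exact QuasiSeparated.of_comp (pushout.desc a b hab) (terminal.from T)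
  exact ⟨h1, h2, h3⟩

end Glue

end Groth.Agent.H24
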