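import Mathlib
import Groth.Agent.H24.ConsLim

/-!
# Zariski coverings of a cofiltered limit descend to a stage (helper24)
-/

set_option autoImplicit false

open CategoryTheory AlgebraicGeometry Limits TopologicalSpace Topology

universe u

namespace Groth.Agent.H24

/-- An open immersion whose range is the preimage of an open `V` is the base change of `V.ι`. -/
theorem exists_isPullback_of_preimage_eq {X Y U : Scheme.{u}} (f : X ⟶ Y) (V : Y.Opens)
    (u : U ⟶ X) [IsOpenImmersion u] (h : f ⁻¹ᵁ V = u.opensRange) :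
    ∃ e : U ⟶ V.toScheme, IsPullback e u V.ι f := by
  have hr : Set.range (u ≫ f) ⊆ Set.range V.ι := by
    rintro _ ⟨x, rfl⟩
    rw [Scheme.Opens.range_ι]
    have hx : u x ∈ f ⁻¹ᵁ V := by rw [h]; exact ⟨x, rfl⟩
    exact hx
  refine ⟨IsOpenImmersion.lift V.ι (u ≫ f) hr, IsOpenImmersion.isPullback _ _ _ _
    (IsOpenImmersion.lift_fac _ _ _).symm ?_⟩
  rw [Scheme.Opens.opensRange_ι, h]

/-- The inclusion of a compact open of a quasi-separated scheme is quasi-compact. -/
theorem quasiCompact_ι_of_isCompact {X : Scheme.{u}} [QuasiSeparatedSpace X] (W : X.Opens)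
    (hW : IsCompact (W : Set X)) : QuasiCompact W.ι :=
  quasiCompact_iff_isSpectralMap.mpr
    (IsRetrocompact_iff_isSpectralMap_subtypeVal.mp (hW.isRetrocompact W.2))

section

variable {I : Type u} [SmallCategory I] [IsCofiltered I]
    (D : I ⥤ Scheme.{u}) (c : Limits.Cone D) (hc : Limits.IsLimit c)
    [∀ {i j : I} (f : i ⟶ j), IsAffineHom (D.map f)]

include hc in
/-- Finitely many compact opens of the limit descend to a common stage over `i₀`. -/
theorem exists_preimage_eq_over_finset {ι : Type*} (W : ι → c.pt.Opens)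
    (hW : ∀ a, IsCompact (W a : Set c.pt)) (i₀ : I) (t : Finset ι) :
    ∃ (i : I) (_ : i ⟶ i₀) (V : ι → (D.obj i).Opens),
      ∀ a ∈ t, IsCompact (V a : Set (D.obj i)) ∧ c.π.app i ⁻¹ᵁ V a = W a := by
  classical
  induction t using Finset.induction_on with
  | empty => exact ⟨i₀, 𝟙 i₀, fun _ => ⊥, by simp⟩
  | insert a t hat ih =>
    obtain ⟨i, f, V, hV⟩ := ih
    obtain ⟨i', f', V', hV'c, hV'⟩ := exists_preimage_eq_over D c hc (W a) (hW a) i
    refine ⟨i', f' ≫ f, Function.update (fun b => D.map f' ⁻¹ᵁ V b) a V', ?_⟩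
    intro b hb
    rcases Finset.mem_insert.mp hb with hba | hb
    · subst hba
      rw [Function.update_self]
      exact ⟨hV'c, hV'⟩
    · have hne : b ≠ a := fun h => hat (h ▸ hb)
      rw [Function.update_of_ne hne]
      refine ⟨(D.map f').isCompact_preimage (hV b hb).1, ?_⟩
      rw [← Scheme.Hom.comp_preimage, c.w]
      exact (hV b hb).2

include hc in
/-- A jointly surjective family of quasi-compact open immersions into the limit descends to a
finite jointly surjective family of quasi-compact open immersions into a stage. -/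
theorem zariski_cover_descends (i₀ : I) [CompactSpace (D.obj i₀)]
    [QuasiSeparatedSpace (D.obj i₀)] {ι : Type u} (U : ι → Scheme.{u}) (u : ∀ a, U a ⟶ c.pt)
    [∀ a, IsOpenImmersion (u a)] [∀ a, QuasiCompact (u a)]
    (hcov : ∀ x : c.pt, ∃ (a : ι) (y : U a), (u a).base y = x) :
    ∃ (i : I) (n : ℕ) (V : Fin n → Scheme.{u}) (v : ∀ j, V j ⟶ D.obj i) (a : Fin n → ι)
      (e : ∀ j, U (a j) ⟶ V j),
      (∀ j, IsOpenImmersion (v j) ∧ QuasiCompact (v j)) ∧
      (∀ x : D.obj i, ∃ (j : Fin n) (y : V j), (v j).base y = x) ∧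
      ∀ j, IsPullback (e j) (u (a j)) (v j) (c.π.app i) := by
  classical
  have hπ := isAffineHom_π_app D c hc
  have : CompactSpace c.pt := QuasiCompact.compactSpace_of_compactSpace (c.π.app i₀)
  have hUc : ∀ a, CompactSpace (U a) := fun a =>
    QuasiCompact.compactSpace_of_compactSpace (u a)
  have hWc : ∀ a, IsCompact ((u a).opensRange : Set c.pt) := fun a => by
    have := hUc a
    rw [Scheme.Hom.coe_opensRange]
    exact isCompact_range (u a).continuous
  -- finite subcover
  obtain ⟨t, ht⟩ := isCompact_univ.elim_finite_subcover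
    (fun a => ((u a).opensRange : Set c.pt)) (fun a => (u a).opensRange.2) (by
      intro x _
      obtain ⟨a, y, hy⟩ := hcov x
      exact Set.mem_iUnion.mpr ⟨a, y, hy⟩)
  -- descend to a common stage
  obtain ⟨i, f, V, hV⟩ :=
    exists_preimage_eq_over_finset D c hc (fun a => (u a).opensRange) hWc i₀ t
  have : CompactSpace (D.obj i) := QuasiCompact.compactSpace_of_compactSpace (D.map f)
  have : QuasiSeparatedSpace (D.obj i) := quasiSeparatedSpace_of_quasiSeparated (D.map f)
  -- the complement of the union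
  let E : Set (D.obj i) := (⋃ a ∈ t, (V a : Set (D.obj i)))ᶜ
  have hE : IsConstructible E := by
    refine IsConstructible.compl ?_
    exact IsConstructible.biUnion t.finite_toSet
      (fun a ha => (hV a ha).1.isConstructible (V a).2)
  have hpre : c.π.app i ⁻¹' E = ∅ := by
    rw [Set.eq_empty_iff_forall_notMem]
    intro x hx
    apply hx
    obtain ⟨a, hat, hxa⟩ := Set.mem_iUnion₂.mp (ht (Set.mem_univ x))
    refine Set.mem_iUnion₂.mpr ⟨a, hat, ?_⟩
    have hx' : x ∈ c.π.app i ⁻¹ᵁ V a := by rw [(hV a hat).2]; exact hxa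
    exact hx'
  obtain ⟨k, b, hb⟩ := exists_preimage_eq_empty_of_isConstructible D c hc E hE hpre
  have : QuasiSeparatedSpace (D.obj k) := quasiSeparatedSpace_of_quasiSeparated (D.map b)
  -- final data
  have hpb : ∀ a ∈ t, c.π.app k ⁻¹ᵁ (D.map b ⁻¹ᵁ V a) = (u a).opensRange := fun a ha => by
    rw [← Scheme.Hom.comp_preimage, c.w]; exact (hV a ha).2
  let a' : Fin t.card → ι := fun j => (t.equivFin.symm j).1
  have ha' : ∀ j, a' j ∈ t := fun j => (t.equivFin.symm j).2
  choose e he using fun j => exists_isPullback_of_preimage_eq (c.π.app k)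
    (D.map b ⁻¹ᵁ V (a' j)) (u (a' j)) (hpb _ (ha' j))
  refine ⟨k, t.card, fun j => (D.map b ⁻¹ᵁ V (a' j)).toScheme,
    fun j => (D.map b ⁻¹ᵁ V (a' j)).ι, a', e, ?_, ?_, he⟩
  · intro j
    exact ⟨inferInstance, quasiCompact_ι_of_isCompact _
      ((D.map b).isCompact_preimage (hV _ (ha' j)).1)⟩
  · intro x
    have hx : x ∉ D.map b ⁻¹' E := by rw [hb]; exact Set.notMem_empty x
    have hx' : D.map b x ∈ ⋃ a ∈ t, (V a : Set (D.obj i)) := by
      by_contra h; exact hx h
    obtain ⟨a, hat, hxa⟩ := Set.mem_iUnion₂.mp hx'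
    have haa : a' (t.equivFin ⟨a, hat⟩) = a := by simp [a']
    refine ⟨t.equivFin ⟨a, hat⟩, ⟨x, ?_⟩, rfl⟩
    rw [haa]; exact hxa

end

end Groth.Agent.H24
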