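import Mathlib
import Groth.Agent.H24.GlueTwo
import Groth.Agent.H24.LimPullback
import Groth.Agent.H24.LimConn
import Groth.Agent.H24.ZarCover
import Groth.Agent.H24.ConsPropRows
import Groth.Agent.S9218
import Groth.Agent.S4805
import Groth.Agent.S1460

/-!
# Descending morphisms of finite presentation along a cofiltered limit (helper24)

`Desc D c h`: the morphism `h : Z ⟶ c.pt` is the base change of a morphism of finite presentation
over some stage.  Main results: `desc_glue` (gluing along two opens), `desc_of_affine`,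
`desc_of_finitePresentation` (EGA IV 8.8.2 (ii)).
-/

set_option autoImplicit false

open CategoryTheory AlgebraicGeometry Limits TopologicalSpace Topology

universe u

namespace Groth.Agent.H24

/-- A general pasting lemma: the map induced on pullbacks by `u`. -/
theorem isPullback_lift_of_comp {C : Type*} [Category C] {P V' A' Sk Sn : C} (p : P ⟶ V')
    (x : P ⟶ Sn) (u : V' ⟶ A') (a' : A' ⟶ Sk) (d : Sn ⟶ Sk) [HasPullback a' d]
    (hP : IsPullback p x (u ≫ a') d) :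
    ∃ v : P ⟶ pullback a' d, v ≫ pullback.fst a' d = p ≫ u ∧ v ≫ pullback.snd a' d = x ∧
      IsPullback v p (pullback.fst a' d) u := by
  have w : (p ≫ u) ≫ a' = x ≫ d := by rw [Category.assoc, hP.w]
  refine ⟨pullback.lift (p ≫ u) x w, pullback.lift_fst _ _ _, pullback.lift_snd _ _ _, ?_⟩
  refine IsPullback.of_right ?_ (pullback.lift_fst _ _ _) (IsPullback.of_hasPullback a' d).flip
  rw [pullback.lift_snd]
  exact hP.flip

section

variable {I : Type u} [SmallCategory I] [IsCofiltered I] (D : I ⥤ Scheme.{u}) (c : Cone D)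
  (hc : IsLimit c) [∀ {i j : I} (f : i ⟶ j), IsAffineHom (D.map f)]

/-- Stage data for `h : Z ⟶ c.pt` at `i`, together with a compact open pulling back to `O`. -/
def DescAtO {Z : Scheme.{u}} (h : Z ⟶ c.pt) (O : Z.Opens) (i : I) : Prop :=
  ∃ (Zi : Scheme.{u}) (hi : Zi ⟶ D.obj i) (g : Z ⟶ Zi), LocallyOfFinitePresentation hi ∧
    QuasiCompact hi ∧ QuasiSeparated hi ∧ IsPullback g h hi (c.π.app i) ∧
      ∃ V : Zi.Opens, IsCompact (V : Set Zi) ∧ g ⁻¹ᵁ V = O

/-- Stage data for `h : Z ⟶ c.pt` at `i`. -/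
def DescAt {Z : Scheme.{u}} (h : Z ⟶ c.pt) (i : I) : Prop :=
  ∃ (Zi : Scheme.{u}) (hi : Zi ⟶ D.obj i) (g : Z ⟶ Zi), LocallyOfFinitePresentation hi ∧
    QuasiCompact hi ∧ QuasiSeparated hi ∧ IsPullback g h hi (c.π.app i)

/-- `h` descends to a morphism of finite presentation over some stage. -/
def Desc {Z : Scheme.{u}} (h : Z ⟶ c.pt) : Prop := ∃ i, DescAt D c h i

variable {D c}

theorem restage_data {Z : Scheme.{u}} {h : Z ⟶ c.pt} {i j : I} {Zi : Scheme.{u}}
    (hi : Zi ⟶ D.obj i) (g : Z ⟶ Zi) (sq : IsPullback g h hi (c.π.app i)) (φ : j ⟶ i) :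
    ∃ g' : Z ⟶ pullback hi (D.map φ), g' ≫ pullback.fst hi (D.map φ) = g ∧
      g' ≫ pullback.snd hi (D.map φ) = h ≫ c.π.app j ∧
      IsPullback g' h (pullback.snd hi (D.map φ)) (c.π.app j) := by
  have w : g ≫ hi = (h ≫ c.π.app j) ≫ D.map φ := by rw [sq.w, Category.assoc, c.w]
  refine ⟨pullback.lift g (h ≫ c.π.app j) w, pullback.lift_fst _ _ _, pullback.lift_snd _ _ _, ?_⟩
  refine IsPullback.of_right ?_ (pullback.lift_snd _ _ _) (IsPullback.of_hasPullback hi (D.map φ))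
  rw [pullback.lift_fst, c.w]
  exact sq

theorem DescAtO.restage {Z : Scheme.{u}} {h : Z ⟶ c.pt} {O : Z.Opens} {i j : I}
    (hd : DescAtO D c h O i) (φ : j ⟶ i) : DescAtO D c h O j := by
  obtain ⟨Zi, hi, g, h1, h2, h3, sq, V, hV, hVO⟩ := hd
  obtain ⟨g', hg'1, hg'2, sq'⟩ := restage_data hi g sq φ
  refine ⟨pullback hi (D.map φ), pullback.snd hi (D.map φ), g', inferInstance, inferInstance,
    inferInstance, sq', pullback.fst hi (D.map φ) ⁻¹ᵁ V, ?_, ?_⟩
  · exact (pullback.fst hi (D.map φ)).isCompact_preimage hV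
  · rw [← Scheme.Hom.comp_preimage, hg'1]
    exact hVO

theorem DescAt.restage {Z : Scheme.{u}} {h : Z ⟶ c.pt} {i j : I}
    (hd : DescAt D c h i) (φ : j ⟶ i) : DescAt D c h j := by
  obtain ⟨Zi, hi, g, h1, h2, h3, sq⟩ := hd
  obtain ⟨g', hg'1, hg'2, sq'⟩ := restage_data hi g sq φ
  exact ⟨pullback hi (D.map φ), pullback.snd hi (D.map φ), g', inferInstance, inferInstance,
    inferInstance, sq'⟩

include hc in
theorem DescAt.exists_open {Z : Scheme.{u}} {h : Z ⟶ c.pt} {i : I} (hd : DescAt D c h i)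
    (O : Z.Opens) (hO : IsCompact (O : Set Z)) : ∃ (l : I) (_ : l ⟶ i), DescAtO D c h O l := by
  obtain ⟨Zi, hi, g, h1, h2, h3, sq⟩ := hd
  obtain ⟨j, _, V, hV, hVO⟩ := exists_preimage_eq_over (pbDiagram D (𝟙 i) hi)
    (pbCone D (𝟙 i) hi c g h sq.w) (isLimitPbCone D (𝟙 i) hi c hc g h sq) O hO (Over.mk (𝟙 i))
  exact ⟨j.left, j.hom, pullback hi (D.map (j.hom ≫ 𝟙 i)), pullback.snd _ _,
    pbLift D (𝟙 i) hi c g h sq.w j, inferInstance, inferInstance, inferInstance,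
    isPullback_pbLift D (𝟙 i) hi c g h sq j, V, hV, hVO⟩

end

section Glue

variable {I : Type u} [SmallCategory I] [IsCofiltered I] {D : I ⥤ Scheme.{u}} {c : Cone D}
  (hc : IsLimit c) [∀ {i j : I} (f : i ⟶ j), IsAffineHom (D.map f)]
  [∀ i, CompactSpace (D.obj i)] [∀ i, QuasiSeparatedSpace (D.obj i)]

include hc in
/-- Gluing: if `f` restricted to two opens covering `X` descends, so does `f`. -/
theorem desc_glue {X Z₁ Z₂ : Scheme.{u}} (f : X ⟶ c.pt) [QuasiSeparated f] (j₁ : Z₁ ⟶ X)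
    (j₂ : Z₂ ⟶ X) [IsOpenImmersion j₁] [IsOpenImmersion j₂]
    (hcov : ∀ x : X, x ∈ Set.range j₁ ∨ x ∈ Set.range j₂)
    (h₁ : Desc D c (j₁ ≫ f)) (h₂ : Desc D c (j₂ ≫ f)) : Desc D c f := by
  have hAff : ∀ (i j : I) (f : i ⟶ j), IsAffineHom (D.map f) := fun _ _ f => inferInstance
  obtain ⟨i₁, hd₁⟩ := h₁
  obtain ⟨i₂, hd₂⟩ := h₂
  have hπaff : ∀ i, IsAffineHom (c.π.app i) := fun i => isAffineHom_π_app D c hc i
  have hcS : CompactSpace c.pt := QuasiCompact.compactSpace_of_compactSpace (c.π.app i₁)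
  have hqS : QuasiSeparatedSpace c.pt := quasiSeparatedSpace_of_quasiSeparated (c.π.app i₁)
  have hqX : QuasiSeparatedSpace X := quasiSeparatedSpace_of_quasiSeparated f
  have hcZ₁ : CompactSpace Z₁ := by
    obtain ⟨Zi, hi, g, _, _, _, sq⟩ := hd₁
    have : QuasiCompact (j₁ ≫ f) :=
      MorphismProperty.of_isPullback (P := @QuasiCompact) sq inferInstance
    exact QuasiCompact.compactSpace_of_compactSpace (j₁ ≫ f)
  have hcZ₂ : CompactSpace Z₂ := by
    obtain ⟨Zi, hi, g, _, _, _, sq⟩ := hd₂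
    have : QuasiCompact (j₂ ≫ f) :=
      MorphismProperty.of_isPullback (P := @QuasiCompact) sq inferInstance
    exact QuasiCompact.compactSpace_of_compactSpace (j₂ ≫ f)
  have hcW : CompactSpace ↥(pullback j₁ j₂) :=
    QuasiCompact.compactSpace_of_compactSpace (pullback.fst j₁ j₂)
  -- a common stage
  have hdA : DescAt D c (j₁ ≫ f) (IsCofiltered.min i₁ i₂) :=
    hd₁.restage (IsCofiltered.minToLeft i₁ i₂)
  have hdB : DescAt D c (j₂ ≫ f) (IsCofiltered.min i₁ i₂) :=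
    hd₂.restage (IsCofiltered.minToRight i₁ i₂)
  -- descend the two opens
  obtain ⟨l₁, φ₁, hdA₁⟩ := hdA.exists_open hc (pullback.fst j₁ j₂).opensRange
    (isCompact_range (pullback.fst j₁ j₂).continuous)
  have hdB₁ := hdB.restage φ₁
  obtain ⟨l, φ₂, hdB₂⟩ := hdB₁.exists_open hc (pullback.snd j₁ j₂).opensRange
    (isCompact_range (pullback.snd j₁ j₂).continuous)
  have hdA₂ := hdA₁.restage φ₂
  obtain ⟨A, a, gA, _, _, _, sqA, V₁, hV₁c, hV₁⟩ := hdA₂
  obtain ⟨B, b, gB, _, _, _, sqB, V₂, hV₂c, hV₂⟩ := hdB₂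
  obtain ⟨q₁, hq₁⟩ := exists_isPullback_of_preimage_eq gA V₁ (pullback.fst j₁ j₂) hV₁
  obtain ⟨q₂, hq₂⟩ := exists_isPullback_of_preimage_eq gB V₂ (pullback.snd j₁ j₂) hV₂
  have hcA : CompactSpace A := QuasiCompact.compactSpace_of_compactSpace a
  have hqA : QuasiSeparatedSpace A := quasiSeparatedSpace_of_quasiSeparated a
  have hcB : CompactSpace B := QuasiCompact.compactSpace_of_compactSpace b
  have hqB : QuasiSeparatedSpace B := quasiSeparatedSpace_of_quasiSeparated b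
  have hqcV₁ : QuasiCompact V₁.ι := quasiCompact_ι_of_isCompact V₁ hV₁c
  have hqcV₂ : QuasiCompact V₂.ι := quasiCompact_ι_of_isCompact V₂ hV₂c
  have hcV₁ : CompactSpace V₁.toScheme := isCompact_iff_compactSpace.mp hV₁c
  have hcV₂ : CompactSpace V₂.toScheme := isCompact_iff_compactSpace.mp hV₂c
  have hqV₁ : QuasiSeparatedSpace V₁.toScheme := quasiSeparatedSpace_of_quasiSeparated V₁.ι
  have hqV₂ : QuasiSeparatedSpace V₂.toScheme := quasiSeparatedSpace_of_quasiSeparated V₂.ι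
  obtain ⟨w, hw₁, hw₂⟩ : ∃ w : pullback j₁ j₂ ⟶ c.pt,
      pullback.fst j₁ j₂ ≫ j₁ ≫ f = w ∧ pullback.snd j₁ j₂ ≫ j₂ ≫ f = w :=
    ⟨_, rfl, by rw [← Category.assoc, ← pullback.condition, Category.assoc]⟩
  have hX : IsPullback q₁ w (V₁.ι ≫ a) (c.π.app l) := by
    rw [← hw₁]
    exact hq₁.paste_vert sqA
  have hY : IsPullback q₂ w (V₂.ι ≫ b) (c.π.app l) := by
    rw [← hw₂]
    exact hq₂.paste_vert sqB
  -- descend the identity of `W` to a morphism at a stage `k`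
  obtain ⟨k, φ, m, sX, sY, hm, hsX1, hsX2, hsY1, hsY2, hsm⟩ :=
    Groth.Agent.S9218.result D c hc l (V₁.ι ≫ a) (V₂.ι ≫ b) q₁ w hX q₂ w hY (𝟙 _)
      (Category.id_comp _)
  rw [Category.id_comp] at hsm
  have hsX : IsPullback sX w (pullback.snd (V₁.ι ≫ a) (D.map φ)) (c.π.app k) := by
    refine IsPullback.of_right ?_ hsX2 (IsPullback.of_hasPullback (V₁.ι ≫ a) (D.map φ))
    rw [hsX1, c.w]
    exact hX
  have hsY : IsPullback sY w (pullback.snd (V₂.ι ≫ b) (D.map φ)) (c.π.app k) := by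
    refine IsPullback.of_right ?_ hsY2 (IsPullback.of_hasPullback (V₂.ι ≫ b) (D.map φ))
    rw [hsY1, c.w]
    exact hY
  have hXm : IsPullback sX (𝟙 _) m sY := by
    refine IsPullback.of_bot ?_ (by rw [hsm, Category.id_comp]) hsY
    rw [Category.id_comp, hm]
    exact hsX
  -- it is an isomorphism at a later stage `n`
  have i1 : LocallyOfFinitePresentation (m ≫ pullback.snd (V₂.ι ≫ b) (D.map φ)) := by
    rw [hm]; infer_instance
  have i2 : QuasiCompact (m ≫ pullback.snd (V₂.ι ≫ b) (D.map φ)) := by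
    rw [hm]; infer_instance
  have i3 : QuasiSeparated (m ≫ pullback.snd (V₂.ι ≫ b) (D.map φ)) := by
    rw [hm]; infer_instance
  obtain ⟨n, ψ, Xn, Yn, fn, gn, pY, pX, hpY, hpX, hfn⟩ :=
    Groth.Agent.S4805.result D c hc k m (pullback.snd (V₂.ι ≫ b) (D.map φ)) (𝟙 _) w sY sX hsY hXm
  -- the restaged models of `Z₁`, `Z₂`
  obtain ⟨gA', hgA'1, hgA'2, sqA'⟩ := restage_data a gA sqA φ
  obtain ⟨gA'', hgA''1, hgA''2, sqA''⟩ := restage_data (pullback.snd a (D.map φ)) gA' sqA' ψ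
  obtain ⟨gB', hgB'1, hgB'2, sqB'⟩ := restage_data b gB sqB φ
  obtain ⟨gB'', hgB''1, hgB''2, sqB''⟩ := restage_data (pullback.snd b (D.map φ)) gB' sqB' ψ
  -- the open immersions at stage `k`
  obtain ⟨u₁, hu₁1, hu₁2, hu₁⟩ := isPullback_lift_of_comp (pullback.fst (V₁.ι ≫ a) (D.map φ))
    (pullback.snd (V₁.ι ≫ a) (D.map φ)) V₁.ι a (D.map φ) (IsPullback.of_hasPullback _ _)
  obtain ⟨u₂, hu₂1, hu₂2, hu₂⟩ := isPullback_lift_of_comp (pullback.fst (V₂.ι ≫ b) (D.map φ))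
    (pullback.snd (V₂.ι ≫ b) (D.map φ)) V₂.ι b (D.map φ) (IsPullback.of_hasPullback _ _)
  have hou₁ : IsOpenImmersion u₁ :=
    MorphismProperty.of_isPullback (P := @IsOpenImmersion) hu₁.flip inferInstance
  have hou₂ : IsOpenImmersion u₂ :=
    MorphismProperty.of_isPullback (P := @IsOpenImmersion) hu₂.flip inferInstance
  -- the models of `W` at stage `n`
  have hXn : IsPullback pX (fn ≫ gn) (pullback.snd (V₁.ι ≫ a) (D.map φ)) (D.map ψ) := by
    have := hpX.paste_vert hpY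
    rwa [hm] at this
  have hYn : IsPullback (fn ≫ pY) (fn ≫ gn) (pullback.snd (V₂.ι ≫ b) (D.map φ)) (D.map ψ) := by
    have h0 : IsPullback fn (fn ≫ gn) gn (𝟙 (D.obj n)) :=
      IsPullback.of_horiz_isIso ⟨by rw [Category.comp_id]⟩
    have := h0.paste_horiz hpY
    rwa [Category.id_comp] at this
  obtain ⟨vA, hvA1, hvA2, hvA⟩ := isPullback_lift_of_comp pX (fn ≫ gn) u₁
    (pullback.snd a (D.map φ)) (D.map ψ) (by rw [hu₁2]; exact hXn)
  obtain ⟨vB, hvB1, hvB2, hvB⟩ := isPullback_lift_of_comp (fn ≫ pY) (fn ≫ gn) u₂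
    (pullback.snd b (D.map φ)) (D.map ψ) (by rw [hu₂2]; exact hYn)
  have hovA : IsOpenImmersion vA :=
    MorphismProperty.of_isPullback (P := @IsOpenImmersion) hvA.flip inferInstance
  have hovB : IsOpenImmersion vB :=
    MorphismProperty.of_isPullback (P := @IsOpenImmersion) hvB.flip inferInstance
  have hab : vA ≫ pullback.snd (pullback.snd a (D.map φ)) (D.map ψ) =
      vB ≫ pullback.snd (pullback.snd b (D.map φ)) (D.map ψ) := by rw [hvA2, hvB2]
  -- the map `W ⟶ Xn`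
  obtain ⟨gV, hgV1, hgV2⟩ : ∃ gV : pullback j₁ j₂ ⟶ Xn, gV ≫ pX = sX ∧
      gV ≫ (fn ≫ gn) = w ≫ c.π.app n :=
    ⟨hXn.lift sX (w ≫ c.π.app n) (by rw [hsX2, Category.assoc, c.w]), hXn.lift_fst _ _ _,
      hXn.lift_snd _ _ _⟩
  have hWn : IsPullback gV w (fn ≫ gn) (c.π.app n) := by
    refine IsPullback.of_right ?_ hgV2 hXn
    rw [hgV1, c.w]
    exact hsX
  -- compatibilities
  have e₁ : sX ≫ u₁ = pullback.fst j₁ j₂ ≫ gA' := by
    apply pullback.hom_ext
    · rw [Category.assoc, hu₁1, ← Category.assoc, hsX1, hq₁.w, Category.assoc, hgA'1]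
    · rw [Category.assoc, hu₁2, hsX2, Category.assoc, hgA'2, ← hw₁, Category.assoc, Category.assoc]
  have e₂ : sY ≫ u₂ = pullback.snd j₁ j₂ ≫ gB' := by
    apply pullback.hom_ext
    · rw [Category.assoc, hu₂1, ← Category.assoc, hsY1, hq₂.w, Category.assoc, hgB'1]
    · rw [Category.assoc, hu₂2, hsY2, Category.assoc, hgB'2, ← hw₂, Category.assoc, Category.assoc]
  have cA : gV ≫ vA = pullback.fst j₁ j₂ ≫ gA'' := by
    apply pullback.hom_ext
    · rw [Category.assoc, hvA1, ← Category.assoc, hgV1, e₁, Category.assoc, hgA''1]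
    · rw [Category.assoc, hvA2, hgV2, Category.assoc, hgA''2, ← hw₁, Category.assoc,
        Category.assoc]
  have cB : gV ≫ vB = pullback.snd j₁ j₂ ≫ gB'' := by
    apply pullback.hom_ext
    · rw [Category.assoc, hvB1, ← Category.assoc, ← Category.assoc, Category.assoc gV,
        ← hpX.w, ← Category.assoc, hgV1, hsm, e₂, Category.assoc, hgB''1]
    · rw [Category.assoc, hvB2, hgV2, Category.assoc, hgB''2, ← hw₂, Category.assoc,
        Category.assoc]
  have sqVA : IsPullback gV (pullback.fst j₁ j₂) vA gA'' := by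
    refine IsPullback.of_bot ?_ cA sqA''
    rw [hvA2, hw₁]
    exact hWn
  have sqVB : IsPullback gV (pullback.snd j₁ j₂) vB gB'' := by
    refine IsPullback.of_bot ?_ cB sqB''
    rw [hvB2, hw₂]
    exact hWn
  -- glue
  have hcA'' : CompactSpace ↥(pullback (pullback.snd a (D.map φ)) (D.map ψ)) :=
    QuasiCompact.compactSpace_of_compactSpace
      (pullback.snd (pullback.snd a (D.map φ)) (D.map ψ))
  have hqA'' : QuasiSeparatedSpace ↥(pullback (pullback.snd a (D.map φ)) (D.map ψ)) :=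
    quasiSeparatedSpace_of_quasiSeparated
      (pullback.snd (pullback.snd a (D.map φ)) (D.map ψ))
  have hcB'' : CompactSpace ↥(pullback (pullback.snd b (D.map φ)) (D.map ψ)) :=
    QuasiCompact.compactSpace_of_compactSpace
      (pullback.snd (pullback.snd b (D.map φ)) (D.map ψ))
  have hqB'' : QuasiSeparatedSpace ↥(pullback (pullback.snd b (D.map φ)) (D.map ψ)) :=
    quasiSeparatedSpace_of_quasiSeparated
      (pullback.snd (pullback.snd b (D.map φ)) (D.map ψ))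
  have hcXn : CompactSpace Xn := by
    have : QuasiCompact (fn ≫ gn) :=
      MorphismProperty.of_isPullback (P := @QuasiCompact) hXn inferInstance
    exact QuasiCompact.compactSpace_of_compactSpace (fn ≫ gn)
  obtain ⟨g, hg⟩ := isPullback_glue vA vB (c.π.app n)
    (pullback.snd (pullback.snd a (D.map φ)) (D.map ψ))
    (pullback.snd (pullback.snd b (D.map φ)) (D.map ψ)) hab f j₁ j₂ hcov gA'' gB'' sqA'' sqB''
    gV sqVA sqVB
  obtain ⟨p1, p2, p3⟩ := pushout_desc_finitePresentation vA vB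
    (pullback.snd (pullback.snd a (D.map φ)) (D.map ψ))
    (pullback.snd (pullback.snd b (D.map φ)) (D.map ψ)) hab
  exact ⟨n, pushout vA vB, pushout.desc _ _ hab, g, p1, p2, p3, hg⟩

end Glue

/-- An affine scheme of finite type over `ℤ` is locally of finite presentation over the terminal
scheme. -/
theorem lfp_from_terminal_of_finiteType (S₀ : Scheme.{u}) [IsAffine S₀]
    (h : Algebra.FiniteType ℤ Γ(S₀, ⊤)) :
    LocallyOfFinitePresentation (specULiftZIsTerminal.from S₀) := by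
  let φ : ULift.{u} ℤ →+* Γ(S₀, ⊤) :=
    (algebraMap ℤ Γ(S₀, ⊤)).comp ((ULift.ringEquiv : ULift.{u} ℤ ≃+* ℤ) : ULift.{u} ℤ →+* ℤ)
  have hφ : φ.FinitePresentation := by
    refine RingHom.FinitePresentation.comp ?_ ?_
    · rw [RingHom.finitePresentation_algebraMap]
      exact Algebra.FinitePresentation.of_finiteType.mp h
    · refine RingHom.FinitePresentation.of_surjective _
        (ULift.ringEquiv : ULift.{u} ℤ ≃+* ℤ).surjective ?_
      rw [RingHom.ker_coe_equiv]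
      exact Submodule.fg_bot
  have e : specULiftZIsTerminal.from S₀ = S₀.isoSpec.hom ≫ Spec.map (CommRingCat.ofHom φ) :=
    specULiftZIsTerminal.hom_ext _ _
  rw [e]
  have : LocallyOfFinitePresentation (Spec.map (CommRingCat.ofHom φ)) := by
    rw [HasRingHomProperty.Spec_iff (P := @LocallyOfFinitePresentation)]
    exact hφ
  infer_instance

theorem isLocallyNoetherian_of_finiteType (S₀ : Scheme.{u}) [IsAffine S₀]
    (h : Algebra.FiniteType ℤ Γ(S₀, ⊤)) : IsLocallyNoetherian S₀ := by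
  have : IsNoetherianRing Γ(S₀, ⊤) := Algebra.FiniteType.isNoetherianRing ℤ _
  exact isLocallyNoetherian_of_isOpenImmersion S₀.isoSpec.hom

section Main

variable {I : Type u} [SmallCategory I] [IsCofiltered I] {D : I ⥤ Scheme.{u}} {c : Cone D}
  (hc : IsLimit c) [∀ {i j : I} (f : i ⟶ j), IsAffineHom (D.map f)]
  [∀ i, CompactSpace (D.obj i)] [∀ i, QuasiSeparatedSpace (D.obj i)]

omit [∀ {i j : I} (f : i ⟶ j), IsAffineHom (D.map f)] [∀ i, CompactSpace (D.obj i)] in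
theorem desc_of_isEmpty {Z : Scheme.{u}} [IsEmpty Z] (h : Z ⟶ c.pt) : Desc D c h := by
  obtain ⟨i⟩ := IsCofiltered.nonempty (C := I)
  have hw : 𝟙 Z ≫ h ≫ c.π.app i = h ≫ c.π.app i := Category.id_comp _
  have : IsEmpty ↥(pullback (h ≫ c.π.app i) (c.π.app i)) :=
    ⟨fun x => IsEmpty.false (pullback.fst (h ≫ c.π.app i) (c.π.app i) x)⟩
  refine ⟨i, Z, h ≫ c.π.app i, 𝟙 Z, inferInstance, inferInstance, inferInstance, ?_⟩
  exact IsPullback.of_iso_pullback ⟨hw⟩ (asIso (pullback.lift (𝟙 Z) h hw))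
    (pullback.lift_fst _ _ _) (pullback.lift_snd _ _ _)

omit [IsCofiltered I] [∀ {i j : I} (f : i ⟶ j), IsAffineHom (D.map f)]
  [∀ i, CompactSpace (D.obj i)] [∀ i, QuasiSeparatedSpace (D.obj i)] in
theorem Desc.of_iso {Z Z' : Scheme.{u}} (e : Z' ⟶ Z) [IsIso e] (h : Z ⟶ c.pt)
    (hd : Desc D c (e ≫ h)) : Desc D c h := by
  obtain ⟨i, Zi, hi, g, h1, h2, h3, sq⟩ := hd
  have h0 : IsPullback (inv e) h (e ≫ h) (𝟙 c.pt) :=
    IsPullback.of_horiz_isIso ⟨by rw [IsIso.inv_hom_id_assoc, Category.comp_id]⟩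
  have := h0.paste_horiz sq
  rw [Category.id_comp] at this
  exact ⟨i, Zi, hi, inv e ≫ g, h1, h2, h3, this⟩

include hc in
/-- A small affine scheme over the limit descends. -/
theorem desc_of_affine (i : I) (W₀ : (D.obj i).Opens) (hW₀ : IsAffineOpen W₀) {U : Scheme.{u}}
    [IsAffine U] (h : U ⟶ c.pt) [LocallyOfFinitePresentation h]
    (hle : (h ≫ c.π.app i) ⁻¹ᵁ W₀ = ⊤) : Desc D c h := by
  have hπaff : ∀ i, IsAffineHom (c.π.app i) := fun i => isAffineHom_π_app D c hc i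
  have hSWaff : IsAffineOpen (c.π.app i ⁻¹ᵁ W₀) := hW₀.preimage (c.π.app i)
  have hr : Set.range h ⊆ Set.range (c.π.app i ⁻¹ᵁ W₀).ι := by
    rintro _ ⟨x, rfl⟩
    rw [Scheme.Opens.range_ι]
    have : x ∈ (h ≫ c.π.app i) ⁻¹ᵁ W₀ := by rw [hle]; trivial
    exact this
  obtain ⟨h', hh'⟩ : ∃ h' : U ⟶ (c.π.app i ⁻¹ᵁ W₀).toScheme, h' ≫ (c.π.app i ⁻¹ᵁ W₀).ι = h :=
    ⟨IsOpenImmersion.lift (c.π.app i ⁻¹ᵁ W₀).ι h hr, IsOpenImmersion.lift_fac _ _ _⟩
  have : IsAffine (c.π.app i ⁻¹ᵁ W₀).toScheme := hSWaff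
  have hlfp' : LocallyOfFinitePresentation h' := by
    have sq : IsPullback h' (𝟙 U) (c.π.app i ⁻¹ᵁ W₀).ι h :=
      IsOpenImmersion.isPullback h' (𝟙 U) (c.π.app i ⁻¹ᵁ W₀).ι h
        (by rw [Category.id_comp, hh']) (by
          rw [Scheme.Opens.opensRange_ι, ← Scheme.Hom.comp_preimage, hle,
            Scheme.Hom.opensRange_of_isIso])
    exact MorphismProperty.of_isPullback (P := @LocallyOfFinitePresentation) sq.flip inferInstance
  obtain ⟨X₀, S₀, f₀, g, g', hX₀, hS₀, sq, hft, hlft⟩ := Groth.Agent.S1460.result h'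
  have hlfpS₀ := lfp_from_terminal_of_finiteType S₀ hft
  have hnoeth := isLocallyNoetherian_of_finiteType S₀ hft
  have hlfp₀ : LocallyOfFinitePresentation f₀ := lfp_of_lft_noetherian f₀
  have hIaff : ∀ j : Over i, IsAffine ((opensDiagram D i W₀).obj j) :=
    fun j => hW₀.preimage (D.map j.hom)
  let t : opensDiagram D i W₀ ⟶ (Functor.const (Over i)).obj (Spec (.of (ULift.{u} ℤ))) :=
    { app := fun j => specULiftZIsTerminal.from _
      naturality := fun _ _ _ => specULiftZIsTerminal.hom_ext _ _ }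
  obtain ⟨j, gj₀, hgj1, hgj2⟩ := Scheme.exists_π_app_comp_eq_of_locallyOfFinitePresentation
    (opensDiagram D i W₀) t (specULiftZIsTerminal.from S₀) (opensCone D c i W₀)
    (isLimitOpensCone D c hc i W₀) g (by
      ext j
      exact specULiftZIsTerminal.hom_ext _ _)
  -- the model at stage `j`
  obtain ⟨πj, gj, hgj, hbot⟩ : ∃ (πj : (c.π.app i ⁻¹ᵁ W₀).toScheme ⟶
      (D.map j.hom ⁻¹ᵁ W₀).toScheme) (gj : (D.map j.hom ⁻¹ᵁ W₀).toScheme ⟶ S₀), πj ≫ gj = g ∧
      IsPullback πj (c.π.app i ⁻¹ᵁ W₀).ι (D.map j.hom ⁻¹ᵁ W₀).ι (c.π.app j.left) :=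
    ⟨(opensCone D c i W₀).π.app j, gj₀, hgj1,
      IsOpenImmersion.isPullback _ _ _ _ (by simp) (by simp [← Scheme.Hom.comp_preimage])⟩
  have w : g' ≫ f₀ = (h' ≫ πj) ≫ gj := by
    rw [sq.w, Category.assoc, hgj]
  have htop : IsPullback (pullback.lift g' (h' ≫ πj) w) h' (pullback.snd f₀ gj) πj := by
    refine IsPullback.of_right ?_ (pullback.lift_snd _ _ _) (IsPullback.of_hasPullback f₀ gj)
    rw [pullback.lift_fst, hgj]
    exact sq
  have hall := htop.paste_vert hbot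
  rw [hh'] at hall
  have hWjc : IsCompact ((D.map j.hom ⁻¹ᵁ W₀ : (D.obj j.left).Opens) : Set (D.obj j.left)) :=
    (hW₀.preimage (D.map j.hom)).isCompact
  have hqcι : QuasiCompact (D.map j.hom ⁻¹ᵁ W₀).ι := quasiCompact_ι_of_isCompact _ hWjc
  exact ⟨j.left, pullback f₀ gj, pullback.snd f₀ gj ≫ (D.map j.hom ⁻¹ᵁ W₀).ι, _, inferInstance,
    inferInstance, inferInstance, hall⟩

include hc in
/-- **EGA IV 8.8.2 (ii)**: a morphism of finite presentation to the limit descends to a stage. -/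
theorem desc_of_finitePresentation {X : Scheme.{u}} (f : X ⟶ c.pt)
    [LocallyOfFinitePresentation f] [QuasiCompact f] [QuasiSeparated f] : Desc D c f := by
  have hπaff : ∀ i, IsAffineHom (c.π.app i) := fun i => isAffineHom_π_app D c hc i
  obtain ⟨i₀⟩ := IsCofiltered.nonempty (C := I)
  have hcS : CompactSpace c.pt := QuasiCompact.compactSpace_of_compactSpace (c.π.app i₀)
  have hcX : CompactSpace X := QuasiCompact.compactSpace_of_compactSpace f
  have hex : ∀ x : X, ∃ U : X.Opens, IsAffineOpen U ∧ x ∈ U ∧ ∃ W₀ : (D.obj i₀).Opens,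
      IsAffineOpen W₀ ∧ U ≤ (f ≫ c.π.app i₀) ⁻¹ᵁ W₀ := by
    intro x
    obtain ⟨W₀, hW₀, hxW₀, -⟩ : ∃ W₀ : (D.obj i₀).Opens, W₀ ∈ (D.obj i₀).affineOpens ∧
        (f ≫ c.π.app i₀) x ∈ W₀ ∧ W₀ ≤ ⊤ :=
      Opens.isBasis_iff_nbhd.mp (D.obj i₀).isBasis_affineOpens (U := ⊤)
        (x := (f ≫ c.π.app i₀) x) trivial
    obtain ⟨U, hU, hxU, hUle⟩ : ∃ U : X.Opens, U ∈ X.affineOpens ∧ x ∈ U ∧
        U ≤ (f ≫ c.π.app i₀) ⁻¹ᵁ W₀ :=
      Opens.isBasis_iff_nbhd.mp X.isBasis_affineOpens (U := (f ≫ c.π.app i₀) ⁻¹ᵁ W₀) (x := x)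
        hxW₀
    exact ⟨U, hU, hxU, W₀, hW₀, hUle⟩
  choose U hUaff hxU W₀ hW₀ hUW using hex
  have hbase : ∀ x, Desc D c ((U x).ι ≫ f) := by
    intro x
    have : IsAffine (U x).toScheme := hUaff x
    refine desc_of_affine hc i₀ (W₀ x) (hW₀ x) ((U x).ι ≫ f) ?_
    rw [Category.assoc, Scheme.Hom.comp_preimage]
    apply top_le_iff.mp
    rw [← (U x).ι_preimage_self]
    exact Scheme.Hom.preimage_mono _ (hUW x)
  obtain ⟨t, ht⟩ : ∃ t : Finset X, (⨆ x ∈ t, U x) = ⊤ := by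
    obtain ⟨t, ht⟩ := (isCompact_univ (X := X)).elim_finite_subcover (fun x => (U x : Set X))
      (fun x => (U x).2) (fun y _ => Set.mem_iUnion.mpr ⟨y, hxU y⟩)
    refine ⟨t, top_le_iff.mp fun y _ => ?_⟩
    have := ht (Set.mem_univ y)
    simp only [Set.mem_iUnion] at this
    obtain ⟨x, hxt, hy⟩ := this
    exact Opens.mem_iSup.mpr ⟨x, Opens.mem_iSup.mpr ⟨hxt, hy⟩⟩
  have hind : ∀ s : Finset X, Desc D c ((⨆ x ∈ s, U x).ι ≫ f) := by
    classical
    intro s
    induction s using Finset.induction_on with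
    | empty =>
      have e : (⨆ x ∈ (∅ : Finset X), U x) = ⊥ := by simp
      rw [e]
      have : IsEmpty ↥(⊥ : X.Opens).toScheme := ⟨fun y => y.2⟩
      exact desc_of_isEmpty _
    | insert a s has ih =>
      rw [Finset.iSup_insert]
      refine desc_glue hc ((U a ⊔ ⨆ x ∈ s, U x).ι ≫ f) (X.homOfLE le_sup_left)
        (X.homOfLE le_sup_right) ?_ ?_ ?_
      · intro y
        have hy : y.1 ∈ U a ⊔ ⨆ x ∈ s, U x := y.2
        rcases hy with hy | hy
        · exact Or.inl ⟨⟨y.1, hy⟩, Subtype.ext (Scheme.homOfLE_apply _ _)⟩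
        · exact Or.inr ⟨⟨y.1, hy⟩, Subtype.ext (Scheme.homOfLE_apply _ _)⟩
      · rw [← Category.assoc, X.homOfLE_ι]
        exact hbase a
      · rw [← Category.assoc, X.homOfLE_ι]
        exact ih
  have := hind t
  rw [ht] at this
  have hiso : IsIso (⊤ : X.Opens).ι := inferInstanceAs (IsIso X.topIso.hom)
  exact Desc.of_iso (⊤ : X.Opens).ι f this

end Main

end Groth.Agent.H24
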