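import Mathlib
import Groth.Agent.H24.DescFP
import Groth.Agent.H24.ConsFibre
import Groth.Agent.H24.FGSubLimit
import Groth.Agent.H17.ProCons
import Groth.Agent.S3401
import Groth.Agent.S3402
import Groth.Agent.S15543
import Groth.Prelude.Def_W4ega4s0809p4Pair

/-!
# Constructibility of fibrewise loci over an arbitrary base (helper24)

EGA IV 9.2.3 / 9.2.6 for relations on pairs of schemes and on morphisms: reduction to an affine
base, descent to a Noetherian base (via `desc_of_finitePresentation`), and the Noetherian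
criterion for ind-constructibility.
-/

set_option autoImplicit false

open CategoryTheory AlgebraicGeometry Limits TopologicalSpace Topology Opposite

universe u

namespace Groth.Agent.H24

/-! ### Noetherian criterion -/

/-- On a Noetherian scheme, a set which contains a nonempty open of every integral closed
subscheme whose generic point it contains is ind-constructible. -/
theorem isIndConstructible_of_forall_integral {Y : Scheme.{u}} [IsNoetherian Y] (E : Set Y)
    (h : ∀ (Z : Scheme.{u}) (i : Z ⟶ Y) [IsClosedImmersion i] [IsIntegral Z] [IsNoetherian Z],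
      i (genericPoint Z) ∈ E → (interior (i ⁻¹' E)).Nonempty) :
    ProCons.IsIndConstructible E := by
  rw [Groth.Agent.S3401.result Y E]
  intro ξ hξ
  obtain ⟨Z, i, hi, hZ, hr⟩ := exists_integral_closedImmersion Y ξ
  have : IsNoetherian Z := isNoetherian_of_isClosedImmersion i
  have hmem : ξ ∈ closure ({ξ} : Set Y) := subset_closure (Set.mem_singleton ξ)
  rw [← hr] at hmem
  obtain ⟨z₀, hz₀⟩ := hmem
  have hgen : IsGenericPoint z₀ (⊤ : Set Z) := by
    rw [isGenericPoint_def, i.isEmbedding.closure_eq_preimage_closure_image, Set.image_singleton,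
      hz₀, ← hr]
    ext z
    simp
  have hz₀' : genericPoint Z = z₀ := (genericPoint_spec Z).eq hgen
  have hne : (interior (i ⁻¹' E)).Nonempty := by
    apply h Z i
    rw [hz₀', hz₀]
    exact hξ
  obtain ⟨U, hU, hUW⟩ := i.isEmbedding.isInducing.isOpen_iff.mp
    (isOpen_interior (s := i ⁻¹' E))
  have h1 : z₀ ∈ interior (i ⁻¹' E) := by
    rw [hgen.mem_open_set_iff isOpen_interior]
    simpa using hne
  rw [mem_nhds_iff]
  refine ⟨Subtype.val ⁻¹' U, ?_, hU.preimage continuous_subtype_val, ?_⟩
  · rintro ⟨y, hy⟩ hyU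
    rw [← hr] at hy
    obtain ⟨z, rfl⟩ := hy
    have h2 : z ∈ i ⁻¹' U := hyU
    rw [hUW] at h2
    have h3 : z ∈ i ⁻¹' E := interior_subset h2
    exact h3
  · show ξ ∈ U
    rw [← hUW] at h1
    rw [← hz₀]
    exact h1

/-- Ind-constructibility can be checked on affine opens. -/
theorem isIndConstructible_of_affineOpens {S : Scheme.{u}} (E : Set S)
    (h : ∀ U : S.Opens, IsAffineOpen U → ProCons.IsIndConstructible (U.ι ⁻¹' E)) :
    ProCons.IsIndConstructible E := by
  intro x
  obtain ⟨U, hU, hxU, -⟩ : ∃ U : S.Opens, U ∈ S.affineOpens ∧ x ∈ U ∧ U ≤ ⊤ :=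
    Opens.isBasis_iff_nbhd.mp S.isBasis_affineOpens (U := ⊤) (x := x) trivial
  have hU' := h U hU
  have : IsAffine U.toScheme := hU
  obtain ⟨T, hT, hE⟩ := Groth.Agent.H17.exists_eq_sUnion_of_isIndConstructible hU'
  exact ⟨U, U.2, hxU, T, fun t ht => (hT t ht).isLocallyConstructible, hE⟩

/-! ### The Noetherian approximation system of an affine scheme -/

section NoethSystem

attribute [local instance] ULift.algebra'

instance isNoetherianRing_ulift_int : IsNoetherianRing (ULift.{u} ℤ) :=
  isNoetherianRing_of_ringEquiv ℤ ULift.ringEquiv.symm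

variable (S : Scheme.{u}) [IsAffine S]

/-- index category: finitely generated subrings of `Γ(S, ⊤)` -/
abbrev NsIdx : Type u := (FGSub (ULift.{u} ℤ) Γ(S, ⊤))ᵒᵖ

/-- the system of spectra of finitely generated subrings -/
noncomputable abbrev nsD : NsIdx S ⥤ Scheme.{u} := fgSpecDiagram (ULift.{u} ℤ) Γ(S, ⊤)

/-- the cone with vertex `S` -/
noncomputable def nsCone : Cone (nsD S) :=
  (fgSpecCone (ULift.{u} ℤ) Γ(S, ⊤)).extend S.isoSpec.hom

/-- `S` is the limit of the spectra of its finitely generated subrings -/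
noncomputable def nsIsLimit : IsLimit (nsCone S) :=
  IsLimit.ofIsoLimit (fgSpecConeIsLimit (ULift.{u} ℤ) Γ(S, ⊤))
    ((fgSpecCone (ULift.{u} ℤ) Γ(S, ⊤)).extendIso S.isoSpec.symm)

theorem nsCone_pt : (nsCone S).pt = S := rfl

instance nsD_isNoetherian (i : NsIdx S) : IsNoetherian ((nsD S).obj i) := by
  have hft : Algebra.FiniteType (ULift.{u} ℤ) i.unop.1 :=
    (Subalgebra.fg_iff_finiteType _).mp i.unop.2
  have hnoeth : IsNoetherianRing i.unop.1 := Algebra.FiniteType.isNoetherianRing (ULift.{u} ℤ) _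
  rw [fgSpecDiagram_obj]
  infer_instance

end NoethSystem

/-! ### Pairs of schemes -/

section Pair

variable {P : ∀ ⦃X Y T : Scheme.{u}⦄, (X ⟶ T) → (Y ⟶ T) → Prop}

theorem locusPair_preimage (hP : ConsPropPair.IsFieldStablePair P)
    {X X' Y Y' S S' : Scheme.{u}} {u : X ⟶ S} {v : Y ⟶ S} {u' : X' ⟶ S'} {v' : Y' ⟶ S'}
    {eX : X' ⟶ X} {eY : Y' ⟶ Y} {h : S' ⟶ S} (sqX : IsPullback eX u' u h)
    (sqY : IsPullback eY v' v h) [LocallyOfFiniteType u] [QuasiCompact u]
    [LocallyOfFiniteType v] [QuasiCompact v] :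
    ConsPropPair.locusPair P u' v' = h ⁻¹' ConsPropPair.locusPair P u v := by
  ext s'
  have hX := isPullback_fiberToSpecResidueField_of_isPullback sqX s'
  have hY := isPullback_fiberToSpecResidueField_of_isPullback sqY s'
  have i1 : LocallyOfFiniteType (u.fiberToSpecResidueField (h s')) := by
    show LocallyOfFiniteType (pullback.snd u _); infer_instance
  have i2 : QuasiCompact (u.fiberToSpecResidueField (h s')) := by
    show QuasiCompact (pullback.snd u _); infer_instance
  have i1' : LocallyOfFiniteType (v.fiberToSpecResidueField (h s')) := by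
    show LocallyOfFiniteType (pullback.snd v _); infer_instance
  have i2' : QuasiCompact (v.fiberToSpecResidueField (h s')) := by
    show QuasiCompact (pullback.snd v _); infer_instance
  have i3 : Subsingleton ↥(Spec (S.residueField (h s'))) :=
    inferInstanceAs (Subsingleton (PrimeSpectrum _))
  have i4 : Subsingleton ↥(Spec (S'.residueField s')) :=
    inferInstanceAs (Subsingleton (PrimeSpectrum _))
  exact (hP (u.fiberToSpecResidueField (h s')) (v.fiberToSpecResidueField (h s'))
    (u'.fiberToSpecResidueField s') (v'.fiberToSpecResidueField s') _ _ _ hX hY).symm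

theorem isIndConsPair_of_isConsPair (hP : ConsPropPair.IsConsPair P) :
    ConsPropPair.IsIndConsPair P := by
  refine ⟨hP.1, ?_⟩
  intro X Y S u v _ _ _ _ _ _ hη
  rcases hP.2 u v with h | h
  · exact h
  · exfalso
    have : genericPoint S ∈ interior (ConsPropPair.locusPair P u v)ᶜ := by
      rw [(genericPoint_spec S).mem_open_set_iff isOpen_interior]
      simpa using h
    exact interior_subset this hη

theorem isConsPair_not (hP : ConsPropPair.IsConsPair P) :
    ConsPropPair.IsConsPair (fun X Y T gX gY => ¬ P gX gY) := by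
  refine ⟨?_, ?_⟩
  · intro X X' Y Y' T T' gX gY gX' gY' eX eY h _ _ _ _ _ _ _ _ sqX sqY
    exact not_congr (hP.1 gX gY gX' gY' eX eY h sqX sqY)
  · intro X Y S u v _ _ _ _ _ _
    have e : ConsPropPair.locusPair (fun X Y T gX gY => ¬ P gX gY) u v =
        (ConsPropPair.locusPair P u v)ᶜ := rfl
    rw [e, compl_compl]
    exact (hP.2 u v).symm

/-- A pair of morphisms of finite presentation over an affine base descends to a Noetherian
base. -/
theorem exists_noetherian_model_pair {X Y S : Scheme.{u}} [IsAffine S] (u : X ⟶ S) (v : Y ⟶ S)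
    [LocallyOfFinitePresentation u] [QuasiCompact u] [QuasiSeparated u]
    [LocallyOfFinitePresentation v] [QuasiCompact v] [QuasiSeparated v] :
    ∃ (S₀ X₀ Y₀ : Scheme.{u}) (h : S ⟶ S₀) (u₀ : X₀ ⟶ S₀) (v₀ : Y₀ ⟶ S₀) (eX : X ⟶ X₀)
      (eY : Y ⟶ Y₀), IsNoetherian S₀ ∧ LocallyOfFiniteType u₀ ∧ QuasiCompact u₀ ∧
        LocallyOfFiniteType v₀ ∧ QuasiCompact v₀ ∧ IsPullback eX u u₀ h ∧ IsPullback eY v v₀ h := by
  let u' : X ⟶ (nsCone S).pt := u
  let v' : Y ⟶ (nsCone S).pt := v
  have a1 : LocallyOfFinitePresentation u' := ‹LocallyOfFinitePresentation u›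
  have a2 : QuasiCompact u' := ‹QuasiCompact u›
  have a3 : QuasiSeparated u' := ‹QuasiSeparated u›
  have b1 : LocallyOfFinitePresentation v' := ‹LocallyOfFinitePresentation v›
  have b2 : QuasiCompact v' := ‹QuasiCompact v›
  have b3 : QuasiSeparated v' := ‹QuasiSeparated v›
  obtain ⟨i₁, hd₁⟩ := desc_of_finitePresentation (nsIsLimit S) u'
  obtain ⟨i₂, hd₂⟩ := desc_of_finitePresentation (nsIsLimit S) v'
  obtain ⟨X₀, u₀, eX, h1, h2, h3, sqX⟩ := hd₁.restage (IsCofiltered.minToLeft i₁ i₂)
  obtain ⟨Y₀, v₀, eY, k1, k2, k3, sqY⟩ := hd₂.restage (IsCofiltered.minToRight i₁ i₂)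
  exact ⟨(nsD S).obj (IsCofiltered.min i₁ i₂), X₀, Y₀, (nsCone S).π.app _, u₀, v₀, eX, eY,
    inferInstance, inferInstance, h2, inferInstance, k2, sqX, sqY⟩

/-- **EGA IV 9.2.3 (ii)** for pairs. -/
theorem isIndConstructible_locusPair (hP : ConsPropPair.IsIndConsPair P) {X Y S : Scheme.{u}}
    (u : X ⟶ S) (v : Y ⟶ S)
    [LocallyOfFinitePresentation u] [QuasiCompact u] [QuasiSeparated u]
    [LocallyOfFinitePresentation v] [QuasiCompact v] [QuasiSeparated v] :
    ProCons.IsIndConstructible (ConsPropPair.locusPair P u v) := by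
  apply isIndConstructible_of_affineOpens
  intro U hU
  have : IsAffine U.toScheme := hU
  have sqX := IsPullback.of_hasPullback u U.ι
  have sqY := IsPullback.of_hasPullback v U.ι
  rw [← locusPair_preimage hP.1 sqX sqY]
  obtain ⟨S₀, X₀, Y₀, h, u₀, v₀, eX, eY, hN, _, _, _, _, sqX₀, sqY₀⟩ :=
    exists_noetherian_model_pair (pullback.snd u U.ι) (pullback.snd v U.ι)
  rw [locusPair_preimage hP.1 sqX₀ sqY₀]
  apply Groth.Agent.S15543.result h
  apply isIndConstructible_of_forall_integral
  intro Z i _ _ _ hgen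
  have sq1 := IsPullback.of_hasPullback u₀ i
  have sq2 := IsPullback.of_hasPullback v₀ i
  rw [← locusPair_preimage hP.1 sq1 sq2]
  apply hP.2 (pullback.snd u₀ i) (pullback.snd v₀ i)
  rw [locusPair_preimage hP.1 sq1 sq2]
  exact hgen

/-- **EGA IV 9.2.3 (i)** for pairs. -/
theorem isLocallyConstructible_locusPair (hP : ConsPropPair.IsConsPair P) {X Y S : Scheme.{u}}
    (u : X ⟶ S) (v : Y ⟶ S)
    [LocallyOfFinitePresentation u] [QuasiCompact u] [QuasiSeparated u]
    [LocallyOfFinitePresentation v] [QuasiCompact v] [QuasiSeparated v] :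
    IsLocallyConstructible (ConsPropPair.locusPair P u v) := by
  rw [Groth.Agent.S3402.result]
  refine ⟨isIndConstructible_locusPair (isIndConsPair_of_isConsPair hP) u v, ?_⟩
  rw [Groth.Agent.H17.isProConstructible_iff_compl]
  exact isIndConstructible_locusPair (isIndConsPair_of_isConsPair (isConsPair_not hP)) u v

end Pair

end Groth.Agent.H24
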