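import Mathlib
import Groth.Agent.H24.ConsLocus

/-!
# Constructibility of fibrewise loci for relations on morphisms (helper24)
-/

set_option autoImplicit false

open CategoryTheory AlgebraicGeometry Limits TopologicalSpace Topology Opposite

universe u

namespace Groth.Agent.H24

section Mor

variable {P : ∀ ⦃X Y T : Scheme.{u}⦄, (X ⟶ Y) → (Y ⟶ T) → Prop}

theorem fiberMap_comp_fiberToSpec {X Y S : Scheme.{u}} (f : X ⟶ Y) (g : Y ⟶ S) (s : S) :
    MoreMor.fiberMap f g s ≫ g.fiberToSpecResidueField s =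
      (f ≫ g).fiberToSpecResidueField s :=
  pullback.lift_snd _ _ _

theorem fiberMap_comp_fiberι {X Y S : Scheme.{u}} (f : X ⟶ Y) (g : Y ⟶ S) (s : S) :
    MoreMor.fiberMap f g s ≫ g.fiberι s = (f ≫ g).fiberι s ≫ f :=
  pullback.lift_fst _ _ _

theorem locusMor_preimage (hP : ConsProp.IsFieldStableMor P)
    {X X' Y Y' S S' : Scheme.{u}} {f : X ⟶ Y} {g : Y ⟶ S} {f' : X' ⟶ Y'} {g' : Y' ⟶ S'}
    {eX : X' ⟶ X} {eY : Y' ⟶ Y} {h : S' ⟶ S} (sqY : IsPullback eY g' g h)
    (sqX : IsPullback eX f' f eY) [LocallyOfFiniteType g] [QuasiCompact g]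
    [LocallyOfFiniteType (f ≫ g)] [QuasiCompact (f ≫ g)] :
    ConsProp.locusMor P f' g' = h ⁻¹' ConsProp.locusMor P f g := by
  ext s'
  have sqXY : IsPullback eX (f' ≫ g') (f ≫ g) h := sqX.paste_vert sqY
  obtain ⟨eYs, heYs1, hY⟩ : ∃ eYs : g'.fiber s' ⟶ g.fiber (h s'),
      eYs ≫ g.fiberι (h s') = g'.fiberι s' ≫ eY ∧
      IsPullback eYs (g'.fiberToSpecResidueField s') (g.fiberToSpecResidueField (h s'))
        (Spec.map (h.residueFieldMap s')) :=
    ⟨_, pullback.lift_fst _ _ _, isPullback_fiberToSpecResidueField_of_isPullback sqY s'⟩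
  obtain ⟨eXs, heXs1, hXY⟩ : ∃ eXs : (f' ≫ g').fiber s' ⟶ (f ≫ g).fiber (h s'),
      eXs ≫ (f ≫ g).fiberι (h s') = (f' ≫ g').fiberι s' ≫ eX ∧
      IsPullback eXs ((f' ≫ g').fiberToSpecResidueField s')
        ((f ≫ g).fiberToSpecResidueField (h s')) (Spec.map (h.residueFieldMap s')) :=
    ⟨_, pullback.lift_fst _ _ _, isPullback_fiberToSpecResidueField_of_isPullback sqXY s'⟩
  have htop : IsPullback eXs (MoreMor.fiberMap f' g' s') (MoreMor.fiberMap f g (h s')) eYs := by
    refine IsPullback.of_bot ?_ ?_ hY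
    · rw [fiberMap_comp_fiberToSpec, fiberMap_comp_fiberToSpec]
      exact hXY
    · apply pullback.hom_ext
      · show (eXs ≫ MoreMor.fiberMap f g (h s')) ≫ g.fiberι (h s') =
          (MoreMor.fiberMap f' g' s' ≫ eYs) ≫ g.fiberι (h s')
        rw [Category.assoc, Category.assoc, fiberMap_comp_fiberι, ← Category.assoc, heXs1,
          Category.assoc, sqX.w, heYs1, ← Category.assoc, ← Category.assoc, fiberMap_comp_fiberι]
      · show (eXs ≫ MoreMor.fiberMap f g (h s')) ≫ g.fiberToSpecResidueField (h s') =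
          (MoreMor.fiberMap f' g' s' ≫ eYs) ≫ g.fiberToSpecResidueField (h s')
        rw [Category.assoc, Category.assoc, fiberMap_comp_fiberToSpec, hXY.w, hY.w,
          ← Category.assoc, fiberMap_comp_fiberToSpec]
  have i1 : LocallyOfFiniteType (g.fiberToSpecResidueField (h s')) := by
    show LocallyOfFiniteType (pullback.snd g _); infer_instance
  have i2 : QuasiCompact (g.fiberToSpecResidueField (h s')) := by
    show QuasiCompact (pullback.snd g _); infer_instance
  have i1' : LocallyOfFiniteType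
      (MoreMor.fiberMap f g (h s') ≫ g.fiberToSpecResidueField (h s')) := by
    rw [fiberMap_comp_fiberToSpec]
    show LocallyOfFiniteType (pullback.snd (f ≫ g) _); infer_instance
  have i2' : QuasiCompact
      (MoreMor.fiberMap f g (h s') ≫ g.fiberToSpecResidueField (h s')) := by
    rw [fiberMap_comp_fiberToSpec]
    show QuasiCompact (pullback.snd (f ≫ g) _); infer_instance
  have i3 : Subsingleton ↥(Spec (S.residueField (h s'))) :=
    inferInstanceAs (Subsingleton (PrimeSpectrum _))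
  have i4 : Subsingleton ↥(Spec (S'.residueField s')) :=
    inferInstanceAs (Subsingleton (PrimeSpectrum _))
  exact (hP (MoreMor.fiberMap f g (h s')) (g.fiberToSpecResidueField (h s'))
    (MoreMor.fiberMap f' g' s') (g'.fiberToSpecResidueField s') eXs eYs _ hY htop).symm

theorem isIndConsMor_of_isConsMor (hP : ConsProp.IsConsMor P) : ConsProp.IsIndConsMor P := by
  refine ⟨hP.1, ?_⟩
  intro X Y S f g _ _ _ _ _ _ hη
  rcases hP.2 f g with h | h
  · exact h
  · exfalso
    have : genericPoint S ∈ interior (ConsProp.locusMor P f g)ᶜ := by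
      rw [(genericPoint_spec S).mem_open_set_iff isOpen_interior]
      simpa using h
    exact interior_subset this hη

theorem isConsMor_not (hP : ConsProp.IsConsMor P) :
    ConsProp.IsConsMor (fun _ _ _ f g => ¬ P f g) := by
  refine ⟨?_, ?_⟩
  · intro X X' Y Y' T T' f g f' g' eX eY h _ _ _ _ _ _ _ _ sqY sqX
    exact not_congr (hP.1 f g f' g' eX eY h sqY sqX)
  · intro X Y S f g _ _ _ _ _ _
    have e : ConsProp.locusMor (fun _ _ _ f g => ¬ P f g) f g =
        (ConsProp.locusMor P f g)ᶜ := rfl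
    rw [e, compl_compl]
    exact (hP.2 f g).symm

/-- A morphism between schemes of finite presentation over an affine base descends to a
Noetherian base. -/
theorem exists_noetherian_model_mor {X Y S : Scheme.{u}} [IsAffine S] (f : X ⟶ Y) (g : Y ⟶ S)
    [LocallyOfFinitePresentation g] [QuasiCompact g] [QuasiSeparated g]
    [LocallyOfFinitePresentation (f ≫ g)] [QuasiCompact (f ≫ g)] [QuasiSeparated (f ≫ g)] :
    ∃ (S₀ X₀ Y₀ : Scheme.{u}) (h : S ⟶ S₀) (f₀ : X₀ ⟶ Y₀) (g₀ : Y₀ ⟶ S₀) (eX : X ⟶ X₀)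
      (eY : Y ⟶ Y₀), IsNoetherian S₀ ∧ LocallyOfFiniteType g₀ ∧ QuasiCompact g₀ ∧
        LocallyOfFiniteType (f₀ ≫ g₀) ∧ QuasiCompact (f₀ ≫ g₀) ∧ IsPullback eY g g₀ h ∧
        IsPullback eX f f₀ eY := by
  let g' : Y ⟶ (nsCone S).pt := g
  let w' : X ⟶ (nsCone S).pt := f ≫ g
  have a1 : LocallyOfFinitePresentation g' := ‹LocallyOfFinitePresentation g›
  have a2 : QuasiCompact g' := ‹QuasiCompact g›
  have a3 : QuasiSeparated g' := ‹QuasiSeparated g›
  have b1 : LocallyOfFinitePresentation w' := ‹LocallyOfFinitePresentation (f ≫ g)›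
  have b2 : QuasiCompact w' := ‹QuasiCompact (f ≫ g)›
  have b3 : QuasiSeparated w' := ‹QuasiSeparated (f ≫ g)›
  obtain ⟨i₁, hd₁⟩ := desc_of_finitePresentation (nsIsLimit S) g'
  obtain ⟨i₂, hd₂⟩ := desc_of_finitePresentation (nsIsLimit S) w'
  obtain ⟨Y₁, y₁, qY, h1, h2, h3, sqY₁⟩ := hd₁.restage (IsCofiltered.minToLeft i₁ i₂)
  obtain ⟨X₁, x₁, qX, k1, k2, k3, sqX₁⟩ := hd₂.restage (IsCofiltered.minToRight i₁ i₂)
  have hcY : CompactSpace Y₁ := QuasiCompact.compactSpace_of_compactSpace y₁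
  have hqY : QuasiSeparatedSpace Y₁ := quasiSeparatedSpace_of_quasiSeparated y₁
  have hcX : CompactSpace X₁ := QuasiCompact.compactSpace_of_compactSpace x₁
  have hqX : QuasiSeparatedSpace X₁ := quasiSeparatedSpace_of_quasiSeparated x₁
  obtain ⟨j, φ, fj, sX, sY, hfj, hsX1, hsX2, hsY1, hsY2, hsf⟩ :=
    Groth.Agent.S9218.result (nsD S) (nsCone S) (nsIsLimit S) (IsCofiltered.min i₁ i₂) x₁ y₁
      qX w' sqX₁ qY g' sqY₁ f rfl
  have hsX : IsPullback sX w' (pullback.snd x₁ ((nsD S).map φ)) ((nsCone S).π.app j) := by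
    refine IsPullback.of_right ?_ hsX2 (IsPullback.of_hasPullback x₁ ((nsD S).map φ))
    rw [hsX1, (nsCone S).w]
    exact sqX₁
  have hsY : IsPullback sY g' (pullback.snd y₁ ((nsD S).map φ)) ((nsCone S).π.app j) := by
    refine IsPullback.of_right ?_ hsY2 (IsPullback.of_hasPullback y₁ ((nsD S).map φ))
    rw [hsY1, (nsCone S).w]
    exact sqY₁
  have htop : IsPullback sX f fj sY := by
    refine IsPullback.of_bot ?_ hsf hsY
    rw [hfj]
    exact hsX
  refine ⟨(nsD S).obj j, pullback x₁ ((nsD S).map φ), pullback y₁ ((nsD S).map φ),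
    (nsCone S).π.app j, fj, pullback.snd y₁ ((nsD S).map φ), sX, sY, inferInstance,
    inferInstance, inferInstance, ?_, ?_, hsY, htop⟩
  · rw [hfj]; infer_instance
  · rw [hfj]; infer_instance

/-- **EGA IV 9.2.3 (ii)** for relations on morphisms. -/
theorem isIndConstructible_locusMor (hP : ConsProp.IsIndConsMor P) {X Y S : Scheme.{u}}
    (f : X ⟶ Y) (g : Y ⟶ S)
    [LocallyOfFinitePresentation g] [QuasiCompact g] [QuasiSeparated g]
    [LocallyOfFinitePresentation (f ≫ g)] [QuasiCompact (f ≫ g)] [QuasiSeparated (f ≫ g)] :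
    ProCons.IsIndConstructible (ConsProp.locusMor P f g) := by
  apply isIndConstructible_of_affineOpens
  intro U hU
  have : IsAffine U.toScheme := hU
  -- base change to `U`
  have sqY := IsPullback.of_hasPullback g U.ι
  obtain ⟨fU, hfU1, hfU2, sqX⟩ := isPullback_lift_of_comp (pullback.fst (f ≫ g) U.ι)
    (pullback.snd (f ≫ g) U.ι) f g U.ι (IsPullback.of_hasPullback (f ≫ g) U.ι)
  have c1 : LocallyOfFinitePresentation (fU ≫ pullback.snd g U.ι) := by rw [hfU2]; infer_instance
  have c2 : QuasiCompact (fU ≫ pullback.snd g U.ι) := by rw [hfU2]; infer_instance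
  have c3 : QuasiSeparated (fU ≫ pullback.snd g U.ι) := by rw [hfU2]; infer_instance
  rw [← locusMor_preimage hP.1 sqY sqX.flip]
  obtain ⟨S₀, X₀, Y₀, h, f₀, g₀, eX, eY, hN, _, _, _, _, sqY₀, sqX₀⟩ :=
    exists_noetherian_model_mor fU (pullback.snd g U.ι)
  rw [locusMor_preimage hP.1 sqY₀ sqX₀]
  apply Groth.Agent.S15543.result h
  apply isIndConstructible_of_forall_integral
  intro Z i _ _ _ hgen
  have sq1 := IsPullback.of_hasPullback g₀ i
  obtain ⟨fZ, hfZ1, hfZ2, sq2⟩ := isPullback_lift_of_comp (pullback.fst (f₀ ≫ g₀) i)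
    (pullback.snd (f₀ ≫ g₀) i) f₀ g₀ i (IsPullback.of_hasPullback (f₀ ≫ g₀) i)
  have d1 : LocallyOfFiniteType (fZ ≫ pullback.snd g₀ i) := by rw [hfZ2]; infer_instance
  have d2 : QuasiCompact (fZ ≫ pullback.snd g₀ i) := by rw [hfZ2]; infer_instance
  rw [← locusMor_preimage hP.1 sq1 sq2.flip]
  apply hP.2 fZ (pullback.snd g₀ i)
  rw [locusMor_preimage hP.1 sq1 sq2.flip]
  exact hgen

/-- **EGA IV 9.2.3 (i)** for relations on morphisms. -/
theorem isLocallyConstructible_locusMor (hP : ConsProp.IsConsMor P) {X Y S : Scheme.{u}}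
    (f : X ⟶ Y) (g : Y ⟶ S)
    [LocallyOfFinitePresentation g] [QuasiCompact g] [QuasiSeparated g]
    [LocallyOfFinitePresentation (f ≫ g)] [QuasiCompact (f ≫ g)] [QuasiSeparated (f ≫ g)] :
    IsLocallyConstructible (ConsProp.locusMor P f g) := by
  rw [Groth.Agent.S3402.result]
  refine ⟨isIndConstructible_locusMor (isIndConsMor_of_isConsMor hP) f g, ?_⟩
  rw [Groth.Agent.H17.isProConstructible_iff_compl]
  exact isIndConstructible_locusMor (isIndConsMor_of_isConsMor (isConsMor_not hP)) f g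

end Mor

end Groth.Agent.H24
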