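import Mathlib

universe u

namespace Groth.Agent.H24

theorem covBy_of_length_maximal {α : Type*} [Preorder α] (s : LTSeries α)
    (hmax : ∀ s' : LTSeries α, s'.head = s.head → s'.last = s.last → s'.length ≤ s.length)
    (i : Fin s.length) : s (Fin.castSucc i) ⋖ s (Fin.succ i) := by
  refine ⟨s.step i, fun c h1 h2 => ?_⟩
  have h1' : (s.take i.castSucc).last < c := by
    rw [RelSeries.last_take]; exact h1
  have h2' : c < (s.drop i.succ).head := by
    rw [RelSeries.head_drop]; exact h2
  have hconn : ((s.take i.castSucc).snoc c h1').last = ((s.drop i.succ).cons c h2').head := by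
    rw [RelSeries.last_snoc, RelSeries.head_cons]
  have h := hmax (((s.take i.castSucc).snoc c h1').smash ((s.drop i.succ).cons c h2') hconn)
    (by rw [RelSeries.head_smash, RelSeries.head_snoc, RelSeries.head_take])
    (by rw [RelSeries.last_smash, RelSeries.last_cons, RelSeries.last_drop])
  rw [RelSeries.smash_length, RelSeries.snoc_length, RelSeries.cons_length,
    RelSeries.take_length, RelSeries.drop_length] at h
  simp only [Fin.val_castSucc, Fin.val_succ] at h
  omega

theorem smash_covBy {α : Type*} [Preorder α] (s t : LTSeries α) (h : s.last = t.head)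
    (hs : ∀ i : Fin s.length, s i.castSucc ⋖ s i.succ)
    (ht : ∀ i : Fin t.length, t i.castSucc ⋖ t i.succ)
    (i : Fin (s.smash t h).length) : (s.smash t h) i.castSucc ⋖ (s.smash t h) i.succ := by
  refine Fin.addCases (motive := fun i : Fin (s.length + t.length) =>
    (s.smash t h) i.castSucc ⋖ (s.smash t h) i.succ) (fun j => ?_) (fun j => ?_) i
  · rw [RelSeries.smash_castAdd, RelSeries.smash_succ_castAdd]; exact hs j
  · rw [RelSeries.smash_natAdd, RelSeries.smash_succ_natAdd]; exact ht j


theorem last_eq_of_length_eq_coheight {α : Type*} [PartialOrder α] (t : LTSeries α) (m : α)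
    (hm : ∀ y, y ≤ m) (d : ℕ) (h : Order.coheight t.head = d) (hl : t.length = d) :
    t.last = m := by
  by_contra hne
  have hlt : t.last < m := lt_of_le_of_ne (hm _) hne
  have h3 := Order.length_le_coheight_head (p := t.snoc m hlt)
  rw [RelSeries.head_snoc, h, RelSeries.snoc_length, hl] at h3
  have : d + 1 ≤ d := by exact_mod_cast h3
  omega

theorem height_add_coheight_eq_of_catenary {α : Type*} [PartialOrder α]
    [FiniteDimensionalOrder α]
    (hcat : ∀ s t : LTSeries α, s.head = t.head → s.last = t.last →
      (∀ i : Fin s.length, s (Fin.castSucc i) ⋖ s (Fin.succ i)) →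
      (∀ i : Fin t.length, t (Fin.castSucc i) ⋖ t (Fin.succ i)) → s.length = t.length)
    (m : α) (hm : ∀ y, y ≤ m)
    (heq : ∀ x₀ : α, IsMin x₀ → (Order.coheight x₀ : WithBot ℕ∞) = Order.krullDim α) (x : α) :
    ((Order.height x + Order.coheight x : ℕ∞) : WithBot ℕ∞) = Order.krullDim α := by
  have hfin : Order.krullDim α ≠ ⊤ := Order.krullDim_ne_top_of_finiteDimensionalOrder
  have hht : Order.height x ≠ ⊤ := by
    intro h
    have h3 := Order.height_le_krullDim x
    rw [h] at h3
    exact hfin (top_le_iff.mp h3)
  have hcht : Order.coheight x ≠ ⊤ := (Order.coheight_lt_top x).ne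
  obtain ⟨n, hn⟩ := ENat.ne_top_iff_exists.mp hht
  obtain ⟨d, hd⟩ := ENat.ne_top_iff_exists.mp hcht
  obtain ⟨s, hs_last, hs_len⟩ := Order.exists_series_of_height_eq_coe x hn.symm
  obtain ⟨t, ht_head, ht_len⟩ := Order.exists_series_of_coheight_eq_coe x hd.symm
  have hmin : IsMin s.head := by
    intro y hy
    by_contra hnot
    have hlt : y < s.head := lt_of_le_not_ge hy hnot
    have h3 := Order.length_le_height_last (p := s.cons y hlt)
    rw [RelSeries.last_cons, hs_last, ← hn, RelSeries.cons_length, hs_len] at h3
    have : n + 1 ≤ n := by exact_mod_cast h3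
    omega
  have ht_last : t.last = m :=
    last_eq_of_length_eq_coheight t m hm d (by rw [ht_head, hd]) ht_len
  have hs_sat : ∀ i : Fin s.length, s i.castSucc ⋖ s i.succ :=
    covBy_of_length_maximal s (fun s' _ hl => by
      have h3 := Order.length_le_height_last (p := s')
      rw [hl, hs_last, ← hn] at h3
      rw [hs_len]
      exact_mod_cast h3)
  have ht_sat : ∀ i : Fin t.length, t i.castSucc ⋖ t i.succ :=
    covBy_of_length_maximal t (fun t' hh _ => by
      have h3 := Order.length_le_coheight_head (p := t')
      rw [hh, ht_head, ← hd] at h3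
      rw [ht_len]
      exact_mod_cast h3)
  have hk := heq s.head hmin
  have hck : Order.coheight s.head ≠ ⊤ := (Order.coheight_lt_top _).ne
  obtain ⟨k, hk'⟩ := ENat.ne_top_iff_exists.mp hck
  obtain ⟨r, hr_head, hr_len⟩ := Order.exists_series_of_coheight_eq_coe s.head hk'.symm
  have hr_last : r.last = m :=
    last_eq_of_length_eq_coheight r m hm k (by rw [hr_head, hk']) hr_len
  have hr_sat : ∀ i : Fin r.length, r i.castSucc ⋖ r i.succ :=
    covBy_of_length_maximal r (fun r' hh _ => by
      have h3 := Order.length_le_coheight_head (p := r')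
      rw [hh, hr_head, ← hk'] at h3
      rw [hr_len]
      exact_mod_cast h3)
  have hconn : s.last = t.head := hs_last.trans ht_head.symm
  have hlen : (s.smash t hconn).length = r.length :=
    hcat (s.smash t hconn) r (by rw [RelSeries.head_smash, hr_head])
      (by rw [RelSeries.last_smash, ht_last, hr_last]) (smash_covBy s t hconn hs_sat ht_sat) hr_sat
  rw [RelSeries.smash_length, hs_len, ht_len, hr_len] at hlen
  rw [← hk, ← hk', ← hn, ← hd, ← hlen]
  push_cast
  rfl

theorem ringKrullDim_quotient_eq_coheight {R : Type*} [CommRing R] (P : PrimeSpectrum R) :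
    ringKrullDim (R ⧸ P.asIdeal) = (Order.coheight P : WithBot ℕ∞) := by
  rw [ringKrullDim_quotient, Order.coheight_eq_krullDim_Ici]
  have : PrimeSpectrum.zeroLocus (P.asIdeal : Set R) = Set.Ici P := by
    ext Q
    rw [PrimeSpectrum.mem_zeroLocus, Set.mem_Ici, SetLike.coe_subset_coe]
    rfl
  rw [this]

theorem height_add_ringKrullDim_quotient_le {R : Type*} [CommRing R] (P : PrimeSpectrum R) :
    (P.asIdeal.height : WithBot ℕ∞) + ringKrullDim (R ⧸ P.asIdeal) ≤ ringKrullDim R := by
  have : Nonempty (PrimeSpectrum R) := ⟨P⟩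
  rw [PrimeSpectrum.height_eq_orderHeight, ringKrullDim_quotient_eq_coheight, ← WithBot.coe_add,
    ringKrullDim, Order.krullDim_eq_iSup_height_add_coheight_of_nonempty]
  exact WithBot.coe_le_coe.mpr
    (le_iSup (fun a : PrimeSpectrum R => Order.height a + Order.coheight a) P)

end Groth.Agent.H24
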