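import Mathlib
import Groth.Prelude.Def_Found
import Groth.Agent.H24.CatenaryOrder

universe u

namespace Groth.Agent.H24

/-- In a finite-dimensional catenary order with a top element, coheight drops by one along covers. -/
theorem coheight_eq_add_one_of_covBy {α : Type*} [PartialOrder α] [FiniteDimensionalOrder α]
    (hcat : ∀ s t : LTSeries α, s.head = t.head → s.last = t.last →
      (∀ i : Fin s.length, s (Fin.castSucc i) ⋖ s (Fin.succ i)) →
      (∀ i : Fin t.length, t (Fin.castSucc i) ⋖ t (Fin.succ i)) → s.length = t.length)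
    (m : α) (hm : ∀ y, y ≤ m) {p q : α} (hpq : p ⋖ q) :
    Order.coheight p = Order.coheight q + 1 := by
  obtain ⟨d, hd⟩ := ENat.ne_top_iff_exists.mp (Order.coheight_lt_top q).ne
  obtain ⟨k, hk⟩ := ENat.ne_top_iff_exists.mp (Order.coheight_lt_top p).ne
  obtain ⟨t, ht_head, ht_len⟩ := Order.exists_series_of_coheight_eq_coe q hd.symm
  obtain ⟨r, hr_head, hr_len⟩ := Order.exists_series_of_coheight_eq_coe p hk.symm
  have ht_last : t.last = m :=
    last_eq_of_length_eq_coheight t m hm d (by rw [ht_head, hd]) ht_len
  have hr_last : r.last = m :=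
    last_eq_of_length_eq_coheight r m hm k (by rw [hr_head, hk]) hr_len
  have ht_sat : ∀ i : Fin t.length, t i.castSucc ⋖ t i.succ :=
    covBy_of_length_maximal t (fun t' hh _ => by
      have h3 := Order.length_le_coheight_head (p := t')
      rw [hh, ht_head, ← hd] at h3
      rw [ht_len]
      exact_mod_cast h3)
  have hr_sat : ∀ i : Fin r.length, r i.castSucc ⋖ r i.succ :=
    covBy_of_length_maximal r (fun r' hh _ => by
      have h3 := Order.length_le_coheight_head (p := r')
      rw [hh, hr_head, ← hk] at h3
      rw [hr_len]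
      exact_mod_cast h3)
  have hlt : (RelSeries.singleton _ p : LTSeries α).last < q := by
    rw [RelSeries.last_singleton]; exact hpq.lt
  let pq : LTSeries α := (RelSeries.singleton _ p).snoc q hlt
  have hpq_head : pq.head = p := by
    rw [RelSeries.head_snoc, RelSeries.head_singleton]
  have hpq_last : pq.last = q := RelSeries.last_snoc _ _ _
  have hpq_sat : ∀ i : Fin pq.length, pq i.castSucc ⋖ pq i.succ := by
    intro i
    have hi : i = (0 : Fin 1) := Subsingleton.elim (α := Fin 1) _ _
    subst hi
    have h0 : pq (Fin.castSucc (0 : Fin 1)) = p := hpq_head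
    have h1 : pq (Fin.succ (0 : Fin 1)) = q := hpq_last
    rw [h0, h1]
    exact hpq
  have hconn : pq.last = t.head := hpq_last.trans ht_head.symm
  have hlen : (pq.smash t hconn).length = r.length :=
    hcat (pq.smash t hconn) r (by rw [RelSeries.head_smash, hpq_head, hr_head])
      (by rw [RelSeries.last_smash, ht_last, hr_last]) (smash_covBy pq t hconn hpq_sat ht_sat) hr_sat
  rw [RelSeries.smash_length, ht_len, hr_len] at hlen
  have h1 : pq.length = 1 := rfl
  rw [h1] at hlen
  rw [← hk, ← hd, ← hlen]
  push_cast
  ring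

/-- coheight along a saturated chain -/
theorem coheight_head_eq_of_covBy {α : Type*} [Preorder α] (s : LTSeries α)
    (H : ∀ p q : α, p ⋖ q → Order.coheight p = Order.coheight q + 1)
    (hs : ∀ i : Fin s.length, s i.castSucc ⋖ s i.succ) (i : Fin (s.length + 1)) :
    Order.coheight (s 0) = Order.coheight (s i) + (i : ℕ) := by
  induction i using Fin.induction with
  | zero => simp
  | succ i ih =>
    rw [ih, H _ _ (hs i)]
    simp only [Fin.val_castSucc, Fin.val_succ]
    push_cast
    ring

theorem isCatenary_iff_dimFun (A : Type u) [CommRing A] [IsNoetherianRing A]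
    [IsLocalRing A] :
    CAlg.IsCatenary A ↔
      ∀ p q : PrimeSpectrum A, p < q →
        ringKrullDim (A ⧸ q.asIdeal) < ringKrullDim (A ⧸ p.asIdeal) ∧
          (p ⋖ q → ringKrullDim (A ⧸ p.asIdeal) = ringKrullDim (A ⧸ q.asIdeal) + 1) := by
  have hm : ∀ y : PrimeSpectrum A, y ≤ IsLocalRing.closedPoint A :=
    fun y => IsLocalRing.le_maximalIdeal y.2.ne_top
  constructor
  · intro hcat p q hpq
    rw [ringKrullDim_quotient_eq_coheight, ringKrullDim_quotient_eq_coheight]
    refine ⟨WithBot.coe_lt_coe.mpr (Order.coheight_strictAnti hpq (Order.coheight_lt_top q)),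
      fun hcov => ?_⟩
    rw [coheight_eq_add_one_of_covBy hcat.2 _ hm hcov]
    rfl
  · intro H
    have H' : ∀ p q : PrimeSpectrum A, p ⋖ q → Order.coheight p = Order.coheight q + 1 := by
      intro p q hcov
      have h := (H p q hcov.lt).2 hcov
      rw [ringKrullDim_quotient_eq_coheight, ringKrullDim_quotient_eq_coheight] at h
      exact_mod_cast h
    constructor
    · intro p q _
      obtain ⟨n, hn⟩ := ENat.ne_top_iff_exists.mp (Order.coheight_lt_top p).ne
      refine ⟨n, fun s hs _ => ?_⟩
      have h3 := Order.length_le_coheight_head (p := s)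
      rw [hs, ← hn] at h3
      exact_mod_cast h3
    · intro s t hh hl hs ht
      have h1 := coheight_head_eq_of_covBy s H' hs (Fin.last _)
      have h2 := coheight_head_eq_of_covBy t H' ht (Fin.last _)
      have e1 : s 0 = t 0 := hh
      have e2 : s (Fin.last _) = t (Fin.last _) := hl
      rw [e1, e2, h2] at h1
      obtain ⟨n, hn⟩ := ENat.ne_top_iff_exists.mp (Order.coheight_lt_top (t (Fin.last _))).ne
      rw [← hn] at h1
      simp only [Fin.val_last] at h1
      have : n + t.length = n + s.length := by exact_mod_cast h1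
      omega

end Groth.Agent.H24
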