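import Mathlib
import Groth.Prelude.Def_EGA4b
import Groth.Prelude.Def_Found
import Groth.Agent.H24.CatenaryOrder

universe u

namespace Groth.Agent.H24

theorem height_add_ringKrullDim_quotient_eq (A : Type u) [CommRing A] [IsNoetherianRing A]
    [IsLocalRing A] (hA : EGA4.IsEquidim A) (hA' : CAlg.IsCatenary A) (P : PrimeSpectrum A) :
    (P.asIdeal.height : WithBot ℕ∞) + ringKrullDim (A ⧸ P.asIdeal) = ringKrullDim A := by
  rw [PrimeSpectrum.height_eq_orderHeight, ringKrullDim_quotient_eq_coheight, ← WithBot.coe_add]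
  refine height_add_coheight_eq_of_catenary hA'.2 (IsLocalRing.closedPoint A)
    (fun y => IsLocalRing.le_maximalIdeal y.2.ne_top) (fun x₀ hx₀ => ?_) P
  rw [← ringKrullDim_quotient_eq_coheight]
  exact hA x₀.asIdeal ⟨⟨x₀.2, bot_le⟩, fun q hq hle => hx₀ (b := ⟨q, hq.1⟩) hle⟩

theorem dim_quot_le_dim_quot_sup_add_one (A : Type u) [CommRing A] [IsNoetherianRing A]
    [IsLocalRing A] (p : Ideal A) [p.IsPrime] (t : A) (ht : t ∈ IsLocalRing.maximalIdeal A) :
    ringKrullDim (A ⧸ p) ≤ ringKrullDim (A ⧸ (p ⊔ Ideal.span {t})) + 1 := by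
  have : IsLocalRing (A ⧸ p) :=
    IsLocalRing.of_surjective' (Ideal.Quotient.mk p) Ideal.Quotient.mk_surjective
  have hmem : Ideal.Quotient.mk p t ∈ IsLocalRing.maximalIdeal (A ⧸ p) := by
    have hne : (IsLocalRing.maximalIdeal A).map (Ideal.Quotient.mk p) ≠ ⊤ := by
      intro h
      have h2 := Ideal.comap_map_of_surjective (Ideal.Quotient.mk p) Ideal.Quotient.mk_surjective
        (IsLocalRing.maximalIdeal A)
      rw [h, Ideal.comap_top, ← RingHom.ker_eq_comap_bot, Ideal.mk_ker] at h2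
      have h3 : IsLocalRing.maximalIdeal A ⊔ p = IsLocalRing.maximalIdeal A :=
        sup_eq_left.mpr (IsLocalRing.le_maximalIdeal (Ideal.IsPrime.ne_top inferInstance))
      rw [h3] at h2
      exact (IsLocalRing.maximalIdeal.isMaximal A).ne_top h2.symm
    exact IsLocalRing.le_maximalIdeal hne (Ideal.mem_map_of_mem _ ht)
  have h1 := ringKrullDim_le_ringKrullDim_quotient_add_encard
    ({Ideal.Quotient.mk p t} : Set (A ⧸ p)) (by
      rw [Set.singleton_subset_iff, ← Ideal.jacobson_bot,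
        IsLocalRing.jacobson_eq_maximalIdeal _ bot_ne_top]
      exact hmem)
  rw [Set.encard_singleton] at h1
  have e : ((A ⧸ p) ⧸ Ideal.span {Ideal.Quotient.mk p t}) ≃+* A ⧸ (p ⊔ Ideal.span {t}) := by
    have e0 := DoubleQuot.quotQuotEquivQuotSup p (Ideal.span {t})
    rwa [Ideal.map_span, Set.image_singleton] at e0
  rw [ringKrullDim_eq_of_ringEquiv e] at h1
  exact_mod_cast h1

/-- a prime `q ⊇ I` with `dim A/q = dim A/I` -/
theorem exists_prime_ge_ringKrullDim_quotient_eq (A : Type u) [CommRing A] [IsNoetherianRing A]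
    [IsLocalRing A] (I : Ideal A) (hI : I ≠ ⊤) :
    ∃ q : PrimeSpectrum A, I ≤ q.asIdeal ∧
      ringKrullDim (A ⧸ q.asIdeal) = ringKrullDim (A ⧸ I) := by
  have : Nontrivial (A ⧸ I) := Ideal.Quotient.nontrivial_iff.mpr hI
  have hne : Nonempty (PrimeSpectrum (A ⧸ I)) := inferInstance
  have hfin : ringKrullDim (A ⧸ I) < ⊤ :=
    lt_of_le_of_lt (ringKrullDim_quotient_le I) ringKrullDim_lt_top
  have h1 : ringKrullDim (A ⧸ I) =
      ((⨆ a : PrimeSpectrum (A ⧸ I), Order.coheight a : ℕ∞) : WithBot ℕ∞) :=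
    Order.krullDim_eq_iSup_coheight_of_nonempty
  have h2 : (⨆ a : PrimeSpectrum (A ⧸ I), Order.coheight a) < ⊤ := by
    rw [h1, ← WithBot.coe_top, WithBot.coe_lt_coe] at hfin
    exact hfin
  obtain ⟨Q, hQ⟩ := ENat.exists_eq_iSup_of_lt_top h2
  refine ⟨PrimeSpectrum.comap (Ideal.Quotient.mk I) Q, ?_, ?_⟩
  · intro a ha
    change Ideal.Quotient.mk I a ∈ Q.asIdeal
    rw [Ideal.Quotient.eq_zero_iff_mem.mpr ha]
    exact Q.asIdeal.zero_mem
  · have hle : I ≤ (PrimeSpectrum.comap (Ideal.Quotient.mk I) Q).asIdeal := by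
      intro a ha
      change Ideal.Quotient.mk I a ∈ Q.asIdeal
      rw [Ideal.Quotient.eq_zero_iff_mem.mpr ha]
      exact Q.asIdeal.zero_mem
    have e := DoubleQuot.quotQuotEquivQuotOfLE hle
    have hmap : (PrimeSpectrum.comap (Ideal.Quotient.mk I) Q).asIdeal.map (Ideal.Quotient.mk I) =
        Q.asIdeal := Ideal.map_comap_of_surjective _ Ideal.Quotient.mk_surjective _
    rw [hmap] at e
    rw [← ringKrullDim_eq_of_ringEquiv e, ringKrullDim_quotient_eq_coheight, hQ, h1]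


theorem iInf_height_hyperplane_section_le (A : Type u) [CommRing A] [IsNoetherianRing A]
    [IsLocalRing A] (hA : EGA4.IsEquidim A) (hA' : CAlg.IsCatenary A) (t : A)
    (ht : ringKrullDim (A ⧸ Ideal.span {t}) + 1 = ringKrullDim A) (Z : Set (PrimeSpectrum A))
    (hZ : StableUnderSpecialization Z) :
    (⨅ p ∈ {p ∈ Z | t ∈ p.asIdeal}, (p.asIdeal.map (Ideal.Quotient.mk (Ideal.span {t}))).height) ≤
        ⨅ p ∈ Z, p.asIdeal.height ∧
      (⨅ p ∈ Z, p.asIdeal.height) ≤ ⨅ p ∈ {p ∈ Z | t ∉ p.asIdeal}, p.asIdeal.height := by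
  constructor
  swap
  · exact le_iInf₂ fun p hp => iInf₂_le p hp.1
  have htm : t ∈ IsLocalRing.maximalIdeal A := by
    by_contra hnot
    have hu : IsUnit t := by
      by_contra h
      exact hnot ((IsLocalRing.mem_maximalIdeal t).mpr h)
    have htop : Ideal.span {t} = ⊤ := Ideal.span_singleton_eq_top.mpr hu
    have hss : Subsingleton (A ⧸ Ideal.span {t}) := by
      rw [htop]
      exact Ideal.Quotient.subsingleton_iff.mpr rfl
    rw [ringKrullDim_eq_bot_of_subsingleton, WithBot.bot_add] at ht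
    exact ringKrullDim_ne_bot ht.symm
  refine le_iInf₂ fun p hp => ?_
  have hI : p.asIdeal ⊔ Ideal.span {t} ≠ ⊤ := by
    have hle : p.asIdeal ⊔ Ideal.span {t} ≤ IsLocalRing.maximalIdeal A :=
      sup_le (IsLocalRing.le_maximalIdeal p.2.ne_top)
        ((Ideal.span_singleton_le_iff_mem _).mpr htm)
    intro h
    rw [h] at hle
    exact (IsLocalRing.maximalIdeal.isMaximal A).ne_top (top_le_iff.mp hle)
  obtain ⟨q, hIq, hqdim⟩ := exists_prime_ge_ringKrullDim_quotient_eq A _ hI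
  have hpq : p ≤ q := show p.asIdeal ≤ q.asIdeal from le_trans le_sup_left hIq
  have htq : t ∈ q.asIdeal := hIq (Ideal.mem_sup_right (Ideal.mem_span_singleton_self t))
  have hqZ : q ∈ Z := hZ ((PrimeSpectrum.le_iff_specializes p q).mp hpq) hp
  refine iInf₂_le_of_le q ⟨hqZ, htq⟩ ?_
  have hle : Ideal.span {t} ≤ q.asIdeal := (Ideal.span_singleton_le_iff_mem _).mpr htq
  have hprime : (q.asIdeal.map (Ideal.Quotient.mk (Ideal.span {t}))).IsPrime :=
    Ideal.isPrime_map_quotientMk_of_isPrime hle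
  have h1 := height_add_ringKrullDim_quotient_le
    (⟨_, hprime⟩ : PrimeSpectrum (A ⧸ Ideal.span {t}))
  have e := DoubleQuot.quotQuotEquivQuotOfLE hle
  rw [ringKrullDim_eq_of_ringEquiv e] at h1
  have h2 := height_add_ringKrullDim_quotient_eq A hA hA' p
  have h3 := dim_quot_le_dim_quot_sup_add_one A p.asIdeal t htm
  rw [← hqdim] at h3
  rw [ringKrullDim_quotient_eq_coheight q] at h1 h3
  obtain ⟨n, hn⟩ := ENat.ne_top_iff_exists.mp (Order.coheight_lt_top q).ne
  rw [← hn] at h1 h3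
  have h4 : (((q.asIdeal.map (Ideal.Quotient.mk (Ideal.span {t}))).height + ((n + 1 : ℕ) : ℕ∞) :
      ℕ∞) : WithBot ℕ∞) ≤ ((p.asIdeal.height + ((n + 1 : ℕ) : ℕ∞) : ℕ∞) : WithBot ℕ∞) := by
    calc (((q.asIdeal.map (Ideal.Quotient.mk (Ideal.span {t}))).height + ((n + 1 : ℕ) : ℕ∞) :
          ℕ∞) : WithBot ℕ∞)
        = (((q.asIdeal.map (Ideal.Quotient.mk (Ideal.span {t}))).height : WithBot ℕ∞) +
            ((n : ℕ∞) : WithBot ℕ∞)) + 1 := by push_cast; ring
      _ ≤ ringKrullDim (A ⧸ Ideal.span {t}) + 1 := by gcongr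
      _ = ringKrullDim A := ht
      _ = (p.asIdeal.height : WithBot ℕ∞) + ringKrullDim (A ⧸ p.asIdeal) := h2.symm
      _ ≤ (p.asIdeal.height : WithBot ℕ∞) + (((n : ℕ∞) : WithBot ℕ∞) + 1) := by gcongr
      _ = ((p.asIdeal.height + ((n + 1 : ℕ) : ℕ∞) : ℕ∞) : WithBot ℕ∞) := by push_cast; ring
  have h5 := WithBot.coe_le_coe.mp h4
  exact (ENat.add_le_add_iff_right (ENat.natCast_ne_top _)).mp h5

end Groth.Agent.H24
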