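import Mathlib

/-!
# Points with locally closed singleton in constructible sets (helper24)
-/

set_option autoImplicit false

open Topology Set

namespace Groth.Agent.H24

/-- A compact open `b` minus an open set, if nonempty, contains a point whose singleton is locally
closed (T0 space). -/
theorem exists_isLocallyClosed_singleton_of_isCompact_diff {X : Type*} [TopologicalSpace X]
    [T0Space X] {b V : Set X} (hb : IsCompact b) (hbo : IsOpen b) (hV : IsOpen V)
    (hne : (b \ V).Nonempty) : ∃ x ∈ b \ V, IsLocallyClosed ({x} : Set X) := by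
  have : CompactSpace ↥b := isCompact_iff_compactSpace.mp hb
  have hcl : IsClosed ((↑) ⁻¹' (b \ V) : Set ↥b) := by
    have : ((↑) ⁻¹' (b \ V) : Set ↥b) = ((↑) ⁻¹' V : Set ↥b)ᶜ := by
      ext ⟨x, hx⟩; simp
    rw [this]
    exact (hV.preimage continuous_subtype_val).isClosed_compl
  obtain ⟨y, hy⟩ := hne
  have hne' : ((↑) ⁻¹' (b \ V) : Set ↥b).Nonempty := ⟨⟨y, hy.1⟩, hy⟩
  obtain ⟨x, hx, hxc⟩ := hcl.exists_closed_singleton hne'
  refine ⟨x, hx, ?_⟩
  have := hxc.isLocallyClosed.image IsInducing.subtypeVal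
    (by rw [Subtype.range_coe]; exact hbo.isLocallyClosed)
  simpa using this

theorem exists_isLocallyClosed_singleton_of_isConstructible {X : Type*} [TopologicalSpace X]
    [T0Space X] [CompactSpace X] [QuasiSeparatedSpace X] [PrespectralSpace X]
    {E : Set X} (hE : IsConstructible E) (hne : E.Nonempty) :
    ∃ x ∈ E, IsLocallyClosed ({x} : Set X) := by
  revert hne
  have hb := PrespectralSpace.isTopologicalBasis (X := X)
  let ι := {U : Set X | IsOpen U ∧ IsCompact U}
  have : Nonempty ι := ⟨⟨∅, isOpen_empty, isCompact_empty⟩⟩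
  induction E, hE using IsConstructible.induction_of_isTopologicalBasis (ι := ι)
    (b := fun i => (i : Set X)) with
  | basis => simpa using hb
  | isCompact_basis i => exact i.2.2
  | sdiff i s hs =>
    intro hne
    exact exists_isLocallyClosed_singleton_of_isCompact_diff i.2.2 i.2.1
      (isOpen_biUnion fun j _ => j.2.1) hne
  | union s hs t ht ihs iht =>
    rintro ⟨x, hx | hx⟩
    · obtain ⟨y, hy, h⟩ := ihs ⟨x, hx⟩
      exact ⟨y, Or.inl hy, h⟩
    · obtain ⟨y, hy, h⟩ := iht ⟨x, hx⟩
      exact ⟨y, Or.inr hy, h⟩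

end Groth.Agent.H24
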