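import Mathlib

set_option autoImplicit false
universe u

namespace Groth.Agent.H24

/-- If `B_f` is a field for a domain `B`, then every nonzero prime of `B` contains `f`. -/
theorem mem_of_isField_away {B : Type u} [CommRing B] [IsDomain B] {f : B}
    (hf : IsField (Localization.Away f)) (p : Ideal B) [hp : p.IsPrime] (hp0 : p ≠ ⊥) : f ∈ p := by
  by_contra hfp
  have hf0 : f ≠ 0 := fun h => hfp (h ▸ p.zero_mem)
  have hdisj : Disjoint ((Submonoid.powers f : Submonoid B) : Set B) (p : Set B) := by
    rw [Set.disjoint_left]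
    rintro _ ⟨n, rfl⟩ hn
    exact hfp (hp.mem_of_pow_mem n hn)
  have h1 := IsLocalization.under_map_of_isPrime_disjoint (Submonoid.powers f)
    (Localization.Away f) hp hdisj
  let _ := hf.toField
  have hinj : Function.Injective (algebraMap B (Localization.Away f)) :=
    IsLocalization.injective (Localization.Away f)
      (powers_le_nonZeroDivisors_of_noZeroDivisors hf0)
  rcases Ideal.eq_bot_or_top (Ideal.map (algebraMap B (Localization.Away f)) p) with h | h
  · rw [h] at h1
    apply hp0
    rw [← h1]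
    ext x
    simp only [Ideal.under, Ideal.mem_comap, Ideal.mem_bot]
    exact ⟨fun hx => hinj (by rw [hx, map_zero]), fun hx => by rw [hx, map_zero]⟩
  · rw [h] at h1
    apply hp.ne_top
    rw [← h1]
    rfl

/-- In a Noetherian domain, if every nonzero prime contains `f ≠ 0`, then every nonzero prime
is minimal over `(f)`. -/
theorem mem_minimalPrimes_span_of_forall_mem {B : Type u} [CommRing B] [IsDomain B]
    [IsNoetherianRing B] {f : B} (hf0 : f ≠ 0)
    (hf : ∀ p : Ideal B, p.IsPrime → p ≠ ⊥ → f ∈ p) (p : Ideal B) [hp : p.IsPrime] (hp0 : p ≠ ⊥) :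
    p ∈ (Ideal.span {f}).minimalPrimes := by
  classical
  have hfp : Ideal.span {f} ≤ p := by
    rw [Ideal.span_singleton_le_iff_mem]
    exact hf p hp hp0
  obtain ⟨q, hq, hqp⟩ := Ideal.exists_minimalPrimes_le hfp
  by_contra hpQ
  have hfin : (Ideal.span {f}).minimalPrimes.Finite :=
    Ideal.finite_minimalPrimes_of_isNoetherianRing B _
  -- prime avoidance
  have hnot : ¬ ((p : Set B) ⊆ ⋃ i ∈ (↑hfin.toFinset : Set (Ideal B)), (i : Set B)) := by
    intro hsub
    have := (Ideal.subset_union_prime (R := B) (s := hfin.toFinset) (f := fun i => i) ⊥ ⊥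
      (fun i hi _ _ => by
        rw [Set.Finite.mem_toFinset] at hi
        exact hi.1.1)).mp hsub
    obtain ⟨q', hq', hpq'⟩ := this
    rw [Set.Finite.mem_toFinset] at hq'
    have hqq' : q ≤ q' := hqp.trans hpq'
    have hq'q : q' ≤ q := hq'.2 hq.1 hqq'
    have : p = q := le_antisymm (hpq'.trans hq'q) hqp
    exact hpQ (this ▸ hq)
  rw [Set.not_subset] at hnot
  obtain ⟨g, hgp, hgQ⟩ := hnot
  have hgQ' : ∀ q' ∈ (Ideal.span {f}).minimalPrimes, g ∉ q' := by
    intro q' hq' hg
    apply hgQ
    simp only [Set.mem_iUnion]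
    exact ⟨q', by simpa using hq', hg⟩
  have hg0 : g ≠ 0 := fun h => hgQ' q hq (h ▸ q.zero_mem)
  have hgp' : Ideal.span {g} ≤ p := by
    rw [Ideal.span_singleton_le_iff_mem]
    exact hgp
  obtain ⟨p', hp', hp'p⟩ := Ideal.exists_minimalPrimes_le hgp'
  have hp'prime : p'.IsPrime := hp'.1.1
  have hht : p'.height ≤ 1 :=
    Ideal.height_le_one_of_isPrincipal_of_mem_minimalPrimes (Ideal.span {g}) p' hp'
  have hgp'' : g ∈ p' := hp'.1.2 (Ideal.mem_span_singleton_self g)
  have hp'0 : p' ≠ ⊥ := fun h => hg0 (by simpa [h] using hgp'')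
  have hfp' : Ideal.span {f} ≤ p' := by
    rw [Ideal.span_singleton_le_iff_mem]
    exact hf p' hp'prime hp'0
  obtain ⟨q'', hq'', hq''p'⟩ := Ideal.exists_minimalPrimes_le hfp'
  have hq''prime : q''.IsPrime := hq''.1.1
  have hq''0 : q'' ≠ ⊥ := by
    intro h
    have : f ∈ q'' := hq''.1.2 (Ideal.mem_span_singleton_self f)
    rw [h] at this
    exact hf0 (by simpa using this)
  have heq : q'' = p' := by
    by_contra hne
    have hlt : q'' < p' := lt_of_le_of_ne hq''p' hne
    have h1 : q''.height < p'.height := Ideal.height_strict_mono_of_isPrime_of_isPrime hlt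
    have h2 : q''.height = 0 := by
      have : q''.height < 1 := lt_of_lt_of_le h1 hht
      exact Order.lt_one_iff.mp this
    exact hq''0 (Ideal.height_eq_zero_iff_eq_bot.mp h2)
  exact hgQ' q'' hq'' (heq ▸ hgp'')

end Groth.Agent.H24
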