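import Mathlib
import Groth.Agent.H24.AwayField

set_option autoImplicit false
universe u

namespace Groth.Agent.H24

/-- If `f ≠ 0` lies in every nonzero prime of a domain `B`, then `B_f` is a field. -/
theorem isField_away_of_forall_mem {B : Type u} [CommRing B] [IsDomain B] {f : B} (hf0 : f ≠ 0)
    (hf : ∀ p : Ideal B, p.IsPrime → p ≠ ⊥ → f ∈ p) : IsField (Localization.Away f) := by
  have hdom : IsDomain (Localization.Away f) :=
    IsLocalization.isDomain_localization
      (powers_le_nonZeroDivisors_of_noZeroDivisors hf0)
  by_contra hnf
  obtain ⟨P, hP0, hP⟩ := Ring.not_isField_iff_exists_prime.mp hnf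
  have hcomap : (P.comap (algebraMap B (Localization.Away f))).IsPrime := Ideal.comap_isPrime _ _
  have hbot : P.comap (algebraMap B (Localization.Away f)) = ⊥ := by
    by_contra hne
    have hfmem := hf _ hcomap hne
    rw [Ideal.mem_comap] at hfmem
    apply hP.ne_top
    exact Ideal.eq_top_of_isUnit_mem _ hfmem
      (IsLocalization.map_units (Localization.Away f) ⟨f, Submonoid.mem_powers f⟩)
  apply hP0
  rw [← IsLocalization.map_under (Submonoid.powers f) (Localization.Away f) P, Ideal.under, hbot,
    Ideal.map_bot]

end Groth.Agent.H24
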