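import Mathlib
import Groth.Agent.S4860
import Groth.Agent.H24.AwayField

/-!
# Points with locally closed singleton in Noetherian spectra (helper24)
-/

set_option autoImplicit false

open Topology Set TopologicalSpace

universe u

namespace Groth.Agent.H24

/-- If every point of `closure {x}` other than `x` is closed, then `closure {x}` has dimension
at most one. -/
theorem topologicalKrullDim_closure_singleton_le_one {X : Type*} [TopologicalSpace X]
    [QuasiSober X] (x : X)
    (h : ∀ y ∈ closure ({x} : Set X), y ≠ x → IsClosed ({y} : Set X)) :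
    topologicalKrullDim (closure ({x} : Set X)) ≤ 1 := by
  have hqs : QuasiSober ↥(closure ({x} : Set X)) :=
    (isClosed_closure.isClosedEmbedding_subtypeVal).quasiSober
  unfold topologicalKrullDim
  rw [Order.krullDim_le_one_iff]
  intro Z
  let xb : ↥(closure ({x} : Set X)) := ⟨x, subset_closure rfl⟩
  by_cases hxZ : xb ∈ Z
  · right
    intro W _
    intro t _
    have h1 : closure ({xb} : Set ↥(closure ({x} : Set X))) ⊆ Z :=
      Z.isClosed.closure_subset_iff.mpr (by simpa using hxZ)
    apply h1
    rw [closure_subtype]
    simpa [xb] using t.2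
  · left
    intro W hWZ
    obtain ⟨z, hz⟩ := QuasiSober.sober Z.isIrreducible Z.isClosed
    have hzZ : z ∈ Z := by
      have : z ∈ closure ({z} : Set _) := subset_closure rfl
      rw [hz.def] at this
      exact this
    have hzx : (z : X) ≠ x := by
      intro hzx
      apply hxZ
      have : z = xb := Subtype.ext hzx
      rw [← this]
      exact hzZ
    have hzc : IsClosed ({z} : Set ↥(closure ({x} : Set X))) := by
      have := (h z z.2 hzx).preimage (continuous_subtype_val (p := (· ∈ closure ({x} : Set X))))
      convert this using 1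
      ext t
      simp [Subtype.ext_iff]
    have hZz : (Z : Set _) = {z} := by
      rw [← hz.def, hzc.closure_eq]
    obtain ⟨w, hw⟩ := W.isIrreducible.nonempty
    have hwz : w = z := by
      have := hWZ hw
      have : w ∈ (Z : Set _) := this
      rw [hZz] at this
      exact this
    intro t ht
    have : t ∈ (Z : Set _) := ht
    rw [hZz] at this
    rw [mem_singleton_iff.mp this, ← hwz]
    exact hw

/-- In a Noetherian domain whose generic point is open, every nonzero prime is maximal. -/
theorem isMaximal_of_isOpen_bot {D : Type u} [CommRing D] [IsDomain D] [IsNoetherianRing D]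
    (h : IsOpen ({⟨⊥, Ideal.isPrime_bot⟩} : Set (PrimeSpectrum D)))
    (P : Ideal D) [hP : P.IsPrime] (hP0 : P ≠ ⊥) : P.IsMaximal := by
  obtain ⟨f, hf0, hf⟩ := ((Groth.Agent.S4860.result D).out 3 0).mp h
  have hmem := fun (p : Ideal D) (hp : p.IsPrime) (hp0 : p ≠ ⊥) => mem_of_isField_away hf p hp0
  obtain ⟨m, hm, hPm⟩ := Ideal.exists_le_maximal P hP.ne_top
  have hm0 : m ≠ ⊥ := fun h0 => hP0 (le_bot_iff.mp (h0 ▸ hPm))
  have hmin := mem_minimalPrimes_span_of_forall_mem hf0 hmem m (hp := hm.isPrime) hm0
  have hfP : Ideal.span {f} ≤ P := by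
    rw [Ideal.span_singleton_le_iff_mem]
    exact hmem P hP hP0
  have : m ≤ P := hmin.2 ⟨hP, hfP⟩ hPm
  rw [le_antisymm hPm this]
  exact hm

/-- Noetherian ring, `{p}` locally closed in the spectrum: every prime strictly above `p` is
maximal. -/
theorem isMaximal_of_lt_of_isLocallyClosed_singleton {B : Type u} [CommRing B]
    [IsNoetherianRing B] (p : PrimeSpectrum B)
    (hp : IsLocallyClosed ({p} : Set (PrimeSpectrum B)))
    (q : Ideal B) [hq : q.IsPrime] (hpq : p.asIdeal < q) : q.IsMaximal := by
  let D := B ⧸ p.asIdeal
  let π : B →+* D := Ideal.Quotient.mk p.asIdeal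
  have hπ : Function.Surjective π := Ideal.Quotient.mk_surjective
  have hinj : Function.Injective (PrimeSpectrum.comap π) :=
    PrimeSpectrum.comap_injective_of_surjective π hπ
  let bot : PrimeSpectrum D := ⟨⊥, Ideal.isPrime_bot⟩
  have hbot : PrimeSpectrum.comap π bot = p := by
    ext1
    simp only [PrimeSpectrum.comap_asIdeal, bot, π]
    rw [← RingHom.ker_eq_comap_bot, Ideal.mk_ker]
  have hpre : (PrimeSpectrum.comap π) ⁻¹' {p} = {bot} := by
    ext t
    simp only [mem_preimage, mem_singleton_iff]
    constructor
    · intro ht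
      exact hinj (ht.trans hbot.symm)
    · rintro rfl
      exact hbot
  have hlc : IsLocallyClosed ({bot} : Set (PrimeSpectrum D)) := by
    rw [← hpre]
    exact hp.preimage (PrimeSpectrum.continuous_comap π)
  have hopen : IsOpen ({bot} : Set (PrimeSpectrum D)) := by
    have hcl : closure ({bot} : Set (PrimeSpectrum D)) = univ := by
      rw [PrimeSpectrum.closure_singleton]
      simp [bot]
    have := hlc.isOpen_coborder
    rwa [coborder, hcl, ← compl_eq_univ_sdiff, compl_compl] at this
  have hq' : (q.map π).IsPrime := by
    apply Ideal.map_isPrime_of_surjective hπ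
    rw [Ideal.mk_ker]
    exact hpq.le
  have hq0 : q.map π ≠ ⊥ := by
    intro h0
    have : q ≤ p.asIdeal := by
      rw [← Ideal.mk_ker (I := p.asIdeal), RingHom.ker_eq_comap_bot, ← h0]
      exact Ideal.le_comap_map
    exact absurd hpq (not_lt_of_ge this)
  have hmax := isMaximal_of_isOpen_bot hopen (q.map π) hq0
  have : q = (q.map π).comap π := by
    rw [Ideal.comap_map_of_surjective π hπ]
    rw [← RingHom.ker_eq_comap_bot, Ideal.mk_ker]
    exact (sup_eq_left.mpr hpq.le).symm
  rw [this]
  exact Ideal.comap_isMaximal_of_surjective π hπ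

end Groth.Agent.H24
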