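import Mathlib

/-!
# `Spec (R ⧸ 𝔞)` as the limit of the `Spec (R ⧸ I)`, `I ≤ 𝔞` finitely generated
-/

set_option autoImplicit false
universe u
open CategoryTheory CategoryTheory.Limits AlgebraicGeometry Opposite

namespace Groth.Agent.H24

section FGIdeal

variable (R : Type u) [CommRing R] (𝔞 : Ideal R)

/-- Finitely generated ideals contained in `𝔞`. -/
abbrev FGIdeal := {I : Ideal R // I.FG ∧ I ≤ 𝔞}

instance : IsDirectedOrder (FGIdeal R 𝔞) := ⟨fun I J =>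
  ⟨⟨I.1 ⊔ J.1, Submodule.FG.sup I.2.1 J.2.1, sup_le I.2.2 J.2.2⟩,
    show I.1 ≤ I.1 ⊔ J.1 from le_sup_left, show J.1 ≤ I.1 ⊔ J.1 from le_sup_right⟩⟩

instance : Nonempty (FGIdeal R 𝔞) := ⟨⟨⊥, Submodule.fg_bot, bot_le⟩⟩

/-- The diagram of quotients. -/
noncomputable def fgIdealFunctor : FGIdeal R 𝔞 ⥤ CommRingCat.{u} where
  obj I := CommRingCat.of (R ⧸ I.1)
  map {I J} h := CommRingCat.ofHom (Ideal.Quotient.factor (leOfHom h))
  map_id I := by
    ext x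
    rfl
  map_comp h h' := by
    ext x
    rfl

/-- The cocone of quotient maps. -/
noncomputable def fgIdealCocone : Cocone (fgIdealFunctor R 𝔞) where
  pt := CommRingCat.of (R ⧸ 𝔞)
  ι :=
    { app := fun I => CommRingCat.ofHom (Ideal.Quotient.factor I.2.2)
      naturality := fun I J h => by
        ext x
        obtain ⟨r, rfl⟩ := Ideal.Quotient.mk_surjective (x : R ⧸ I.1)
        rfl }

/-- `R ⧸ 𝔞` is the colimit of the `R ⧸ I`. -/
noncomputable def fgIdealCoconeIsColimit : IsColimit (fgIdealCocone R 𝔞) := by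
  haveI : ReflectsColimit (fgIdealFunctor R 𝔞) (forget CommRingCat.{u}) :=
    reflectsColimit_of_reflectsIsomorphisms _ _
  apply isColimitOfReflects (forget CommRingCat.{u})
  apply Types.FilteredColimit.isColimitOf'
  · intro (x : R ⧸ 𝔞)
    obtain ⟨r, rfl⟩ := Ideal.Quotient.mk_surjective x
    exact ⟨⟨⊥, Submodule.fg_bot, bot_le⟩, Ideal.Quotient.mk _ r, rfl⟩
  · intro I (x : R ⧸ I.1) (y : R ⧸ I.1) h
    obtain ⟨a, rfl⟩ := Ideal.Quotient.mk_surjective x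
    obtain ⟨b, rfl⟩ := Ideal.Quotient.mk_surjective y
    have hab : a - b ∈ 𝔞 := by
      have h' : Ideal.Quotient.mk 𝔞 a = Ideal.Quotient.mk 𝔞 b := h
      exact Ideal.Quotient.eq.mp h'
    refine ⟨⟨I.1 ⊔ Ideal.span {a - b}, Submodule.FG.sup I.2.1 (Submodule.fg_span_singleton _),
      sup_le I.2.2 ((Ideal.span_singleton_le_iff_mem _).mpr hab)⟩,
      homOfLE (show I.1 ≤ I.1 ⊔ Ideal.span {a - b} from le_sup_left), ?_⟩
    show Ideal.Quotient.mk (I.1 ⊔ Ideal.span {a - b}) a =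
      Ideal.Quotient.mk (I.1 ⊔ Ideal.span {a - b}) b
    rw [Ideal.Quotient.eq]
    exact Ideal.mem_sup_right (Ideal.subset_span rfl)

/-- The diagram of spectra. -/
noncomputable def fgIdealSpecDiagram : (FGIdeal R 𝔞)ᵒᵖ ⥤ Scheme.{u} :=
  (fgIdealFunctor R 𝔞).op ⋙ Scheme.Spec

/-- The cone over the diagram of spectra. -/
noncomputable def fgIdealSpecCone : Cone (fgIdealSpecDiagram R 𝔞) :=
  Scheme.Spec.mapCone (fgIdealCocone R 𝔞).op

/-- `Spec (R ⧸ 𝔞)` is the limit of the `Spec (R ⧸ I)`. -/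
noncomputable def fgIdealSpecConeIsLimit : IsLimit (fgIdealSpecCone R 𝔞) :=
  isLimitOfPreserves Scheme.Spec (fgIdealCoconeIsColimit R 𝔞).op

theorem fgIdealSpecDiagram_obj (I : (FGIdeal R 𝔞)ᵒᵖ) :
    (fgIdealSpecDiagram R 𝔞).obj I = Spec (CommRingCat.of (R ⧸ I.unop.1)) := rfl

theorem fgIdealSpecDiagram_map {I J : (FGIdeal R 𝔞)ᵒᵖ} (φ : I ⟶ J) :
    (fgIdealSpecDiagram R 𝔞).map φ = Spec.map ((fgIdealFunctor R 𝔞).map φ.unop) := rfl

theorem fgIdealSpecCone_pt : (fgIdealSpecCone R 𝔞).pt = Spec (CommRingCat.of (R ⧸ 𝔞)) := rfl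

theorem fgIdealSpecCone_π (I : (FGIdeal R 𝔞)ᵒᵖ) :
    (fgIdealSpecCone R 𝔞).π.app I =
      Spec.map (CommRingCat.ofHom (Ideal.Quotient.factor I.unop.2.2)) := rfl

instance (I : (FGIdeal R 𝔞)ᵒᵖ) : IsAffine ((fgIdealSpecDiagram R 𝔞).obj I) := by
  rw [fgIdealSpecDiagram_obj]; infer_instance

instance {I J : (FGIdeal R 𝔞)ᵒᵖ} (φ : I ⟶ J) : IsAffineHom ((fgIdealSpecDiagram R 𝔞).map φ) :=
  isAffineHom_of_isAffine _

/-- The structure maps of the diagram of spectra. -/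
noncomputable def fgIdealSpecDiagramβ :
    fgIdealSpecDiagram R 𝔞 ⟶ (Functor.const _).obj (Spec (CommRingCat.of R)) where
  app I := Spec.map (CommRingCat.ofHom (Ideal.Quotient.mk I.unop.1))
  naturality I J φ := by
    have h : CommRingCat.ofHom (Ideal.Quotient.mk J.unop.1) ≫ (fgIdealFunctor R 𝔞).map φ.unop =
        CommRingCat.ofHom (Ideal.Quotient.mk I.unop.1) := by
      ext x
      rfl
    refine Eq.trans ?_ (Category.comp_id _).symm
    exact (Spec.map_comp _ _).symm.trans (congrArg Spec.map h)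

theorem fgIdealSpecCone_π_β (I : (FGIdeal R 𝔞)ᵒᵖ) :
    (fgIdealSpecCone R 𝔞).π.app I ≫ (fgIdealSpecDiagramβ R 𝔞).app I =
      Spec.map (CommRingCat.ofHom (Ideal.Quotient.mk 𝔞)) := by
  rw [fgIdealSpecCone_π]
  show Spec.map _ ≫ Spec.map _ = _
  rw [← Spec.map_comp]
  congr 1

end FGIdeal

end Groth.Agent.H24
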