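import Groth.Agent.H24.ModLimEpi
import Groth.Agent.H8.PullbackFinType
import Groth.Agent.H8.FPAffine
import Groth.Agent.H22.QCohH1

/-!
# Bijectivity / right exactness / factorisation of pulled-back homomorphisms is detected at a
finite stage (helper24)
-/

set_option autoImplicit false
set_option linter.style.haveILetI false

open CategoryTheory CategoryTheory.Limits AlgebraicGeometry Opposite TopologicalSpace

universe u

namespace Groth.Agent.H24.ModLimIso

open ModLimPres ModLimEpi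

section Pullback

variable {X' X : Scheme.{u}} (g : X' ⟶ X) (F : X.Modules) [F.IsQuasicoherent]

set_option backward.isDefEq.respectTransparency false in
/-- The pullback of a quasi-coherent module of finite presentation is of finite presentation. -/
theorem isFinitePresentation_pullback
    [SheafOfModules.IsFinitePresentation (R := X.ringCatSheaf) F] :
    SheafOfModules.IsFinitePresentation (R := X'.ringCatSheaf)
      ((Scheme.Modules.pullback g).obj F) := by
  haveI : ((Scheme.Modules.pullback g).obj F).IsQuasicoherent := H8.isQuasicoherent_pullback g F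
  let ι := {U' : X'.affineOpens // ∃ U : X.affineOpens, (U' : X'.Opens) ≤ g ⁻¹ᵁ (U : X.Opens)}
  have hcov : IsOpenCover (fun i : ι => ((i.1 : X'.affineOpens) : X'.Opens)) := by
    apply le_antisymm le_top
    intro x' _
    obtain ⟨U, hU, hxU, -⟩ := exists_isAffineOpen_mem_and_subset (x := g x')
      (U := (⊤ : X.Opens)) trivial
    obtain ⟨U', hU', hxU', hU'le⟩ := exists_isAffineOpen_mem_and_subset (x := x')
      (U := g ⁻¹ᵁ U) hxU
    exact Opens.mem_iSup.mpr ⟨⟨⟨U', hU'⟩, ⟨⟨U, hU⟩, hU'le⟩⟩, hxU'⟩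
  refine H8.isFinitePresentation_of_finitePresentation_sections _
    (fun i : ι => ((i.1 : X'.affineOpens) : X'.Opens)) hcov (fun i => i.1.2) (fun i => ?_)
  obtain ⟨U, hle⟩ := i.2
  letI := (g.appLE U.1 i.1.1 hle).hom.toAlgebra
  haveI : Module.FinitePresentation Γ(X, U.1) Γ(F, U.1) :=
    H8.finitePresentation_sections_of_isAffineOpen F U.2
  exact Module.FinitePresentation.of_equiv (H8.sectionsPullbackEquiv g F U.2 i.1.2 hle).symm

end Pullback

/-- A quasi-coherent module of finite presentation is of finite type. -/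
theorem isFiniteType_of_isFinitePresentation {X : Scheme.{u}} (M : X.Modules)
    [M.IsQuasicoherent] [SheafOfModules.IsFinitePresentation (R := X.ringCatSheaf) M] :
    SheafOfModules.IsFiniteType (R := X.ringCatSheaf) M :=
  H8.isFiniteType_of_forall_affine_finite M (fun U => by
    haveI := H8.finitePresentation_sections_of_isAffineOpen M U.2
    infer_instance)

/-- The kernel of an epimorphism from a quasi-coherent module of finite type onto a quasi-coherent
module of finite presentation is of finite type. -/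
theorem isFiniteType_kernel_of_epi {X : Scheme.{u}} {F G : X.Modules} [F.IsQuasicoherent]
    [G.IsQuasicoherent] [SheafOfModules.IsFiniteType (R := X.ringCatSheaf) F]
    [SheafOfModules.IsFinitePresentation (R := X.ringCatSheaf) G] (p : F ⟶ G) [Epi p] :
    SheafOfModules.IsFiniteType (R := X.ringCatSheaf) (kernel p : X.Modules) := by
  haveI : (kernel p).IsQuasicoherent := H22.QCohLimits.isQuasicoherent_kernel p
  let S : ShortComplex X.Modules := ShortComplex.mk (kernel.ι p) p (kernel.condition p)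
  have hSe : S.Exact := ShortComplex.exact_of_f_is_kernel S (kernelIsKernel p)
  haveI : Mono S.f := inferInstanceAs (Mono (kernel.ι p))
  haveI : Epi S.g := inferInstanceAs (Epi p)
  have hS : S.ShortExact := { exact := hSe }
  haveI : S.X₁.IsQuasicoherent := inferInstanceAs (kernel p).IsQuasicoherent
  refine H8.isFiniteType_of_forall_affine_finite _ (fun U => ?_)
  have hsurj : Function.Surjective (H8.appₗ p U.1) := H22.QCohH1.app_surjective S hS U.2
  have hex : Function.Exact (H8.appₗ (kernel.ι p) U.1) (H8.appₗ p U.1) :=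
    H8.appₗ_exact S hSe U.1
  have hinj : Function.Injective (H8.appₗ (kernel.ι p) U.1) :=
    H8.appₗ_injective_of_mono (kernel.ι p) U.1
  haveI : Module.Finite Γ(X, U.1) Γ(F, U.1) := H8.finite_sections_of_isAffineOpen F U.2
  haveI : Module.FinitePresentation Γ(X, U.1) Γ(G, U.1) :=
    H8.finitePresentation_sections_of_isAffineOpen G U.2
  have hker : (LinearMap.ker (H8.appₗ p U.1)).FG := Module.FinitePresentation.fg_ker _ hsurj
  have hrange : LinearMap.range (H8.appₗ (kernel.ι p) U.1) = LinearMap.ker (H8.appₗ p U.1) :=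
    (LinearMap.exact_iff.mp hex).symm
  haveI : Module.Finite Γ(X, U.1) (LinearMap.range (H8.appₗ (kernel.ι p) U.1)) :=
    Module.Finite.iff_fg.mpr (by rw [hrange]; exact hker)
  exact Module.Finite.equiv (LinearEquiv.ofInjective _ hinj).symm

section Abstract

variable {𝒜 ℬ 𝒞 : Type*} [Category 𝒜] [Category ℬ] [Category 𝒞] [Abelian 𝒜] [Abelian ℬ]
  [Abelian 𝒞]

/-- A cokernel-preserving functor which kills the kernel of an epimorphism `u` sends `u` to an
isomorphism. -/
theorem isIso_map_of_map_kernel_ι_eq_zero (Φ : 𝒜 ⥤ ℬ) [Φ.PreservesZeroMorphisms] {A B : 𝒜}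
    (u : A ⟶ B) [Epi u] [PreservesColimit (parallelPair (kernel.ι u) 0) Φ] [Epi (Φ.map u)]
    (h : Φ.map (kernel.ι u) = 0) : IsIso (Φ.map u) := by
  let S : ShortComplex 𝒜 := ShortComplex.mk (kernel.ι u) u (kernel.condition u)
  have hS : S.Exact := ShortComplex.exact_of_f_is_kernel S (kernelIsKernel u)
  have hS' : (S.map Φ).Exact := hS.map_of_epi_of_preservesCokernel Φ (inferInstanceAs (Epi u))
    (inferInstanceAs (PreservesColimit (parallelPair (kernel.ι u) 0) Φ))
  haveI : Mono (Φ.map u) := hS'.mono_g h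
  exact isIso_of_mono_of_epi _

/-- `Φ p₂` factors through `Φ p₁` (for `p₁` an epimorphism and `Φ` right exact) iff `Φ` kills
`ker p₁ ⟶ B₂`. -/
theorem exists_factor_iff (Φ : 𝒜 ⥤ ℬ) [Φ.PreservesZeroMorphisms] {A B₁ B₂ : 𝒜} (p₁ : A ⟶ B₁)
    (p₂ : A ⟶ B₂) [Epi p₁] [PreservesColimit (parallelPair (kernel.ι p₁) 0) Φ]
    [Epi (Φ.map p₁)] :
    (∃ k : Φ.obj B₁ ⟶ Φ.obj B₂, Φ.map p₁ ≫ k = Φ.map p₂) ↔ Φ.map (kernel.ι p₁ ≫ p₂) = 0 := by
  constructor
  · rintro ⟨k, hk⟩
    rw [Functor.map_comp, ← hk, ← Category.assoc, ← Functor.map_comp, kernel.condition,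
      Functor.map_zero, zero_comp]
  · intro h
    let S : ShortComplex 𝒜 := ShortComplex.mk (kernel.ι p₁) p₁ (kernel.condition p₁)
    have hS : S.Exact := ShortComplex.exact_of_f_is_kernel S (kernelIsKernel p₁)
    have hS' : (S.map Φ).Exact := hS.map_of_epi_of_preservesCokernel Φ
      (inferInstanceAs (Epi p₁))
      (inferInstanceAs (PreservesColimit (parallelPair (kernel.ι p₁) 0) Φ))
    haveI : Epi (S.map Φ).g := inferInstanceAs (Epi (Φ.map p₁))
    have hk : (S.map Φ).f ≫ Φ.map p₂ = 0 := by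
      show Φ.map (kernel.ι p₁) ≫ Φ.map p₂ = 0
      rw [← Functor.map_comp]
      exact h
    exact ⟨hS'.desc (Φ.map p₂) hk, hS'.g_desc (Φ.map p₂) hk⟩

/-- The image sequence `Φ A ⟶ Φ B ⟶ Φ C ⟶ 0` is exact. -/
def RightExact (Φ : 𝒜 ⥤ ℬ) {A B C : 𝒜} (f : A ⟶ B) (g : B ⟶ C) : Prop :=
  ∃ w : Φ.map f ≫ Φ.map g = 0, (ShortComplex.mk _ _ w).Exact ∧ Epi (Φ.map g)

theorem rightExact_comp_iff (Φ : 𝒜 ⥤ ℬ) (Ψ : ℬ ⥤ 𝒞) {A B C : 𝒜} (f : A ⟶ B) (g : B ⟶ C) :
    RightExact (Φ ⋙ Ψ) f g ↔ RightExact Ψ (Φ.map f) (Φ.map g) := Iff.rfl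

theorem rightExact_iff_isIso_map_desc (Φ : 𝒜 ⥤ ℬ) [Φ.PreservesZeroMorphisms] {A B C : 𝒜}
    (f : A ⟶ B) (g : B ⟶ C) (w₀ : f ≫ g = 0) [PreservesColimit (parallelPair f 0) Φ] :
    RightExact Φ f g ↔ IsIso (Φ.map (cokernel.desc f g w₀)) := by
  have w' : Φ.map f ≫ Φ.map g = 0 := by rw [← Φ.map_comp, w₀, Φ.map_zero]
  have hπ : Φ.map (cokernel.π f) ≫ (PreservesCokernel.iso Φ f).hom = cokernel.π (Φ.map f) :=
    PreservesCokernel.π_iso_hom Φ f
  have key : (PreservesCokernel.iso Φ f).hom ≫ cokernel.desc (Φ.map f) (Φ.map g) w' =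
      Φ.map (cokernel.desc f g w₀) := by
    have h2 : Φ.map (cokernel.π f) =
        cokernel.π (Φ.map f) ≫ (PreservesCokernel.iso Φ f).inv := by
      rw [← hπ, Category.assoc, Iso.hom_inv_id, Category.comp_id]
    haveI hepi : Epi (Φ.map (cokernel.π f)) := by
      rw [h2]
      infer_instance
    rw [← cancel_epi (Φ.map (cokernel.π f)), ← Category.assoc, hπ, cokernel.π_desc,
      ← Φ.map_comp, cokernel.π_desc]
  constructor
  · rintro ⟨w, hex, hepi⟩
    haveI : Mono (cokernel.desc (Φ.map f) (Φ.map g) w') :=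
      (ShortComplex.mk _ _ w).exact_iff_mono_cokernel_desc.mp hex
    haveI : Epi (cokernel.desc (Φ.map f) (Φ.map g) w') := by
      haveI : Epi (cokernel.π (Φ.map f) ≫ cokernel.desc (Φ.map f) (Φ.map g) w') := by
        rw [cokernel.π_desc]
        exact hepi
      exact epi_of_epi (cokernel.π (Φ.map f)) _
    haveI : IsIso (cokernel.desc (Φ.map f) (Φ.map g) w') := isIso_of_mono_of_epi _
    rw [← key]
    infer_instance
  · intro h
    haveI hd : IsIso (cokernel.desc (Φ.map f) (Φ.map g) w') := by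
      have e : cokernel.desc (Φ.map f) (Φ.map g) w' =
          (PreservesCokernel.iso Φ f).inv ≫ Φ.map (cokernel.desc f g w₀) := by
        rw [← key, Iso.inv_hom_id_assoc]
      rw [e]
      infer_instance
    refine ⟨w', (ShortComplex.mk _ _ w').exact_iff_mono_cokernel_desc.mpr ?_, ?_⟩
    · show Mono (cokernel.desc (Φ.map f) (Φ.map g) w')
      infer_instance
    · rw [← cokernel.π_desc (Φ.map f) (Φ.map g) w']
      infer_instance

theorem RightExact.of_iso {Φ Ψ : 𝒜 ⥤ ℬ} (e : Φ ≅ Ψ) {A B C : 𝒜} {f : A ⟶ B} {g : B ⟶ C}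
    (h : RightExact Φ f g) : RightExact Ψ f g := by
  obtain ⟨w, hex, hepi⟩ := h
  have hg : Ψ.map g = e.inv.app B ≫ Φ.map g ≫ e.hom.app C := by simp
  have w' : Ψ.map f ≫ Ψ.map g = 0 := by
    have h1 : e.hom.app A ≫ Ψ.map f ≫ Ψ.map g = (Φ.map f ≫ Φ.map g) ≫ e.hom.app C := by
      simp
    rw [← cancel_epi (e.hom.app A), h1, w, zero_comp, comp_zero]
  refine ⟨w', ?_, ?_⟩
  · refine ShortComplex.exact_of_iso ?_ hex
    exact ShortComplex.isoMk (e.app A) (e.app B) (e.app C) (by simp) (by simp)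
  · rw [hg]
    haveI := hepi
    infer_instance

theorem RightExact.comp {Φ : 𝒜 ⥤ ℬ} (Ψ : ℬ ⥤ 𝒞) [Ψ.PreservesZeroMorphisms]
    [PreservesColimitsOfShape WalkingParallelPair Ψ] [Ψ.PreservesEpimorphisms]
    {A B C : 𝒜} {f : A ⟶ B} {g : B ⟶ C} (h : RightExact Φ f g) : RightExact (Φ ⋙ Ψ) f g := by
  obtain ⟨w, hex, hepi⟩ := h
  have hex' := hex.map_of_epi_of_preservesCokernel Ψ hepi inferInstance
  have w' : Ψ.map (Φ.map f) ≫ Ψ.map (Φ.map g) = 0 := by
    rw [← Ψ.map_comp, w, Ψ.map_zero]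
  refine ⟨w', hex', ?_⟩
  show Epi (Ψ.map (Φ.map g))
  haveI := hepi
  infer_instance

end Abstract

section Key

variable {X Y Z : Scheme.{u}}

/-- `pullback g ⋙ pullback f ≅ pullback k` when `f ≫ g = k`. -/
noncomputable def compIso (f : Z ⟶ Y) (g : Y ⟶ X) (k : Z ⟶ X) (hk : f ≫ g = k) :
    Scheme.Modules.pullback g ⋙ Scheme.Modules.pullback f ≅ Scheme.Modules.pullback k := by
  subst hk
  exact Scheme.Modules.pullbackComp f g

theorem isIso_comp_of (f : Z ⟶ Y) (g : Y ⟶ X) (k : Z ⟶ X) (hk : f ≫ g = k) {F G : X.Modules}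
    (γ : F ⟶ G) (h : IsIso ((Scheme.Modules.pullback k).map γ)) :
    IsIso ((Scheme.Modules.pullback f).map ((Scheme.Modules.pullback g).map γ)) := by
  subst hk
  rw [key_comp']
  haveI := h
  infer_instance

theorem isIso_of_comp (f : Z ⟶ Y) (g : Y ⟶ X) (k : Z ⟶ X) (hk : f ≫ g = k) {F G : X.Modules}
    (γ : F ⟶ G)
    (h : IsIso ((Scheme.Modules.pullback f).map ((Scheme.Modules.pullback g).map γ))) :
    IsIso ((Scheme.Modules.pullback k).map γ) := by
  subst hk
  rw [key_comp]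
  haveI := h
  infer_instance

end Key

section Lim

variable {I : Type u} [SmallCategory I] [IsCofiltered I] (D : I ⥤ Scheme.{u}) (c : Cone D)
  (hc : IsLimit c) [∀ (i j : I) (f : i ⟶ j), IsAffineHom (D.map f)]

include hc in
theorem exists_stage_isIso_of_epi (i₁ : I) [CompactSpace (D.obj i₁)]
    {F₁ G₁ : (D.obj i₁).Modules} [F₁.IsQuasicoherent] [G₁.IsQuasicoherent]
    [SheafOfModules.IsFiniteType (R := (D.obj i₁).ringCatSheaf) F₁]
    [SheafOfModules.IsFinitePresentation (R := (D.obj i₁).ringCatSheaf) G₁]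
    (u₁ : F₁ ⟶ G₁) [Epi u₁]
    (h : IsIso ((Scheme.Modules.pullback (c.π.app i₁)).map u₁)) :
    ∃ j : Over i₁, IsIso ((Scheme.Modules.pullback (D.map j.hom)).map u₁) := by
  haveI : (kernel u₁).IsQuasicoherent := H22.QCohLimits.isQuasicoherent_kernel u₁
  have hK : SheafOfModules.IsFiniteType (R := (D.obj i₁).ringCatSheaf)
      (kernel u₁ : (D.obj i₁).Modules) :=
    isFiniteType_kernel_of_epi u₁
  have h0 : (Scheme.Modules.pullback (c.π.app i₁)).map (kernel.ι u₁) = 0 := by
    haveI := h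
    rw [← cancel_mono ((Scheme.Modules.pullback (c.π.app i₁)).map u₁), ← Functor.map_comp,
      kernel.condition, Functor.map_zero, zero_comp]
  obtain ⟨j, hj⟩ := zeroProp.lim D c hc i₁ (F₀ := kernel u₁) (G₀ := F₁) hK (kernel.ι u₁) h0
  have hj' : (Scheme.Modules.pullback (D.map j.hom)).map (kernel.ι u₁) = 0 := hj
  exact ⟨j, isIso_map_of_map_kernel_ι_eq_zero (Scheme.Modules.pullback (D.map j.hom)) u₁ hj'⟩

include hc in
/-- **Bijectivity of a pulled-back homomorphism descends to a finite stage.** -/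
theorem exists_stage_isIso (i₀ : I) [CompactSpace (D.obj i₀)]
    {F₀ G₀ : (D.obj i₀).Modules} [F₀.IsQuasicoherent] [G₀.IsQuasicoherent]
    (hF : SheafOfModules.IsFiniteType (R := (D.obj i₀).ringCatSheaf) F₀)
    (hG : SheafOfModules.IsFinitePresentation (R := (D.obj i₀).ringCatSheaf) G₀)
    (u₀ : F₀ ⟶ G₀) (h : IsIso ((Scheme.Modules.pullback (c.π.app i₀)).map u₀)) :
    ∃ j : Over i₀, IsIso ((Scheme.Modules.pullback (D.map j.hom)).map u₀) := by
  haveI := hF
  haveI := hG
  have hGft : SheafOfModules.IsFiniteType (R := (D.obj i₀).ringCatSheaf) G₀ :=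
    isFiniteType_of_isFinitePresentation G₀
  have hepi : Epi ((Scheme.Modules.pullback (c.π.app i₀)).map u₀) := by
    haveI := h
    infer_instance
  obtain ⟨j₁, hj₁⟩ := epiProp.lim D c hc i₀ (F₀ := F₀) (G₀ := G₀) hGft u₀ hepi
  haveI hj₁' : Epi ((Scheme.Modules.pullback (D.map j₁.hom)).map u₀) := hj₁
  haveI : CompactSpace (D.obj j₁.left) :=
    QuasiCompact.compactSpace_of_compactSpace (D.map j₁.hom)
  haveI : ((Scheme.Modules.pullback (D.map j₁.hom)).obj F₀).IsQuasicoherent :=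
    H8.isQuasicoherent_pullback _ F₀
  haveI : ((Scheme.Modules.pullback (D.map j₁.hom)).obj G₀).IsQuasicoherent :=
    H8.isQuasicoherent_pullback _ G₀
  haveI : SheafOfModules.IsFiniteType (R := (D.obj j₁.left).ringCatSheaf)
      ((Scheme.Modules.pullback (D.map j₁.hom)).obj F₀) := H8.isFiniteType_pullback _ F₀
  haveI : SheafOfModules.IsFinitePresentation (R := (D.obj j₁.left).ringCatSheaf)
      ((Scheme.Modules.pullback (D.map j₁.hom)).obj G₀) := isFinitePresentation_pullback _ G₀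
  have h₁ : IsIso ((Scheme.Modules.pullback (c.π.app j₁.left)).map
      ((Scheme.Modules.pullback (D.map j₁.hom)).map u₀)) :=
    isIso_comp_of (c.π.app j₁.left) (D.map j₁.hom) (c.π.app i₀) (c.w j₁.hom) u₀ h
  obtain ⟨j₂, hj₂⟩ := exists_stage_isIso_of_epi D c hc j₁.left
    ((Scheme.Modules.pullback (D.map j₁.hom)).map u₀) h₁
  refine ⟨Over.mk (j₂.hom ≫ j₁.hom), ?_⟩
  exact isIso_of_comp (D.map j₂.hom) (D.map j₁.hom) _ (D.map_comp _ _).symm u₀ hj₂

end Lim

/-- The property "is an isomorphism". -/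
noncomputable def isoProp : ModProp.{u} where
  Q β := IsIso β
  H A B := SheafOfModules.IsFiniteType (R := _) A ∧ SheafOfModules.IsFinitePresentation (R := _) B
  iso := by
    intro Y A B A' B' β eA eB h
    haveI := h
    infer_instance
  pull := by
    intro Z Y f A B β h
    haveI := h
    infer_instance
  pullH := by
    intro Z Y f A B _ _ h
    haveI := h.1
    haveI := h.2
    exact ⟨H8.isFiniteType_pullback f A, isFinitePresentation_pullback f B⟩
  lim := by
    intro I _ _ D c hc _ i₀ _ F₀ G₀ _ _ hFG u₀ h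
    exact exists_stage_isIso D c hc i₀ hFG.1 hFG.2 u₀ h

section Lim2

variable {I : Type u} [SmallCategory I] [IsCofiltered I] (D : I ⥤ Scheme.{u}) (c : Cone D)
  (hc : IsLimit c) [∀ (i j : I) (f : i ⟶ j), IsAffineHom (D.map f)]

include hc in
theorem exists_stage_rightExact_of_comp_zero (i₁ : I) [CompactSpace (D.obj i₁)]
    {F₁ G₁ H₁ : (D.obj i₁).Modules} [F₁.IsQuasicoherent] [G₁.IsQuasicoherent]
    [H₁.IsQuasicoherent]
    (hG : SheafOfModules.IsFiniteType (R := (D.obj i₁).ringCatSheaf) G₁)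
    (hH : SheafOfModules.IsFinitePresentation (R := (D.obj i₁).ringCatSheaf) H₁)
    (f₁ : F₁ ⟶ G₁) (g₁ : G₁ ⟶ H₁) (w₁ : f₁ ≫ g₁ = 0)
    (h : RightExact (Scheme.Modules.pullback (c.π.app i₁)) f₁ g₁) :
    ∃ j : Over i₁, RightExact (Scheme.Modules.pullback (D.map j.hom)) f₁ g₁ := by
  haveI := hG
  haveI := hH
  haveI : (cokernel f₁).IsQuasicoherent := H8.isQuasicoherent_cokernel f₁
  have hC : SheafOfModules.IsFiniteType (R := (D.obj i₁).ringCatSheaf)
      (cokernel f₁ : (D.obj i₁).Modules) :=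
    H8.isFiniteType_of_epi (cokernel.π f₁)
  have h1 := (rightExact_iff_isIso_map_desc _ f₁ g₁ w₁).mp h
  obtain ⟨j, hj⟩ := exists_stage_isIso D c hc i₁ hC hH (cokernel.desc f₁ g₁ w₁) h1
  exact ⟨j, (rightExact_iff_isIso_map_desc _ f₁ g₁ w₁).mpr hj⟩

include hc in
/-- **Right exactness of a pulled-back sequence is detected at a finite stage.** -/
theorem rightExact_iff_eventually (i₀ : I) [CompactSpace (D.obj i₀)]
    {F₀ G₀ H₀ : (D.obj i₀).Modules} [F₀.IsQuasicoherent] [G₀.IsQuasicoherent]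
    [H₀.IsQuasicoherent]
    (hF₀ : SheafOfModules.IsFiniteType (R := (D.obj i₀).ringCatSheaf) F₀)
    (hG₀ : SheafOfModules.IsFiniteType (R := (D.obj i₀).ringCatSheaf) G₀)
    (hH₀ : SheafOfModules.IsFinitePresentation (R := (D.obj i₀).ringCatSheaf) H₀)
    (f₀ : F₀ ⟶ G₀) (g₀ : G₀ ⟶ H₀) :
    RightExact (Scheme.Modules.pullback (c.π.app i₀)) f₀ g₀ ↔
      ∃ (j : I) (φ : j ⟶ i₀), RightExact (Scheme.Modules.pullback (D.map φ)) f₀ g₀ := by
  haveI := hF₀
  haveI := hG₀
  haveI := hH₀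
  constructor
  · intro h
    have h0 : (Scheme.Modules.pullback (c.π.app i₀)).map (f₀ ≫ g₀) = 0 := by
      obtain ⟨w, -, -⟩ := h
      rw [Functor.map_comp]
      exact w
    obtain ⟨j₀, hj₀⟩ := zeroProp.lim D c hc i₀ (F₀ := F₀) (G₀ := H₀) hF₀ (f₀ ≫ g₀) h0
    have hj₀' : (Scheme.Modules.pullback (D.map j₀.hom)).map f₀ ≫
        (Scheme.Modules.pullback (D.map j₀.hom)).map g₀ = 0 := by
      rw [← Functor.map_comp]
      exact hj₀
    haveI : CompactSpace (D.obj j₀.left) :=
      QuasiCompact.compactSpace_of_compactSpace (D.map j₀.hom)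
    haveI : ((Scheme.Modules.pullback (D.map j₀.hom)).obj F₀).IsQuasicoherent :=
      H8.isQuasicoherent_pullback _ F₀
    haveI : ((Scheme.Modules.pullback (D.map j₀.hom)).obj G₀).IsQuasicoherent :=
      H8.isQuasicoherent_pullback _ G₀
    haveI : ((Scheme.Modules.pullback (D.map j₀.hom)).obj H₀).IsQuasicoherent :=
      H8.isQuasicoherent_pullback _ H₀
    have hG₁ : SheafOfModules.IsFiniteType (R := (D.obj j₀.left).ringCatSheaf)
        ((Scheme.Modules.pullback (D.map j₀.hom)).obj G₀) := H8.isFiniteType_pullback _ G₀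
    have hH₁ : SheafOfModules.IsFinitePresentation (R := (D.obj j₀.left).ringCatSheaf)
        ((Scheme.Modules.pullback (D.map j₀.hom)).obj H₀) := isFinitePresentation_pullback _ H₀
    have h1 : RightExact (Scheme.Modules.pullback (D.map j₀.hom) ⋙
        Scheme.Modules.pullback (c.π.app j₀.left)) f₀ g₀ :=
      RightExact.of_iso
        (compIso (c.π.app j₀.left) (D.map j₀.hom) (c.π.app i₀) (c.w j₀.hom)).symm h
    obtain ⟨j₂, hj₂⟩ := exists_stage_rightExact_of_comp_zero D c hc j₀.left hG₁ hH₁ _ _ hj₀'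
      ((rightExact_comp_iff _ _ f₀ g₀).mp h1)
    have h2 : RightExact (Scheme.Modules.pullback (D.map j₀.hom) ⋙
        Scheme.Modules.pullback (D.map j₂.hom)) f₀ g₀ := (rightExact_comp_iff _ _ f₀ g₀).mpr hj₂
    exact ⟨j₂.left, j₂.hom ≫ j₀.hom, RightExact.of_iso
      (compIso (D.map j₂.hom) (D.map j₀.hom) _ (D.map_comp _ _).symm) h2⟩
  · rintro ⟨j, φ, h⟩
    have h1 : RightExact (Scheme.Modules.pullback (D.map φ) ⋙
        Scheme.Modules.pullback (c.π.app j)) f₀ g₀ :=
      RightExact.comp (Scheme.Modules.pullback (c.π.app j)) h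
    exact RightExact.of_iso (compIso (c.π.app j) (D.map φ) (c.π.app i₀) (c.w φ)) h1

include hc in
/-- **Factorisation of a pulled-back quotient through another is detected at a finite stage.** -/
theorem exists_factor_iff_eventually (i₀ : I) [CompactSpace (D.obj i₀)]
    {F₀ G₁ G₂ : (D.obj i₀).Modules} [F₀.IsQuasicoherent] [G₁.IsQuasicoherent]
    [G₂.IsQuasicoherent]
    (hF₀ : SheafOfModules.IsFiniteType (R := (D.obj i₀).ringCatSheaf) F₀)
    (hG₁ : SheafOfModules.IsFinitePresentation (R := (D.obj i₀).ringCatSheaf) G₁)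
    (p₁ : F₀ ⟶ G₁) (p₂ : F₀ ⟶ G₂) [Epi p₁] :
    (∃ k : (Scheme.Modules.pullback (c.π.app i₀)).obj G₁ ⟶
        (Scheme.Modules.pullback (c.π.app i₀)).obj G₂,
        (Scheme.Modules.pullback (c.π.app i₀)).map p₁ ≫ k =
          (Scheme.Modules.pullback (c.π.app i₀)).map p₂) ↔
      ∃ (j : I) (φ : j ⟶ i₀) (k : (Scheme.Modules.pullback (D.map φ)).obj G₁ ⟶
        (Scheme.Modules.pullback (D.map φ)).obj G₂),
        (Scheme.Modules.pullback (D.map φ)).map p₁ ≫ k =
          (Scheme.Modules.pullback (D.map φ)).map p₂ := by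
  haveI := hF₀
  haveI := hG₁
  haveI : (kernel p₁).IsQuasicoherent := H22.QCohLimits.isQuasicoherent_kernel p₁
  have hK : SheafOfModules.IsFiniteType (R := (D.obj i₀).ringCatSheaf)
      (kernel p₁ : (D.obj i₀).Modules) :=
    isFiniteType_kernel_of_epi p₁
  constructor
  · intro h
    have h0 := (exists_factor_iff (Scheme.Modules.pullback (c.π.app i₀)) p₁ p₂).mp h
    obtain ⟨j, hj⟩ := zeroProp.lim D c hc i₀ (F₀ := kernel p₁) (G₀ := G₂) hK
      (kernel.ι p₁ ≫ p₂) h0
    have hj' : (Scheme.Modules.pullback (D.map j.hom)).map (kernel.ι p₁ ≫ p₂) = 0 := hj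
    obtain ⟨k, hk⟩ := (exists_factor_iff (Scheme.Modules.pullback (D.map j.hom)) p₁ p₂).mpr hj'
    exact ⟨j.left, j.hom, k, hk⟩
  · rintro ⟨j, φ, k, hk⟩
    have h0 := (exists_factor_iff (Scheme.Modules.pullback (D.map φ)) p₁ p₂).mp ⟨k, hk⟩
    have h1 : (Scheme.Modules.pullback (c.π.app i₀)).map (kernel.ι p₁ ≫ p₂) = 0 :=
      ModProp.of_comp zeroProp (c.π.app j) (D.map φ) (c.π.app i₀) (c.w φ) (kernel.ι p₁ ≫ p₂) h0
    exact (exists_factor_iff _ p₁ p₂).mpr h1

end Lim2

end Groth.Agent.H24.ModLimIso
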