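import Mathlib

/-!
# Properties of refinements of an object of a category which are stable and eventually true
(helper24)
-/

set_option autoImplicit false

open CategoryTheory

namespace Groth.Agent.H24.EvStable

variable {J : Type*} [Category J] {j₀ : J}

/-- A property of objects over `j₀` which is stable under refinement and eventually true. -/
structure EvSt (P : ∀ j : J, (j ⟶ j₀) → Prop) : Prop where
  stable : ∀ {j : J} (a : j ⟶ j₀), P j a → ∀ {j' : J} (u : j' ⟶ j), P j' (u ≫ a)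
  ev : ∀ {j : J} (a : j ⟶ j₀), ∃ (j' : J) (u : j' ⟶ j), P j' (u ≫ a)

theorem EvSt.forall_finset {B : Type*} (s : Finset B) (P : B → ∀ j : J, (j ⟶ j₀) → Prop)
    (h : ∀ b ∈ s, EvSt (P b)) : EvSt (fun j a => ∀ b ∈ s, P b j a) := by
  classical
  refine ⟨fun a ha j' u b hb => (h b hb).stable a (ha b hb) u, ?_⟩
  induction s using Finset.induction_on with
  | empty => intro j a; exact ⟨j, 𝟙 j, fun b hb => absurd hb (Finset.notMem_empty b)⟩
  | insert b s hb ih =>
    intro j a
    obtain ⟨j₁, u₁, h₁⟩ := ih (fun b' hb' => h b' (Finset.mem_insert_of_mem hb')) a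
    obtain ⟨j₂, u₂, h₂⟩ := (h b (Finset.mem_insert_self b s)).ev (u₁ ≫ a)
    refine ⟨j₂, u₂ ≫ u₁, fun b' hb' => ?_⟩
    rw [Category.assoc]
    rcases Finset.mem_insert.mp hb' with rfl | hb''
    · exact h₂
    · exact (h b' (Finset.mem_insert_of_mem hb'')).stable (u₁ ≫ a) (h₁ b' hb'') u₂

theorem EvSt.forall_fintype {B : Type*} [Finite B] (P : B → ∀ j : J, (j ⟶ j₀) → Prop)
    (h : ∀ b, EvSt (P b)) : EvSt (fun j a => ∀ b, P b j a) := by
  cases nonempty_fintype B
  have := EvSt.forall_finset (Finset.univ : Finset B) P (fun b _ => h b)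
  exact ⟨fun a ha j' u b => this.stable a (fun b _ => ha b) u b (Finset.mem_univ b),
    fun a => by
      obtain ⟨j', u, hu⟩ := this.ev a
      exact ⟨j', u, fun b => hu b (Finset.mem_univ b)⟩⟩

theorem EvSt.exists {P : ∀ j : J, (j ⟶ j₀) → Prop} (h : EvSt P) : ∃ (j : J) (a : j ⟶ j₀), P j a := by
  obtain ⟨j, u, hu⟩ := h.ev (𝟙 j₀)
  exact ⟨j, u ≫ 𝟙 j₀, hu⟩

end Groth.Agent.H24.EvStable
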