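import Groth.Agent.H41.ModGlue
import Groth.Agent.H39.PullTrack

/-!
# Gluing morphisms of quasi-coherent modules from an affine cover with overlap conditions on basic
opens (helper24)
-/

set_option autoImplicit false
set_option linter.style.haveILetI false

open CategoryTheory CategoryTheory.Limits AlgebraicGeometry Opposite TopologicalSpace

universe u

namespace Groth.Agent.H24.GlueOv

open Groth.Agent.H41.ModGlue

variable {X : Scheme.{u}} {F G : X.Modules} [F.IsQuasicoherent] [G.IsQuasicoherent]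

/-- `locMap` as a linear map. -/
noncomputable def locMapₗ {U : X.Opens} (hU : IsAffineOpen U) (ψ : Γ(F, U) →ₗ[Γ(X, U)] Γ(G, U))
    (a : Γ(X, U)) :
    Γ(F, X.basicOpen a) →ₗ[Γ(X, X.basicOpen a)] Γ(G, X.basicOpen a) where
  toFun := locMap hU ψ a
  map_add' := map_add _
  map_smul' s z := locMap_smul' hU ψ a s z

theorem locMapₗ_apply {U : X.Opens} (hU : IsAffineOpen U) (ψ : Γ(F, U) →ₗ[Γ(X, U)] Γ(G, U))
    (a : Γ(X, U)) (z : Γ(F, X.basicOpen a)) : locMapₗ hU ψ a z = locMap hU ψ a z := rfl

variable {ι : Type*} (U : ι → X.Opens) (hU' : ∀ i, IsAffineOpen (U i))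
  (ψ : ∀ i, Γ(F, U i) →ₗ[Γ(X, U i)] Γ(G, U i))

/-- The overlap condition on a basic open can be checked on generators, after clearing
denominators. -/
theorem locMap_eq_of_span {i j : ι} (c : Γ(X, U i)) (hc : X.basicOpen c ≤ U j)
    (S : Set Γ(F, U j)) (hS : Submodule.span Γ(X, U j) S = ⊤)
    (h : ∀ x ∈ S, ∃ (N : ℕ) (μ : Γ(F, U i)),
      (X.presheaf.map (homOfLE (X.basicOpen_le c)).op c) ^ N • F.presheaf.map (homOfLE hc).op x =
        F.presheaf.map (homOfLE (X.basicOpen_le c)).op μ ∧
      G.presheaf.map (homOfLE (X.basicOpen_le c)).op (ψ i μ) =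
        (X.presheaf.map (homOfLE (X.basicOpen_le c)).op c) ^ N •
          G.presheaf.map (homOfLE hc).op (ψ j x))
    (x : Γ(F, U j)) :
    locMap (hU' i) (ψ i) c (F.presheaf.map (homOfLE hc).op x) =
      G.presheaf.map (homOfLE hc).op (ψ j x) := by
  have hx : x ∈ Submodule.span Γ(X, U j) S := by rw [hS]; trivial
  induction hx using Submodule.span_induction with
  | mem x hx =>
    obtain ⟨N, μ, h1, h2⟩ := h x hx
    have hu : IsUnit (X.presheaf.map (homOfLE (X.basicOpen_le c)).op c) :=
      RingedSpace.isUnit_res_basicOpen X.toRingedSpace c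
    refine (hu.pow N).smul_left_cancel.mp ?_
    rw [← locMap_smul', h1, locMap_res, h2]
  | zero => simp only [map_zero]
  | add x y _ _ hx hy => simp only [map_add, hx, hy]
  | smul r x _ hx =>
    rw [Groth.Agent.H8.res_smul F, locMap_smul', hx, map_smul, Groth.Agent.H8.res_smul G]

/-- **Gluing with overlap conditions on basic opens**: a family of linear maps between the sections
of two quasi-coherent modules over the members of an affine open cover, such that the overlaps are
covered by basic opens of one member contained in the other on which the localised map agrees with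
the restriction of the other map, is induced by a morphism of modules. -/
theorem exists_hom_of_overlaps (hU : IsOpenCover U)
    (hov : ∀ (i j : ι) (y : X), y ∈ U i → y ∈ U j →
      ∃ (c : Γ(X, U i)) (hc : X.basicOpen c ≤ U j), y ∈ X.basicOpen c ∧
        ∀ x : Γ(F, U j), locMap (hU' i) (ψ i) c (F.presheaf.map (homOfLE hc).op x) =
          G.presheaf.map (homOfLE hc).op (ψ j x)) :
    ∃ φ : F ⟶ G, ∀ i (x : Γ(F, U i)), φ.app (U i) x = ψ i x := by
  classical
  let U2 : (Σ i, Γ(X, U i)) → X.Opens := fun p => X.basicOpen p.2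
  have hU2' : ∀ p, IsAffineOpen (U2 p) := fun p => (hU' p.1).basicOpen p.2
  let ψ2 : ∀ p, Γ(F, U2 p) →ₗ[Γ(X, U2 p)] Γ(G, U2 p) :=
    fun p => locMapₗ (hU' p.1) (ψ p.1) p.2
  have hU2 : IsOpenCover U2 := by
    apply le_antisymm le_top
    intro y _
    obtain ⟨i, hyi⟩ : ∃ i, y ∈ U i := by
      have : y ∈ (⨆ i, U i : X.Opens) := by rw [hU.iSup_eq_top]; trivial
      exact Opens.mem_iSup.mp this
    refine Opens.mem_iSup.mpr ⟨⟨i, 1⟩, ?_⟩
    show y ∈ X.basicOpen (1 : Γ(X, U i))
    rw [X.basicOpen_one]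
    exact hyi
  have htriv : ∀ i (x : Γ(F, U i)), ψ i (F.presheaf.map (homOfLE (le_refl (U i))).op x) =
      G.presheaf.map (homOfLE (le_refl (U i))).op (ψ i x) := fun i x => by
    rw [Groth.Agent.H39.PullTrack.res_self, Groth.Agent.H39.PullTrack.res_self]
  have hdir : FamDirected U2 ψ2 := by
    rintro ⟨i, a⟩ ⟨j, b⟩ y hya hyb
    have hya' : y ∈ X.basicOpen a := hya
    have hyb' : y ∈ X.basicOpen b := hyb
    have hyi : y ∈ U i := X.basicOpen_le a hya'
    have hyj : y ∈ U j := X.basicOpen_le b hyb'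
    obtain ⟨c, hc, hyc, hcx⟩ := hov i j y hyi hyj
    obtain ⟨f, hf, hyf⟩ := (hU' i).exists_basicOpen_le
      (V := X.basicOpen a ⊓ X.basicOpen c ⊓ X.basicOpen b) ⟨y, ⟨⟨hya', hyc⟩, hyb'⟩⟩ hyi
    have hfa : X.basicOpen f ≤ X.basicOpen a := hf.trans (inf_le_left.trans inf_le_left)
    have hfc : X.basicOpen f ≤ X.basicOpen c := hf.trans (inf_le_left.trans inf_le_right)
    have hfb : X.basicOpen f ≤ X.basicOpen b := hf.trans inf_le_right
    refine ⟨⟨i, f⟩, hyf, hfa, hfb, ?_, ?_⟩
    · intro x
      exact locMap_compat U hU' ψ (le_refl (U i)) (htriv i) a f hfa x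
    · intro x
      show locMap (hU' i) (ψ i) f (F.presheaf.map (homOfLE hfb).op x) =
        G.presheaf.map (homOfLE hfb).op (locMap (hU' j) (ψ j) b x)
      obtain ⟨n, x₀, hx₀⟩ := Groth.Agent.H8.exists_smul_eq_res (hU' j) F b x
      have hfj : X.basicOpen f ≤ U j := hfb.trans (X.basicOpen_le b)
      have hu : IsUnit (X.presheaf.map (homOfLE hfj).op b) := isUnit_res_of_le_basicOpen b hfb
      have hu' : X.presheaf.map (homOfLE hfb).op
          (X.presheaf.map (homOfLE (X.basicOpen_le b)).op b) =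
          X.presheaf.map (homOfLE hfj).op b := Groth.Agent.H8.ringRes_res _ _ _
      have e1 : (X.presheaf.map (homOfLE hfj).op b) ^ n • F.presheaf.map (homOfLE hfb).op x =
          F.presheaf.map (homOfLE hfc).op (F.presheaf.map (homOfLE hc).op x₀) := by
        rw [← hu', ← map_pow, ← Groth.Agent.H8.res_smul F, hx₀, Groth.Agent.H8.res_res F,
          Groth.Agent.H8.res_res F]
      have hL : (X.presheaf.map (homOfLE hfj).op b) ^ n •
          locMap (hU' i) (ψ i) f (F.presheaf.map (homOfLE hfb).op x) =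
          G.presheaf.map (homOfLE hfj).op (ψ j x₀) := by
        rw [← locMap_smul', e1,
          locMap_compat U hU' ψ (le_refl (U i)) (htriv i) c f hfc, hcx, Groth.Agent.H8.res_res G]
      have hR : (X.presheaf.map (homOfLE hfj).op b) ^ n •
          G.presheaf.map (homOfLE hfb).op (locMap (hU' j) (ψ j) b x) =
          G.presheaf.map (homOfLE hfj).op (ψ j x₀) := by
        rw [← hu', ← map_pow, ← Groth.Agent.H8.res_smul G, ← locMap_smul', hx₀, locMap_res,
          Groth.Agent.H8.res_res G]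
      exact (hu.pow n).smul_left_cancel.mp (hL.trans hR.symm)
  obtain ⟨φ, hφ⟩ := exists_hom_of_affine_family U2 hU2' ψ2 hdir hU2
  refine ⟨φ, fun i x => ?_⟩
  refine Groth.Agent.H8.section_eq_of_cover G _ _ fun y hy => ?_
  have h1 : X.basicOpen (1 : Γ(X, U i)) = U i := X.basicOpen_one
  refine ⟨X.basicOpen (1 : Γ(X, U i)), X.basicOpen_le _, by rw [h1]; exact hy, ?_⟩
  rw [← Groth.Agent.H39.PullTrack.app_res]
  exact (hφ ⟨i, 1⟩ _).trans (locMap_res (hU' i) (ψ i) 1 x)

end Groth.Agent.H24.GlueOv
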