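import Groth.Agent.H24.ModColim
import Groth.Agent.H24.GlueOv
import Groth.Agent.H24.EvStable
import Groth.Agent.H8.FPAffine

/-!
# Homomorphisms from a finitely presented module to a quasi-coherent module over a limit of schemes
come from a stage (helper24)
-/

set_option autoImplicit false
set_option linter.style.haveILetI false

open CategoryTheory CategoryTheory.Limits AlgebraicGeometry Opposite TopologicalSpace

universe u

namespace Groth.Agent.H24.ModLimHomSurj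

open Groth.Agent.H39.PullTrack PullSections ModColim EvStable

section Stage

variable {I : Type u} [SmallCategory I] [IsCofiltered I] (D : I ⥤ Scheme.{u}) (c : Cone D)
  (i₀ : I) (G₀ : (D.obj i₀).Modules)

omit [IsCofiltered I] in
theorem TW_res {W W' : (D.obj i₀).Opens} (hW : W' ≤ W) {j j' : Over i₀} (u : j' ⟶ j)
    (y : Γ(PS D i₀ G₀ j, W)) :
    (PS D i₀ G₀ j').presheaf.map (homOfLE hW).op (TW D i₀ G₀ W u y) =
      TW D i₀ G₀ W' u ((PS D i₀ G₀ j).presheaf.map (homOfLE hW).op y) :=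
  Tr_res (D.map u.left) (D.map j.hom) (D.map j'.hom) (wS D i₀ u) G₀ hW y

omit [IsCofiltered I] in
theorem LW_res {W W' : (D.obj i₀).Opens} (hW : W' ≤ W) (j : Over i₀) (y : Γ(PS D i₀ G₀ j, W)) :
    (PL D c i₀ G₀).presheaf.map (homOfLE hW).op (LW D c i₀ G₀ W j y) =
      LW D c i₀ G₀ W' j ((PS D i₀ G₀ j).presheaf.map (homOfLE hW).op y) :=
  Tr_res (c.π.app j.left) (D.map j.hom) (c.π.app i₀) (c.w j.hom) G₀ hW y

variable [∀ (i j : I) (f : i ⟶ j), IsAffineHom (D.map f)] [G₀.IsQuasicoherent] (hc : IsLimit c)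

include hc in
/-- An equation between restrictions of sections of the stage modules which holds in the limit
holds eventually (and stably). -/
theorem evSt_eq {W W₁ W₂ : (D.obj i₀).Opens} (hW : IsAffineOpen W) (hW₁ : IsAffineOpen W₁)
    (hW₂ : IsAffineOpen W₂) (h₁ : W ≤ W₁) (h₂ : W ≤ W₂) (j₀ : Over i₀)
    (z₁ : Γ(PS D i₀ G₀ j₀, W₁)) (z₂ : Γ(PS D i₀ G₀ j₀, W₂)) (r : Γ(D.obj i₀, W))
    (hz : (PL D c i₀ G₀).presheaf.map (homOfLE h₁).op (LW D c i₀ G₀ W₁ j₀ z₁) =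
      r • (PL D c i₀ G₀).presheaf.map (homOfLE h₂).op (LW D c i₀ G₀ W₂ j₀ z₂)) :
    EvSt (j₀ := j₀) (fun j a =>
      (PS D i₀ G₀ j).presheaf.map (homOfLE h₁).op (TW D i₀ G₀ W₁ a z₁) =
        r • (PS D i₀ G₀ j).presheaf.map (homOfLE h₂).op (TW D i₀ G₀ W₂ a z₂)) := by
  have key1 : ∀ {j : Over i₀} (a : j ⟶ j₀) {j' : Over i₀} (u : j' ⟶ j),
      TW D i₀ G₀ W u ((PS D i₀ G₀ j).presheaf.map (homOfLE h₁).op (TW D i₀ G₀ W₁ a z₁)) =
        (PS D i₀ G₀ j').presheaf.map (homOfLE h₁).op (TW D i₀ G₀ W₁ (u ≫ a) z₁) := by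
    intro j a j' u
    rw [← TW_res, TW_TW D i₀ G₀ W₁ hW₁]
  have key2 : ∀ {j : Over i₀} (a : j ⟶ j₀) {j' : Over i₀} (u : j' ⟶ j),
      TW D i₀ G₀ W u (r • (PS D i₀ G₀ j).presheaf.map (homOfLE h₂).op (TW D i₀ G₀ W₂ a z₂)) =
        r • (PS D i₀ G₀ j').presheaf.map (homOfLE h₂).op (TW D i₀ G₀ W₂ (u ≫ a) z₂) := by
    intro j a j' u
    rw [map_smul, ← TW_res, TW_TW D i₀ G₀ W₂ hW₂]
  constructor
  · intro j a hP j' u
    rw [← key1 a u, ← key2 a u, hP]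
  · intro j a
    have h0 : LW D c i₀ G₀ W j
        ((PS D i₀ G₀ j).presheaf.map (homOfLE h₁).op (TW D i₀ G₀ W₁ a z₁) -
          r • (PS D i₀ G₀ j).presheaf.map (homOfLE h₂).op (TW D i₀ G₀ W₂ a z₂)) = 0 := by
      rw [map_sub, map_smul, ← LW_res, ← LW_res, LW_TW D c i₀ G₀ W₁ hW₁,
        LW_TW D c i₀ G₀ W₂ hW₂, hz, sub_self]
    obtain ⟨j', u, hu⟩ := SF2 D c i₀ G₀ W hc hW j _ h0
    refine ⟨j', u, ?_⟩
    rw [← key1 a u, ← key2 a u, ← sub_eq_zero, ← map_sub]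
    exact hu

variable {F₀ : (D.obj i₀).Modules} [F₀.IsQuasicoherent]
  [SheafOfModules.IsFinitePresentation (R := (D.obj i₀).ringCatSheaf) F₀]
  {ι : Type*} [Finite ι] (U : ι → (D.obj i₀).Opens) (hU' : ∀ i, IsAffineOpen (U i))

omit [F₀.IsQuasicoherent] in
include hc hU' in
theorem exists_stage_family (hb : F₀ ⟶ PL D c i₀ G₀) :
    ∃ (j : Over i₀) (ψ : ∀ i, Γ(F₀, U i) →ₗ[Γ(D.obj i₀, U i)] Γ(PS D i₀ G₀ j, U i)),
      ∀ i x, LW D c i₀ G₀ (U i) j (ψ i x) = hb.app (U i) x := by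
  classical
  cases nonempty_fintype ι
  haveI : ∀ i, Module.FinitePresentation Γ(D.obj i₀, U i) Γ(F₀, U i) := fun i =>
    Groth.Agent.H8.finitePresentation_sections_of_isAffineOpen F₀ (hU' i)
  choose jV θV hθV using fun i => exists_stage_lift D c i₀ G₀ (U i) hc (hU' i)
    (Groth.Agent.H8.appₗ hb (U i))
  obtain ⟨j, hj⟩ := IsCofiltered.inf_objs_exists (Finset.univ.image jV)
  refine ⟨j, fun i => (TW D i₀ G₀ (U i)
    (hj (Finset.mem_image_of_mem _ (Finset.mem_univ i))).some).comp (θV i), fun i x => ?_⟩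
  have h2 := LW_TW D c i₀ G₀ (U i) (hU' i)
    (hj (Finset.mem_image_of_mem _ (Finset.mem_univ i))).some (θV i x)
  have h3 := hθV i x
  have h4 : Groth.Agent.H8.appₗ hb (U i) x = hb.app (U i) x := rfl
  exact h2.trans (h3.trans h4)

include hc hU' in
/-- **A morphism from a finitely presented quasi-coherent module to `π_* π^* G₀` factors through
`(φ_j)_* φ_j^* G₀` at some stage.** -/
theorem exists_stage_hom [QuasiSeparatedSpace (D.obj i₀)] (hU : IsOpenCover U)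
    (hb : F₀ ⟶ PL D c i₀ G₀) :
    ∃ (j : Over i₀) (g : F₀ ⟶ PS D i₀ G₀ j), ∀ i (x : Γ(F₀, U i)),
      LW D c i₀ G₀ (U i) j (g.app (U i) x) = hb.app (U i) x := by
  classical
  obtain ⟨j₀, ψ₀, hψ₀⟩ := exists_stage_family D c i₀ G₀ hc U hU' hb
  -- finite basic open covers of the overlaps
  have hcov : ∀ i i' : ι,
      ∃ C : Finset {cc : Γ(D.obj i₀, U i) // (D.obj i₀).basicOpen cc ≤ U i'},
      ∀ y, y ∈ U i → y ∈ U i' → ∃ cc ∈ C, y ∈ (D.obj i₀).basicOpen cc.1 := by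
    intro i i'
    have hcomp : IsCompact ((U i : Set (D.obj i₀)) ∩ (U i' : Set (D.obj i₀))) :=
      QuasiSeparatedSpace.inter_isCompact _ _ (U i).2 (hU' i).isCompact (U i').2
        (hU' i').isCompact
    obtain ⟨C, hC⟩ := hcomp.elim_finite_subcover
      (fun cc : {cc : Γ(D.obj i₀, U i) // (D.obj i₀).basicOpen cc ≤ U i'} =>
        (((D.obj i₀).basicOpen cc.1 : (D.obj i₀).Opens) : Set (D.obj i₀)))
      (fun cc => ((D.obj i₀).basicOpen cc.1).2) (by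
        rintro y ⟨hy, hy'⟩
        obtain ⟨f, hf, hyf⟩ := (hU' i).exists_basicOpen_le (V := U i ⊓ U i') ⟨y, ⟨hy, hy'⟩⟩ hy
        exact Set.mem_iUnion.mpr ⟨⟨f, hf.trans inf_le_right⟩, hyf⟩)
    refine ⟨C, fun y hy hy' => ?_⟩
    obtain ⟨cc, hcc, hycc⟩ := Set.mem_iUnion₂.mp (hC ⟨hy, hy'⟩)
    exact ⟨cc, hcc, hycc⟩
  choose C hC using hcov
  -- generators
  have hgen : ∀ i : ι, ∃ S : Finset Γ(F₀, U i),
      Submodule.span Γ(D.obj i₀, U i) (S : Set Γ(F₀, U i)) = ⊤ := by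
    intro i
    haveI : Module.FinitePresentation Γ(D.obj i₀, U i) Γ(F₀, U i) :=
      Groth.Agent.H8.finitePresentation_sections_of_isAffineOpen F₀ (hU' i)
    exact Module.Finite.fg_top
  choose S hS using hgen
  -- the overlap conditions
  let P : ∀ (i i' : ι) (cc : {cc : Γ(D.obj i₀, U i) // (D.obj i₀).basicOpen cc ≤ U i'})
      (x : Γ(F₀, U i')) (j : Over i₀) (a : j ⟶ j₀), Prop :=
    fun i i' cc x j a => ∃ (N : ℕ) (μ : Γ(F₀, U i)),
      ((D.obj i₀).presheaf.map (homOfLE ((D.obj i₀).basicOpen_le cc.1)).op cc.1) ^ N •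
          F₀.presheaf.map (homOfLE cc.2).op x =
        F₀.presheaf.map (homOfLE ((D.obj i₀).basicOpen_le cc.1)).op μ ∧
      (PS D i₀ G₀ j).presheaf.map (homOfLE ((D.obj i₀).basicOpen_le cc.1)).op
          (TW D i₀ G₀ (U i) a (ψ₀ i μ)) =
        ((D.obj i₀).presheaf.map (homOfLE ((D.obj i₀).basicOpen_le cc.1)).op cc.1) ^ N •
          (PS D i₀ G₀ j).presheaf.map (homOfLE cc.2).op (TW D i₀ G₀ (U i') a (ψ₀ i' x))
  have hP : ∀ i i' cc x, EvSt (P i i' cc x) := by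
    intro i i' cc x
    have hE : ∀ (N : ℕ) (μ : Γ(F₀, U i)),
        ((D.obj i₀).presheaf.map (homOfLE ((D.obj i₀).basicOpen_le cc.1)).op cc.1) ^ N •
          F₀.presheaf.map (homOfLE cc.2).op x =
        F₀.presheaf.map (homOfLE ((D.obj i₀).basicOpen_le cc.1)).op μ →
        EvSt (j₀ := j₀) (fun j a =>
          (PS D i₀ G₀ j).presheaf.map (homOfLE ((D.obj i₀).basicOpen_le cc.1)).op
            (TW D i₀ G₀ (U i) a (ψ₀ i μ)) =
          ((D.obj i₀).presheaf.map (homOfLE ((D.obj i₀).basicOpen_le cc.1)).op cc.1) ^ N •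
            (PS D i₀ G₀ j).presheaf.map (homOfLE cc.2).op
              (TW D i₀ G₀ (U i') a (ψ₀ i' x))) := by
      intro N μ h1
      refine evSt_eq D c i₀ G₀ hc ((hU' i).basicOpen cc.1) (hU' i) (hU' i')
        ((D.obj i₀).basicOpen_le cc.1) cc.2 j₀ (ψ₀ i μ) (ψ₀ i' x) _ ?_
      rw [hψ₀, hψ₀, ← app_res, ← app_res, ← Scheme.Modules.Hom.app_smul, h1]
    constructor
    · rintro j a ⟨N, μ, h1, h2⟩ j' u
      exact ⟨N, μ, h1, (hE N μ h1).stable a h2 u⟩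
    · intro j a
      obtain ⟨N, μ, h1⟩ := Groth.Agent.H8.exists_smul_eq_res (hU' i) F₀ cc.1
        (F₀.presheaf.map (homOfLE cc.2).op x)
      obtain ⟨j', u, h2⟩ := (hE N μ h1).ev a
      exact ⟨j', u, N, μ, h1, h2⟩
  have hall : EvSt (j₀ := j₀)
      (fun j a => ∀ i i', ∀ cc ∈ C i i', ∀ x ∈ S i', P i i' cc x j a) :=
    EvSt.forall_fintype _ fun i => EvSt.forall_fintype _ fun i' =>
      EvSt.forall_finset (C i i') _ fun cc _ => EvSt.forall_finset (S i') _ fun x _ =>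
        hP i i' cc x
  obtain ⟨j, a, hja⟩ := hall.exists
  haveI := Groth.Agent.H8.isQuasicoherent_pullback (D.map j.hom) G₀
  haveI : (PS D i₀ G₀ j).IsQuasicoherent := Groth.Agent.H8.isQuasicoherent_pushforward _ _
  let ψ : ∀ i, Γ(F₀, U i) →ₗ[Γ(D.obj i₀, U i)] Γ(PS D i₀ G₀ j, U i) :=
    fun i => (TW D i₀ G₀ (U i) a).comp (ψ₀ i)
  have hψ : ∀ i x, ψ i x = TW D i₀ G₀ (U i) a (ψ₀ i x) := fun _ _ => rfl
  have hov : ∀ (i i' : ι) (y : D.obj i₀), y ∈ U i → y ∈ U i' →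
      ∃ (cc : Γ(D.obj i₀, U i)) (hcc : (D.obj i₀).basicOpen cc ≤ U i'),
        y ∈ (D.obj i₀).basicOpen cc ∧
        ∀ x : Γ(F₀, U i'), Groth.Agent.H41.ModGlue.locMap (hU' i) (ψ i) cc
            (F₀.presheaf.map (homOfLE hcc).op x) =
          (PS D i₀ G₀ j).presheaf.map (homOfLE hcc).op (ψ i' x) := by
    intro i i' y hy hy'
    obtain ⟨cc, hcc, hycc⟩ := hC i i' y hy hy'
    refine ⟨cc.1, cc.2, hycc, ?_⟩
    refine GlueOv.locMap_eq_of_span U hU' ψ cc.1 cc.2 (S i' : Set _) (hS i') ?_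
    intro x hx
    obtain ⟨N, μ, h1, h2⟩ := hja i i' cc hcc x hx
    exact ⟨N, μ, h1, h2⟩
  obtain ⟨g, hg⟩ := GlueOv.exists_hom_of_overlaps U hU' ψ hU hov
  refine ⟨j, g, fun i x => ?_⟩
  have h2 := LW_TW D c i₀ G₀ (U i) (hU' i) a (ψ₀ i x)
  have h3 : g.app (U i) x = TW D i₀ G₀ (U i) a (ψ₀ i x) := hg i x
  rw [h3]
  exact h2.trans (hψ₀ i x)

end Stage

section Final

open OmegaSh

theorem homEquiv_app {X Y : Scheme.{u}} (f : X ⟶ Y) (M : Y.Modules) (N : X.Modules)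
    (α : (Scheme.Modules.pullback f).obj M ⟶ N) (W : Y.Opens) (x : Γ(M, W)) :
    (show Γ(N, f ⁻¹ᵁ W) from
      ((Scheme.Modules.pullbackPushforwardAdjunction f).homEquiv M N α).app W x) =
      α.app (f ⁻¹ᵁ W) (pullSect f M W x) := by
  rw [Adjunction.homEquiv_unit]
  rfl

variable {I : Type u} [SmallCategory I] [IsCofiltered I] (D : I ⥤ Scheme.{u}) (c : Cone D)
  (hc : IsLimit c) [∀ (i j : I) (f : i ⟶ j), IsAffineHom (D.map f)] (i₀ : I)
  [CompactSpace (D.obj i₀)] [QuasiSeparatedSpace (D.obj i₀)]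
  (F₀ G₀ : (D.obj i₀).Modules) [F₀.IsQuasicoherent]
  [SheafOfModules.IsFinitePresentation (R := (D.obj i₀).ringCatSheaf) F₀] [G₀.IsQuasicoherent]

include hc in
/-- **Every homomorphism between the pullbacks to the limit of a finitely presented module and a
quasi-coherent module comes from a stage.** -/
theorem exists_hom_pullback_eq
    (h : (Scheme.Modules.pullback (c.π.app i₀)).obj F₀ ⟶
      (Scheme.Modules.pullback (c.π.app i₀)).obj G₀) :
    ∃ (j : Over i₀) (hj : (Scheme.Modules.pullback (D.map j.hom)).obj F₀ ⟶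
        (Scheme.Modules.pullback (D.map j.hom)).obj G₀),
      ((Scheme.Modules.pullbackComp (c.π.app j.left) (D.map j.hom) ≪≫
          Scheme.Modules.pullbackCongr (c.w j.hom)).app F₀).inv ≫
        (Scheme.Modules.pullback (c.π.app j.left)).map hj ≫
          ((Scheme.Modules.pullbackComp (c.π.app j.left) (D.map j.hom) ≪≫
            Scheme.Modules.pullbackCongr (c.w j.hom)).app G₀).hom = h := by
  classical
  obtain ⟨t, ht⟩ := isCompact_univ.elim_finite_subcover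
    (fun V : (D.obj i₀).affineOpens => ((V : (D.obj i₀).Opens) : Set (D.obj i₀)))
    (fun V => V.1.2) (by
      intro x _
      obtain ⟨V, hV, hxV, -⟩ := exists_isAffineOpen_mem_and_subset (x := x)
        (U := (⊤ : (D.obj i₀).Opens)) trivial
      exact Set.mem_iUnion.mpr ⟨⟨V, hV⟩, hxV⟩)
  let U : ↥t → (D.obj i₀).Opens := fun V => V.1.1
  have hU' : ∀ V, IsAffineOpen (U V) := fun V => V.1.2
  have hU : IsOpenCover U := by
    apply le_antisymm le_top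
    intro x _
    obtain ⟨V, hV, hxV⟩ := Set.mem_iUnion₂.mp (ht (Set.mem_univ x))
    exact Opens.mem_iSup.mpr ⟨⟨V, hV⟩, hxV⟩
  let hb : F₀ ⟶ PL D c i₀ G₀ :=
    (Scheme.Modules.pullbackPushforwardAdjunction (c.π.app i₀)).homEquiv F₀ _ h
  have hhb : ∀ (W : (D.obj i₀).Opens) (x : Γ(F₀, W)),
      (show Γ((Scheme.Modules.pullback (c.π.app i₀)).obj G₀, c.π.app i₀ ⁻¹ᵁ W) from
        hb.app W x) = h.app (c.π.app i₀ ⁻¹ᵁ W) (pullSect (c.π.app i₀) F₀ W x) :=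
    fun W x => homEquiv_app (c.π.app i₀) F₀ _ h W x
  obtain ⟨j, g, hg⟩ := exists_stage_hom D c i₀ G₀ hc U hU' hU hb
  let hj : (Scheme.Modules.pullback (D.map j.hom)).obj F₀ ⟶
      (Scheme.Modules.pullback (D.map j.hom)).obj G₀ :=
    ((Scheme.Modules.pullbackPushforwardAdjunction (D.map j.hom)).homEquiv F₀ _).symm g
  have hhj : ∀ (W : (D.obj i₀).Opens) (x : Γ(F₀, W)),
      hj.app (D.map j.hom ⁻¹ᵁ W) (pullSect (D.map j.hom) F₀ W x) =
      (show Γ((Scheme.Modules.pullback (D.map j.hom)).obj G₀, D.map j.hom ⁻¹ᵁ W) from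
        g.app W x) := by
    intro W x
    have h1 := homEquiv_app (D.map j.hom) F₀ _ hj W x
    have h2 : (Scheme.Modules.pullbackPushforwardAdjunction (D.map j.hom)).homEquiv F₀ _ hj = g :=
      Equiv.apply_symm_apply _ g
    rw [h2] at h1
    exact h1.symm
  refine ⟨j, hj, ?_⟩
  haveI := Groth.Agent.H8.isQuasicoherent_pullback (c.π.app i₀) F₀
  haveI : IsAffineHom (c.π.app i₀) := isAffineHom_π_app D c hc i₀
  have hcov : IsOpenCover (fun V : ↥t => c.π.app i₀ ⁻¹ᵁ U V) := by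
    apply le_antisymm le_top
    intro x _
    obtain ⟨V, hV, hxV⟩ := Set.mem_iUnion₂.mp (ht (Set.mem_univ ((c.π.app i₀) x)))
    exact Opens.mem_iSup.mpr ⟨⟨V, hV⟩, hxV⟩
  refine Groth.Agent.H41.ModGlue.hom_ext_of_affine_cover _ _
    (fun V : ↥t => c.π.app i₀ ⁻¹ᵁ U V) hcov (fun V => (hU' V).preimage (c.π.app i₀))
    (fun V z => ?_)
  refine ModLimHom.app_eq_of_forall_pullSectLE (c.π.app i₀) F₀ (hU' V)
    ((hU' V).preimage (c.π.app i₀)) le_rfl _ _ (fun x => ?_) z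
  have e2 := preimage_le_of_comp (c.π.app j.left) (D.map j.hom) (c.π.app i₀) (c.w j.hom) (U V)
  have k1 := iso_hom_pullSectLE (c.π.app j.left) (D.map j.hom) (c.π.app i₀) (c.w j.hom) F₀ (U V)
    (D.map j.hom ⁻¹ᵁ U V) (c.π.app i₀ ⁻¹ᵁ U V) le_rfl e2 le_rfl x
  have k0 := congrArg (fun m => m.app (c.π.app i₀ ⁻¹ᵁ U V)
      (pullSectLE (c.π.app j.left) ((Scheme.Modules.pullback (D.map j.hom)).obj F₀)
        (D.map j.hom ⁻¹ᵁ U V) (c.π.app i₀ ⁻¹ᵁ U V) e2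
        (pullSectLE (D.map j.hom) F₀ (U V) (D.map j.hom ⁻¹ᵁ U V) le_rfl x)))
    ((Scheme.Modules.pullbackComp (c.π.app j.left) (D.map j.hom) ≪≫
      Scheme.Modules.pullbackCongr (c.w j.hom)).app F₀).hom_inv_id
  have k2 : (((Scheme.Modules.pullbackComp (c.π.app j.left) (D.map j.hom) ≪≫
      Scheme.Modules.pullbackCongr (c.w j.hom)).app F₀).inv).app (c.π.app i₀ ⁻¹ᵁ U V)
      (pullSectLE (c.π.app i₀) F₀ (U V) (c.π.app i₀ ⁻¹ᵁ U V) le_rfl x) =
      pullSectLE (c.π.app j.left) ((Scheme.Modules.pullback (D.map j.hom)).obj F₀)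
        (D.map j.hom ⁻¹ᵁ U V) (c.π.app i₀ ⁻¹ᵁ U V) e2
        (pullSectLE (D.map j.hom) F₀ (U V) (D.map j.hom ⁻¹ᵁ U V) le_rfl x) := by
    rw [← k1]
    exact k0
  have k3 : hj.app (D.map j.hom ⁻¹ᵁ U V)
      (pullSectLE (D.map j.hom) F₀ (U V) (D.map j.hom ⁻¹ᵁ U V) le_rfl x) =
      (show Γ((Scheme.Modules.pullback (D.map j.hom)).obj G₀, D.map j.hom ⁻¹ᵁ U V) from
        g.app (U V) x) := by
    rw [pullSectLE_self]
    exact hhj (U V) x
  have k4 : LW D c i₀ G₀ (U V) j (g.app (U V) x) =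
      h.app (c.π.app i₀ ⁻¹ᵁ U V)
        (pullSectLE (c.π.app i₀) F₀ (U V) (c.π.app i₀ ⁻¹ᵁ U V) le_rfl x) := by
    rw [pullSectLE_self]
    exact (hg V x).trans (hhb (U V) x)
  show (((Scheme.Modules.pullbackComp (c.π.app j.left) (D.map j.hom) ≪≫
      Scheme.Modules.pullbackCongr (c.w j.hom)).app G₀).hom).app (c.π.app i₀ ⁻¹ᵁ U V)
    (((Scheme.Modules.pullback (c.π.app j.left)).map hj).app (c.π.app i₀ ⁻¹ᵁ U V)
      ((((Scheme.Modules.pullbackComp (c.π.app j.left) (D.map j.hom) ≪≫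
        Scheme.Modules.pullbackCongr (c.w j.hom)).app F₀).inv).app (c.π.app i₀ ⁻¹ᵁ U V)
        (pullSectLE (c.π.app i₀) F₀ (U V) (c.π.app i₀ ⁻¹ᵁ U V) le_rfl x))) = _
  rw [k2, map_pullSectLE, k3]
  exact k4

end Final

end Groth.Agent.H24.ModLimHomSurj
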