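import Mathlib
import Groth.Agent.H22.PullAmple
import Groth.Agent.H22.GenLocus
import Groth.Agent.H17.ExtInv.Glue
import Groth.Agent.H18.AmpleIso
import Groth.Agent.H18.AmpleBasis
import Groth.Agent.H8.InvRestrict
import Groth.Agent.H24.ModLimHomSurj
import Groth.Agent.S9805

/-!
# Ampleness of a pulled-back invertible module descends to a stage of a cofiltered limit (helper24)
-/

set_option autoImplicit false

open CategoryTheory AlgebraicGeometry Limits TopologicalSpace
open Groth.Agent.H22.PullGen Groth.Agent.H22.PullAmple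

universe u

namespace Groth.Agent.H24.AmpleLim

section Basic

variable {X : Scheme.{u}}

/-- An invertible module is of finite presentation. -/
theorem isFinitePresentation_of_isInvertible {L : X.Modules} (hL : PicF.IsInvertible L) :
    SheafOfModules.IsFinitePresentation (R := X.ringCatSheaf) L := by
  have hq : L.IsQuasicoherent := H18.AmpleBasis.isQuasicoherent_of_isInvertible hL
  have h : FlatMod.IsFinLocFree L := fun x => by
    obtain ⟨W, hx, hW⟩ := H17.ExtInv.freeAt1_of_isInvertible hL x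
    exact ⟨W, 1, hx, hW⟩
  exact ((Groth.Agent.S9805.result X L hq).mpr h).2

/-- `X_s` does not change when `s` is precomposed with an automorphism of the structure sheaf. -/
theorem genLocus_iso_comp {L : X.Modules}
    (α : Coh.structureModule X ⟶ Coh.structureModule X) [IsIso α]
    (s : Coh.structureModule X ⟶ L) :
    CohB1.genLocus L (α ≫ s) = CohB1.genLocus L s := by
  unfold CohB1.genLocus
  congr 1
  ext U
  simp only [Set.mem_setOf_eq, Functor.map_comp]
  constructor
  · intro h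
    exact IsIso.of_isIso_comp_left ((Scheme.Modules.restrictFunctor U.ι).map α) _
  · intro h
    infer_instance

end Basic

section Lim

variable {I : Type u} [SmallCategory I] [IsCofiltered I] (D : I ⥤ Scheme.{u}) (c : Cone D)
  (hc : IsLimit c) [∀ (i j : I) (f : i ⟶ j), IsAffineHom (D.map f)] (i₀ : I)
  (L₀ : (D.obj i₀).Modules) (hL₀ : PicF.IsInvertible L₀)

include hL₀ in
/-- Pull a section of a power of `φ^* L₀` back along a transition map. -/
theorem exists_pbSec_stage {k k' : I} (a : k' ⟶ k) (φ : k ⟶ i₀) (ψ : k' ⟶ i₀) (hψ : a ≫ φ = ψ)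
    (m : ℕ) (s : Coh.structureModule (D.obj k) ⟶
      CohB1.tensorPow ((Scheme.Modules.pullback (D.map φ)).obj L₀) m) :
    ∃ s' : Coh.structureModule (D.obj k') ⟶
        CohB1.tensorPow ((Scheme.Modules.pullback (D.map ψ)).obj L₀) m,
      CohB1.genLocus _ s' = D.map a ⁻¹ᵁ CohB1.genLocus _ s := by
  subst hψ
  obtain ⟨s', hs'⟩ := exists_pbSecPow (D.map a) (isInvertible_pullback (D.map φ) hL₀) m s
  have ε : (Scheme.Modules.pullback (D.map a)).obj ((Scheme.Modules.pullback (D.map φ)).obj L₀) ≅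
      (Scheme.Modules.pullback (D.map (a ≫ φ))).obj L₀ :=
    (Scheme.Modules.pullbackComp (D.map a) (D.map φ)).app L₀ ≪≫
      (Scheme.Modules.pullbackCongr (D.map_comp a φ).symm).app L₀
  obtain ⟨θ⟩ := H18.AmpleIso.nonempty_tensorPow_iso ε m
  refine ⟨s' ≫ θ.hom, ?_⟩
  rw [H18.TwistAmple.genLocus_comp_iso, hs']

include hc hL₀ in
/-- A section of a power of the pullback of `L₀` to the limit has the same non-vanishing locus as
the pullback of a section at some stage. -/
theorem exists_stage_section [CompactSpace (D.obj i₀)] [QuasiSeparatedSpace (D.obj i₀)] (m : ℕ)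
    (s : Coh.structureModule c.pt ⟶
      CohB1.tensorPow ((Scheme.Modules.pullback (c.π.app i₀)).obj L₀) m) :
    ∃ (j : Over i₀) (sj : Coh.structureModule (D.obj j.left) ⟶
        CohB1.tensorPow ((Scheme.Modules.pullback (D.map j.hom)).obj L₀) m),
      CohB1.genLocus _ s = c.π.app j.left ⁻¹ᵁ CohB1.genLocus _ sj := by
  haveI : (Coh.structureModule (D.obj i₀)).IsQuasicoherent :=
    H8.isQuasicoherent_structureModule' _
  haveI := isFinitePresentation_of_isInvertible (H8.isInvertible_structureModule (D.obj i₀))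
  have hLm := H18.TensorGen.isInvertible_tensorPow hL₀ m
  haveI : (CohB1.tensorPow L₀ m).IsQuasicoherent :=
    H18.AmpleBasis.isQuasicoherent_of_isInvertible hLm
  obtain ⟨e₀⟩ := nonempty_pullback_tensorPow (c.π.app i₀) L₀ m
  obtain ⟨j, hj, hh⟩ := ModLimHomSurj.exists_hom_pullback_eq D c hc i₀
    (Coh.structureModule (D.obj i₀)) (CohB1.tensorPow L₀ m)
    ((pullbackUnitIso (c.π.app i₀)).hom ≫ s ≫ e₀.inv)
  obtain ⟨ej⟩ := nonempty_pullback_tensorPow (D.map j.hom) L₀ m
  refine ⟨j, (pullbackUnitIso (D.map j.hom)).inv ≫ hj ≫ ej.hom, ?_⟩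
  have hN : PicF.IsInvertible
      (CohB1.tensorPow ((Scheme.Modules.pullback (D.map j.hom)).obj L₀) m) :=
    H18.TensorGen.isInvertible_tensorPow (isInvertible_pullback _ hL₀) m
  rw [← genLocus_pbSec (c.π.app j.left) hN]
  obtain ⟨A, hA⟩ : ∃ A, A = (Scheme.Modules.pullbackComp (c.π.app j.left) (D.map j.hom) ≪≫
      Scheme.Modules.pullbackCongr (c.w j.hom)).app (Coh.structureModule (D.obj i₀)) := ⟨_, rfl⟩
  obtain ⟨B, hB⟩ : ∃ B, B = (Scheme.Modules.pullbackComp (c.π.app j.left) (D.map j.hom) ≪≫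
      Scheme.Modules.pullbackCongr (c.w j.hom)).app (CohB1.tensorPow L₀ m) := ⟨_, rfl⟩
  rw [← hA, ← hB] at hh
  have hmap : (Scheme.Modules.pullback (c.π.app j.left)).map hj =
      A.hom ≫ ((pullbackUnitIso (c.π.app i₀)).hom ≫ s ≫ e₀.inv) ≫ B.inv := by
    rw [← hh]
    simp only [Category.assoc, Iso.hom_inv_id, Category.comp_id, Iso.hom_inv_id_assoc]
  obtain ⟨α, hα⟩ : ∃ α : Coh.structureModule c.pt ≅ Coh.structureModule c.pt,
      α = (pullbackUnitIso (c.π.app j.left)).symm ≪≫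
        (Scheme.Modules.pullback (c.π.app j.left)).mapIso (pullbackUnitIso (D.map j.hom)).symm ≪≫
        A ≪≫ pullbackUnitIso (c.π.app i₀) := ⟨_, rfl⟩
  obtain ⟨β, hβ⟩ : ∃ β, β = e₀.symm ≪≫ B.symm ≪≫
      (Scheme.Modules.pullback (c.π.app j.left)).mapIso ej := ⟨_, rfl⟩
  have hpb : pbSec (c.π.app j.left) ((pullbackUnitIso (D.map j.hom)).inv ≫ hj ≫ ej.hom) =
      α.hom ≫ s ≫ β.hom := by
    rw [hα, hβ]
    simp only [pbSec, Functor.map_comp, hmap, Iso.trans_hom, Iso.symm_hom, Functor.mapIso_hom,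
      Category.assoc, Functor.mapIso_inv]
  rw [hpb, genLocus_iso_comp, H18.TwistAmple.genLocus_comp_iso]

include hc in
/-- If the preimage in the limit of a quasi-compact open `T` of a stage is affine, then so is the
preimage of `T` in some later stage. -/
theorem exists_stage_isAffineOpen [∀ i, CompactSpace (D.obj i)]
    [∀ i, QuasiSeparatedSpace (D.obj i)] (j : I) (T : (D.obj j).Opens)
    (hT : IsCompact (T : Set (D.obj j))) (h : IsAffineOpen (c.π.app j ⁻¹ᵁ T)) :
    ∃ (k : I) (a : k ⟶ j), IsAffineOpen (D.map a ⁻¹ᵁ T) := by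
  have hAff : ∀ {i j : I} (f : i ⟶ j), IsAffineHom (D.map f) := fun f => inferInstance
  have h1 (k : Over j) : CompactSpace ((opensDiagram D j T).obj k) :=
    isCompact_iff_compactSpace.mp (QuasiCompact.isCompact_preimage _ T.2 hT)
  have h2 (k : Over j) : QuasiSeparatedSpace ((opensDiagram D j T).obj k) :=
    (isQuasiSeparated_iff_quasiSeparatedSpace _ (D.map _ ⁻¹ᵁ _).2).mp
      (.of_quasiSeparatedSpace _)
  have h3 : IsAffine (opensCone D c j T).pt := h
  obtain ⟨k, hk⟩ := Scheme.exists_isAffine_of_isLimit _ _ (isLimitOpensCone D c hc j T)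
  exact ⟨k.left, k.hom, hk⟩

include hc hL₀ in
/-- **Ampleness descends to a stage.** -/
theorem exists_stage_isAmple [∀ i, CompactSpace (D.obj i)] [∀ i, QuasiSeparatedSpace (D.obj i)]
    (h : CohB1.IsAmple ((Scheme.Modules.pullback (c.π.app i₀)).obj L₀)) :
    ∃ (i : I) (φ : i ⟶ i₀), CohB1.IsAmple ((Scheme.Modules.pullback (D.map φ)).obj L₀) := by
  have hAff : ∀ {i j : I} (f : i ⟶ j), IsAffineHom (D.map f) := fun f => inferInstance
  have step1 : ∀ x : c.pt, ∃ (k : Over i₀) (n : ℕ) (sk : Coh.structureModule (D.obj k.left) ⟶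
      CohB1.tensorPow ((Scheme.Modules.pullback (D.map k.hom)).obj L₀) (n + 1)),
      c.π.app k.left x ∈ CohB1.genLocus _ sk ∧ IsAffineOpen (CohB1.genLocus _ sk) := by
    intro x
    obtain ⟨n, s, hx, haff⟩ := h.2.2 x
    obtain ⟨j, sj, hgen⟩ := exists_stage_section D c hc i₀ L₀ hL₀ (n + 1) s
    have hN : PicF.IsInvertible
        (CohB1.tensorPow ((Scheme.Modules.pullback (D.map j.hom)).obj L₀) (n + 1)) :=
      H18.TensorGen.isInvertible_tensorPow (isInvertible_pullback _ hL₀) (n + 1)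
    have hTc : IsCompact ((CohB1.genLocus _ sj : (D.obj j.left).Opens) : Set (D.obj j.left)) := by
      haveI := H22.GenLocus.isAffineHom_genLocus_ι _ hN sj
      exact isCompact_iff_compactSpace.mpr
        (QuasiCompact.compactSpace_of_compactSpace (CohB1.genLocus _ sj).ι)
    have haff' : IsAffineOpen (c.π.app j.left ⁻¹ᵁ CohB1.genLocus _ sj) := hgen ▸ haff
    obtain ⟨k, a, hk⟩ := exists_stage_isAffineOpen D c hc j.left _ hTc haff'
    obtain ⟨s', hs'⟩ := exists_pbSec_stage D i₀ L₀ hL₀ a j.hom (a ≫ j.hom) rfl (n + 1) sj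
    refine ⟨Over.mk (a ≫ j.hom), n, s', ?_, ?_⟩
    · show c.π.app k x ∈ CohB1.genLocus _ s'
      rw [hs']
      show D.map a (c.π.app k x) ∈ CohB1.genLocus _ sj
      rw [← Scheme.Hom.comp_apply, c.w]
      have hx' : x ∈ c.π.app j.left ⁻¹ᵁ CohB1.genLocus _ sj := hgen ▸ hx
      exact hx'
    · show IsAffineOpen (CohB1.genLocus _ s')
      rw [hs']
      exact hk
  choose k n sk hxk haffk using step1
  haveI : CompactSpace c.pt := h.2.1
  obtain ⟨t, ht⟩ := isCompact_univ.elim_finite_subcover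
    (fun x : c.pt => ((c.π.app (k x).left ⁻¹ᵁ CohB1.genLocus _ (sk x) : c.pt.Opens) : Set c.pt))
    (fun x => (c.π.app (k x).left ⁻¹ᵁ CohB1.genLocus _ (sk x)).isOpen)
    (fun x _ => Set.mem_iUnion.mpr ⟨x, hxk x⟩)
  classical
  obtain ⟨K, hK⟩ := IsCofiltered.inf_objs_exists (t.image k)
  have b : ∀ x ∈ t, K ⟶ k x := fun x hx => (hK (Finset.mem_image_of_mem k hx)).some
  obtain ⟨UK, hUKdef⟩ : ∃ UK : (D.obj K.left).Opens,
      UK = ⨆ x : t, D.map (b x.1 x.2).left ⁻¹ᵁ CohB1.genLocus _ (sk x.1) := ⟨_, rfl⟩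
  have hUK : c.π.app K.left ⁻¹ᵁ UK = ⊤ := by
    rw [eq_top_iff]
    intro z _
    obtain ⟨x, hx, hz⟩ : ∃ x ∈ t, z ∈ c.π.app (k x).left ⁻¹ᵁ CohB1.genLocus _ (sk x) := by
      have := ht (Set.mem_univ z)
      simpa using this
    show c.π.app K.left z ∈ UK
    rw [hUKdef]
    refine Opens.mem_iSup.mpr ⟨⟨x, hx⟩, ?_⟩
    show D.map (b x hx).left (c.π.app K.left z) ∈ CohB1.genLocus _ (sk x)
    rw [← Scheme.Hom.comp_apply, c.w]
    exact hz
  obtain ⟨K', u, hu⟩ := exists_map_eq_top D c hc UK hUK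
  refine ⟨K', u ≫ K.hom, isInvertible_pullback _ hL₀, inferInstance, fun y => ?_⟩
  have hy : y ∈ D.map u ⁻¹ᵁ UK := by
    rw [hu]
    trivial
  have hy' : D.map u y ∈ UK := hy
  rw [hUKdef] at hy'
  obtain ⟨⟨x, hx⟩, hyx⟩ := Opens.mem_iSup.mp hy'
  have hyx' : D.map (b x hx).left (D.map u y) ∈ CohB1.genLocus _ (sk x) := hyx
  have hw : (u ≫ (b x hx).left) ≫ (k x).hom = u ≫ K.hom := by
    rw [Category.assoc, Over.w]
  obtain ⟨s', hs'⟩ := exists_pbSec_stage D i₀ L₀ hL₀ (u ≫ (b x hx).left) (k x).hom (u ≫ K.hom) hw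
    (n x + 1) (sk x)
  refine ⟨n x, s', ?_, ?_⟩
  · rw [hs']
    show D.map (u ≫ (b x hx).left) y ∈ CohB1.genLocus _ (sk x)
    rw [D.map_comp, Scheme.Hom.comp_apply]
    exact hyx'
  · rw [hs']
    exact (haffk x).preimage (D.map (u ≫ (b x hx).left))

end Lim

end Groth.Agent.H24.AmpleLim
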