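import Mathlib
import Groth.Agent.H24.IndCons
import Groth.Agent.H24.LimIso

set_option autoImplicit false
universe u
open CategoryTheory CategoryTheory.Limits AlgebraicGeometry

namespace Groth.Agent.H24

theorem descends_isomorphisms : Descends (MorphismProperty.isomorphisms Scheme.{u}) := by
  unfold Descends
  intro I _ _ D c hc _ i₀ _ _ X₀ Y₀ f₀ g₀ _ _ _ _ _ _ X Y f g qY qX hY hX hf
  have hAff : ∀ {i j : I} (f : i ⟶ j), IsAffineHom (D.map f) := fun f => inferInstance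
  haveI : IsIso f := hf
  obtain ⟨j, hj⟩ := exists_isIso_pbRel D c hc i₀ f₀ g₀ f g qY qX hY hX
  exact ⟨j.left, j.hom ≫ 𝟙 i₀, _, _, pbRel D (𝟙 i₀) f₀ g₀ j, Limits.pullback.snd g₀ _,
    Limits.pullback.fst g₀ _, Limits.pullback.fst (f₀ ≫ g₀) _, IsPullback.of_hasPullback _ _,
    isPullback_pbRel D (𝟙 i₀) f₀ g₀ j, hj⟩

/-- isomorphic over the limit iff isomorphic over a stage -/
theorem exists_overIso_iff_eventually {I : Type u} [SmallCategory I] [IsCofiltered I]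
    (D : I ⥤ Scheme.{u}) (c : Limits.Cone D) (hc : Limits.IsLimit c)
    [∀ (i j : I) (f : i ⟶ j), IsAffineHom (D.map f)] (i₀ : I)
    [CompactSpace (D.obj i₀)] [QuasiSeparatedSpace (D.obj i₀)]
    {X₀ Y₀ : Scheme.{u}} (a₀ : X₀ ⟶ D.obj i₀) (b₀ : Y₀ ⟶ D.obj i₀)
    [LocallyOfFinitePresentation a₀] [QuasiCompact a₀] [QuasiSeparated a₀]
    [LocallyOfFinitePresentation b₀] [QuasiCompact b₀] [QuasiSeparated b₀]
    {X Y : Scheme.{u}} (a : X ⟶ c.pt) (b : Y ⟶ c.pt) (qX : X ⟶ X₀) (qY : Y ⟶ Y₀)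
    (hX : IsPullback qX a a₀ (c.π.app i₀)) (hY : IsPullback qY b b₀ (c.π.app i₀)) :
    (∃ e : X ≅ Y, e.hom ≫ b = a) ↔
      ∃ (j : I) (φ : j ⟶ i₀) (Xj Yj : Scheme.{u}) (aj : Xj ⟶ D.obj j) (bj : Yj ⟶ D.obj j)
        (pX : Xj ⟶ X₀) (pY : Yj ⟶ Y₀), IsPullback pX aj a₀ (D.map φ) ∧ IsPullback pY bj b₀ (D.map φ) ∧
        ∃ e : Xj ≅ Yj, e.hom ≫ bj = aj := by
  constructor
  · rintro ⟨e, he⟩
    obtain ⟨i, ψ, Xi, Yi, fi, pX, pY, eX, eY, sX, sY, hfi, hQi⟩ :=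
      exists_stage_hom D c hc (MorphismProperty.isomorphisms Scheme.{u}) descends_isomorphisms i₀
        a₀ b₀ a b qX qY hX hY e.hom he (inferInstanceAs (IsIso e.hom))
    haveI : IsIso fi := hQi
    exact ⟨i, ψ, Xi, Yi, pX, pY, eX, eY, sX, sY, asIso fi, hfi⟩
  · rintro ⟨j, φ, Xj, Yj, aj, bj, pX, pY, sX, sY, e, he⟩
    have wX : qX ≫ a₀ = (a ≫ c.π.app j) ≫ D.map φ := by rw [Category.assoc, c.w, hX.w]
    have wY : qY ≫ b₀ = (b ≫ c.π.app j) ≫ D.map φ := by rw [Category.assoc, c.w, hY.w]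
    have hXj : IsPullback (sX.lift qX (a ≫ c.π.app j) wX) a aj (c.π.app j) := by
      refine IsPullback.of_right ?_ (sX.lift_snd _ _ _) sX
      rw [sX.lift_fst, c.w]
      exact hX
    have hYj : IsPullback (sY.lift qY (b ≫ c.π.app j) wY) b bj (c.π.app j) := by
      refine IsPullback.of_right ?_ (sY.lift_snd _ _ _) sY
      rw [sY.lift_fst, c.w]
      exact hY
    have sqe : IsPullback e.hom aj bj (𝟙 (D.obj j)) :=
      IsPullback.of_horiz_isIso ⟨by rw [he, Category.comp_id]⟩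
    have hXj' : IsPullback (sX.lift qX (a ≫ c.π.app j) wX ≫ e.hom) a bj (c.π.app j) := by
      have := hXj.paste_horiz sqe
      rwa [Category.comp_id] at this
    exact ⟨hXj'.isoIsPullback _ _ hYj, IsPullback.isoIsPullback_hom_snd _ _ hXj' hYj⟩

end Groth.Agent.H24
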