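import Mathlib
import Groth.Agent.H24.FGSubLimit
import Groth.Agent.H24.IndConsDesc

/-!
# Combining two Noetherian approximations of a morphism of affine schemes
-/

set_option autoImplicit false
universe u
open CategoryTheory CategoryTheory.Limits AlgebraicGeometry Opposite

namespace Groth.Agent.H24

theorem finiteType_int_Γ_Spec (R₀ : Type u) [CommRing R₀] (h : Algebra.FiniteType ℤ R₀) :
    Algebra.FiniteType ℤ Γ(Spec (CommRingCat.of R₀), ⊤) :=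
  Algebra.FiniteType.equiv h
    (Scheme.ΓSpecIso (CommRingCat.of R₀)).symm.commRingCatIsoToRingEquiv.toIntAlgEquiv

theorem approx_combine (P Q : MorphismProperty Scheme.{u}) [P.IsStableUnderBaseChange]
    [Q.IsStableUnderBaseChange]
    {X S : Scheme.{u}} (f : X ⟶ S) [IsAffine X] [IsAffine S] [LocallyOfFinitePresentation f]
    {X₁ S₁ X₂ S₂ : Scheme.{u}} [IsAffine X₁] [IsAffine S₁] [IsAffine X₂] [IsAffine S₂]
    (f₁ : X₁ ⟶ S₁) (g₁ : S ⟶ S₁) (g₁' : X ⟶ X₁) (h₁ : IsPullback g₁' f f₁ g₁)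
    (f₂ : X₂ ⟶ S₂) (g₂ : S ⟶ S₂) (g₂' : X ⟶ X₂) (h₂ : IsPullback g₂' f f₂ g₂)
    (hS₁ : Algebra.FiniteType ℤ Γ(S₁, ⊤)) (hS₂ : Algebra.FiniteType ℤ Γ(S₂, ⊤))
    [LocallyOfFiniteType f₁] [LocallyOfFiniteType f₂] (hP : P f₁) (hQ : Q f₂) :
    ∃ (X₀ S₀ : Scheme.{u}) (f₀ : X₀ ⟶ S₀) (g : S ⟶ S₀) (g' : X ⟶ X₀), IsAffine X₀ ∧ IsAffine S₀ ∧
      IsPullback g' f f₀ g ∧
      Algebra.FiniteType ℤ Γ(S₀, ⊤) ∧ LocallyOfFiniteType f₀ ∧ P f₀ ∧ Q f₀ := by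
  classical
  let _ : Algebra Γ(S₁, ⊤) Γ(S, ⊤) := g₁.appTop.hom.toAlgebra
  have halg : CommRingCat.ofHom (algebraMap Γ(S₁, ⊤) Γ(S, ⊤)) = g₁.appTop := rfl
  -- a stage containing the image of `Γ(S₂)`
  obtain ⟨s, hs⟩ := hS₂.out
  obtain ⟨E₀sub, hE₀def⟩ : ∃ E : Subalgebra Γ(S₁, ⊤) Γ(S, ⊤),
      E = Algebra.adjoin Γ(S₁, ⊤) ((s.image g₂.appTop.hom : Finset Γ(S, ⊤)) : Set Γ(S, ⊤)) :=
    ⟨_, rfl⟩
  have hE₀fg : E₀sub.FG := by
    rw [hE₀def]; exact Subalgebra.fg_adjoin_finset _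
  have hmem : ∀ x : Γ(S₂, ⊤), g₂.appTop.hom x ∈ E₀sub := by
    intro x
    have hx : x ∈ Algebra.adjoin ℤ (s : Set Γ(S₂, ⊤)) := by rw [hs]; trivial
    induction hx using Algebra.adjoin_induction with
    | mem x hx =>
      rw [hE₀def]
      apply Algebra.subset_adjoin
      rw [Finset.coe_image]
      exact ⟨x, hx, rfl⟩
    | algebraMap r =>
      have : g₂.appTop.hom (algebraMap ℤ Γ(S₂, ⊤) r) = algebraMap ℤ Γ(S, ⊤) r := by simp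
      rw [this]
      have : algebraMap ℤ Γ(S, ⊤) r = (r : Γ(S, ⊤)) := rfl
      rw [this]
      exact intCast_mem E₀sub r
    | add x y _ _ hx hy => rw [map_add]; exact add_mem hx hy
    | mul x y _ _ hx hy => rw [map_mul]; exact mul_mem hx hy
  obtain ⟨ψ₂, hψ₂⟩ : ∃ ψ₂ : Γ(S₂, ⊤) →+* E₀sub,
      (algebraMap E₀sub Γ(S, ⊤)).comp ψ₂ = g₂.appTop.hom :=
    ⟨g₂.appTop.hom.codRestrict E₀sub hmem, by ext x; rfl⟩
  -- the limit system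
  let c : Cone (fgSpecDiagram Γ(S₁, ⊤) Γ(S, ⊤)) :=
    (fgSpecCone Γ(S₁, ⊤) Γ(S, ⊤)).extend S.isoSpec.hom
  have hc : IsLimit c :=
    IsLimit.ofIsoLimit (fgSpecConeIsLimit Γ(S₁, ⊤) Γ(S, ⊤))
      ((fgSpecCone Γ(S₁, ⊤) Γ(S, ⊤)).extendIso S.isoSpec.symm)
  have hcπ : ∀ E, c.π.app E = S.isoSpec.hom ≫
      Spec.map (CommRingCat.ofHom (algebraMap E.unop.1 Γ(S, ⊤))) := fun E => rfl
  have hAffD : ∀ (i j : (FGSub Γ(S₁, ⊤) Γ(S, ⊤))ᵒᵖ) (a : i ⟶ j),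
      IsAffineHom ((fgSpecDiagram Γ(S₁, ⊤) Γ(S, ⊤)).map a) := fun _ _ a => inferInstance
  obtain ⟨E₀, hE₀⟩ : ∃ E₀ : (FGSub Γ(S₁, ⊤) Γ(S, ⊤))ᵒᵖ, E₀ = op ⟨E₀sub, hE₀fg⟩ := ⟨_, rfl⟩
  -- maps from the stage to `S₁` and `S₂`
  obtain ⟨s₁, hs₁⟩ : ∃ s₁ : (fgSpecDiagram Γ(S₁, ⊤) Γ(S, ⊤)).obj E₀ ⟶ S₁,
      c.π.app E₀ ≫ s₁ = g₁ := by
    refine ⟨Spec.map (CommRingCat.ofHom (algebraMap Γ(S₁, ⊤) E₀.unop.1)) ≫ S₁.isoSpec.inv, ?_⟩
    show (S.isoSpec.hom ≫ Spec.map (CommRingCat.ofHom (algebraMap E₀.unop.1 Γ(S, ⊤)))) ≫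
      Spec.map (CommRingCat.ofHom (algebraMap Γ(S₁, ⊤) E₀.unop.1)) ≫ S₁.isoSpec.inv = g₁
    rw [Category.assoc, ← Category.assoc (Spec.map _), ← Spec.map_comp]
    have : CommRingCat.ofHom (algebraMap Γ(S₁, ⊤) E₀.unop.1) ≫
        CommRingCat.ofHom (algebraMap E₀.unop.1 Γ(S, ⊤)) = g₁.appTop := by
      rw [← halg]; rfl
    rw [this, ← Category.assoc, Scheme.isoSpec_hom_naturality, Category.assoc,
      Iso.hom_inv_id, Category.comp_id]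
  obtain ⟨s₂, hs₂⟩ : ∃ s₂ : (fgSpecDiagram Γ(S₁, ⊤) Γ(S, ⊤)).obj E₀ ⟶ S₂,
      c.π.app E₀ ≫ s₂ = g₂ := by
    subst hE₀
    refine ⟨Spec.map (CommRingCat.ofHom ψ₂) ≫ S₂.isoSpec.inv, ?_⟩
    show (S.isoSpec.hom ≫ Spec.map (CommRingCat.ofHom (algebraMap E₀sub Γ(S, ⊤)))) ≫
      Spec.map (CommRingCat.ofHom ψ₂) ≫ S₂.isoSpec.inv = g₂
    rw [Category.assoc, ← Category.assoc (Spec.map _), ← Spec.map_comp]
    have : CommRingCat.ofHom ψ₂ ≫ CommRingCat.ofHom (algebraMap E₀sub Γ(S, ⊤)) = g₂.appTop := by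
      rw [← CommRingCat.ofHom_comp, hψ₂]; rfl
    rw [this, ← Category.assoc, Scheme.isoSpec_hom_naturality, Category.assoc,
      Iso.hom_inv_id, Category.comp_id]
  -- the two models over the stage
  have hft : Algebra.FiniteType ℤ E₀.unop.1 := by
    have h1 : Algebra.FiniteType Γ(S₁, ⊤) E₀.unop.1 :=
      (Subalgebra.fg_iff_finiteType _).mp E₀.unop.2
    exact Algebra.FiniteType.trans hS₁ h1
  have hnoeth : IsNoetherianRing E₀.unop.1 := Algebra.FiniteType.isNoetherianRing ℤ _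
  have hlocn : IsLocallyNoetherian ((fgSpecDiagram Γ(S₁, ⊤) Γ(S, ⊤)).obj E₀) := by
    rw [fgSpecDiagram_obj]; infer_instance
  have hlfp1 : LocallyOfFinitePresentation (pullback.snd f₁ s₁) :=
    LocallyOfFinitePresentation.iff_locallyOfFiniteType.mpr inferInstance
  have hlfp2 : LocallyOfFinitePresentation (pullback.snd f₂ s₂) :=
    LocallyOfFinitePresentation.iff_locallyOfFiniteType.mpr inferInstance
  have w₁ : g₁' ≫ f₁ = (f ≫ c.π.app E₀) ≫ s₁ := by rw [Category.assoc, hs₁, h₁.w]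
  have w₂ : g₂' ≫ f₂ = (f ≫ c.π.app E₀) ≫ s₂ := by rw [Category.assoc, hs₂, h₂.w]
  have hX₁ : IsPullback (pullback.lift g₁' (f ≫ c.π.app E₀) w₁) f (pullback.snd f₁ s₁)
      (c.π.app E₀) := by
    refine IsPullback.of_right ?_ (pullback.lift_snd _ _ _) (IsPullback.of_hasPullback f₁ s₁)
    rw [pullback.lift_fst, hs₁]
    exact h₁
  have hX₂ : IsPullback (pullback.lift g₂' (f ≫ c.π.app E₀) w₂) f (pullback.snd f₂ s₂)
      (c.π.app E₀) := by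
    refine IsPullback.of_right ?_ (pullback.lift_snd _ _ _) (IsPullback.of_hasPullback f₂ s₂)
    rw [pullback.lift_fst, hs₂]
    exact h₂
  obtain ⟨j, φ, Xj, Yj, aj, bj, pX, pY, sX, sY, e, he⟩ :=
    (exists_overIso_iff_eventually (fgSpecDiagram Γ(S₁, ⊤) Γ(S, ⊤)) c hc E₀
      (pullback.snd f₁ s₁) (pullback.snd f₂ s₂) f f _ _ hX₁ hX₂).mp
      ⟨Iso.refl X, Category.id_comp _⟩
  -- conclusion
  have wX : pullback.lift g₁' (f ≫ c.π.app E₀) w₁ ≫ pullback.snd f₁ s₁ =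
      (f ≫ c.π.app j) ≫ (fgSpecDiagram Γ(S₁, ⊤) Γ(S, ⊤)).map φ := by
    rw [Category.assoc, c.w, hX₁.w]
  have hXj : IsPullback (sX.lift _ (f ≫ c.π.app j) wX) f aj (c.π.app j) := by
    refine IsPullback.of_right ?_ (sX.lift_snd _ _ _) sX
    rw [sX.lift_fst, c.w]
    exact hX₁
  have hPa : P aj := P.of_isPullback sX (P.of_isPullback (IsPullback.of_hasPullback f₁ s₁) hP)
  have hQb : Q bj := Q.of_isPullback sY (Q.of_isPullback (IsPullback.of_hasPullback f₂ s₂) hQ)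
  have hQa : Q aj := by
    rw [← he]
    exact (Q.cancel_left_of_respectsIso e.hom bj).mpr hQb
  have hXjaff : IsAffine Xj := by
    have : IsAffine (pullback (pullback.snd f₁ s₁) ((fgSpecDiagram Γ(S₁, ⊤) Γ(S, ⊤)).map φ)) :=
      inferInstance
    exact .of_isIso sX.isoPullback.hom
  have hftj : Algebra.FiniteType ℤ j.unop.1 := by
    have h1 : Algebra.FiniteType Γ(S₁, ⊤) j.unop.1 :=
      (Subalgebra.fg_iff_finiteType _).mp j.unop.2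
    exact Algebra.FiniteType.trans hS₁ h1
  exact ⟨Xj, (fgSpecDiagram Γ(S₁, ⊤) Γ(S, ⊤)).obj j, aj, c.π.app j, _, hXjaff, inferInstance,
    hXj, finiteType_int_Γ_Spec _ hftj,
    MorphismProperty.of_isPullback (P := @LocallyOfFiniteType) sX inferInstance, hPa, hQa⟩

end Groth.Agent.H24
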