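import Mathlib

/-!
# Base change of a cokernel of a matrix (helper24)
-/

set_option autoImplicit false

open TensorProduct

universe u v

namespace Groth.Agent.H24

/-- Base change of the cokernel of a matrix. -/
theorem nonempty_baseChange_quotient_span_equiv (B : Type u) (A : Type v) [CommRing B]
    [CommRing A] [Algebra B A] {n m : ℕ} (w : Fin m → (Fin n → B)) :
    Nonempty ((A ⊗[B] ((Fin n → B) ⧸ Submodule.span B (Set.range w))) ≃ₗ[A]
      ((Fin n → A) ⧸ Submodule.span A (Set.range fun k => fun l => algebraMap B A (w k l)))) := by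
  classical
  set Ki : Submodule B (Fin n → B) := Submodule.span B (Set.range w) with hKi
  set v : Fin m → (Fin n → A) := fun k => fun l => algebraMap B A (w k l) with hv
  set K : Submodule A (Fin n → A) := Submodule.span A (Set.range v) with hK
  let ψ : A ⊗[B] (Fin n → B) ≃ₗ[A] (Fin n → A) := TensorProduct.piScalarRight B A A (Fin n)
  have hψ : ∀ (a : A) (x : Fin n → B), ψ (a ⊗ₜ x) = fun l => x l • a := by
    intro a x
    ext l
    simp [ψ]
  let q : (Fin n → A) →ₗ[A] A ⊗[B] ((Fin n → B) ⧸ Ki) :=
    (AlgebraTensorModule.lTensor A A Ki.mkQ) ∘ₗ ψ.symm.toLinearMap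
  have hqsurj : Function.Surjective q := by
    have h1 : Function.Surjective (AlgebraTensorModule.lTensor A A Ki.mkQ) := by
      have := LinearMap.lTensor_surjective A (Submodule.mkQ_surjective Ki)
      exact this
    exact h1.comp ψ.symm.surjective
  -- the B-linear map y ↦ ψ (1 ⊗ y)
  let θ : (Fin n → B) →ₗ[B] (Fin n → A) :=
    (ψ.toLinearMap.restrictScalars B) ∘ₗ (TensorProduct.mk B A (Fin n → B) 1)
  have hθ : ∀ x, θ x = fun l => algebraMap B A (x l) := by
    intro x
    simp only [θ, LinearMap.coe_comp, Function.comp_apply, LinearMap.coe_restrictScalars,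
      LinearEquiv.coe_coe, TensorProduct.mk_apply, hψ]
    ext l
    rw [Algebra.smul_def, mul_one]
  have hθw : ∀ k, θ (w k) = v k := fun k => hθ (w k)
  have hθK : ∀ y ∈ Ki, θ y ∈ K := by
    intro y hy
    induction hy using Submodule.span_induction with
    | mem x hx =>
      obtain ⟨k, rfl⟩ := hx
      rw [hθw]
      exact Submodule.subset_span ⟨k, rfl⟩
    | zero => simp
    | add x y _ _ hx hy => rw [map_add]; exact K.add_mem hx hy
    | smul b x _ hx =>
      rw [map_smul]
      rw [← algebraMap_smul A b (θ x)]
      exact K.smul_mem _ hx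
  have hker : LinearMap.ker q = K := by
    apply le_antisymm
    · intro x hx
      rw [LinearMap.mem_ker] at hx
      simp only [q, LinearMap.coe_comp, LinearEquiv.coe_coe, Function.comp_apply] at hx
      have hex : Function.Exact (LinearMap.lTensor A Ki.subtype) (LinearMap.lTensor A Ki.mkQ) :=
        lTensor_exact A (LinearMap.exact_subtype_mkQ Ki) (Submodule.mkQ_surjective Ki)
      have hx' : LinearMap.lTensor A Ki.mkQ (ψ.symm x) = 0 := hx
      obtain ⟨t, ht⟩ := (hex (ψ.symm x)).mp hx'
      have hx2 : x = ψ (LinearMap.lTensor A Ki.subtype t) := by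
        rw [ht, LinearEquiv.apply_symm_apply]
      rw [hx2]
      clear hx2 ht hx' hx
      induction t with
      | zero => simp
      | add s t hs ht => rw [map_add, map_add]; exact K.add_mem hs ht
      | tmul a y =>
        rw [LinearMap.lTensor_tmul]
        have : ψ (a ⊗ₜ[B] (Ki.subtype y)) = a • θ y := by
          simp only [θ, LinearMap.coe_comp, Function.comp_apply, LinearMap.coe_restrictScalars,
            LinearEquiv.coe_coe, TensorProduct.mk_apply]
          rw [← map_smul, smul_tmul', smul_eq_mul, mul_one]
          rfl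
        rw [this]
        exact K.smul_mem _ (hθK y y.2)
    · rw [hK, Submodule.span_le]
      rintro _ ⟨k, rfl⟩
      rw [SetLike.mem_coe, LinearMap.mem_ker]
      simp only [q, LinearMap.coe_comp, LinearEquiv.coe_coe, Function.comp_apply]
      have : ψ.symm (v k) = (1 : A) ⊗ₜ[B] (w k) := by
        rw [LinearEquiv.symm_apply_eq, ← hθw]
        rfl
      rw [this]
      change (LinearMap.lTensor A Ki.mkQ) ((1 : A) ⊗ₜ[B] w k) = 0
      rw [LinearMap.lTensor_tmul]
      have : Ki.mkQ (w k) = 0 := by
        rw [Submodule.mkQ_apply, Submodule.Quotient.mk_eq_zero]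
        exact Submodule.subset_span ⟨k, rfl⟩
      rw [this, tmul_zero]
  exact ⟨((Submodule.quotEquivOfEq _ _ hker.symm).trans
    (q.quotKerEquivOfSurjective hqsurj)).symm⟩

end Groth.Agent.H24
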