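import Mathlib

/-!
# Points of a cofiltered limit of schemes with affine transition maps (helper24)

The points of the limit are the compatible families of points; the topology is the limit
topology.
-/

set_option autoImplicit false

open CategoryTheory AlgebraicGeometry Limits TopologicalSpace Topology Opposite

universe u

namespace Groth.Agent.H24

section

variable {I : Type u} [SmallCategory I] (D : I ⥤ Scheme.{u})
  (s : ∀ i, D.obj i) (hs : ∀ {i j : I} (φ : i ⟶ j), D.map φ (s i) = s j)

/-- the transition maps of the residue fields of a compatible family of points -/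
noncomputable def resMap {i j : I} (φ : i ⟶ j) :
    (D.obj j).residueField (s j) ⟶ (D.obj i).residueField (s i) :=
  ((D.obj j).residueFieldCongr (hs φ).symm).hom ≫ (D.map φ).residueFieldMap (s i)

theorem SpecMap_resMap_fromSpecResidueField {i j : I} (φ : i ⟶ j) :
    Spec.map (resMap D s hs φ) ≫ (D.obj j).fromSpecResidueField (s j) =
      (D.obj i).fromSpecResidueField (s i) ≫ D.map φ := by
  rw [resMap, Spec.map_comp, Category.assoc,
    Scheme.residueFieldCongr_fromSpecResidueField,
    Scheme.Hom.SpecMap_residueFieldMap_fromSpecResidueField]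

/-- the diagram of residue fields of a compatible family of points -/
noncomputable def resDiagram : I ⥤ CommRingCat.{u}ᵒᵖ where
  obj i := op ((D.obj i).residueField (s i))
  map φ := (resMap D s hs φ).op
  map_id i := by
    apply Quiver.Hom.unop_inj
    apply Spec.map_injective
    rw [← cancel_mono ((D.obj i).fromSpecResidueField (s i))]
    change Spec.map (resMap D s hs (𝟙 i)) ≫ _ = Spec.map (𝟙 _) ≫ _
    rw [SpecMap_resMap_fromSpecResidueField, D.map_id, Category.comp_id, Spec.map_id,
      Category.id_comp]
  map_comp {i j k} φ ψ := by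
    apply Quiver.Hom.unop_inj
    apply Spec.map_injective
    rw [← cancel_mono ((D.obj k).fromSpecResidueField (s k))]
    change Spec.map (resMap D s hs (φ ≫ ψ)) ≫ _ =
      Spec.map (resMap D s hs ψ ≫ resMap D s hs φ) ≫ _
    rw [SpecMap_resMap_fromSpecResidueField, Spec.map_comp, Category.assoc,
      SpecMap_resMap_fromSpecResidueField, ← Category.assoc,
      SpecMap_resMap_fromSpecResidueField, Category.assoc, D.map_comp]

variable (c : Cone D) (hc : IsLimit c)

include hc hs in
/-- **Every compatible family of points comes from a point of the limit.** -/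
theorem exists_point_of_compatible [IsCofiltered I] :
    ∃ x : c.pt, ∀ i, c.π.app i x = s i := by
  have haff : ∀ {i j : I} (f : i ⟶ j),
      IsAffineHom ((resDiagram D s hs ⋙ Scheme.Spec).map f) := fun f => by
    dsimp
    infer_instance
  have hne : ∀ i, Nonempty ↥((resDiagram D s hs ⋙ Scheme.Spec).obj i) := fun i => by
    change Nonempty (PrimeSpectrum ((D.obj i).residueField (s i)))
    infer_instance
  have hcomp : ∀ i, CompactSpace ↥((resDiagram D s hs ⋙ Scheme.Spec).obj i) := fun i => by
    dsimp
    infer_instance
  have hcL : IsLimit (Scheme.Spec.mapCone (limit.cone (resDiagram D s hs))) :=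
    isLimitOfPreserves Scheme.Spec (limit.isLimit (resDiagram D s hs))
  obtain ⟨l⟩ := Scheme.nonempty_of_isLimit (resDiagram D s hs ⋙ Scheme.Spec)
    (Scheme.Spec.mapCone (limit.cone (resDiagram D s hs))) hcL
  let p : ∀ i, (Scheme.Spec.mapCone (limit.cone (resDiagram D s hs))).pt ⟶
      Spec ((D.obj i).residueField (s i)) := fun i =>
    (Scheme.Spec.mapCone (limit.cone (resDiagram D s hs))).π.app i
  have hp : ∀ {i j : I} (φ : i ⟶ j), p i ≫ Spec.map (resMap D s hs φ) = p j := fun φ =>
    (Scheme.Spec.mapCone (limit.cone (resDiagram D s hs))).w φ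
  let cD : Cone D :=
    { pt := (Scheme.Spec.mapCone (limit.cone (resDiagram D s hs))).pt
      π :=
        { app := fun i => p i ≫ (D.obj i).fromSpecResidueField (s i)
          naturality := fun i j φ => by
            have h2 := SpecMap_resMap_fromSpecResidueField D s hs φ
            change 𝟙 _ ≫ (p j ≫ (D.obj j).fromSpecResidueField (s j)) =
              (p i ≫ (D.obj i).fromSpecResidueField (s i)) ≫ D.map φ
            calc 𝟙 _ ≫ (p j ≫ (D.obj j).fromSpecResidueField (s j))
                = p j ≫ (D.obj j).fromSpecResidueField (s j) := Category.id_comp _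
              _ = (p i ≫ Spec.map (resMap D s hs φ)) ≫ (D.obj j).fromSpecResidueField (s j) :=
                  congrArg (· ≫ (D.obj j).fromSpecResidueField (s j)) (hp φ).symm
              _ = p i ≫ (Spec.map (resMap D s hs φ) ≫ (D.obj j).fromSpecResidueField (s j)) :=
                  Category.assoc _ _ _
              _ = p i ≫ ((D.obj i).fromSpecResidueField (s i) ≫ D.map φ) :=
                  congrArg (p i ≫ ·) h2
              _ = (p i ≫ (D.obj i).fromSpecResidueField (s i)) ≫ D.map φ :=
                  (Category.assoc _ _ _).symm } }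
  refine ⟨hc.lift cD l, fun i => ?_⟩
  have hfac := hc.fac cD i
  have e1 : c.π.app i (hc.lift cD l) = (hc.lift cD ≫ c.π.app i) l := rfl
  rw [e1, hfac]
  change (D.obj i).fromSpecResidueField (s i) _ = s i
  rw [Scheme.fromSpecResidueField_apply]

include hc in
/-- **A point of the limit is determined by its images.** -/
theorem point_ext [IsCofiltered I] [∀ {i j : I} (f : i ⟶ j), IsAffineHom (D.map f)]
    (x y : c.pt) (h : ∀ i, c.π.app i x = c.π.app i y) : x = y := by
  by_contra hne
  have hb := isBasis_preimage_isAffineOpen D c hc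
  have key : ∀ (a b : c.pt), (∀ i, c.π.app i a = c.π.app i b) → ∀ U : c.pt.Opens, a ∈ U → b ∈ U := by
    intro a b hab U haU
    obtain ⟨_, ⟨i, V, -, rfl⟩, haV, hVU⟩ := Opens.isBasis_iff_nbhd.mp hb haU
    apply hVU
    change c.π.app i b ∈ V
    rw [← hab i]
    exact haV
  obtain ⟨U, hU, hxor⟩ := exists_isOpen_xor'_mem hne
  rcases hxor with ⟨hx, hy⟩ | ⟨hy, hx⟩
  · exact hy (key x y h ⟨U, hU⟩ hx)
  · exact hx (key y x (fun i => (h i).symm) ⟨U, hU⟩ hy)

include hc in
/-- **The underlying space of the limit is the limit of the underlying spaces.** -/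
theorem nonempty_isLimit_forgetToTop_mapCone [IsCofiltered I]
    [∀ {i j : I} (f : i ⟶ j), IsAffineHom (D.map f)] :
    Nonempty (IsLimit (Scheme.forgetToTop.mapCone c)) := by
  have hT : Nonempty (IsLimit ((forget TopCat).mapCone (Scheme.forgetToTop.mapCone c))) := by
    rw [Types.isLimit_iff]
    intro t ht
    have ht' : ∀ {i j : I} (φ : i ⟶ j), D.map φ (t i) = t j := fun φ => ht φ
    obtain ⟨x, hx⟩ := exists_point_of_compatible D t ht' c hc
    refine ⟨x, hx, fun y hy => ?_⟩
    exact point_ext D c hc y x fun i => (hy i).trans (hx i).symm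
  obtain ⟨hT⟩ := hT
  rw [TopCat.nonempty_isLimit_iff_eq_induced _ hT]
  have hb := isBasis_preimage_isAffineOpen D c hc
  apply le_antisymm
  · refine le_iInf fun i => ?_
    rw [← continuous_iff_le_induced]
    exact (c.π.app i).continuous
  · have hgen := TopologicalSpace.IsTopologicalBasis.eq_generateFrom hb
    change _ ≤ (inferInstance : TopologicalSpace ↥c.pt)
    rw [hgen]
    apply le_generateFrom
    rintro _ ⟨_, ⟨i, V, -, rfl⟩, rfl⟩
    exact (TopologicalSpace.le_def.mp (iInf_le _ i)) _ (isOpen_induced V.2)

end

end Groth.Agent.H24
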