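import Mathlib
import Groth.Agent.S7534
import Groth.Agent.S2152
import Groth.Agent.H17.ProCons

/-!
# Pro-constructible / ind-constructible families on a cofiltered limit (EGA IV 8.3.4) (helper24)
-/

set_option autoImplicit false

open CategoryTheory AlgebraicGeometry Limits TopologicalSpace Topology

universe u

namespace Groth.Agent.H24

theorem isProConstructible_univ {X : Type*} [TopologicalSpace X] :
    ProCons.IsProConstructible (Set.univ : Set X) := by
  intro x
  exact ⟨Set.univ, isOpen_univ, trivial, ∅, by simp, by simp⟩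

/-- A compatible family of nonempty subsets, closed for the constructible topologies, in a
cofiltered system of quasi-compact quasi-separated schemes with affine transition maps, has a
point of the limit lying in all of them; contrapositive form. -/
theorem exists_eq_empty_of_isClosed_constructibleTopology {I : Type u} [SmallCategory I]
    [IsCofiltered I] (D : I ⥤ Scheme.{u}) (c : Cone D) (hc : IsLimit c)
    [∀ {i j : I} (f : i ⟶ j), IsAffineHom (D.map f)] [∀ i, CompactSpace (D.obj i)]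
    [∀ i, QuasiSeparatedSpace (D.obj i)] (Z : ∀ i, Set (D.obj i))
    (hZ : ∀ i, IsClosed[constructibleTopology (D.obj i)] (Z i))
    (hmaps : ∀ {i j : I} (φ : i ⟶ j), Set.MapsTo (D.map φ) (Z i) (Z j))
    (h : ∀ x : c.pt, ∃ i, c.π.app i x ∉ Z i) : ∃ i, Z i = ∅ := by
  by_contra hne
  have hne' : ∀ i, (Z i).Nonempty := fun i =>
    Set.nonempty_iff_ne_empty.mpr (fun h0 => hne ⟨i, h0⟩)
  have hAff : ∀ (i j : I) (f : i ⟶ j), IsAffineHom (D.map f) := fun _ _ f => inferInstance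
  obtain ⟨hlim⟩ := Groth.Agent.S2152.result D c hc
  obtain ⟨x, hx⟩ := (Groth.Agent.S7534.result (D ⋙ Scheme.forgetToTop)
    (fun j => (({} : SpectralSpace (D.obj j))))
    (fun a => (D.map a).isSpectralMap) (Scheme.forgetToTop.mapCone c) hlim).1 Z hne' hZ
    (fun a => hmaps a)
  obtain ⟨i, hi⟩ := h x
  exact hi (hx i)

/-- The affine-local step of EGA IV 8.3.4. -/
theorem exists_stage_of_affineOpen {I : Type u} [SmallCategory I] [IsCofiltered I]
    (D : I ⥤ Scheme.{u}) (c : Cone D) (hc : IsLimit c)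
    [∀ {i j : I} (f : i ⟶ j), IsAffineHom (D.map f)] (i₀ : I)
    (E F : ∀ i : I, Set (D.obj i))
    (hE : ∀ i, ProCons.IsProConstructible (E i)) (hF : ∀ i, ProCons.IsIndConstructible (F i))
    (hEm : ∀ (i j : I) (φ : i ⟶ j), E i ⊆ ⇑(D.map φ) ⁻¹' E j)
    (hFm : ∀ (i j : I) (φ : i ⟶ j), ⇑(D.map φ) ⁻¹' F j ⊆ F i)
    (hEF : (⋂ i, ⇑(c.π.app i) ⁻¹' E i : Set c.pt) ⊆ (⋃ i, ⇑(c.π.app i) ⁻¹' F i : Set c.pt))
    (W : (D.obj i₀).Opens) (hW : IsAffineOpen W) :
    ∃ j : Over i₀, ∀ y : D.obj j.left, (D.map j.hom) y ∈ W → y ∈ E j.left → y ∈ F j.left := by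
  have hAffW : ∀ j : Over i₀, IsAffine ((opensDiagram D i₀ W).obj j) := fun j =>
    hW.preimage (D.map j.hom)
  let ι' : ∀ j : Over i₀, (opensDiagram D i₀ W).obj j ⟶ D.obj j.left := fun j =>
    (D.map j.hom ⁻¹ᵁ W).ι
  let Z : ∀ j : Over i₀, Set ((opensDiagram D i₀ W).obj j) := fun j =>
    (ι' j) ⁻¹' E j.left ∩ ((ι' j) ⁻¹' F j.left)ᶜ
  have hZ : ∀ j, IsClosed[constructibleTopology _] (Z j) := by
    intro j
    have : IsAffine (D.map j.hom ⁻¹ᵁ W).toScheme := hAffW j
    have h1 := H17.isClosed_constructibleTopology_of_isProConstructible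
      (H17.isProConstructible_preimage (hE j.left) (D.map j.hom ⁻¹ᵁ W).ι.isOpenEmbedding)
    have h2 := H17.isOpen_constructibleTopology_of_isIndConstructible
      (H17.isIndConstructible_preimage (hF j.left) (D.map j.hom ⁻¹ᵁ W).ι.isOpenEmbedding)
    exact @IsClosed.inter _ _ _ (constructibleTopology _) h1
      (@IsOpen.isClosed_compl _ (constructibleTopology _) _ h2)
  have hι : ∀ {j k : Over i₀} (f : j ⟶ k),
      (opensDiagram D i₀ W).map f ≫ ι' k = ι' j ≫ D.map f.left := fun f =>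
    Scheme.Hom.resLE_comp_ι _ _
  have hmaps : ∀ {j k : Over i₀} (f : j ⟶ k),
      Set.MapsTo ((opensDiagram D i₀ W).map f) (Z j) (Z k) := by
    intro j k f x hx
    have e : (ι' k) (((opensDiagram D i₀ W).map f) x) = (D.map f.left) ((ι' j) x) := by
      rw [← Scheme.Hom.comp_apply, ← Scheme.Hom.comp_apply, hι f]
    refine ⟨?_, ?_⟩
    · change (ι' k) (((opensDiagram D i₀ W).map f) x) ∈ E k.left
      rw [e]
      exact hEm _ _ f.left hx.1
    · intro h
      apply hx.2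
      change (ι' j) x ∈ F j.left
      apply hFm _ _ f.left
      change (D.map f.left) ((ι' j) x) ∈ F k.left
      rw [← e]
      exact h
  have hπ : ∀ j : Over i₀, (opensCone D c i₀ W).π.app j ≫ ι' j =
      (c.π.app i₀ ⁻¹ᵁ W).ι ≫ c.π.app j.left := fun j => Scheme.Hom.resLE_comp_ι _ _
  have hx : ∀ x : (opensCone D c i₀ W).pt, ∃ j, ((opensCone D c i₀ W).π.app j) x ∉ Z j := by
    intro x
    let s : c.pt := (c.π.app i₀ ⁻¹ᵁ W).ι x
    have key : ∀ (j : Over i₀),
        (ι' j) (((opensCone D c i₀ W).π.app j) x) = (c.π.app j.left) s := by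
      intro j
      rw [← Scheme.Hom.comp_apply, hπ j]
      rfl
    by_cases hs : s ∈ (⋂ i, ⇑(c.π.app i) ⁻¹' E i : Set c.pt)
    · obtain ⟨i, hi⟩ := Set.mem_iUnion.mp (hEF hs)
      refine ⟨Over.mk (IsCofiltered.minToRight i i₀), fun hz => hz.2 ?_⟩
      change (ι' (Over.mk (IsCofiltered.minToRight i i₀)))
        (((opensCone D c i₀ W).π.app (Over.mk (IsCofiltered.minToRight i i₀))) x) ∈
          F (IsCofiltered.min i i₀)
      rw [key]
      apply hFm _ _ (IsCofiltered.minToLeft i i₀)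
      change (D.map (IsCofiltered.minToLeft i i₀)) ((c.π.app (IsCofiltered.min i i₀)) s) ∈ F i
      rw [← Scheme.Hom.comp_apply, c.w]
      exact hi
    · rw [Set.mem_iInter] at hs
      push Not at hs
      obtain ⟨i, hi⟩ := hs
      refine ⟨Over.mk (IsCofiltered.minToRight i i₀), fun hz => hi ?_⟩
      have h1 : (c.π.app (IsCofiltered.min i i₀)) s ∈ E (IsCofiltered.min i i₀) := by
        have := hz.1
        change (ι' (Over.mk (IsCofiltered.minToRight i i₀)))
          (((opensCone D c i₀ W).π.app (Over.mk (IsCofiltered.minToRight i i₀))) x) ∈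
            E (IsCofiltered.min i i₀) at this
        rwa [key] at this
      have h2 := hEm _ _ (IsCofiltered.minToLeft i i₀) h1
      change (c.π.app i) s ∈ E i
      rw [← c.w (IsCofiltered.minToLeft i i₀), Scheme.Hom.comp_apply]
      exact h2
  obtain ⟨j, hj⟩ := exists_eq_empty_of_isClosed_constructibleTopology (opensDiagram D i₀ W)
    (opensCone D c i₀ W) (isLimitOpensCone D c hc i₀ W) Z hZ hmaps hx
  refine ⟨j, fun y hyW hyE => ?_⟩
  by_contra hyF
  have hmem : (⟨y, hyW⟩ : ↥((opensDiagram D i₀ W).obj j)) ∈ Z j := ⟨hyE, hyF⟩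
  rw [hj] at hmem
  exact hmem

/-- **EGA IV 8.3.4**. -/
theorem iInter_subset_iUnion_iff {I : Type u} [SmallCategory I] [IsCofiltered I]
    (D : I ⥤ Scheme.{u}) (c : Cone D) (hc : IsLimit c)
    [∀ (i j : I) (f : i ⟶ j), IsAffineHom (D.map f)] (i₀ : I)
    [CompactSpace (D.obj i₀)] (E F : ∀ i : I, Set (D.obj i))
    (hE : ∀ i, ProCons.IsProConstructible (E i)) (hF : ∀ i, ProCons.IsIndConstructible (F i))
    (hEm : ∀ (i j : I) (φ : i ⟶ j), E i ⊆ ⇑(D.map φ) ⁻¹' E j)
    (hFm : ∀ (i j : I) (φ : i ⟶ j), ⇑(D.map φ) ⁻¹' F j ⊆ F i) :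
    (⋂ i, ⇑(c.π.app i) ⁻¹' E i : Set c.pt) ⊆ (⋃ i, ⇑(c.π.app i) ⁻¹' F i : Set c.pt) ↔
      ∃ (i : I) (_ : i ⟶ i₀), ∀ (j : I) (_ : j ⟶ i), E j ⊆ F j := by
  have hAff : ∀ {i j : I} (f : i ⟶ j), IsAffineHom (D.map f) := fun f => inferInstance
  constructor
  · intro hEF
    classical
    have hcovx : ∀ x : D.obj i₀, ∃ W : (D.obj i₀).affineOpens, x ∈ W.1 := by
      intro x
      obtain ⟨W, hW, hxW, -⟩ := Opens.isBasis_iff_nbhd.mp (D.obj i₀).isBasis_affineOpens
        (U := ⊤) (x := x) trivial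
      exact ⟨⟨W, hW⟩, hxW⟩
    obtain ⟨t, ht⟩ := isCompact_univ.elim_finite_subcover
      (fun W : (D.obj i₀).affineOpens => (W.1 : Set (D.obj i₀))) (fun W => W.1.2) (by
        intro x _
        obtain ⟨W, hW⟩ := hcovx x
        exact Set.mem_iUnion.mpr ⟨W, hW⟩)
    have claim : ∀ W : (D.obj i₀).affineOpens, ∃ j : Over i₀, ∀ y : D.obj j.left,
        (D.map j.hom) y ∈ W.1 → y ∈ E j.left → y ∈ F j.left := fun W =>
      exists_stage_of_affineOpen D c hc i₀ E F hE hF hEm hFm hEF W.1 W.2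
    choose jW hjW using claim
    obtain ⟨k, hk⟩ := IsCofiltered.inf_objs_exists (t.image jW)
    refine ⟨k.left, k.hom, fun j ψ y hy => ?_⟩
    obtain ⟨W, hWt, hyW⟩ := Set.mem_iUnion₂.mp (ht (Set.mem_univ ((D.map (ψ ≫ k.hom)) y)))
    obtain ⟨f⟩ := hk (Finset.mem_image_of_mem jW hWt)
    have hy' : (D.map (ψ ≫ f.left)) y ∈ F (jW W).left := by
      apply hjW W
      · rw [← Scheme.Hom.comp_apply, ← D.map_comp, Category.assoc, Over.w f]
        exact hyW
      · exact hEm _ _ (ψ ≫ f.left) hy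
    exact hFm _ _ (ψ ≫ f.left) hy'
  · rintro ⟨i, φ, h⟩ x hx
    rw [Set.mem_iInter] at hx
    exact Set.mem_iUnion.mpr ⟨i, h i (𝟙 i) (hx i)⟩

end Groth.Agent.H24
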