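import Mathlib
import Groth.Agent.S15545
import Groth.Agent.S15542
import Groth.Agent.S4764
import Groth.Agent.H17.ProCons
import Groth.Agent.H24.ProConsLim

/-!
# Closures of preimages of pro-constructible sets under flat maps (helper24)
-/

set_option autoImplicit false

open CategoryTheory AlgebraicGeometry Limits TopologicalSpace Topology Opposite

universe u

namespace Groth.Agent.H24

/-- In a scheme, the closure of a pro-constructible set consists of specializations of its
points. -/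
theorem exists_specializes_of_mem_closure_proCons {X : Scheme.{u}} (Z : Set X)
    (hZ : ProCons.IsProConstructible Z) (x : X) (hx : x ∈ closure Z) : ∃ z ∈ Z, z ⤳ x := by
  obtain ⟨U₀, hU₀o, hxU₀, S₀, hS₀, hE₀⟩ := hZ x
  obtain ⟨_, ⟨U, hU, rfl⟩, hxU, hUU₀⟩ :=
    X.isBasis_affineOpens.exists_subset_of_mem_open hxU₀ hU₀o
  have hU' : IsAffineOpen U := hU
  have : CompactSpace ↥U := isCompact_iff_compactSpace.mp hU'.isCompact
  have : QuasiSeparatedSpace ↥U :=
    (isQuasiSeparated_iff_quasiSeparatedSpace _ U.isOpen).mp hU'.isQuasiSeparated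
  have : QuasiSober ↥U := U.isOpen.isOpenEmbedding_subtypeVal.quasiSober
  have : PrespectralSpace ↥U := U.isOpen.isOpenEmbedding_subtypeVal.prespectralSpace
  obtain ⟨ι, hι⟩ : ∃ ι : ↥U → ↥U₀, ∀ u, (ι u : X) = u := ⟨Set.inclusion hUU₀, fun u => rfl⟩
  have hιemb : Topology.IsOpenEmbedding ι := by
    have h1 : Topology.IsOpenEmbedding ((Subtype.val : ↥U₀ → X) ∘ ι) := by
      have : (Subtype.val : ↥U₀ → X) ∘ ι = (Subtype.val : ↥U → X) := funext hι
      rw [this]; exact U.isOpen.isOpenEmbedding_subtypeVal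
    exact Topology.IsOpenEmbedding.of_comp _ hU₀o.isOpenEmbedding_subtypeVal h1
  obtain ⟨S, hSdef⟩ : ∃ S : Set (Set ↥U), S = (fun T => ι ⁻¹' T) '' S₀ := ⟨_, rfl⟩
  have hS : ∀ T ∈ S, Topology.IsConstructible T := by
    rw [hSdef]
    rintro _ ⟨T, hT, rfl⟩
    exact ((hS₀ T hT).preimage_of_isOpenEmbedding hιemb).isConstructible
  have hE : (Subtype.val ⁻¹' Z : Set ↥U) = ⋂₀ S := by
    ext u
    have h1 : (ι u) ∈ (Subtype.val ⁻¹' Z : Set ↥U₀) ↔ ι u ∈ ⋂₀ S₀ := by rw [hE₀]
    rw [Set.mem_preimage, hι] at h1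
    rw [Set.mem_preimage, h1, hSdef, Set.sInter_image]
    simp only [Set.mem_sInter, Set.mem_iInter, Set.mem_preimage]
  have hxcl : (⟨x, hxU⟩ : ↥U) ∈ closure (Subtype.val ⁻¹' Z : Set ↥U) := by
    have := U.isOpen.isOpenEmbedding_subtypeVal.isOpenMap.preimage_closure_eq_closure_preimage
      continuous_subtype_val Z
    have h2 : (⟨x, hxU⟩ : ↥(U : Set X)) ∈
        (Subtype.val : ↥(U : Set X) → X) ⁻¹' closure Z := hx
    rw [this] at h2
    exact h2
  obtain ⟨e, heS, heξ⟩ := Groth.Agent.S15545.exists_specializes_of_mem_closure S hS ⟨x, hxU⟩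
    (by rw [← hE]; exact hxcl)
  have heZ : (e : X) ∈ Z := by
    have : e ∈ (Subtype.val ⁻¹' Z : Set ↥U) := by rw [hE]; exact heS
    exact this
  exact ⟨e, heZ, heξ.map continuous_subtype_val⟩

/-- For a flat morphism, the closure of the preimage of a pro-constructible set is the preimage of
its closure. -/
theorem closure_preimage_eq_of_flat {T S : Scheme.{u}} (f : T ⟶ S) [Flat f] (Z : Set S)
    (hZ : ProCons.IsProConstructible Z) :
    closure (f ⁻¹' Z) = f ⁻¹' closure Z := by
  apply subset_antisymm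
  · exact f.continuous.closure_preimage_subset Z
  · intro t ht
    obtain ⟨z, hz, hzt⟩ := exists_specializes_of_mem_closure_proCons Z hZ (f t) ht
    obtain ⟨t', ht't, hft'⟩ := (Flat.generalizingMap (f := f)) hzt
    have h1 : t ∈ closure ({t'} : Set T) := specializes_iff_mem_closure.mp ht't
    refine closure_mono ?_ h1
    intro y hy
    have hy' : y = t' := hy
    change f y ∈ Z
    rw [hy', hft']
    exact hz

theorem isIndConstructible_preimage_hom {X Y : Scheme.{u}} (f : X ⟶ Y) (T : Set Y)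
    (hT : ProCons.IsIndConstructible T) : ProCons.IsIndConstructible (f ⁻¹' T) := by
  rw [H17.isIndConstructible_iff_compl] at hT ⊢
  exact Groth.Agent.S15542.result f Tᶜ hT

theorem isIndConstructible_of_isConstructible {X : Type*} [TopologicalSpace X] {T : Set X}
    (hT : IsConstructible T) : ProCons.IsIndConstructible T :=
  H17.isIndConstructible_of_eq_sUnion {T} (fun _ h => h ▸ hT.isLocallyConstructible)
    (Set.sUnion_singleton T).symm

/-- **EGA IV 8.3.11-type criterion**: preimages along a flat limit. -/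
theorem preimage_subset_closure_preimage_iff_of_flat {I : Type u} [SmallCategory I]
    [IsCofiltered I]
    (D : I ⥤ Scheme.{u}) (c : Limits.Cone D) (hc : Limits.IsLimit c)
    [∀ (i j : I) (f : i ⟶ j), IsAffineHom (D.map f)] (i₁ : I) [CompactSpace (D.obj i₁)]
    (hfl : ∀ (i j : I) (φ : i ⟶ j), Flat (D.map φ))
    (Z' Z'' : Set (D.obj i₁)) (hZ' : ProCons.IsProConstructible Z')
    (hZ'' : ProCons.IsProConstructible Z'')
    (hcl : Topology.IsConstructible (closure Z')) :
    (⇑(c.π.app i₁) ⁻¹' Z'' : Set c.pt) ⊆ closure (⇑(c.π.app i₁) ⁻¹' Z' : Set c.pt) ↔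
      ∃ (j : I) (φ : j ⟶ i₁), ⇑(D.map φ) ⁻¹' Z'' ⊆ closure (⇑(D.map φ) ⁻¹' Z') := by
  have hflatπ : Flat (c.π.app i₁) := Groth.Agent.S4764.result D c hc i₁ (fun j φ => hfl j i₁ φ)
  have hcl1 : closure (c.π.app i₁ ⁻¹' Z') = c.π.app i₁ ⁻¹' closure Z' :=
    closure_preimage_eq_of_flat _ Z' hZ'
  have hclj : ∀ (j : I) (φ : j ⟶ i₁), closure (D.map φ ⁻¹' Z') = D.map φ ⁻¹' closure Z' :=
    fun j φ => by
      haveI := hfl j i₁ φ
      exact closure_preimage_eq_of_flat _ Z' hZ'
  have hAffO : ∀ (a b : Over i₁) (f : a ⟶ b), IsAffineHom ((Over.forget i₁ ⋙ D).map f) :=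
    fun a b f => by dsimp; infer_instance
  have hcomp : CompactSpace ↥((Over.forget i₁ ⋙ D).obj (Over.mk (𝟙 i₁))) :=
    (inferInstance : CompactSpace ↥(D.obj i₁))
  have key := iInter_subset_iUnion_iff (Over.forget i₁ ⋙ D) (c.whisker (Over.forget i₁))
    ((Functor.Initial.isLimitWhiskerEquiv (Over.forget i₁) c).symm hc) (Over.mk (𝟙 i₁))
    (fun j => D.map j.hom ⁻¹' Z'') (fun j => D.map j.hom ⁻¹' closure Z')
    (fun j => Groth.Agent.S15542.result (D.map j.hom) Z'' hZ'')
    (fun j => isIndConstructible_preimage_hom (D.map j.hom) _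
      (isIndConstructible_of_isConstructible hcl))
    (fun j k a y hy => by
      change D.map k.hom (D.map a.left y) ∈ Z''
      rw [show D.map k.hom (D.map a.left y) = (D.map a.left ≫ D.map k.hom) y from rfl,
        ← D.map_comp, Over.w a]
      exact hy)
    (fun j k a y hy => by
      change D.map j.hom y ∈ closure Z'
      rw [← Over.w a, D.map_comp]
      exact hy)
  rw [hcl1]
  constructor
  · intro h
    obtain ⟨i, -, hi⟩ := key.mp (by
      intro s hs
      rw [Set.mem_iInter] at hs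
      have h0 := hs (Over.mk (𝟙 i₁))
      refine Set.mem_iUnion.mpr ⟨Over.mk (𝟙 i₁), ?_⟩
      have h0' : D.map (𝟙 i₁) (c.π.app i₁ s) ∈ Z'' := h0
      rw [D.map_id] at h0'
      have h1 := h h0'
      change D.map (𝟙 i₁) (c.π.app i₁ s) ∈ closure Z'
      rw [D.map_id]
      exact h1)
    refine ⟨i.left, i.hom, ?_⟩
    rw [hclj]
    exact hi i (𝟙 i)
  · rintro ⟨j, φ, hj⟩
    rw [hclj] at hj
    have h := key.mpr ⟨Over.mk φ, Over.homMk φ (by simp), fun k a y hy => by
      change D.map k.hom y ∈ closure Z'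
      have hy' : D.map k.hom y ∈ Z'' := hy
      have e : k.hom = a.left ≫ φ := (Over.w a).symm
      rw [e, D.map_comp] at hy' ⊢
      exact hj hy'⟩
    intro s hs
    have h1 := h (Set.mem_iInter.mpr fun k => by
      change (c.π.app k.left ≫ D.map k.hom) s ∈ Z''
      rw [c.w]
      exact hs)
    obtain ⟨k, hk⟩ := Set.mem_iUnion.mp h1
    have hk' : (c.π.app k.left ≫ D.map k.hom) s ∈ closure Z' := hk
    rw [c.w] at hk'
    exact hk'

end Groth.Agent.H24
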