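import Mathlib
import Groth.Agent.H24.FlatClosure
import Groth.Prelude.Def_W4c2submetdescSubtr

/-!
# Points are pro-constructible (helper24)
-/

set_option autoImplicit false

open CategoryTheory AlgebraicGeometry Limits TopologicalSpace Topology Opposite

universe u

namespace Groth.Agent.H24

/-- A point of a scheme is a pro-constructible subset. -/
theorem isProConstructible_singleton {X : Scheme.{u}} (y : X) :
    ProCons.IsProConstructible ({y} : Set X) := by
  intro x
  obtain ⟨_, ⟨U, hU, rfl⟩, hxU, -⟩ :=
    X.isBasis_affineOpens.exists_subset_of_mem_open (Set.mem_univ x) isOpen_univ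
  have hU' : IsAffineOpen U := hU
  have : QuasiSeparatedSpace ↥U :=
    (isQuasiSeparated_iff_quasiSeparatedSpace _ U.isOpen).mp hU'.isQuasiSeparated
  have : PrespectralSpace ↥U := U.isOpen.isOpenEmbedding_subtypeVal.prespectralSpace
  refine ⟨U, U.isOpen, hxU, {T | Topology.IsLocallyConstructible T ∧
    (Subtype.val ⁻¹' ({y} : Set X) : Set ↥U) ⊆ T}, fun T hT => hT.1, ?_⟩
  apply subset_antisymm
  · intro u hu
    rw [Set.mem_sInter]
    intro T hT
    exact hT.2 hu
  · intro u hu
    rw [Set.mem_sInter] at hu
    by_contra hne
    have hne' : (u : X) ≠ y := hne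
    by_cases hy : y ∈ U
    · have hne'' : u ≠ (⟨y, hy⟩ : ↥U) := fun h => hne' (congrArg Subtype.val h)
      obtain ⟨O, hO, hxor⟩ := exists_isOpen_xor_mem hne''
      rcases hxor with ⟨huO, hyO⟩ | ⟨hyO, huO⟩
      · obtain ⟨B, ⟨hBo, hBc⟩, huB, hBO⟩ :=
          PrespectralSpace.isTopologicalBasis.exists_subset_of_mem_open huO hO
        have hT : Topology.IsLocallyConstructible Bᶜ :=
          (hBc.isConstructible hBo).compl.isLocallyConstructible
        have := hu Bᶜ ⟨hT, fun v hv => by
          have hv' : (v : X) = y := hv
          have : v = (⟨y, hy⟩ : ↥U) := Subtype.ext hv'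
          rw [this]
          exact fun h => hyO (hBO h)⟩
        exact this huB
      · obtain ⟨B, ⟨hBo, hBc⟩, hyB, hBO⟩ :=
          PrespectralSpace.isTopologicalBasis.exists_subset_of_mem_open hyO hO
        have hT : Topology.IsLocallyConstructible B :=
          (hBc.isConstructible hBo).isLocallyConstructible
        have := hu B ⟨hT, fun v hv => by
          have hv' : (v : X) = y := hv
          have : v = (⟨y, hy⟩ : ↥U) := Subtype.ext hv'
          rw [this]
          exact hyB⟩
        exact huO (hBO this)
    · have hT : Topology.IsLocallyConstructible (∅ : Set ↥U) :=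
        Topology.IsConstructible.empty.isLocallyConstructible
      have := hu ∅ ⟨hT, fun v hv => by
        have hv' : (v : X) = y := hv
        exact hy (hv' ▸ v.2)⟩
      exact this

/-- `f` lifts specializations of pairs iff `f (closure (f⁻¹ Z)) = closure Z` for pro-constructible
`Z`. -/
theorem isSSubtrusive_iff_image_closure {X Y : Scheme.{u}} (f : X ⟶ Y) :
    Subtr.IsSSubtrusive f ↔
      ∀ Z : Set Y, ProCons.IsProConstructible Z → f '' closure (f ⁻¹' Z) = closure Z := by
  constructor
  · intro hf Z hZ
    apply subset_antisymm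
    · exact (image_closure_subset_closure_image f.continuous).trans
        (closure_mono (Set.image_preimage_subset _ _))
    · intro y hy
      obtain ⟨z, hz, hzy⟩ := exists_specializes_of_mem_closure_proCons Z hZ y hy
      obtain ⟨x, x', hxx, hfx, hfx'⟩ := hf hzy
      refine ⟨x, ?_, hfx⟩
      have h1 : x ∈ closure ({x'} : Set X) := specializes_iff_mem_closure.mp hxx
      refine closure_mono ?_ h1
      intro w hw
      rw [Set.mem_singleton_iff.mp hw]
      change f x' ∈ Z
      rw [hfx']
      exact hz
  · intro H y y' hyy
    have h1 := H {y'} (isProConstructible_singleton y')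
    have hy : y ∈ closure ({y'} : Set Y) := specializes_iff_mem_closure.mp hyy
    rw [← h1] at hy
    obtain ⟨x, hx, hfx⟩ := hy
    obtain ⟨x', hx', hxx⟩ := exists_specializes_of_mem_closure_proCons _
      (Groth.Agent.S15542.result f {y'} (isProConstructible_singleton y')) x hx
    exact ⟨x, x', hxx, hfx, hx'⟩

end Groth.Agent.H24
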