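import Mathlib

/-!
# Vanishing of tensors over a filtered colimit of rings happens at a finite stage (helper24)

Abstract, category-free formulation: a family of `R`-algebras `C j` (structure maps `σ j`)
mapping to an `R`-algebra `B` (maps `g j`), which is "filtered with colimit `B`" in the weak
sense expressed by the hypotheses `hdir`, `H1`, `H2` below.  Then a finite sum of pure tensors in
`C j₀ ⊗[R] N` which dies in `B ⊗[R] N` dies in `C j ⊗[R] N` for some refinement `j` of `j₀`.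
-/

set_option autoImplicit false

open TensorProduct

namespace Groth.Agent.H24.TensorStage

section Defs

variable {R C N : Type*} [CommRing R] [CommRing C] [AddCommGroup N] [Module R N]

/-- `∑ i, c i ⊗ n i = 0` in `C ⊗[R] N`, where `C` is an `R`-algebra through `ρ`. -/
def SumZero (ρ : R →+* C) {ι : Type*} [Fintype ι] (c : ι → C) (n : ι → N) : Prop :=
  letI := ρ.toAlgebra
  ∑ i, c i ⊗ₜ[R] n i = (0 : C ⊗[R] N)

/-- `1 ⊗ n = 0` in `C ⊗[R] N`, where `C` is an `R`-algebra through `ρ`. -/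
def OneZero (ρ : R →+* C) (n : N) : Prop :=
  letI := ρ.toAlgebra
  (1 : C) ⊗ₜ[R] n = (0 : C ⊗[R] N)

theorem oneZero_iff_sumZero (ρ : R →+* C) (n : N) :
    OneZero ρ n ↔ SumZero ρ (fun _ : Fin 1 => (1 : C)) (fun _ => n) := by
  letI := ρ.toAlgebra
  show (1 : C) ⊗ₜ[R] n = (0 : C ⊗[R] N) ↔ ∑ _i : Fin 1, (1 : C) ⊗ₜ[R] n = (0 : C ⊗[R] N)
  simp

variable {C' : Type*} [CommRing C']

/-- Transport of a vanishing sum of pure tensors along a ring hom compatible with base maps. -/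
theorem SumZero.transport {ρ₁ : R →+* C} {ρ₂ : R →+* C'} (e : C →+* C')
    (he : ∀ r, e (ρ₁ r) = ρ₂ r) {ι : Type*} [Fintype ι] {c : ι → C} {n : ι → N}
    (h : SumZero ρ₁ c n) : SumZero ρ₂ (fun i => e (c i)) n := by
  letI a1 := ρ₁.toAlgebra
  letI a2 := ρ₂.toAlgebra
  let e' : C →ₗ[R] C' :=
    { toFun := e
      map_add' := map_add e
      map_smul' := fun r x => by
        show e (r • x) = r • e x
        rw [Algebra.smul_def, Algebra.smul_def, map_mul]
        congr 1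
        exact he r }
  have h0 : ∑ i, c i ⊗ₜ[R] n i = (0 : C ⊗[R] N) := h
  have h1 := congrArg (LinearMap.rTensor N e') h0
  show ∑ i, e (c i) ⊗ₜ[R] n i = (0 : C' ⊗[R] N)
  simpa [map_sum, e'] using h1

theorem OneZero.transport {ρ₁ : R →+* C} {ρ₂ : R →+* C'} (e : C →+* C')
    (he : ∀ r, e (ρ₁ r) = ρ₂ r) {n : N} (h : OneZero ρ₁ n) : OneZero ρ₂ n := by
  rw [oneZero_iff_sumZero] at h ⊢
  have := h.transport e he
  simpa using this

end Defs

section Abs

variable {R B N : Type*} [CommRing R] [CommRing B] [Algebra R B] [AddCommGroup N] [Module R N]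
variable {J : Type*} (C : J → Type*) [∀ j, CommRing (C j)] (σ : ∀ j, R →+* C j)
  (g : ∀ j, C j →+* B)

/-- `j'` refines `j`: there is a ring map `C j → C j'` compatible with the maps from `R`
and to `B`. -/
def Refines (j j' : J) : Prop :=
  ∃ τ : C j →+* C j', (∀ r, τ (σ j r) = σ j' r) ∧ ∀ x, g j' (τ x) = g j x

variable (hg : ∀ j r, g j (σ j r) = algebraMap R B r)
  (hdir : ∀ j₁ j₂, ∃ j, Refines C σ g j₁ j ∧ Refines C σ g j₂ j)
  (H1 : ∀ b : B, ∃ j, ∃ c : C j, g j c = b)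
  (H2 : ∀ j (c : C j), g j c = 0 → ∃ (j' : J) (τ : C j →+* C j'),
    (∀ r, τ (σ j r) = σ j' r) ∧ (∀ x, g j' (τ x) = g j x) ∧ τ c = 0)

include hdir H1 in
theorem exists_lifts (j₀ : J) {k : ℕ} (q : Fin k → B) :
    ∃ (j₁ : J) (τ₁ : C j₀ →+* C j₁), (∀ r, τ₁ (σ j₀ r) = σ j₁ r) ∧ (∀ x, g j₁ (τ₁ x) = g j₀ x) ∧
      ∃ d : Fin k → C j₁, ∀ a, g j₁ (d a) = q a := by
  induction k with
  | zero => exact ⟨j₀, RingHom.id _, fun _ => rfl, fun _ => rfl, Fin.elim0, fun a => a.elim0⟩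
  | succ k ih =>
    obtain ⟨j₁, τ₁, a₁, b₁, d, hd⟩ := ih (fun a => q a.castSucc)
    obtain ⟨j', c', hc'⟩ := H1 (q (Fin.last k))
    obtain ⟨j₂, ⟨τ, a, b⟩, ⟨τ', a', b'⟩⟩ := hdir j₁ j'
    refine ⟨j₂, τ.comp τ₁, ?_, ?_,
      fun i => if h : i.val < k then τ (d ⟨i.val, h⟩) else τ' c', ?_⟩
    · intro r; simp [a₁, a]
    · intro x; simp [b₁, b]
    · intro i
      by_cases h : i.val < k
      · simp only [h, dite_true, b, hd]
        rfl
      · simp only [h, dite_false, b', hc']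
        congr 1
        exact Fin.ext (by have := i.isLt; simp only [Fin.val_last]; omega)

include H2 in
theorem exists_kill (j₁ : J) {k : ℕ} (r : Fin k → C j₁) (hr : ∀ a, g j₁ (r a) = 0) :
    ∃ (j₂ : J) (τ₂ : C j₁ →+* C j₂), (∀ x, τ₂ (σ j₁ x) = σ j₂ x) ∧ (∀ x, g j₂ (τ₂ x) = g j₁ x) ∧
      ∀ a, τ₂ (r a) = 0 := by
  induction k with
  | zero => exact ⟨j₁, RingHom.id _, fun _ => rfl, fun _ => rfl, fun a => a.elim0⟩
  | succ k ih =>
    obtain ⟨j₂, τ₂, a₂, b₂, h₂⟩ := ih (fun a => r a.castSucc) (fun a => hr _)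
    obtain ⟨j₃, τ₃, a₃, b₃, h₃⟩ := H2 j₂ (τ₂ (r (Fin.last k))) (by rw [b₂]; exact hr _)
    refine ⟨j₃, τ₃.comp τ₂, fun x => by simp [a₂, a₃], fun x => by simp [b₂, b₃], fun a => ?_⟩
    refine Fin.lastCases ?_ (fun i => ?_) a
    · simpa using h₃
    · have := h₂ i
      simp only [RingHom.comp_apply]
      rw [this, map_zero]

include hg hdir H1 H2 in
/-- **Vanishing at a finite stage.** -/
theorem exists_stage_sumZero (j₀ : J) {l : ℕ} (c : Fin l → C j₀) (n : Fin l → N)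
    (h : ∑ i, g j₀ (c i) ⊗ₜ[R] n i = (0 : B ⊗[R] N)) :
    ∃ (j : J) (τ : C j₀ →+* C j), (∀ r, τ (σ j₀ r) = σ j r) ∧ (∀ x, g j (τ x) = g j₀ x) ∧
      SumZero (σ j) (fun i => τ (c i)) n := by
  classical
  let m₀ : Fin l → B := fun i => g j₀ (c i)
  let P : Submodule R B := Submodule.span R (Set.range m₀)
  have hP : P.FG := Submodule.fg_span (Set.finite_range m₀)
  let t : P ⊗[R] N := ∑ i, (⟨m₀ i, Submodule.subset_span ⟨i, rfl⟩⟩ : P) ⊗ₜ[R] n i
  have ht : LinearMap.rTensor N P.subtype t = 0 := by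
    simp only [t, map_sum, LinearMap.rTensor_tmul, Submodule.subtype_apply]
    exact h
  obtain ⟨Q, hPQ, hQ, hQt⟩ := TensorProduct.eq_zero_of_fg_of_subtype_eq_zero hP ht
  obtain ⟨k, q, hq⟩ := Submodule.fg_iff_exists_fin_generating_family.mp hQ
  have hqQ : ∀ a, q a ∈ Q := fun a => hq ▸ Submodule.subset_span ⟨a, rfl⟩
  have hm₀Q : ∀ i, m₀ i ∈ Q := fun i => hPQ (Submodule.subset_span ⟨i, rfl⟩)
  let m : Fin l ⊕ Fin k → Q := Sum.elim (fun i => ⟨m₀ i, hm₀Q i⟩) (fun a => ⟨q a, hqQ a⟩)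
  let n' : Fin l ⊕ Fin k → N := Sum.elim n (fun _ => 0)
  have hspan : Submodule.span R (Set.range m) = ⊤ := by
    apply Submodule.map_injective_of_injective Q.injective_subtype
    rw [Submodule.map_span, Submodule.map_subtype_top, ← Set.range_comp]
    apply le_antisymm
    · rw [Submodule.span_le]
      rintro _ ⟨x, rfl⟩
      exact (m x).2
    · intro x hx
      refine Submodule.span_mono ?_ (hq.ge hx)
      rintro _ ⟨a, rfl⟩
      exact ⟨Sum.inr a, rfl⟩
  have hsum : ∑ x, m x ⊗ₜ[R] n' x = (0 : Q ⊗[R] N) := by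
    rw [Fintype.sum_sum_type]
    simp only [m, n', Sum.elim_inl, Sum.elim_inr, tmul_zero, Finset.sum_const_zero, add_zero]
    have : LinearMap.rTensor N (Submodule.inclusion hPQ) t =
        ∑ i, (⟨m₀ i, hm₀Q i⟩ : Q) ⊗ₜ[R] n i := by
      simp only [t, map_sum, LinearMap.rTensor_tmul]
      rfl
    rw [← this]
    exact hQt
  obtain ⟨κ, a, y, hy, ha⟩ := TensorProduct.vanishesTrivially_of_sum_tmul_eq_zero R hspan hsum
  obtain ⟨j₁, τ₁, a₁, b₁, d, hd⟩ := exists_lifts C σ g hdir H1 j₀ q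
  let e : Fin l ⊕ Fin k → C j₁ := Sum.elim (fun i => τ₁ (c i)) d
  have he : ∀ x, g j₁ (e x) = (m x : B) := by
    rintro (i | a)
    · simp [e, m, b₁, m₀]
    · simp [e, m, hd]
  let r : Fin κ → C j₁ := fun z => ∑ x, σ j₁ (a x z) * e x
  have hr : ∀ z, g j₁ (r z) = 0 := by
    intro z
    simp only [r, map_sum, map_mul, hg, he]
    have := congrArg (Submodule.subtype Q) (ha z)
    simpa [map_sum, Algebra.smul_def] using this
  obtain ⟨j₂, τ₂, a₂, b₂, h₂⟩ := exists_kill C σ g H2 j₁ r hr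
  refine ⟨j₂, τ₂.comp τ₁, fun x => by simp [a₁, a₂], fun x => by simp [b₁, b₂], ?_⟩
  letI := (σ j₂).toAlgebra
  have hvt : TensorProduct.VanishesTrivially R (fun x => τ₂ (e x)) n' := by
    refine ⟨κ, a, y, hy, fun z => ?_⟩
    have : ∑ x, a x z • τ₂ (e x) = τ₂ (r z) := by
      simp only [r, map_sum, map_mul, a₂, Algebra.smul_def, RingHom.algebraMap_toAlgebra]
    rw [this, h₂]
  have hfin := TensorProduct.sum_tmul_eq_zero_of_vanishesTrivially R hvt
  rw [Fintype.sum_sum_type] at hfin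
  show ∑ i, (τ₂.comp τ₁) (c i) ⊗ₜ[R] n i = (0 : C j₂ ⊗[R] N)
  simpa [e, n'] using hfin

end Abs

end Groth.Agent.H24.TensorStage
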