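import Mathlib
import Groth.Agent.H24.TensorStage
import Groth.Agent.H24.LimGamma

/-!
# The approximating system of section rings over an affine open of a stage (helper24)

For a cofiltered limit `c.pt = lim D` with affine transition maps, an index `i₀` and an affine open
`U ⊆ D.obj i₀`, the rings `Γ(D_j, U_j)` (`j : Over i₀`, `U_j` the preimage of `U`) form an
approximating system of `Γ(c.pt, U_∞)` in the sense of `TensorStage`.
-/

set_option autoImplicit false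

open CategoryTheory AlgebraicGeometry Limits TopologicalSpace TensorProduct

universe u

namespace Groth.Agent.H24.ModStage

open TensorStage

variable {I : Type u} [SmallCategory I] [IsCofiltered I] (D : I ⥤ Scheme.{u}) (c : Cone D)
  (i₀ : I) (U : (D.obj i₀).Opens)

/-- The ring of sections over the preimage of `U` at stage `j`. -/
abbrev CS (j : Over i₀) : Type u := Γ(D.obj j.left, D.map j.hom ⁻¹ᵁ U)

/-- The ring of sections over the preimage of `U` in the limit. -/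
abbrev BL : Type u := Γ(c.pt, c.π.app i₀ ⁻¹ᵁ U)

/-- Structure map of the stage ring (the one used by `exists_sectionsPullbackEquiv`). -/
noncomputable def σS (j : Over i₀) : Γ(D.obj i₀, U) →+* CS D i₀ U j :=
  ((D.map j.hom).appLE U (D.map j.hom ⁻¹ᵁ U) le_rfl).hom

/-- Structure map of the limit ring. -/
noncomputable def σL : Γ(D.obj i₀, U) →+* BL D c i₀ U :=
  ((c.π.app i₀).appLE U (c.π.app i₀ ⁻¹ᵁ U) le_rfl).hom

/-- `Γ(U_j, ⊤) ≃ Γ(D_j, U_j)`. -/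
noncomputable def eS (j : Over i₀) : Γ((opensDiagram D i₀ U).obj j, ⊤) ≃+* CS D i₀ U j :=
  (D.map j.hom ⁻¹ᵁ U).topIso.commRingCatIsoToRingEquiv

/-- `Γ(U_∞, ⊤) ≃ Γ(c.pt, U_∞)`. -/
noncomputable def eL : Γ((opensCone D c i₀ U).pt, ⊤) ≃+* BL D c i₀ U :=
  (c.π.app i₀ ⁻¹ᵁ U).topIso.commRingCatIsoToRingEquiv

/-- The map from the stage ring to the limit ring. -/
noncomputable def gS (j : Over i₀) : CS D i₀ U j →+* BL D c i₀ U :=
  ((eL D c i₀ U).toRingHom.comp (θΓ (opensDiagram D i₀ U) (opensCone D c i₀ U) j)).comp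
    (eS D i₀ U j).symm.toRingHom

/-- The transition map of stage rings. -/
noncomputable def τS {j j' : Over i₀} (a : j' ⟶ j) : CS D i₀ U j →+* CS D i₀ U j' :=
  ((eS D i₀ U j').toRingHom.comp ((opensDiagram D i₀ U).map a).appTop.hom).comp
    (eS D i₀ U j).symm.toRingHom

omit [IsCofiltered I] in
theorem θΓ_eS_symm_σS (j : Over i₀) (r : Γ(D.obj i₀, U)) :
    θΓ (opensDiagram D i₀ U) (opensCone D c i₀ U) j ((eS D i₀ U j).symm (σS D i₀ U j r)) =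
      (eL D c i₀ U).symm (σL D c i₀ U r) := by
  have key : (D.map j.hom).appLE U (D.map j.hom ⁻¹ᵁ U) le_rfl ≫
      (D.map j.hom ⁻¹ᵁ U).topIso.inv ≫ ((opensCone D c i₀ U).π.app j).appTop =
      (c.π.app i₀).appLE U (c.π.app i₀ ⁻¹ᵁ U) le_rfl ≫ (c.π.app i₀ ⁻¹ᵁ U).topIso.inv := by
    have hle : c.π.app i₀ ⁻¹ᵁ U ≤ c.π.app j.left ⁻¹ᵁ (D.map j.hom ⁻¹ᵁ U) := by
      rw [← Scheme.Hom.comp_preimage, c.w]
    have e1 : ((opensCone D c i₀ U).π.app j).appTop =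
        (D.map j.hom ⁻¹ᵁ U).topIso.hom ≫
          (c.π.app j.left).appLE (D.map j.hom ⁻¹ᵁ U) (c.π.app i₀ ⁻¹ᵁ U) hle ≫
            (c.π.app i₀ ⁻¹ᵁ U).topIso.inv :=
      Scheme.Hom.resLE_app_top _ _
    have e1' : (D.map j.hom ⁻¹ᵁ U).topIso.inv ≫ ((opensCone D c i₀ U).π.app j).appTop =
        (c.π.app j.left).appLE (D.map j.hom ⁻¹ᵁ U) (c.π.app i₀ ⁻¹ᵁ U) hle ≫
          (c.π.app i₀ ⁻¹ᵁ U).topIso.inv := by
      rw [e1]; exact Iso.inv_hom_id_assoc _ _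
    refine (congrArg (fun t => (D.map j.hom).appLE U (D.map j.hom ⁻¹ᵁ U) le_rfl ≫ t) e1').trans ?_
    show (D.map j.hom).appLE U (D.map j.hom ⁻¹ᵁ U) le_rfl ≫
      (c.π.app j.left).appLE (D.map j.hom ⁻¹ᵁ U) (c.π.app i₀ ⁻¹ᵁ U) hle ≫
        (c.π.app i₀ ⁻¹ᵁ U).topIso.inv = _
    rw [Scheme.Hom.appLE_comp_appLE_assoc]
    simp only [Cone.w]
  exact ConcreteCategory.congr_hom key r

omit [IsCofiltered I] in
theorem map_eS_symm_σS {j j' : Over i₀} (a : j' ⟶ j) (r : Γ(D.obj i₀, U)) :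
    ((opensDiagram D i₀ U).map a).appTop ((eS D i₀ U j).symm (σS D i₀ U j r)) =
      (eS D i₀ U j').symm (σS D i₀ U j' r) := by
  have key : (D.map j.hom).appLE U (D.map j.hom ⁻¹ᵁ U) le_rfl ≫
      (D.map j.hom ⁻¹ᵁ U).topIso.inv ≫ ((opensDiagram D i₀ U).map a).appTop =
      (D.map j'.hom).appLE U (D.map j'.hom ⁻¹ᵁ U) le_rfl ≫ (D.map j'.hom ⁻¹ᵁ U).topIso.inv := by
    have hle : D.map j'.hom ⁻¹ᵁ U ≤ D.map a.left ⁻¹ᵁ (D.map j.hom ⁻¹ᵁ U) := by
      rw [← Scheme.Hom.comp_preimage, ← D.map_comp, Over.w]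
    have e1 : ((opensDiagram D i₀ U).map a).appTop =
        (D.map j.hom ⁻¹ᵁ U).topIso.hom ≫
          (D.map a.left).appLE (D.map j.hom ⁻¹ᵁ U) (D.map j'.hom ⁻¹ᵁ U) hle ≫
            (D.map j'.hom ⁻¹ᵁ U).topIso.inv :=
      Scheme.Hom.resLE_app_top _ _
    have e1' : (D.map j.hom ⁻¹ᵁ U).topIso.inv ≫ ((opensDiagram D i₀ U).map a).appTop =
        (D.map a.left).appLE (D.map j.hom ⁻¹ᵁ U) (D.map j'.hom ⁻¹ᵁ U) hle ≫
          (D.map j'.hom ⁻¹ᵁ U).topIso.inv := by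
      rw [e1]; exact Iso.inv_hom_id_assoc _ _
    refine (congrArg (fun t => (D.map j.hom).appLE U (D.map j.hom ⁻¹ᵁ U) le_rfl ≫ t) e1').trans ?_
    show (D.map j.hom).appLE U (D.map j.hom ⁻¹ᵁ U) le_rfl ≫
      (D.map a.left).appLE (D.map j.hom ⁻¹ᵁ U) (D.map j'.hom ⁻¹ᵁ U) hle ≫
        (D.map j'.hom ⁻¹ᵁ U).topIso.inv = _
    rw [Scheme.Hom.appLE_comp_appLE_assoc]
    simp only [← Functor.map_comp, Over.w]
  exact ConcreteCategory.congr_hom key r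

omit [IsCofiltered I] in
theorem gS_σS (j : Over i₀) (r : Γ(D.obj i₀, U)) :
    gS D c i₀ U j (σS D i₀ U j r) = σL D c i₀ U r := by
  show (eL D c i₀ U) (θΓ _ _ j ((eS D i₀ U j).symm (σS D i₀ U j r))) = _
  rw [θΓ_eS_symm_σS, RingEquiv.apply_symm_apply]

omit [IsCofiltered I] in
theorem τS_σS {j j' : Over i₀} (a : j' ⟶ j) (r : Γ(D.obj i₀, U)) :
    τS D i₀ U a (σS D i₀ U j r) = σS D i₀ U j' r := by
  show (eS D i₀ U j') (((opensDiagram D i₀ U).map a).appTop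
    ((eS D i₀ U j).symm (σS D i₀ U j r))) = _
  rw [map_eS_symm_σS, RingEquiv.apply_symm_apply]

omit [IsCofiltered I] in
theorem gS_τS {j j' : Over i₀} (a : j' ⟶ j) (x : CS D i₀ U j) :
    gS D c i₀ U j' (τS D i₀ U a x) = gS D c i₀ U j x := by
  show (eL D c i₀ U) (θΓ _ _ j' ((eS D i₀ U j').symm ((eS D i₀ U j')
    (((opensDiagram D i₀ U).map a).appTop ((eS D i₀ U j).symm x))))) =
    (eL D c i₀ U) (θΓ _ _ j ((eS D i₀ U j).symm x))
  rw [RingEquiv.symm_apply_apply, θΓ_map]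

theorem refines_of_hom {j j' : Over i₀} (a : j' ⟶ j) :
    Refines (CS D i₀ U) (σS D i₀ U) (gS D c i₀ U) j j' :=
  ⟨τS D i₀ U a, τS_σS D i₀ U a, gS_τS D c i₀ U a⟩

theorem hdirS (j₁ j₂ : Over i₀) : ∃ j, Refines (CS D i₀ U) (σS D i₀ U) (gS D c i₀ U) j₁ j ∧
    Refines (CS D i₀ U) (σS D i₀ U) (gS D c i₀ U) j₂ j :=
  ⟨IsCofiltered.min j₁ j₂, refines_of_hom D c i₀ U (IsCofiltered.minToLeft j₁ j₂),
    refines_of_hom D c i₀ U (IsCofiltered.minToRight j₁ j₂)⟩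

variable (hc : IsLimit c) [∀ (i j : I) (f : i ⟶ j), IsAffineHom (D.map f)]

include hc in
theorem H1S (hU : IsAffineOpen U) (b : BL D c i₀ U) :
    ∃ j, ∃ x : CS D i₀ U j, gS D c i₀ U j x = b := by
  have hcU : IsLimit (opensCone D c i₀ U) := isLimitOpensCone D c hc i₀ U
  haveI : ∀ j, IsAffine ((opensDiagram D i₀ U).obj j) := fun j => hU.preimage (D.map j.hom)
  obtain ⟨j, t, ht⟩ := θΓ_surj (opensDiagram D i₀ U) (opensCone D c i₀ U) hcU
    ((eL D c i₀ U).symm b)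
  refine ⟨j, eS D i₀ U j t, ?_⟩
  show (eL D c i₀ U) (θΓ _ _ j ((eS D i₀ U j).symm (eS D i₀ U j t))) = b
  rw [RingEquiv.symm_apply_apply, ht, RingEquiv.apply_symm_apply]

include hc in
theorem H2S (hU : IsAffineOpen U) (j : Over i₀) (x : CS D i₀ U j) (hx : gS D c i₀ U j x = 0) :
    ∃ (j' : Over i₀) (τ : CS D i₀ U j →+* CS D i₀ U j'),
      (∀ r, τ (σS D i₀ U j r) = σS D i₀ U j' r) ∧
      (∀ y, gS D c i₀ U j' (τ y) = gS D c i₀ U j y) ∧ τ x = 0 := by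
  have hcU : IsLimit (opensCone D c i₀ U) := isLimitOpensCone D c hc i₀ U
  haveI : ∀ j, IsAffine ((opensDiagram D i₀ U).obj j) := fun j => hU.preimage (D.map j.hom)
  have h0 : θΓ (opensDiagram D i₀ U) (opensCone D c i₀ U) j ((eS D i₀ U j).symm x) = 0 := by
    have : (eL D c i₀ U) (θΓ _ _ j ((eS D i₀ U j).symm x)) = 0 := hx
    simpa using this
  obtain ⟨k, f, hk⟩ := θΓ_eq_zero (opensDiagram D i₀ U) (opensCone D c i₀ U) hcU j _ h0
  refine ⟨k, τS D i₀ U f, τS_σS D i₀ U f, gS_τS D c i₀ U f, ?_⟩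
  show (eS D i₀ U k) (((opensDiagram D i₀ U).map f).appTop ((eS D i₀ U j).symm x)) = 0
  rw [hk, map_zero]

include hc in
/-- **Vanishing of a sum of pure tensors at a finite stage.** -/
theorem exists_stage_sumZero (hU : IsAffineOpen U) {N : Type u} [AddCommGroup N]
    [Module Γ(D.obj i₀, U) N] (j₀ : Over i₀) {l : ℕ} (x : Fin l → CS D i₀ U j₀) (n : Fin l → N)
    (h : SumZero (σL D c i₀ U) (fun i => gS D c i₀ U j₀ (x i)) n) :
    ∃ (j : Over i₀) (τ : CS D i₀ U j₀ →+* CS D i₀ U j),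
      (∀ r, τ (σS D i₀ U j₀ r) = σS D i₀ U j r) ∧
      (∀ y, gS D c i₀ U j (τ y) = gS D c i₀ U j₀ y) ∧
      SumZero (σS D i₀ U j) (fun i => τ (x i)) n := by
  letI : Algebra Γ(D.obj i₀, U) (BL D c i₀ U) := (σL D c i₀ U).toAlgebra
  exact TensorStage.exists_stage_sumZero (CS D i₀ U) (σS D i₀ U) (gS D c i₀ U)
    (gS_σS D c i₀ U) (hdirS D c i₀ U) (H1S D c i₀ U hc hU) (H2S D c i₀ U hc hU) j₀ x n h

include hc in
/-- **Vanishing of `1 ⊗ n` at a finite stage.** -/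
theorem exists_stage_oneZero (hU : IsAffineOpen U) {N : Type u} [AddCommGroup N]
    [Module Γ(D.obj i₀, U) N] (n : N) (h : OneZero (σL D c i₀ U) n) :
    ∃ j : Over i₀, OneZero (σS D i₀ U j) n := by
  rw [oneZero_iff_sumZero] at h
  obtain ⟨j, τ, -, -, hj⟩ := exists_stage_sumZero D c i₀ U hc hU (Over.mk (𝟙 i₀))
    (fun _ : Fin 1 => 1) (fun _ => n) (by simpa using h)
  refine ⟨j, ?_⟩
  rw [oneZero_iff_sumZero]
  simpa using hj

/-- monotonicity of `OneZero` along the stages. -/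
theorem oneZero_of_hom {N : Type u} [AddCommGroup N] [Module Γ(D.obj i₀, U) N] (n : N)
    {j j' : Over i₀} (a : j' ⟶ j) (h : OneZero (σS D i₀ U j) n) : OneZero (σS D i₀ U j') n :=
  h.transport (τS D i₀ U a) (τS_σS D i₀ U a)

end Groth.Agent.H24.ModStage
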