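import Mathlib
import Groth.Agent.H24.TensorStage

/-!
# Vanishing of tensors at a finite stage, tracked version (helper24)

Same as `TensorStage`, but the refinement maps are required to belong to a given class `T` of ring
maps closed under identities and composition, and the conclusion produces a map in `T`.
-/

set_option autoImplicit false

open TensorProduct

namespace Groth.Agent.H24.TensorStage2

open TensorStage

section Abs

variable {R B N : Type*} [CommRing R] [CommRing B] [Algebra R B] [AddCommGroup N] [Module R N]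
variable {J : Type*} (C : J → Type*) [∀ j, CommRing (C j)] (σ : ∀ j, R →+* C j)
  (g : ∀ j, C j →+* B) (T : ∀ j j' : J, (C j →+* C j') → Prop)

variable (hTσ : ∀ j j' τ, T j j' τ → ∀ r, τ (σ j r) = σ j' r)
  (hTg : ∀ j j' τ, T j j' τ → ∀ x, g j' (τ x) = g j x)
  (hTid : ∀ j, T j j (RingHom.id _))
  (hTcomp : ∀ j j' j'' τ τ', T j j' τ → T j' j'' τ' → T j j'' (τ'.comp τ))
  (hg : ∀ j r, g j (σ j r) = algebraMap R B r)
  (hdir : ∀ j₁ j₂, ∃ j τ₁ τ₂, T j₁ j τ₁ ∧ T j₂ j τ₂)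
  (H1 : ∀ b : B, ∃ j, ∃ c : C j, g j c = b)
  (H2 : ∀ j (c : C j), g j c = 0 → ∃ j' τ, T j j' τ ∧ τ c = 0)

include hTg hTid hTcomp hdir H1 in
theorem exists_lifts (j₀ : J) {k : ℕ} (q : Fin k → B) :
    ∃ (j₁ : J) (τ₁ : C j₀ →+* C j₁), T j₀ j₁ τ₁ ∧ ∃ d : Fin k → C j₁, ∀ a, g j₁ (d a) = q a := by
  induction k with
  | zero => exact ⟨j₀, RingHom.id _, hTid j₀, Fin.elim0, fun a => a.elim0⟩
  | succ k ih =>
    obtain ⟨j₁, τ₁, h₁, d, hd⟩ := ih (fun a => q a.castSucc)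
    obtain ⟨j', c', hc'⟩ := H1 (q (Fin.last k))
    obtain ⟨j₂, τ, τ', hτ, hτ'⟩ := hdir j₁ j'
    have b := hTg _ _ _ hτ
    have b' := hTg _ _ _ hτ'
    refine ⟨j₂, τ.comp τ₁, hTcomp _ _ _ _ _ h₁ hτ,
      fun i => if h : i.val < k then τ (d ⟨i.val, h⟩) else τ' c', ?_⟩
    intro i
    by_cases h : i.val < k
    · simp only [h, dite_true, b, hd]
      rfl
    · simp only [h, dite_false, b', hc']
      congr 1
      exact Fin.ext (by have := i.isLt; simp only [Fin.val_last]; omega)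

include hTg hTid hTcomp H2 in
theorem exists_kill (j₁ : J) {k : ℕ} (r : Fin k → C j₁) (hr : ∀ a, g j₁ (r a) = 0) :
    ∃ (j₂ : J) (τ₂ : C j₁ →+* C j₂), T j₁ j₂ τ₂ ∧ ∀ a, τ₂ (r a) = 0 := by
  induction k with
  | zero => exact ⟨j₁, RingHom.id _, hTid j₁, fun a => a.elim0⟩
  | succ k ih =>
    obtain ⟨j₂, τ₂, h₂, hk₂⟩ := ih (fun a => r a.castSucc) (fun a => hr _)
    have b₂ := hTg _ _ _ h₂
    obtain ⟨j₃, τ₃, h₃, hk₃⟩ := H2 j₂ (τ₂ (r (Fin.last k))) (by rw [b₂]; exact hr _)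
    refine ⟨j₃, τ₃.comp τ₂, hTcomp _ _ _ _ _ h₂ h₃, fun a => ?_⟩
    refine Fin.lastCases ?_ (fun i => ?_) a
    · simpa using hk₃
    · have := hk₂ i
      simp only [RingHom.comp_apply]
      rw [this, map_zero]

include hTσ hTg hTid hTcomp hg hdir H1 H2 in
/-- **Vanishing at a finite stage, with a tracked refinement map.** -/
theorem exists_stage_sumZero (j₀ : J) {l : ℕ} (c : Fin l → C j₀) (n : Fin l → N)
    (h : ∑ i, g j₀ (c i) ⊗ₜ[R] n i = (0 : B ⊗[R] N)) :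
    ∃ (j : J) (τ : C j₀ →+* C j), T j₀ j τ ∧ SumZero (σ j) (fun i => τ (c i)) n := by
  classical
  let m₀ : Fin l → B := fun i => g j₀ (c i)
  let P : Submodule R B := Submodule.span R (Set.range m₀)
  have hP : P.FG := Submodule.fg_span (Set.finite_range m₀)
  let t : P ⊗[R] N := ∑ i, (⟨m₀ i, Submodule.subset_span ⟨i, rfl⟩⟩ : P) ⊗ₜ[R] n i
  have ht : LinearMap.rTensor N P.subtype t = 0 := by
    simp only [t, map_sum, LinearMap.rTensor_tmul, Submodule.subtype_apply]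
    exact h
  obtain ⟨Q, hPQ, hQ, hQt⟩ := TensorProduct.eq_zero_of_fg_of_subtype_eq_zero hP ht
  obtain ⟨k, q, hq⟩ := Submodule.fg_iff_exists_fin_generating_family.mp hQ
  have hqQ : ∀ a, q a ∈ Q := fun a => hq ▸ Submodule.subset_span ⟨a, rfl⟩
  have hm₀Q : ∀ i, m₀ i ∈ Q := fun i => hPQ (Submodule.subset_span ⟨i, rfl⟩)
  let m : Fin l ⊕ Fin k → Q := Sum.elim (fun i => ⟨m₀ i, hm₀Q i⟩) (fun a => ⟨q a, hqQ a⟩)
  let n' : Fin l ⊕ Fin k → N := Sum.elim n (fun _ => 0)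
  have hspan : Submodule.span R (Set.range m) = ⊤ := by
    apply Submodule.map_injective_of_injective Q.injective_subtype
    rw [Submodule.map_span, Submodule.map_subtype_top, ← Set.range_comp]
    apply le_antisymm
    · rw [Submodule.span_le]
      rintro _ ⟨x, rfl⟩
      exact (m x).2
    · intro x hx
      refine Submodule.span_mono ?_ (hq.ge hx)
      rintro _ ⟨a, rfl⟩
      exact ⟨Sum.inr a, rfl⟩
  have hsum : ∑ x, m x ⊗ₜ[R] n' x = (0 : Q ⊗[R] N) := by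
    rw [Fintype.sum_sum_type]
    simp only [m, n', Sum.elim_inl, Sum.elim_inr, tmul_zero, Finset.sum_const_zero, add_zero]
    have : LinearMap.rTensor N (Submodule.inclusion hPQ) t =
        ∑ i, (⟨m₀ i, hm₀Q i⟩ : Q) ⊗ₜ[R] n i := by
      simp only [t, map_sum, LinearMap.rTensor_tmul]
      rfl
    rw [← this]
    exact hQt
  obtain ⟨κ, a, y, hy, ha⟩ := TensorProduct.vanishesTrivially_of_sum_tmul_eq_zero R hspan hsum
  obtain ⟨j₁, τ₁, t₁, d, hd⟩ := exists_lifts C g T hTg hTid hTcomp hdir H1 j₀ q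
  have b₁ := hTg _ _ _ t₁
  let e : Fin l ⊕ Fin k → C j₁ := Sum.elim (fun i => τ₁ (c i)) d
  have he : ∀ x, g j₁ (e x) = (m x : B) := by
    rintro (i | a)
    · simp [e, m, b₁, m₀]
    · simp [e, m, hd]
  let r : Fin κ → C j₁ := fun z => ∑ x, σ j₁ (a x z) * e x
  have hr : ∀ z, g j₁ (r z) = 0 := by
    intro z
    simp only [r, map_sum, map_mul, hg, he]
    have := congrArg (Submodule.subtype Q) (ha z)
    simpa [map_sum, Algebra.smul_def] using this
  obtain ⟨j₂, τ₂, t₂, h₂⟩ := exists_kill C g T hTg hTid hTcomp H2 j₁ r hr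
  have a₂ := hTσ _ _ _ t₂
  refine ⟨j₂, τ₂.comp τ₁, hTcomp _ _ _ _ _ t₁ t₂, ?_⟩
  letI := (σ j₂).toAlgebra
  have hvt : TensorProduct.VanishesTrivially R (fun x => τ₂ (e x)) n' := by
    refine ⟨κ, a, y, hy, fun z => ?_⟩
    have : ∑ x, a x z • τ₂ (e x) = τ₂ (r z) := by
      simp only [r, map_sum, map_mul, a₂, Algebra.smul_def, RingHom.algebraMap_toAlgebra]
    rw [this, h₂]
  have hfin := TensorProduct.sum_tmul_eq_zero_of_vanishesTrivially R hvt
  rw [Fintype.sum_sum_type] at hfin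
  show ∑ i, (τ₂.comp τ₁) (c i) ⊗ₜ[R] n i = (0 : C j₂ ⊗[R] N)
  simpa [e, n'] using hfin

end Abs

end Groth.Agent.H24.TensorStage2
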