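import Mathlib
import Groth.Agent.H24.ModStage
import Groth.Agent.H24.TensorStage2

/-!
# The approximating system of section rings: identification with `appLE`, tracked vanishing
(helper24)
-/

set_option autoImplicit false

open CategoryTheory AlgebraicGeometry Limits TopologicalSpace TensorProduct

universe u

namespace Groth.Agent.H24.ModStage

open TensorStage

variable {I : Type u} [SmallCategory I] [IsCofiltered I] (D : I ⥤ Scheme.{u}) (c : Cone D)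
  (i₀ : I) (U : (D.obj i₀).Opens)

omit [IsCofiltered I] in
theorem preimage_le_L (j : Over i₀) :
    c.π.app i₀ ⁻¹ᵁ U ≤ c.π.app j.left ⁻¹ᵁ (D.map j.hom ⁻¹ᵁ U) := by
  rw [← Scheme.Hom.comp_preimage, c.w]

omit [IsCofiltered I] in
theorem preimage_le_S {j j' : Over i₀} (a : j' ⟶ j) :
    D.map j'.hom ⁻¹ᵁ U ≤ D.map a.left ⁻¹ᵁ (D.map j.hom ⁻¹ᵁ U) := by
  rw [← Scheme.Hom.comp_preimage, ← D.map_comp, Over.w]

omit [IsCofiltered I] in
/-- `gS` is the map induced on sections by the projection. -/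
theorem gS_eq_appLE (j : Over i₀) (x : CS D i₀ U j) :
    gS D c i₀ U j x = (c.π.app j.left).appLE (D.map j.hom ⁻¹ᵁ U) (c.π.app i₀ ⁻¹ᵁ U)
      (preimage_le_L D c i₀ U j) x := by
  have e1 : ((opensCone D c i₀ U).π.app j).appTop =
      (D.map j.hom ⁻¹ᵁ U).topIso.hom ≫
        (c.π.app j.left).appLE (D.map j.hom ⁻¹ᵁ U) (c.π.app i₀ ⁻¹ᵁ U)
          (preimage_le_L D c i₀ U j) ≫ (c.π.app i₀ ⁻¹ᵁ U).topIso.inv :=
    Scheme.Hom.resLE_app_top _ _
  have h1 := ConcreteCategory.congr_hom e1 ((D.map j.hom ⁻¹ᵁ U).topIso.inv x)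
  show (c.π.app i₀ ⁻¹ᵁ U).topIso.hom (((opensCone D c i₀ U).π.app j).appTop
    ((D.map j.hom ⁻¹ᵁ U).topIso.inv x)) = _
  refine (congrArg (fun t => (c.π.app i₀ ⁻¹ᵁ U).topIso.hom t) h1).trans ?_
  have key' : (D.map j.hom ⁻¹ᵁ U).topIso.inv ≫ ((D.map j.hom ⁻¹ᵁ U).topIso.hom ≫
      (c.π.app j.left).appLE (D.map j.hom ⁻¹ᵁ U) (c.π.app i₀ ⁻¹ᵁ U)
        (preimage_le_L D c i₀ U j) ≫ (c.π.app i₀ ⁻¹ᵁ U).topIso.inv) ≫
      (c.π.app i₀ ⁻¹ᵁ U).topIso.hom =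
      (c.π.app j.left).appLE (D.map j.hom ⁻¹ᵁ U) (c.π.app i₀ ⁻¹ᵁ U)
        (preimage_le_L D c i₀ U j) := by
    rw [Category.assoc, Category.assoc, Iso.inv_hom_id, Category.comp_id, Iso.inv_hom_id_assoc]
  exact ConcreteCategory.congr_hom key' x

omit [IsCofiltered I] in
/-- `τS` is the map induced on sections by the transition morphism. -/
theorem τS_eq_appLE {j j' : Over i₀} (a : j' ⟶ j) (x : CS D i₀ U j) :
    τS D i₀ U a x = (D.map a.left).appLE (D.map j.hom ⁻¹ᵁ U) (D.map j'.hom ⁻¹ᵁ U)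
      (preimage_le_S D i₀ U a) x := by
  have e1 : ((opensDiagram D i₀ U).map a).appTop =
      (D.map j.hom ⁻¹ᵁ U).topIso.hom ≫
        (D.map a.left).appLE (D.map j.hom ⁻¹ᵁ U) (D.map j'.hom ⁻¹ᵁ U)
          (preimage_le_S D i₀ U a) ≫ (D.map j'.hom ⁻¹ᵁ U).topIso.inv :=
    Scheme.Hom.resLE_app_top _ _
  have h1 := ConcreteCategory.congr_hom e1 ((D.map j.hom ⁻¹ᵁ U).topIso.inv x)
  show (D.map j'.hom ⁻¹ᵁ U).topIso.hom (((opensDiagram D i₀ U).map a).appTop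
    ((D.map j.hom ⁻¹ᵁ U).topIso.inv x)) = _
  refine (congrArg (fun t => (D.map j'.hom ⁻¹ᵁ U).topIso.hom t) h1).trans ?_
  have key' : (D.map j.hom ⁻¹ᵁ U).topIso.inv ≫ ((D.map j.hom ⁻¹ᵁ U).topIso.hom ≫
      (D.map a.left).appLE (D.map j.hom ⁻¹ᵁ U) (D.map j'.hom ⁻¹ᵁ U)
        (preimage_le_S D i₀ U a) ≫ (D.map j'.hom ⁻¹ᵁ U).topIso.inv) ≫
      (D.map j'.hom ⁻¹ᵁ U).topIso.hom =
      (D.map a.left).appLE (D.map j.hom ⁻¹ᵁ U) (D.map j'.hom ⁻¹ᵁ U)
        (preimage_le_S D i₀ U a) := by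
    rw [Category.assoc, Category.assoc, Iso.inv_hom_id, Category.comp_id, Iso.inv_hom_id_assoc]
  exact ConcreteCategory.congr_hom key' x

omit [IsCofiltered I] in
theorem τS_id (j : Over i₀) (x : CS D i₀ U j) : τS D i₀ U (𝟙 j) x = x := by
  show (eS D i₀ U j) (((opensDiagram D i₀ U).map (𝟙 j)).appTop ((eS D i₀ U j).symm x)) = x
  rw [CategoryTheory.Functor.map_id, Scheme.Hom.id_appTop]
  exact RingEquiv.apply_symm_apply _ _

omit [IsCofiltered I] in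
theorem τS_comp {j j' j'' : Over i₀} (a : j' ⟶ j) (b : j'' ⟶ j') (x : CS D i₀ U j) :
    τS D i₀ U (b ≫ a) x = τS D i₀ U b (τS D i₀ U a x) := by
  show (eS D i₀ U j'') (((opensDiagram D i₀ U).map (b ≫ a)).appTop ((eS D i₀ U j).symm x)) =
    (eS D i₀ U j'') (((opensDiagram D i₀ U).map b).appTop ((eS D i₀ U j').symm
      ((eS D i₀ U j') (((opensDiagram D i₀ U).map a).appTop ((eS D i₀ U j).symm x)))))
  rw [RingEquiv.symm_apply_apply, CategoryTheory.Functor.map_comp, Scheme.Hom.comp_appTop]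
  rfl

/-- The class of geometric transition maps. -/
def TS (j j' : Over i₀) (τ : CS D i₀ U j →+* CS D i₀ U j') : Prop :=
  ∃ a : j' ⟶ j, ∀ x, τ x = τS D i₀ U a x

variable (hc : IsLimit c) [∀ (i j : I) (f : i ⟶ j), IsAffineHom (D.map f)]

include hc in
/-- **Vanishing of a sum of pure tensors at a finite stage, along a transition morphism.** -/
theorem exists_hom_sumZero (hU : IsAffineOpen U) {N : Type u} [AddCommGroup N]
    [Module Γ(D.obj i₀, U) N] (j₀ : Over i₀) {l : ℕ} (x : Fin l → CS D i₀ U j₀) (n : Fin l → N)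
    (h : SumZero (σL D c i₀ U) (fun i => gS D c i₀ U j₀ (x i)) n) :
    ∃ (j : Over i₀) (a : j ⟶ j₀), SumZero (σS D i₀ U j) (fun i => τS D i₀ U a (x i)) n := by
  letI : Algebra Γ(D.obj i₀, U) (BL D c i₀ U) := (σL D c i₀ U).toAlgebra
  obtain ⟨j, τ, ⟨a, ha⟩, hj⟩ := TensorStage2.exists_stage_sumZero (CS D i₀ U) (σS D i₀ U)
    (gS D c i₀ U) (TS D i₀ U)
    (by
      rintro j j' τ ⟨a, ha⟩ r
      rw [ha, τS_σS])
    (by
      rintro j j' τ ⟨a, ha⟩ y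
      rw [ha, gS_τS])
    (fun j => ⟨𝟙 j, fun y => (τS_id D i₀ U j y).symm⟩)
    (by
      rintro j j' j'' τ τ' ⟨a, ha⟩ ⟨b, hb⟩
      refine ⟨b ≫ a, fun y => ?_⟩
      rw [τS_comp, RingHom.comp_apply, ha, hb])
    (gS_σS D c i₀ U)
    (fun j₁ j₂ => ⟨IsCofiltered.min j₁ j₂, τS D i₀ U (IsCofiltered.minToLeft j₁ j₂),
      τS D i₀ U (IsCofiltered.minToRight j₁ j₂), ⟨_, fun _ => rfl⟩, ⟨_, fun _ => rfl⟩⟩)
    (H1S D c i₀ U hc hU)
    (by
      intro j y hy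
      have hcU : IsLimit (opensCone D c i₀ U) := isLimitOpensCone D c hc i₀ U
      haveI : ∀ j, IsAffine ((opensDiagram D i₀ U).obj j) := fun j => hU.preimage (D.map j.hom)
      have h0 : θΓ (opensDiagram D i₀ U) (opensCone D c i₀ U) j ((eS D i₀ U j).symm y) = 0 := by
        have : (eL D c i₀ U) (θΓ _ _ j ((eS D i₀ U j).symm y)) = 0 := hy
        simpa using this
      obtain ⟨k, f, hk⟩ := θΓ_eq_zero (opensDiagram D i₀ U) (opensCone D c i₀ U) hcU j _ h0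
      refine ⟨k, τS D i₀ U f, ⟨f, fun _ => rfl⟩, ?_⟩
      show (eS D i₀ U k) (((opensDiagram D i₀ U).map f).appTop ((eS D i₀ U j).symm y)) = 0
      rw [hk, map_zero])
    j₀ x n h
  refine ⟨j, a, ?_⟩
  have : (fun i => τ (x i)) = fun i => τS D i₀ U a (x i) := funext fun i => ha (x i)
  rw [← this]
  exact hj

end Groth.Agent.H24.ModStage
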