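import Groth.Agent.H36.IdealMulAffine
import Groth.Agent.H82.HHFinite
import Groth.Agent.H21.EpiPush
import Groth.Agent.S9514
import Groth.Agent.H8.FinType

/-!
# (V2) for helper36's S13536 squad (helper24): a coherent module supported on `V(J)` has no
cohomology above `k` as soon as the modules killed by `J` have none (filtration by powers of `J`)
-/

set_option autoImplicit false
set_option linter.style.haveILetI false
universe u
open CategoryTheory CategoryTheory.Limits AlgebraicGeometry
open Groth.Agent.H36.IdealMul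
open Groth.Agent.H22.SerreH1 (toAbF constZ)
open Groth.Agent.H82.HHA (abMap)

namespace Groth.Agent.H24.CdIso_V2

variable {X : Scheme.{u}}

/-- middle term of a short exact sequence has no cohomology if the outer ones have none -/
theorem subsingleton_HH_of_ses (S : ShortComplex X.Modules) (hS : S.ShortExact) (i : ℕ)
    (h1 : Subsingleton (Coh.HH X S.X₁ i)) (h3 : Subsingleton (Coh.HH X S.X₃ i)) :
    Subsingleton (Coh.HH X S.X₂ i) := by
  have key : ∀ x : Coh.HH X S.X₂ i, x = 0 := by
    intro x
    obtain ⟨x₁, hx₁⟩ := Abelian.Ext.covariant_sequence_exact₂ (constZ X)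
      (hS.map_of_exact (toAbF X)) x (h3.elim _ _)
    have h0 : x₁ = 0 := h1.elim _ _
    rw [← hx₁, h0, Abelian.Ext.zero_comp]
    rfl
  exact ⟨fun x y => (key x).trans (key y).symm⟩

/-- a module whose identity is zero has no cohomology -/
theorem subsingleton_HH_of_id_eq_zero (K : X.Modules) (h : 𝟙 K = 0) (i : ℕ) :
    Subsingleton (Coh.HH X K i) := by
  have h2 : (𝟙 (Coh.toAb K) : Coh.toAb K ⟶ Coh.toAb K) = 0 := by
    have h3 : abMap (𝟙 K) = abMap (0 : K ⟶ K) := by rw [h]
    exact h3
  have key : ∀ x : Coh.HH X K i, x = 0 := by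
    intro x
    have e1 : Sheaf.H.map (𝟙 (Coh.toAb K)) i x = x := Sheaf.H.map_id_apply _
    rw [h2] at e1
    rw [← e1]
    change ((Sheaf.functorH _ i).map (0 : Coh.toAb K ⟶ Coh.toAb K)).hom x = 0
    rw [Functor.map_zero]
    rfl
  exact ⟨fun x y => (key x).trans (key y).symm⟩

/-- all sections vanish when the identity is zero -/
theorem eq_zero_of_id_eq_zero (N : X.Modules) (h : 𝟙 N = 0) (W : X.Opens) (s : Γ(N, W)) :
    s = 0 := by
  have h1 : Scheme.Modules.Hom.app (𝟙 N) W s = s := rfl
  rw [h] at h1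
  exact h1.symm

/-- over an affine open, a power of `J` kills the sections of a coherent module supported on
`V(J)` -/
theorem exists_pow_kill [IsLocallyNoetherian X] (J : X.IdealSheafData) (U : X.Opens)
    (hU : (U : Set X) = (J.support : Set X)ᶜ) (K : X.Modules) (hK : Coh.IsCoh K)
    (hKU : ∀ V : X.Opens, V ≤ U → ∀ s : Γ(K, V), s = 0) (W : X.affineOpens) :
    ∃ m : ℕ, ∀ a ∈ (J.ideal W) ^ m, ∀ t : Γ(K, W.1), a • t = 0 := by
  haveI : K.IsQuasicoherent := hK.1
  haveI : IsNoetherianRing Γ(X, W.1) := IsLocallyNoetherian.component_noetherian W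
  have hfin : Module.Finite Γ(X, W.1) Γ(K, W.1) :=
    Groth.Agent.H8.finite_sections_of_isCoh K hK W.2
  let Ann : Ideal Γ(X, W.1) :=
    { carrier := {a | ∀ t : Γ(K, W.1), a • t = 0}
      add_mem' := by
        intro a b ha hb t
        rw [add_smul, ha t, hb t, add_zero]
      zero_mem' := by
        intro t
        rw [zero_smul]
      smul_mem' := by
        intro c a ha t
        rw [smul_eq_mul, mul_smul, ha t, smul_zero] }
  have hrad : J.ideal W ≤ Ann.radical := by
    intro a ha
    have hle : X.basicOpen a ≤ U := basicOpen_le_of_mem_ideal J U hU W a ha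
    have hk : ∀ t : Γ(K, W.1), ∃ k : ℕ, a ^ k • t = 0 :=
      fun t => Groth.Agent.H8.exists_smul_eq_zero W.2 K a _ (hKU _ hle _)
    choose k hk using hk
    obtain ⟨S, hS⟩ := hfin.fg_top
    refine ⟨S.sup k, ?_⟩
    intro t
    have ht : t ∈ Submodule.span Γ(X, W.1) (S : Set Γ(K, W.1)) := by rw [hS]; trivial
    induction ht using Submodule.span_induction with
    | mem t ht =>
      have hle : k t ≤ S.sup k := Finset.le_sup ht
      rw [← Nat.sub_add_cancel hle, pow_add, mul_smul, hk t, smul_zero]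
    | zero => rw [smul_zero]
    | add x y _ _ hx hy => rw [smul_add, hx, hy, add_zero]
    | smul c x _ hx => rw [smul_comm, hx, smul_zero]
  obtain ⟨m, hm⟩ := Ideal.exists_pow_le_of_le_radical_of_fg hrad (IsNoetherian.noetherian _)
  exact ⟨m, fun a ha t => hm ha t⟩

/-- `J · K` is coherent -/
theorem isCoh_idealMul [IsLocallyNoetherian X] (J : X.IdealSheafData) (K : X.Modules)
    (hK : Coh.IsCoh K) : Coh.IsCoh ((Dual3.idealMul J).obj K) := by
  haveI : K.IsQuasicoherent := hK.1
  haveI := isQuasicoherent_idealMul J K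
  exact ⟨inferInstance, Groth.Agent.H8.isFiniteType_of_forall_affine_finite _
    (fun W => finite_sections_idealMul J K hK W)⟩

/-- `J ^ m` kills the sections of `J · K` if `J ^ (m + 1)` kills those of `K` -/
theorem kill_idealMul (J : X.IdealSheafData) (K : X.Modules) [K.IsQuasicoherent]
    (W : X.affineOpens) (m : ℕ)
    (h : ∀ a ∈ (J.ideal W) ^ (m + 1), ∀ t : Γ(K, W.1), a • t = 0) :
    ∀ a ∈ (J.ideal W) ^ m, ∀ t : Γ((Dual3.idealMul J).obj K, W.1), a • t = 0 := by
  intro a ha t
  apply idealMulι_app_injective J K W.1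
  rw [Scheme.Modules.Hom.app_smul, map_zero]
  have hmem := idealMulι_app_mem J K W t
  refine Submodule.smul_induction_on hmem ?_ ?_
  · intro b hb n _
    rw [← mul_smul]
    exact h (a * b) (by rw [pow_succ]; exact Ideal.mul_mem_mul ha hb) n
  · intro x y hx hy
    rw [smul_add, hx, hy, add_zero]

/-- `J` kills the sections of `K / J · K` over affine opens -/
theorem kill_cokernel (J : X.IdealSheafData) (K : X.Modules) [K.IsQuasicoherent]
    [(cokernel (Dual3.idealMulι J K)).IsQuasicoherent]
    (W : X.affineOpens) (b : Γ(X, W.1)) (hb : b ∈ J.ideal W)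
    (x : Γ(cokernel (Dual3.idealMulι J K), W.1)) : b • x = 0 := by
  obtain ⟨y, rfl⟩ := Groth.Agent.H21.EpiPush.app_surjective_of_epi
    (cokernel.π (Dual3.idealMulι J K)) W.2 x
  rw [← Scheme.Modules.Hom.app_smul]
  have hmem : b • y ∈ (J.ideal W) • (⊤ : Submodule Γ(X, W.1) Γ(K, W.1)) :=
    Submodule.smul_mem_smul hb trivial
  obtain ⟨z, hz⟩ := (exists_idealMulι_app_eq_iff J K W _).mpr hmem
  rw [← hz]
  have h0 : Scheme.Modules.Hom.app (Dual3.idealMulι J K ≫ cokernel.π (Dual3.idealMulι J K))
      W.1 z = 0 := by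
    rw [cokernel.condition]
    rfl
  exact h0

/-- `J · (K / J · K)` has no sections -/
theorem idealMul_cokernel_eq_zero (J : X.IdealSheafData) (K : X.Modules) [K.IsQuasicoherent]
    [(cokernel (Dual3.idealMulι J K)).IsQuasicoherent] (W : X.Opens)
    (s : Γ((Dual3.idealMul J).obj (cokernel (Dual3.idealMulι J K)), W)) : s = 0 := by
  haveI := isQuasicoherent_idealMul J (cokernel (Dual3.idealMulι J K))
  apply eq_zero_of_id_eq_zero
  apply hom_eq_zero_of_affine_cover (𝟙 _) Set.univ (exists_affine_mem X)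
  intro W' _ t
  show t = 0
  apply idealMulι_app_injective J (cokernel (Dual3.idealMulι J K)) W'.1
  rw [map_zero]
  have hmem := idealMulι_app_mem J (cokernel (Dual3.idealMulι J K)) W' t
  refine Submodule.smul_induction_on hmem ?_ ?_
  · intro b hb n _
    exact kill_cokernel J K W' b hb n
  · intro x y hx hy
    rw [hx, hy, add_zero]

/-- the induction on the power of `J` killing the module -/
theorem subsingleton_HH_of_pow_kill [IsNoetherian X] (J : X.IdealSheafData) (k : ℕ)
    (hV1 : ∀ K : X.Modules, Coh.IsCoh K →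
      (∀ (W : X.Opens) (s : Γ((Dual3.idealMul J).obj K, W)), s = 0) →
      ∀ i : ℕ, k + 1 ≤ i → Subsingleton (Coh.HH X K i))
    (i : ℕ) (hi : k + 1 ≤ i) (s : Finset X.affineOpens) (hs : ∀ x : X, ∃ W ∈ s, x ∈ W.1) :
    ∀ (m : ℕ) (K : X.Modules), Coh.IsCoh K →
      (∀ W ∈ s, ∀ a ∈ (J.ideal W) ^ m, ∀ t : Γ(K, W.1), a • t = 0) →
      Subsingleton (Coh.HH X K i) := by
  intro m
  induction m with
  | zero =>
    intro K hK hP
    haveI : K.IsQuasicoherent := hK.1
    apply subsingleton_HH_of_id_eq_zero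
    apply hom_eq_zero_of_affine_cover (𝟙 K) (s : Set X.affineOpens) (by simpa using hs)
    intro W hW t
    have h0 := hP W hW 1 (by simp) t
    rw [one_smul] at h0
    exact h0
  | succ m ih =>
    intro K hK hP
    haveI : K.IsQuasicoherent := hK.1
    have hK' := isCoh_idealMul J K hK
    have hcok := (Groth.Agent.S9514.result X hK' hK (Dual3.idealMulι J K)).2
    haveI : (cokernel (Dual3.idealMulι J K)).IsQuasicoherent := hcok.1
    have h1 : Subsingleton (Coh.HH X ((Dual3.idealMul J).obj K) i) :=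
      ih _ hK' (fun W hW => kill_idealMul J K W m (hP W hW))
    have h3 : Subsingleton (Coh.HH X (cokernel (Dual3.idealMulι J K)) i) :=
      hV1 _ hcok (idealMul_cokernel_eq_zero J K) i hi
    let S : ShortComplex X.Modules := ShortComplex.mk (Dual3.idealMulι J K)
      (cokernel.π (Dual3.idealMulι J K)) (cokernel.condition _)
    have hS : S.ShortExact :=
      { exact := ShortComplex.exact_cokernel _
        mono_f := inferInstanceAs (Mono (Dual3.idealMulι J K))
        epi_g := inferInstanceAs (Epi (cokernel.π (Dual3.idealMulι J K))) }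
    exact subsingleton_HH_of_ses S hS i h1 h3

/-- (V2) -/
theorem subsingleton_HH_of_supported (X : Scheme.{u}) [IsNoetherian X] (J : X.IdealSheafData)
    (U : X.Opens) (hU : (U : Set X) = (J.support : Set X)ᶜ) (k : ℕ)
    (hV1 : ∀ K : X.Modules, Coh.IsCoh K →
      (∀ (W : X.Opens) (s : Γ((Dual3.idealMul J).obj K, W)), s = 0) →
      ∀ i : ℕ, k + 1 ≤ i → Subsingleton (Coh.HH X K i))
    (K : X.Modules) (hK : Coh.IsCoh K)
    (hKU : ∀ V : X.Opens, V ≤ U → ∀ s : Γ(K, V), s = 0)
    (i : ℕ) (hi : k + 1 ≤ i) : Subsingleton (Coh.HH X K i) := by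
  obtain ⟨s, hs⟩ := exists_finite_affine_cover X
  have hm : ∀ W : X.affineOpens, ∃ m : ℕ, ∀ a ∈ (J.ideal W) ^ m, ∀ t : Γ(K, W.1), a • t = 0 :=
    fun W => exists_pow_kill J U hU K hK hKU W
  choose mW hmW using hm
  refine subsingleton_HH_of_pow_kill J k hV1 i hi s hs (s.sup mW) K hK ?_
  intro W hW a ha t
  exact hmW W a (Ideal.pow_le_pow_right (Finset.le_sup hW) ha) t

end Groth.Agent.H24.CdIso_V2
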