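import Mathlib

/-!
# Extension of finite type sub-ideal sheaves on quasi-separated schemes (helper24)

`exists_fg_le_mem`: on a quasi-separated scheme, every section of an ideal sheaf `K` over an affine
open lies in a sub-ideal sheaf `J ≤ K` which is finitely generated on any prescribed finite family
of affine opens.  `fg_of_cover`: finite generation on an affine cover implies it on all affines.
`le_ker_of_forall_fg_le`: on a qcqs scheme an ideal sheaf is the supremum of its finite type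
sub-ideal sheaves (tested against kernels).
-/

set_option autoImplicit false
universe u
open CategoryTheory CategoryTheory.Limits AlgebraicGeometry TopologicalSpace Opposite

namespace Groth.Agent.H24.IdealExt

variable {Y : Scheme.{u}}

/-- The closed subscheme of an affine open `V` cut out by `H`, mapped to `Y`. -/
noncomputable def gMap (V : Y.affineOpens) (H : Ideal Γ(Y, V)) :
    Spec (CommRingCat.of (Γ(Y, V) ⧸ H)) ⟶ Y :=
  Spec.map (CommRingCat.ofHom (Ideal.Quotient.mk H)) ≫ V.2.fromSpec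

theorem gMap_app_self (V : Y.affineOpens) (H : Ideal Γ(Y, V)) :
    ∃ e : CommRingCat.of (Γ(Y, V) ⧸ H) ≅ Γ(Spec (CommRingCat.of (Γ(Y, V) ⧸ H)), (gMap V H) ⁻¹ᵁ V),
      (gMap V H).app V = CommRingCat.ofHom (Ideal.Quotient.mk H) ≫ e.hom := by
  have htop : (gMap V H) ⁻¹ᵁ V = ⊤ := by
    unfold gMap
    rw [Scheme.Hom.comp_preimage, V.2.fromSpec_preimage_self]
    rfl
  refine ⟨(Scheme.ΓSpecIso _).symm ≪≫ (Spec _).presheaf.mapIso (eqToIso htop).op, ?_⟩
  unfold gMap
  rw [Scheme.Hom.comp_app, IsAffineOpen.fromSpec_app_of_le V.2 V.1 le_rfl]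
  have hid : Y.presheaf.map (homOfLE (le_refl V.1)).op = 𝟙 _ := Y.presheaf.map_id _
  rw [hid, Category.id_comp]
  simp only [Category.assoc, Iso.trans_hom, Iso.symm_hom, Functor.mapIso_hom, Iso.op_hom]
  rw [Scheme.Hom.naturality]
  rw [← Scheme.Hom.appTop, Scheme.ΓSpecIso_inv_naturality_assoc]
  rfl

theorem gMap_app_self_eq_zero_iff (V : Y.affineOpens) (H : Ideal Γ(Y, V)) (t : Γ(Y, V)) :
    ((gMap V H).app V).hom t = 0 ↔ t ∈ H := by
  obtain ⟨e, he⟩ := gMap_app_self V H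
  rw [he, CommRingCat.hom_comp, RingHom.comp_apply]
  have hinj : Function.Injective e.hom.hom := (ConcreteCategory.bijective_of_isIso e.hom).1
  rw [map_eq_zero_iff _ hinj]
  exact Ideal.Quotient.eq_zero_iff_mem

theorem range_gMap_subset (V : Y.affineOpens) (H : Ideal Γ(Y, V)) :
    Set.range (gMap V H) ⊆ (V.1 : Set Y) := by
  rintro _ ⟨z, rfl⟩
  unfold gMap
  rw [Scheme.Hom.comp_apply]
  have := V.2.range_fromSpec
  exact this ▸ Set.mem_range_self _

theorem eq_zero_of_forall_res {X : Scheme.{u}} {V : X.Opens} (t : Γ(X, V)) (P : X.Opens → Prop)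
    (hcov : ∀ x ∈ V, ∃ W : X.Opens, x ∈ W ∧ W ≤ V ∧ P W)
    (h : ∀ (W : X.Opens) (hW : W ≤ V), P W → X.presheaf.map (homOfLE hW).op t = 0) : t = 0 := by
  fapply X.sheaf.eq_of_locally_eq' (fun i : {W : X.Opens // W ≤ V ∧ P W} => i.1) V
    (fun i => homOfLE i.2.1)
  · intro x hx
    obtain ⟨W, hxW, hWV, hPW⟩ := hcov x hx
    exact TopologicalSpace.Opens.mem_iSup.mpr ⟨⟨W, hWV, hPW⟩, hxW⟩
  · intro i
    change X.presheaf.map _ t = X.presheaf.map _ 0
    rw [map_zero]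
    exact h i.1 i.2.1 i.2.2

theorem app_res {X : Scheme.{u}} (g : X ⟶ Y) {U D : Y.Opens} (h : D ≤ U) (s : Γ(Y, U)) :
    (g.app D).hom ((Y.presheaf.map (homOfLE h).op).hom s) =
      (X.presheaf.map (homOfLE (g.preimage_mono h)).op).hom ((g.app U).hom s) := by
  have := congrArg (fun φ => φ.hom s) (g.naturality (homOfLE h).op)
  exact this

/-- If `J` agrees locally on `U ∩ V` with the ideal generated by `H`, then sections of `J` over `U`
vanish on the closed subscheme `V(H)` of `V`. -/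
theorem le_ker_gMap_app (V : Y.affineOpens) (H : Ideal Γ(Y, V)) (J : Y.IdealSheafData)
    (U : Y.affineOpens)
    (hloc : ∀ x : Y, x ∈ U.1 → x ∈ V.1 → ∃ D : Y.affineOpens, x ∈ D.1 ∧
      ∃ (_ : D ≤ U) (hDV : D ≤ V), J.ideal D ≤ H.map (Y.presheaf.map (homOfLE hDV).op).hom) :
    J.ideal U ≤ RingHom.ker ((gMap V H).app U).hom := by
  intro t ht
  rw [RingHom.mem_ker]
  apply eq_zero_of_forall_res (((gMap V H).app U).hom t)
    (fun W => ∃ D : Y.affineOpens, W = (gMap V H) ⁻¹ᵁ D.1 ∧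
      ∃ (_ : D ≤ U) (hDV : D ≤ V), J.ideal D ≤ H.map (Y.presheaf.map (homOfLE hDV).op).hom)
  · intro z hz
    have hzV : (gMap V H) z ∈ V.1 := range_gMap_subset V H ⟨z, rfl⟩
    obtain ⟨D, hxD, hDU, hDV, hJD⟩ := hloc ((gMap V H) z) hz hzV
    exact ⟨(gMap V H) ⁻¹ᵁ D.1, hxD, (gMap V H).preimage_mono hDU, D, rfl, hDU, hDV, hJD⟩
  · rintro W hW ⟨D, rfl, hDU, hDV, hJD⟩
    have hnat := app_res (gMap V H) (show D.1 ≤ U.1 from hDU) t
    have h1 : (Y.presheaf.map (homOfLE hDU).op).hom t ∈ J.ideal D := J.ideal_le_comap_ideal hDU ht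
    have h2 := hJD h1
    have h3 : H.map (Y.presheaf.map (homOfLE hDV).op).hom ≤ RingHom.ker ((gMap V H).app D.1).hom := by
      rw [Ideal.map_le_iff_le_comap]
      intro h hh
      rw [Ideal.mem_comap, RingHom.mem_ker]
      have hn := app_res (gMap V H) (show D.1 ≤ V.1 from hDV) h
      refine hn.trans ?_
      rw [(gMap_app_self_eq_zero_iff V H h).mpr hh, map_zero]
    have h4 := h3 h2
    rw [RingHom.mem_ker] at h4
    exact hnat.symm.trans h4

/-- **Surgery step.** Replace `J` on the affine open `V` by a smaller ideal `H ≤ J(V)`, without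
changing it on affine opens where `J` is already locally generated by `H`. -/
theorem step [QuasiSeparatedSpace Y] (J : Y.IdealSheafData) (V : Y.affineOpens)
    (H : Ideal Γ(Y, V)) (hH : H ≤ J.ideal V) :
    ∃ J' : Y.IdealSheafData, J' ≤ J ∧ J'.ideal V = H ∧
      ∀ U : Y.affineOpens, (∀ x : Y, x ∈ U.1 → x ∈ V.1 → ∃ D : Y.affineOpens, x ∈ D.1 ∧
        ∃ (_ : D ≤ U) (hDV : D ≤ V), J.ideal D ≤ H.map (Y.presheaf.map (homOfLE hDV).op).hom) →
        J'.ideal U = J.ideal U := by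
  refine ⟨J ⊓ (gMap V H).ker, inf_le_left, ?_, ?_⟩
  · show J.ideal V ⊓ (gMap V H).ker.ideal V = H
    rw [Scheme.Hom.ker_apply]
    ext t
    rw [Ideal.mem_inf, RingHom.mem_ker, gMap_app_self_eq_zero_iff]
    exact ⟨fun h => h.2, fun h => ⟨hH h, h⟩⟩
  · intro U hloc
    show J.ideal U ⊓ (gMap V H).ker.ideal U = J.ideal U
    rw [Scheme.Hom.ker_apply]
    exact inf_eq_left.mpr (le_ker_gMap_app V H J U hloc)

/-- A finitely generated image of an ideal is the image of a finitely generated sub-ideal. -/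
theorem exists_fg_le_map_eq {A B : Type*} [CommRing A] [CommRing B] (f : A →+* B) (I : Ideal A)
    (h : (I.map f).FG) : ∃ I' : Ideal A, I' ≤ I ∧ I'.FG ∧ I'.map f = I.map f := by
  classical
  obtain ⟨s', hs', hspan⟩ :=
    (Submodule.fg_span_iff_fg_span_finset_subset (f '' (I : Set A))).mp h
  choose! a ha using fun b (hb : b ∈ (s' : Set B)) => hs' hb
  refine ⟨Ideal.span (a '' (s' : Set B)), ?_, ?_, ?_⟩
  · rw [Ideal.span_le]
    rintro _ ⟨b, hb, rfl⟩
    exact (ha b hb).1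
  · exact Submodule.fg_span (s'.finite_toSet.image a)
  · apply le_antisymm
    · apply Ideal.map_mono
      rw [Ideal.span_le]
      rintro _ ⟨b, hb, rfl⟩
      exact (ha b hb).1
    · have h1 : I.map f = Ideal.span (s' : Set B) := hspan
      rw [h1, Ideal.span_le]
      intro b hb
      rw [Ideal.map_span]
      apply Ideal.subset_span
      exact ⟨a b, ⟨b, hb, rfl⟩, (ha b hb).2⟩

/-- One more affine open made finitely generated. -/
theorem step_fg [QuasiSeparatedSpace Y] (J : Y.IdealSheafData) (L : Finset Y.affineOpens)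
    (hL : ∀ U ∈ L, (J.ideal U).FG) (V : Y.affineOpens) :
    ∃ J' : Y.IdealSheafData, J' ≤ J ∧ (J'.ideal V).FG ∧ ∀ U ∈ L, J'.ideal U = J.ideal U := by
  classical
  have hcov : ∀ U : Y.affineOpens, ∃ Us : Set Y.Opens, Us ⊆ Y.affineOpens ∧ Us.Finite ∧
      U.1 ⊓ V.1 = sSup Us := by
    intro U
    exact Y.isBasis_affineOpens.exists_finite_of_isCompact (U := U.1 ⊓ V.1)
      (QuasiSeparatedSpace.inter_isCompact _ _ U.1.2 U.2.isCompact V.1.2 V.2.isCompact)
  choose 𝒟 h𝒟aff h𝒟fin h𝒟eq using hcov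
  let T : Set Y.Opens := ⋃ U ∈ L, 𝒟 U
  have hTfin : T.Finite := Set.Finite.biUnion L.finite_toSet (fun U _ => h𝒟fin U)
  have hT : ∀ D ∈ T, ∃ hD : D ∈ Y.affineOpens, ∃ _ : (⟨D, hD⟩ : Y.affineOpens) ≤ V,
      (J.ideal ⟨D, hD⟩).FG := by
    intro D hD
    obtain ⟨U, hUL, hDU⟩ := Set.mem_iUnion₂.mp hD
    have hDaff := h𝒟aff U hDU
    have hle : D ≤ U.1 ⊓ V.1 := by rw [h𝒟eq U]; exact le_sSup hDU
    refine ⟨hDaff, (hle.trans inf_le_right : D ≤ V.1), ?_⟩
    have hDU' : (⟨D, hDaff⟩ : Y.affineOpens) ≤ U := hle.trans inf_le_left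
    rw [← J.map_ideal hDU']
    exact (hL U hUL).map _
  have hH : ∀ D : T, ∃ HD : Ideal Γ(Y, V), HD ≤ J.ideal V ∧ HD.FG ∧
      ∃ (hD : D.1 ∈ Y.affineOpens) (hDV : (⟨D.1, hD⟩ : Y.affineOpens) ≤ V),
        J.ideal ⟨D.1, hD⟩ ≤ HD.map (Y.presheaf.map (homOfLE hDV).op).hom := by
    rintro ⟨D, hD⟩
    obtain ⟨hDaff, hDV, hfg⟩ := hT D hD
    rw [← J.map_ideal hDV] at hfg
    obtain ⟨HD, hle, hfgH, hmap⟩ := exists_fg_le_map_eq _ _ hfg
    exact ⟨HD, hle, hfgH, hDaff, hDV, by rw [hmap, J.map_ideal hDV]⟩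
  choose HD hHDle hHDfg hHDaff hHDV hHDmap using hH
  let H : Ideal Γ(Y, V) := ⨆ D : T, HD D
  have hHle : H ≤ J.ideal V := iSup_le hHDle
  haveI : Finite T := Set.finite_coe_iff.mpr hTfin
  have hHfg : H.FG := Submodule.fg_iSup _ hHDfg
  obtain ⟨J', hJ'le, hJ'V, hJ'U⟩ := step J V H hHle
  refine ⟨J', hJ'le, hJ'V ▸ hHfg, fun U hUL => hJ'U U ?_⟩
  intro x hxU hxV
  have hx : x ∈ U.1 ⊓ V.1 := ⟨hxU, hxV⟩
  rw [h𝒟eq U] at hx
  obtain ⟨D, hDU, hxD⟩ := Opens.mem_sSup.mp hx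
  have hDT : D ∈ T := Set.mem_iUnion₂.mpr ⟨U, hUL, hDU⟩
  have hle : D ≤ U.1 ⊓ V.1 := by rw [h𝒟eq U]; exact le_sSup hDU
  refine ⟨⟨D, hHDaff ⟨D, hDT⟩⟩, hxD, hle.trans inf_le_left, hHDV ⟨D, hDT⟩, ?_⟩
  exact (hHDmap ⟨D, hDT⟩).trans (Ideal.map_mono (le_iSup HD ⟨D, hDT⟩))

/-- Finitely many more affine opens made finitely generated. -/
theorem exists_fg_on_finset [QuasiSeparatedSpace Y] (J : Y.IdealSheafData)
    (L₀ : Finset Y.affineOpens) (hL₀ : ∀ U ∈ L₀, (J.ideal U).FG) (L : Finset Y.affineOpens) :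
    ∃ J' : Y.IdealSheafData, J' ≤ J ∧ (∀ U ∈ L₀, J'.ideal U = J.ideal U) ∧
      ∀ U : Y.affineOpens, (U ∈ L₀ ∨ U ∈ L) → (J'.ideal U).FG := by
  classical
  induction L using Finset.induction_on with
  | empty =>
    refine ⟨J, le_rfl, fun _ _ => rfl, fun U hU => ?_⟩
    rcases hU with hU | hU
    · exact hL₀ U hU
    · exact absurd hU (Finset.notMem_empty U)
  | insert V L' _ ih =>
    obtain ⟨J₁, hJ₁le, hJ₁eq, hJ₁fg⟩ := ih
    obtain ⟨J₂, hJ₂le, hJ₂V, hJ₂eq⟩ := step_fg J₁ (L₀ ∪ L')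
      (fun U hU => hJ₁fg U (Finset.mem_union.mp hU)) V
    refine ⟨J₂, hJ₂le.trans hJ₁le, fun U hU => ?_, fun U hU => ?_⟩
    · rw [hJ₂eq U (Finset.mem_union_left _ hU), hJ₁eq U hU]
    · have hU' : U = V ∨ U ∈ L₀ ∪ L' := by
        rcases hU with hU | hU
        · exact Or.inr (Finset.mem_union_left _ hU)
        · rcases Finset.mem_insert.mp hU with hU | hU
          · exact Or.inl hU
          · exact Or.inr (Finset.mem_union_right _ hU)
      rcases hU' with rfl | hU'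
      · exact hJ₂V
      · rw [hJ₂eq U hU']
        exact hJ₁fg U (Finset.mem_union.mp hU')

/-- **Key lemma.** On a quasi-separated scheme, a section `s` of an ideal sheaf `K` over an affine
open `U₁` lies in a sub-ideal sheaf which is finitely generated on a given finite family of affine
opens. -/
theorem exists_fg_le_mem [QuasiSeparatedSpace Y] (K : Y.IdealSheafData) (U₁ : Y.affineOpens)
    (s : Γ(Y, U₁)) (hs : s ∈ K.ideal U₁) (L : Finset Y.affineOpens) :
    ∃ J : Y.IdealSheafData, J ≤ K ∧ s ∈ J.ideal U₁ ∧ ∀ U ∈ L, (J.ideal U).FG := by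
  classical
  obtain ⟨J₁, hJ₁le, hJ₁U, -⟩ := step K U₁ (Ideal.span {s})
    ((Ideal.span_singleton_le_iff_mem _).mpr hs)
  have hfg₁ : ∀ U ∈ ({U₁} : Finset Y.affineOpens), (J₁.ideal U).FG := by
    intro U hU
    rw [Finset.mem_singleton] at hU
    subst hU
    rw [hJ₁U]
    exact ⟨{s}, by simp⟩
  obtain ⟨J, hJle, hJeq, hJfg⟩ := exists_fg_on_finset J₁ {U₁} hfg₁ L
  refine ⟨J, hJle.trans hJ₁le, ?_, fun U hU => hJfg U (Or.inr hU)⟩
  rw [hJeq U₁ (Finset.mem_singleton_self _), hJ₁U]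
  exact Ideal.mem_span_singleton_self s

/-- A closed subscheme whose ideals are finitely generated on an affine cover is locally of finite
presentation. -/
theorem lfp_subschemeι_of_fg_cover (J : Y.IdealSheafData) (𝒰 : Set Y.affineOpens)
    (hcov : ∀ y : Y, ∃ U ∈ 𝒰, y ∈ U.1) (hJ : ∀ U ∈ 𝒰, (J.ideal U).FG) :
    LocallyOfFinitePresentation J.subschemeι := by
  rw [HasRingHomProperty.iff_exists_appLE (P := @LocallyOfFinitePresentation)
    (RingHom.finitePresentation_stableUnderComposition.stableUnderCompositionWithLocalizationAway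
      RingHom.finitePresentation_holdsForLocalizationAway).left]
  intro x
  obtain ⟨U, hU𝒰, hxU⟩ := hcov (J.subschemeι x)
  refine ⟨U, ⟨J.subschemeι ⁻¹ᵁ U.1, U.2.preimage J.subschemeι⟩, hxU, le_rfl, ?_⟩
  rw [← Scheme.Hom.app_eq_appLE]
  apply RingHom.FinitePresentation.of_surjective _ (J.subschemeι_app_surjective U)
  rw [J.ker_subschemeι_app U]
  exact hJ U hU𝒰

/-- The kernel of a closed immersion locally of finite presentation is finitely generated on
affine opens. -/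
theorem ker_fg_of_isClosedImmersion_lfp {Z X : Scheme.{u}} (f : Z ⟶ X) [IsClosedImmersion f]
    [LocallyOfFinitePresentation f] (U : X.affineOpens) : (f.ker.ideal U).FG := by
  rw [Scheme.Hom.ker_apply]
  have hfp : (f.app U.1).hom.FinitePresentation := by
    have := HasRingHomProperty.appLE (P := @LocallyOfFinitePresentation) f inferInstance U
      ⟨f ⁻¹ᵁ U.1, U.2.preimage f⟩ le_rfl
    rwa [← Scheme.Hom.app_eq_appLE] at this
  have hsurj : Function.Surjective (f.app U.1).hom := f.app_surjective U.1 U.2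
  algebraize [(f.app U.1).hom]
  have h := Algebra.FinitePresentation.ker_fG_of_surjective
    (Algebra.ofId Γ(X, U.1) Γ(Z, f ⁻¹ᵁ U.1)) hsurj
  exact h

/-- Finite generation of an ideal sheaf on an affine cover implies it on all affine opens. -/
theorem fg_of_cover (J : Y.IdealSheafData) (𝒰 : Set Y.affineOpens)
    (hcov : ∀ y : Y, ∃ U ∈ 𝒰, y ∈ U.1) (hJ : ∀ U ∈ 𝒰, (J.ideal U).FG) (U : Y.affineOpens) :
    (J.ideal U).FG := by
  haveI := lfp_subschemeι_of_fg_cover J 𝒰 hcov hJ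
  have := ker_fg_of_isClosedImmersion_lfp J.subschemeι U
  rwa [J.ker_subschemeι] at this

/-- **Stacks 01PG for ideals.** On a quasi-compact quasi-separated scheme, every section of an ideal
sheaf `K` over an affine open lies in a sub-ideal sheaf of finite type. -/
theorem exists_fg_le_mem_of_qcqs [CompactSpace Y] [QuasiSeparatedSpace Y] (K : Y.IdealSheafData)
    (U₁ : Y.affineOpens) (s : Γ(Y, U₁)) (hs : s ∈ K.ideal U₁) :
    ∃ J : Y.IdealSheafData, J ≤ K ∧ s ∈ J.ideal U₁ ∧ ∀ U : Y.affineOpens, (J.ideal U).FG := by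
  obtain ⟨Us, hUsaff, hUsfin, hUseq⟩ :=
    Y.isBasis_affineOpens.exists_finite_of_isCompact (U := ⊤) isCompact_univ
  have hL' : {U : Y.affineOpens | U.1 ∈ Us}.Finite := hUsfin.preimage Subtype.val_injective.injOn
  obtain ⟨J, hJle, hsJ, hJfg⟩ := exists_fg_le_mem K U₁ s hs hL'.toFinset
  refine ⟨J, hJle, hsJ, fg_of_cover J {U : Y.affineOpens | U.1 ∈ Us} ?_ ?_⟩
  · intro y
    have hy : y ∈ (⊤ : Y.Opens) := trivial
    rw [hUseq] at hy
    obtain ⟨D, hD, hyD⟩ := Opens.mem_sSup.mp hy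
    exact ⟨⟨D, hUsaff hD⟩, hD, hyD⟩
  · intro U hU
    exact hJfg U (hL'.mem_toFinset.mpr hU)

/-- On a qcqs scheme, an ideal sheaf `K` is contained in `M` as soon as all its finite type
sub-ideal sheaves are. -/
theorem le_of_forall_fg_le [CompactSpace Y] [QuasiSeparatedSpace Y] (K M : Y.IdealSheafData)
    (h : ∀ J : Y.IdealSheafData, J ≤ K → (∀ U : Y.affineOpens, (J.ideal U).FG) → J ≤ M) :
    K ≤ M := by
  intro U s hs
  obtain ⟨J, hJle, hsJ, hJfg⟩ := exists_fg_le_mem_of_qcqs K U s hs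
  exact h J hJle hJfg U hsJ

end Groth.Agent.H24.IdealExt
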