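import Mathlib
import Groth.Agent.H24.IdealExt

/-!
# A closed subscheme of a qcqs scheme is the limit of closed subschemes of finite presentation
(helper24)
-/

set_option autoImplicit false
universe u
open CategoryTheory CategoryTheory.Limits AlgebraicGeometry TopologicalSpace Opposite

namespace Groth.Agent.H24.ClosedLimit

open Groth.Agent.H24.IdealExt

variable {X Y : Scheme.{u}}

/-- Finite type sub-ideal sheaves of `K`. -/
abbrev Idx (K : Y.IdealSheafData) : Type u :=
  {J : Y.IdealSheafData // J ≤ K ∧ ∀ U : Y.affineOpens, (J.ideal U).FG}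

instance (K : Y.IdealSheafData) : Nonempty (Idx K) :=
  ⟨⟨⊥, bot_le, fun U => by
    rw [Scheme.IdealSheafData.ideal_bot]
    exact Submodule.fg_bot⟩⟩

instance (K : Y.IdealSheafData) : IsDirected (Idx K) (fun a b => a ≤ b) :=
  ⟨fun a b => ⟨⟨a.1 ⊔ b.1, sup_le a.2.1 b.2.1, fun U => by
    rw [Scheme.IdealSheafData.ideal_sup]
    exact Submodule.FG.sup (a.2.2 U) (b.2.2 U)⟩,
    show a.1 ≤ a.1 ⊔ b.1 from le_sup_left, show b.1 ≤ a.1 ⊔ b.1 from le_sup_right⟩⟩

/-- The inverse system of closed subschemes of finite presentation containing `V(K)`. -/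
noncomputable def diag (K : Y.IdealSheafData) : (Idx K)ᵒᵖ ⥤ Over Y where
  obj i := Over.mk i.unop.1.subschemeι
  map {i j} a := Over.homMk
    (Scheme.IdealSheafData.inclusion (show j.unop.1 ≤ i.unop.1 from a.unop.le))
    (Scheme.IdealSheafData.inclusion_subschemeι _)
  map_id i := by
    apply Over.OverMorphism.ext
    exact Scheme.IdealSheafData.inclusion_id _
  map_comp a b := by
    apply Over.OverMorphism.ext
    exact (Scheme.IdealSheafData.inclusion_comp _ _).symm

theorem diag_obj_hom (K : Y.IdealSheafData) (i : (Idx K)ᵒᵖ) :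
    ((diag K).obj i).hom = i.unop.1.subschemeι := rfl

theorem diag_map_left (K : Y.IdealSheafData) {i j : (Idx K)ᵒᵖ} (a : i ⟶ j) :
    ((diag K).map a).left =
      Scheme.IdealSheafData.inclusion (show j.unop.1 ≤ i.unop.1 from a.unop.le) :=
  rfl

instance (K : Y.IdealSheafData) (i : (Idx K)ᵒᵖ) : IsClosedImmersion ((diag K).obj i).hom := by
  show IsClosedImmersion i.unop.1.subschemeι
  infer_instance

theorem lfp_subschemeι (K : Y.IdealSheafData) (i : Idx K) :
    LocallyOfFinitePresentation i.1.subschemeι :=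
  lfp_subschemeι_of_fg_cover i.1 Set.univ
    (fun y => by
      obtain ⟨_, ⟨V, hV, rfl⟩, hxV, -⟩ := Y.isBasis_affineOpens.exists_subset_of_mem_open
        (Set.mem_univ y) isOpen_univ
      exact ⟨⟨V, hV⟩, trivial, hxV⟩)
    (fun U _ => i.2.2 U)

instance (K : Y.IdealSheafData) (i : (Idx K)ᵒᵖ) :
    LocallyOfFinitePresentation ((diag K).obj i).hom := by
  show LocallyOfFinitePresentation i.unop.1.subschemeι
  exact lfp_subschemeι K i.unop

instance (K : Y.IdealSheafData) {i j : (Idx K)ᵒᵖ} (a : i ⟶ j) :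
    IsClosedImmersion ((diag K).map a).left := by
  have h : Scheme.IdealSheafData.inclusion (show j.unop.1 ≤ i.unop.1 from a.unop.le) ≫
      j.unop.1.subschemeι = i.unop.1.subschemeι := Scheme.IdealSheafData.inclusion_subschemeι _
  show IsClosedImmersion (Scheme.IdealSheafData.inclusion (show j.unop.1 ≤ i.unop.1 from a.unop.le))
  have h2 : IsClosedImmersion (Scheme.IdealSheafData.inclusion
      (show j.unop.1 ≤ i.unop.1 from a.unop.le) ≫ j.unop.1.subschemeι) := by
    rw [h]; infer_instance
  exact IsClosedImmersion.of_comp _ j.unop.1.subschemeι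

section

variable (ι : X ⟶ Y)

theorem ker_subschemeι_le (i : (Idx ι.ker)ᵒᵖ) : i.unop.1.subschemeι.ker ≤ ι.ker := by
  rw [Scheme.IdealSheafData.ker_subschemeι]
  exact i.unop.2.1

variable [IsClosedImmersion ι]

/-- The legs of the cone. -/
noncomputable def coneLeg (i : (Idx ι.ker)ᵒᵖ) : X ⟶ i.unop.1.subscheme :=
  IsClosedImmersion.lift i.unop.1.subschemeι ι (ker_subschemeι_le ι i)

theorem coneLeg_ι (i : (Idx ι.ker)ᵒᵖ) : coneLeg ι i ≫ i.unop.1.subschemeι = ι :=
  IsClosedImmersion.lift_fac _ _ _

/-- The cone over the system with vertex the closed subscheme. -/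
noncomputable def cone : Cone (diag ι.ker) where
  pt := Over.mk ι
  π :=
    { app := fun i => Over.homMk (U := Over.mk ι) (V := (diag ι.ker).obj i) (coneLeg ι i)
        (coneLeg_ι ι i)
      naturality := fun i j a => by
        apply Over.OverMorphism.ext
        apply (cancel_mono (j.unop.1.subschemeι)).mp
        show (𝟙 X ≫ coneLeg ι j) ≫ j.unop.1.subschemeι =
          (coneLeg ι i ≫ Scheme.IdealSheafData.inclusion
            (show j.unop.1 ≤ i.unop.1 from a.unop.le)) ≫ j.unop.1.subschemeι
        rw [Category.id_comp, Category.assoc, Scheme.IdealSheafData.inclusion_subschemeι,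
          coneLeg_ι, coneLeg_ι] }

theorem cone_pt : (cone ι).pt = Over.mk ι := rfl

theorem cone_π_left (i : (Idx ι.ker)ᵒᵖ) : ((cone ι).π.app i).left = coneLeg ι i := rfl

variable [CompactSpace Y] [QuasiSeparatedSpace Y]

omit [IsClosedImmersion ι] in
/-- Any morphism factoring through all the finite presentation closed subschemes containing `X`
has kernel containing that of `X`. -/
theorem ker_le_of_cone (s : Cone (diag ι.ker)) : ι.ker ≤ s.pt.hom.ker := by
  apply le_of_forall_fg_le
  intro J hJle hJfg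
  let i : (Idx ι.ker)ᵒᵖ := op ⟨J, hJle, hJfg⟩
  let t : s.pt.left ⟶ J.subscheme := (s.π.app i).left
  have h1 : t ≫ J.subschemeι = s.pt.hom := Over.w (s.π.app i)
  have h2 : J.subschemeι.ker ≤ (t ≫ J.subschemeι).ker := Scheme.Hom.le_ker_comp t J.subschemeι
  rw [h1, Scheme.IdealSheafData.ker_subschemeι] at h2
  exact h2

/-- The lift of a cone. -/
noncomputable def liftLeg (s : Cone (diag ι.ker)) : s.pt.left ⟶ X :=
  IsClosedImmersion.lift ι s.pt.hom (ker_le_of_cone ι s)

theorem liftLeg_ι (s : Cone (diag ι.ker)) : liftLeg ι s ≫ ι = s.pt.hom :=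
  IsClosedImmersion.lift_fac _ _ _

/-- **The closed subscheme is the limit of the closed subschemes of finite presentation
containing it.** -/
noncomputable def isLimitCone : IsLimit (cone ι) where
  lift s := Over.homMk (U := s.pt) (V := Over.mk ι) (liftLeg ι s) (liftLeg_ι ι s)
  fac s i := by
    apply Over.OverMorphism.ext
    apply (cancel_mono (i.unop.1.subschemeι)).mp
    let t : s.pt.left ⟶ i.unop.1.subscheme := (s.π.app i).left
    have h1 : t ≫ i.unop.1.subschemeι = s.pt.hom := Over.w (s.π.app i)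
    show (liftLeg ι s ≫ coneLeg ι i) ≫ i.unop.1.subschemeι = t ≫ i.unop.1.subschemeι
    rw [h1, Category.assoc, coneLeg_ι, liftLeg_ι]
  uniq s m _ := by
    apply Over.OverMorphism.ext
    apply (cancel_mono ι).mp
    have h1 : m.left ≫ ι = s.pt.hom := Over.w m
    show m.left ≫ ι = liftLeg ι s ≫ ι
    rw [h1, liftLeg_ι]

end

end Groth.Agent.H24.ClosedLimit
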