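import Mathlib

universe u

namespace Groth.Agent.H24

theorem isNoetherian_of_surjective_algebraMap (R A M : Type*) [CommSemiring R] [Semiring A]
    [Algebra R A] [AddCommMonoid M] [Module A M] [Module R M] [IsScalarTower R A M]
    (h : Function.Surjective (algebraMap R A)) [IsNoetherian A M] : IsNoetherian R M := by
  constructor
  intro N
  let N' : Submodule A M :=
    { carrier := N
      add_mem' := N.add_mem
      zero_mem' := N.zero_mem
      smul_mem' := fun a x hx => by
        obtain ⟨r, rfl⟩ := h a
        rw [algebraMap_smul]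
        exact N.smul_mem r hx }
  have hN : N = N'.restrictScalars R := rfl
  rw [hN]
  exact (IsNoetherian.noetherian N').restrictScalars_of_surjective h

theorem isNoetherian_of_finite_of_isTorsionBySet {S M : Type*} [CommRing S] (c : Ideal S)
    [IsNoetherianRing (S ⧸ c)] [AddCommGroup M] [Module S M] [Module.Finite S M]
    (hM : Module.IsTorsionBySet S M c) : IsNoetherian S M := by
  let _ := hM.module
  have : IsScalarTower S (S ⧸ c) M := hM.isScalarTower
  have : Module.Finite (S ⧸ c) M := Module.Finite.of_restrictScalars_finite S (S ⧸ c) M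
  have : IsNoetherian (S ⧸ c) M := isNoetherian_of_isNoetherianRing_of_finite (S ⧸ c) M
  exact isNoetherian_of_surjective_algebraMap S (S ⧸ c) M Ideal.Quotient.mk_surjective

theorem acc_ideals_le_conductor (S R : Type u) [CommRing S] [CommRing R] [Algebra S R]
    [FaithfulSMul S R] [IsNoetherianRing R] [Module.Finite S R] (c : Ideal S)
    (hc : ∀ s : S, s ∈ c ↔ ∀ r : R, ∃ s' : S, algebraMap S R s' = algebraMap S R s * r)
    [IsNoetherianRing (S ⧸ c)] (a : ℕ →o Ideal S) (_ha : ∀ n, a n ≤ c) :
    ∃ N : ℕ, ∀ n, N ≤ n → a n = a N := by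
  have hinj : Function.Injective (Algebra.linearMap S R) := FaithfulSMul.algebraMap_injective S R
  let I : ℕ →o Ideal R :=
    ⟨fun n => (a n).map (algebraMap S R), fun m n h => Ideal.map_mono (a.monotone h)⟩
  obtain ⟨N, hN⟩ := monotone_stabilizes_iff_noetherian.mpr (inferInstance : IsNoetherian R R) I
  let B : Submodule S R := (I N).restrictScalars S
  let A' : ℕ → Submodule S R := fun n => Submodule.map (Algebra.linearMap S R) (a n)
  have hA'mono : Monotone A' := fun m n h => Submodule.map_mono (a.monotone h)
  have F1 : ∀ n, N ≤ n → A' n ≤ B := by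
    rintro n hn _ ⟨s, hs, rfl⟩
    change algebraMap S R s ∈ I N
    rw [hN n hn]
    exact Ideal.mem_map_of_mem _ hs
  have F2 : c • B ≤ A' N := by
    rw [Submodule.smul_le]
    intro u hu x hx
    have key : ∀ y ∈ I N, ∀ u ∈ c, u • y ∈ A' N := by
      intro y hy
      refine Submodule.span_induction (p := fun y _ => ∀ u ∈ c, u • y ∈ A' N) ?_ ?_ ?_ ?_ hy
      · rintro _ ⟨s, hs, rfl⟩ u hu
        refine ⟨u * s, (a N).mul_mem_left u hs, ?_⟩
        simp [Algebra.smul_def]
      · intro u hu
        simp
      · intro y z _ _ hy hz u hu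
        rw [smul_add]
        exact (A' N).add_mem (hy u hu) (hz u hu)
      · intro r y _ hy u hu
        obtain ⟨s', hs'⟩ := (hc u).mp hu r
        have hs'c : s' ∈ c := by
          rw [hc]
          intro r'
          obtain ⟨s'', hs''⟩ := (hc u).mp hu (r * r')
          exact ⟨s'', by rw [hs'', hs', mul_assoc]⟩
        have : u • (r • y) = s' • y := by
          rw [Algebra.smul_def, Algebra.smul_def s', smul_eq_mul, hs', mul_assoc]
        rw [this]
        exact hy s' hs'c
    exact key x hx u hu
  let P : Submodule S R := c • B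
  let Bbar : Submodule S (R ⧸ P) := B.map P.mkQ
  have hBfg : B.FG := by
    have h1 : Module.Finite R (I N) := inferInstance
    have h2 : Module.Finite S (I N) := Module.Finite.trans R (I N)
    exact Module.Finite.iff_fg.mp h2
  have : Module.Finite S Bbar := Module.Finite.iff_fg.mpr (hBfg.map _)
  have htors : Module.IsTorsionBySet S Bbar c := by
    rintro ⟨_, x, hx, rfl⟩ ⟨u, hu⟩
    apply Subtype.ext
    change u • P.mkQ x = 0
    rw [← map_smul, Submodule.mkQ_apply, Submodule.Quotient.mk_eq_zero]
    exact Submodule.smul_mem_smul hu hx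
  have : IsNoetherian S Bbar := isNoetherian_of_finite_of_isTorsionBySet c htors
  let Abar : ℕ →o Submodule S (R ⧸ P) :=
    ⟨fun n => (A' (N + n)).map P.mkQ, fun m n h => Submodule.map_mono (hA'mono (by omega))⟩
  have hAbar_le : ∀ n, Abar n ≤ Bbar := fun n => Submodule.map_mono (F1 _ (by omega))
  have hUfg : (iSup Abar).FG := isNoetherian_submodule.mp ‹_› _ (iSup_le hAbar_le)
  obtain ⟨K, hK⟩ := hUfg.stabilizes_of_iSup_eq Abar rfl
  refine ⟨N + K, fun n hn => ?_⟩
  have h1 : Abar (n - N) = Abar K :=
    le_antisymm (hK ▸ le_iSup Abar (n - N)) (Abar.monotone (by omega))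
  have hPle : ∀ m, N ≤ m → P ≤ A' m := fun m hm => F2.trans (hA'mono hm)
  have h2 : A' n = A' (N + K) := by
    have e1 : A' (N + (n - N)) = A' n := congrArg A' (by omega)
    have h3 : Submodule.comap P.mkQ ((A' (N + (n - N))).map P.mkQ) =
        Submodule.comap P.mkQ ((A' (N + K)).map P.mkQ) := congrArg (Submodule.comap P.mkQ) h1
    rw [Submodule.comap_map_mkQ, Submodule.comap_map_mkQ,
      sup_eq_right.mpr (hPle (N + (n - N)) (by omega)),
      sup_eq_right.mpr (hPle (N + K) (by omega)), e1] at h3
    exact h3
  exact Submodule.map_injective_of_injective hinj h2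

end Groth.Agent.H24
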