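import Mathlib

/-!
# Connected components of Noetherian spaces and dominant maps (helper24)
-/

set_option autoImplicit false

open CategoryTheory TopologicalSpace Set

universe u

namespace Groth.Agent.H24

/-- In a Noetherian space, connected components are open. -/
theorem isOpen_connectedComponent_of_noetherianSpace {X : Type*} [TopologicalSpace X]
    [NoetherianSpace X] (x : X) : IsOpen (connectedComponent x) := by
  have hfin : (irreducibleComponents X).Finite := NoetherianSpace.finite_irreducibleComponents
  have : (connectedComponent x)ᶜ =
      ⋃ Z ∈ {Z ∈ irreducibleComponents X | Z ∩ connectedComponent x = ∅}, Z := by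
    ext y
    simp only [mem_compl_iff, mem_ofPred_eq, mem_iUnion, exists_prop]
    constructor
    · intro hy
      refine ⟨irreducibleComponent y, ⟨irreducibleComponent_mem_irreducibleComponents y, ?_⟩,
        mem_irreducibleComponent⟩
      have hsub : irreducibleComponent y ⊆ connectedComponent y :=
        isIrreducible_irreducibleComponent.isConnected.isPreconnected.subset_connectedComponent
          mem_irreducibleComponent
      have hne : connectedComponent y ≠ connectedComponent x := by
        intro h
        apply hy
        rw [← h]
        exact mem_connectedComponent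
      have := connectedComponent_disjoint hne
      exact Set.eq_empty_of_subset_empty (fun z hz => this.le_bot ⟨hsub hz.1, hz.2⟩)
    · rintro ⟨Z, ⟨-, hZ⟩, hyZ⟩ hy
      have : y ∈ Z ∩ connectedComponent x := ⟨hyZ, hy⟩
      rw [hZ] at this
      exact this
  rw [← isClosed_compl_iff, this]
  exact (hfin.subset (fun Z hZ => hZ.1)).isClosed_biUnion
    (fun Z hZ => isClosed_of_mem_irreducibleComponents Z hZ.1)

/-- A Noetherian space has finitely many connected components. -/
theorem finite_range_connectedComponent_of_noetherianSpace {X : Type*} [TopologicalSpace X]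
    [NoetherianSpace X] : (Set.range (connectedComponent : X → Set X)).Finite := by
  classical
  have hfin : (irreducibleComponents X).Finite := NoetherianSpace.finite_irreducibleComponents
  let g : Set X → Set X := fun Z => if h : Z.Nonempty then connectedComponent h.some else ∅
  refine (hfin.image g).subset ?_
  rintro _ ⟨x, rfl⟩
  refine ⟨irreducibleComponent x, irreducibleComponent_mem_irreducibleComponents x, ?_⟩
  have hne : (irreducibleComponent x).Nonempty := ⟨x, mem_irreducibleComponent⟩
  simp only [g, dif_pos hne]
  have hsub : irreducibleComponent x ⊆ connectedComponent x :=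
    isIrreducible_irreducibleComponent.isConnected.isPreconnected.subset_connectedComponent
      mem_irreducibleComponent
  exact (connectedComponent_eq (hsub hne.some_mem)).symm

/-- Connected components under a dominant continuous map, given open sets cutting out the
components upstairs and covering downstairs. -/
theorem bijOn_connectedComponent_of_denseRange {X Y : Type*} [TopologicalSpace X]
    [TopologicalSpace Y] {f : X → Y} (hf : Continuous f) (hd : DenseRange f)
    (U : Set X → Set Y)
    (hUo : ∀ C ∈ Set.range (connectedComponent : X → Set X), IsOpen (U C))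
    (hUpre : ∀ C ∈ Set.range (connectedComponent : X → Set X), f ⁻¹' (U C) = C)
    (hUcov : (⋃ C ∈ Set.range (connectedComponent : X → Set X), U C) = univ) :
    Set.BijOn (fun C : Set X => closure (f '' C)) (Set.range (connectedComponent : X → Set X))
      (Set.range (connectedComponent : Y → Set Y)) := by
  -- an open set with empty preimage is empty
  have hemp : ∀ O : Set Y, IsOpen O → f ⁻¹' O = ∅ → O = ∅ := by
    intro O hO hpre
    by_contra hne
    obtain ⟨x, hx⟩ := hd.exists_mem_open hO (Set.nonempty_iff_ne_empty.mpr hne)
    have : x ∈ f ⁻¹' O := hx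
    rw [hpre] at this
    exact this
  -- 1. disjointness
  have h1 : ∀ C ∈ Set.range (connectedComponent : X → Set X),
      ∀ C' ∈ Set.range (connectedComponent : X → Set X), C ≠ C' → U C ∩ U C' = ∅ := by
    intro C hC C' hC' hne
    apply hemp _ ((hUo C hC).inter (hUo C' hC'))
    rw [Set.preimage_inter, hUpre C hC, hUpre C' hC']
    obtain ⟨x, rfl⟩ := hC
    obtain ⟨x', rfl⟩ := hC'
    exact (connectedComponent_disjoint hne).inter_eq
  -- 2. closedness
  have h2 : ∀ C ∈ Set.range (connectedComponent : X → Set X), IsClosed (U C) := by
    intro C hC
    have : (U C)ᶜ = ⋃ C' ∈ {C' ∈ Set.range (connectedComponent : X → Set X) | C' ≠ C}, U C' := by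
      ext y
      simp only [mem_compl_iff, mem_ofPred_eq, mem_iUnion, exists_prop]
      constructor
      · intro hy
        have : y ∈ (⋃ C ∈ Set.range (connectedComponent : X → Set X), U C) := hUcov ▸ mem_univ y
        simp only [mem_iUnion, exists_prop] at this
        obtain ⟨C', hC', hyC'⟩ := this
        refine ⟨C', ⟨hC', ?_⟩, hyC'⟩
        rintro rfl
        exact hy hyC'
      · rintro ⟨C', ⟨hC', hne⟩, hyC'⟩ hy
        have : y ∈ U C' ∩ U C := ⟨hyC', hy⟩
        rw [h1 C' hC' C hC hne] at this
        exact this
    rw [← isOpen_compl_iff, this]
    exact isOpen_biUnion fun C' hC' => hUo C' hC'.1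
  -- 3. closure of the image
  have h3 : ∀ C ∈ Set.range (connectedComponent : X → Set X), closure (f '' C) = U C := by
    intro C hC
    apply Set.Subset.antisymm
    · apply (h2 C hC).closure_subset_iff.mpr
      rintro _ ⟨x, hx, rfl⟩
      have : x ∈ f ⁻¹' (U C) := by rw [hUpre C hC]; exact hx
      exact this
    · have hO : IsOpen (U C \ closure (f '' C)) := (hUo C hC).sdiff isClosed_closure
      have := hemp _ hO (by
        ext x
        simp only [mem_preimage, mem_sdiff, mem_empty_iff_false, iff_false, not_and, not_not]
        intro hx
        have hxC : x ∈ C := by rw [← hUpre C hC]; exact hx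
        exact subset_closure ⟨x, hxC, rfl⟩)
      exact Set.sdiff_eq_empty.mp this
  -- 5. identification
  have h5 : ∀ x : X, closure (f '' connectedComponent x) = connectedComponent (f x) := by
    intro x
    have hC : connectedComponent x ∈ Set.range (connectedComponent : X → Set X) := ⟨x, rfl⟩
    have hconn : IsConnected (closure (f '' connectedComponent x)) :=
      (isConnected_connectedComponent.image f hf.continuousOn).closure
    have hmem : f x ∈ closure (f '' connectedComponent x) :=
      subset_closure ⟨x, mem_connectedComponent, rfl⟩
    apply Set.Subset.antisymm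
    · exact hconn.isPreconnected.subset_connectedComponent hmem
    · have hclopen : IsClopen (closure (f '' connectedComponent x)) := by
        rw [h3 _ hC]
        exact ⟨h2 _ hC, hUo _ hC⟩
      exact hclopen.connectedComponent_subset hmem
  refine ⟨?_, ?_, ?_⟩
  · rintro _ ⟨x, rfl⟩
    exact ⟨f x, (h5 x).symm⟩
  · rintro C hC C' hC' heq
    by_contra hne
    simp only at heq
    rw [h3 C hC, h3 C' hC'] at heq
    have hdisj := h1 C hC C' hC' hne
    rw [← heq, Set.inter_self] at hdisj
    obtain ⟨x, rfl⟩ := hC
    have : f x ∈ U (connectedComponent x) := by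
      rw [← h3 _ ⟨x, rfl⟩]
      exact subset_closure ⟨x, mem_connectedComponent, rfl⟩
    rw [hdisj] at this
    exact this
  · rintro _ ⟨y, rfl⟩
    have : y ∈ (⋃ C ∈ Set.range (connectedComponent : X → Set X), U C) := hUcov ▸ mem_univ y
    simp only [mem_iUnion, exists_prop] at this
    obtain ⟨C, hC, hyC⟩ := this
    refine ⟨C, hC, ?_⟩
    obtain ⟨x, rfl⟩ := hC
    simp only
    rw [h5 x]
    rw [← h3 _ ⟨x, rfl⟩, h5 x] at hyC
    exact (connectedComponent_eq hyC)

end Groth.Agent.H24
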