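import Mathlib
import Groth.Agent.H24.ProConsLim
import Groth.Agent.H24.ConsLocusMor

/-!
# Fibrewise ind-constructible properties hold everywhere on a limit iff at a stage (helper24)

EGA IV 9.3.3-type statements, derived from EGA IV 8.3.4 (`iInter_subset_iUnion_iff`) and the
ind-constructibility of the loci.
-/

set_option autoImplicit false

open CategoryTheory AlgebraicGeometry Limits TopologicalSpace Topology

universe u

namespace Groth.Agent.H24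

/-- The comparison morphism between two successive base changes, as a pullback square. -/
theorem exists_isPullback_of_isPullback {C : Type*} [Category C] {X₀ S₀ S₁ S₂ X₁ X₂ : C}
    {u₀ : X₀ ⟶ S₀} {a : S₁ ⟶ S₀} {h : S₂ ⟶ S₁} {b : S₂ ⟶ S₀} (hb : h ≫ a = b)
    {u₁ : X₁ ⟶ S₁} {p₁ : X₁ ⟶ X₀} (s₁ : IsPullback p₁ u₁ u₀ a)
    {u₂ : X₂ ⟶ S₂} {p₂ : X₂ ⟶ X₀} (s₂ : IsPullback p₂ u₂ u₀ b) :
    ∃ e : X₂ ⟶ X₁, e ≫ p₁ = p₂ ∧ IsPullback e u₂ u₁ h := by
  subst hb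
  have w : p₂ ≫ u₀ = (u₂ ≫ h) ≫ a := by rw [s₂.w, Category.assoc]
  refine ⟨s₁.lift p₂ (u₂ ≫ h) w, s₁.lift_fst _ _ _, ?_⟩
  refine IsPullback.of_right ?_ (s₁.lift_snd _ _ _) s₁
  rw [s₁.lift_fst]
  exact s₂

section Pair

variable {P : ∀ ⦃X Y T : Scheme.{u}⦄, (X ⟶ T) → (Y ⟶ T) → Prop}

theorem locusPair_preimage_of_squares (hP : ConsPropPair.IsFieldStablePair P)
    {S₀ S₁ S₂ : Scheme.{u}} {a : S₁ ⟶ S₀} {h : S₂ ⟶ S₁} {b : S₂ ⟶ S₀} (hb : h ≫ a = b)
    {X₀ Y₀ : Scheme.{u}} {u₀ : X₀ ⟶ S₀} {v₀ : Y₀ ⟶ S₀}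
    [LocallyOfFiniteType u₀] [QuasiCompact u₀] [LocallyOfFiniteType v₀] [QuasiCompact v₀]
    {X₁ Y₁ : Scheme.{u}} {u₁ : X₁ ⟶ S₁} {v₁ : Y₁ ⟶ S₁} {pX₁ : X₁ ⟶ X₀} {pY₁ : Y₁ ⟶ Y₀}
    (sX₁ : IsPullback pX₁ u₁ u₀ a) (sY₁ : IsPullback pY₁ v₁ v₀ a)
    {X₂ Y₂ : Scheme.{u}} {u₂ : X₂ ⟶ S₂} {v₂ : Y₂ ⟶ S₂} {pX₂ : X₂ ⟶ X₀} {pY₂ : Y₂ ⟶ Y₀}
    (sX₂ : IsPullback pX₂ u₂ u₀ b) (sY₂ : IsPullback pY₂ v₂ v₀ b) :
    ConsPropPair.locusPair P u₂ v₂ = h ⁻¹' ConsPropPair.locusPair P u₁ v₁ := by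
  obtain ⟨eX, -, sqX⟩ := exists_isPullback_of_isPullback hb sX₁ sX₂
  obtain ⟨eY, -, sqY⟩ := exists_isPullback_of_isPullback hb sY₁ sY₂
  have : LocallyOfFiniteType u₁ :=
    MorphismProperty.of_isPullback (P := @LocallyOfFiniteType) sX₁ inferInstance
  have : QuasiCompact u₁ := MorphismProperty.of_isPullback (P := @QuasiCompact) sX₁ inferInstance
  have : LocallyOfFiniteType v₁ :=
    MorphismProperty.of_isPullback (P := @LocallyOfFiniteType) sY₁ inferInstance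
  have : QuasiCompact v₁ := MorphismProperty.of_isPullback (P := @QuasiCompact) sY₁ inferInstance
  exact locusPair_preimage hP sqX sqY

/-- **EGA IV 9.3.3** for relations between two schemes. -/
theorem forall_mem_locusPair_iff (hP : ConsPropPair.IsIndConsPair P)
    {I : Type u} [SmallCategory I] [IsCofiltered I]
    (D : I ⥤ Scheme.{u}) (c : Cone D) (hc : IsLimit c)
    [∀ (i j : I) (a : i ⟶ j), IsAffineHom (D.map a)] (i₀ : I) [CompactSpace ↥(D.obj i₀)]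
    {X₀ Y₀ : Scheme.{u}} (u₀ : X₀ ⟶ D.obj i₀) (v₀ : Y₀ ⟶ D.obj i₀)
    [LocallyOfFinitePresentation u₀] [QuasiCompact u₀] [QuasiSeparated u₀]
    [LocallyOfFinitePresentation v₀] [QuasiCompact v₀] [QuasiSeparated v₀]
    {X Y : Scheme.{u}} (u : X ⟶ c.pt) (v : Y ⟶ c.pt) (qX : X ⟶ X₀) (qY : Y ⟶ Y₀)
    (hX : IsPullback qX u u₀ (c.π.app i₀)) (hY : IsPullback qY v v₀ (c.π.app i₀)) :
    (∀ s : ↥c.pt, s ∈ ConsPropPair.locusPair P u v) ↔
      ∃ (j : I) (φ : j ⟶ i₀) (Xj Yj : Scheme.{u}) (uj : Xj ⟶ D.obj j) (vj : Yj ⟶ D.obj j)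
        (pX : Xj ⟶ X₀) (pY : Yj ⟶ Y₀), IsPullback pX uj u₀ (D.map φ) ∧
          IsPullback pY vj v₀ (D.map φ) ∧
          ∀ t : ↥(D.obj j), t ∈ ConsPropPair.locusPair P uj vj := by
  constructor
  · intro hall
    let F₀ := Over.forget i₀
    let D' : Over i₀ ⥤ Scheme.{u} := F₀ ⋙ D
    let c' : Cone D' := c.whisker F₀
    have hc' : IsLimit c' := (Functor.Initial.isLimitWhiskerEquiv F₀ c).symm hc
    have hAffE : ∀ (i j : Over i₀) (f : i ⟶ j), IsAffineHom (D'.map f) := fun i j f =>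
      inferInstanceAs (IsAffineHom (D.map f.left))
    have hcpt : CompactSpace (D'.obj (Over.mk (𝟙 i₀))) :=
      inferInstanceAs (CompactSpace (D.obj i₀))
    let Floc : ∀ j : Over i₀, Set (D'.obj j) := fun j =>
      ConsPropPair.locusPair P (pullback.snd u₀ (D.map j.hom)) (pullback.snd v₀ (D.map j.hom))
    have hstage : ∀ j : Over i₀,
        ConsPropPair.locusPair P u v = (c.π.app j.left) ⁻¹' Floc j := fun j =>
      locusPair_preimage_of_squares hP.1 (c.w j.hom)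
        (IsPullback.of_hasPullback u₀ (D.map j.hom)) (IsPullback.of_hasPullback v₀ (D.map j.hom))
        hX hY
    have hFind : ∀ j, ProCons.IsIndConstructible (Floc j) := fun j =>
      isIndConstructible_locusPair hP (pullback.snd u₀ (D.map j.hom))
        (pullback.snd v₀ (D.map j.hom))
    have hFm : ∀ (j k : Over i₀) (f : j ⟶ k), ⇑(D'.map f) ⁻¹' Floc k ⊆ Floc j := by
      intro j k f
      have := locusPair_preimage_of_squares hP.1
        (show D.map f.left ≫ D.map k.hom = D.map j.hom by rw [← D.map_comp, Over.w f])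
        (IsPullback.of_hasPullback u₀ (D.map k.hom)) (IsPullback.of_hasPullback v₀ (D.map k.hom))
        (IsPullback.of_hasPullback u₀ (D.map j.hom)) (IsPullback.of_hasPullback v₀ (D.map j.hom))
      exact this.ge
    have hEF : (⋂ i, ⇑(c'.π.app i) ⁻¹' (Set.univ : Set (D'.obj i)) : Set c'.pt) ⊆
        (⋃ i, ⇑(c'.π.app i) ⁻¹' Floc i : Set c'.pt) := by
      intro s _
      refine Set.mem_iUnion.mpr ⟨Over.mk (𝟙 i₀), ?_⟩
      have := hall s
      rw [hstage (Over.mk (𝟙 i₀))] at this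
      exact this
    obtain ⟨i, -, hi⟩ := (iInter_subset_iUnion_iff D' c' hc' (Over.mk (𝟙 i₀))
      (fun _ => Set.univ) Floc (fun _ => isProConstructible_univ) hFind
      (fun _ _ _ _ _ => trivial) hFm).mp hEF
    exact ⟨i.left, i.hom, _, _, _, _, _, _, IsPullback.of_hasPullback u₀ (D.map i.hom),
      IsPullback.of_hasPullback v₀ (D.map i.hom), fun t => hi i (𝟙 i) (Set.mem_univ t)⟩
  · rintro ⟨j, φ, Xj, Yj, uj, vj, pX, pY, sX, sY, ht⟩ s
    rw [locusPair_preimage_of_squares hP.1 (c.w φ) sX sY hX hY]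
    exact ht _

end Pair

section Mor

variable {P : ∀ ⦃X Y T : Scheme.{u}⦄, (X ⟶ Y) → (Y ⟶ T) → Prop}

theorem locusMor_preimage_of_squares (hP : ConsProp.IsFieldStableMor P)
    {S₀ S₁ S₂ : Scheme.{u}} {a : S₁ ⟶ S₀} {h : S₂ ⟶ S₁} {b : S₂ ⟶ S₀} (hb : h ≫ a = b)
    {X₀ Y₀ : Scheme.{u}} {f₀ : X₀ ⟶ Y₀} {g₀ : Y₀ ⟶ S₀}
    [LocallyOfFiniteType g₀] [QuasiCompact g₀]
    [LocallyOfFiniteType (f₀ ≫ g₀)] [QuasiCompact (f₀ ≫ g₀)]
    {X₁ Y₁ : Scheme.{u}} {f₁ : X₁ ⟶ Y₁} {g₁ : Y₁ ⟶ S₁} {pY₁ : Y₁ ⟶ Y₀} {pX₁ : X₁ ⟶ X₀}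
    (sY₁ : IsPullback pY₁ g₁ g₀ a) (sX₁ : IsPullback pX₁ f₁ f₀ pY₁)
    {X₂ Y₂ : Scheme.{u}} {f₂ : X₂ ⟶ Y₂} {g₂ : Y₂ ⟶ S₂} {pY₂ : Y₂ ⟶ Y₀} {pX₂ : X₂ ⟶ X₀}
    (sY₂ : IsPullback pY₂ g₂ g₀ b) (sX₂ : IsPullback pX₂ f₂ f₀ pY₂) :
    ConsProp.locusMor P f₂ g₂ = h ⁻¹' ConsProp.locusMor P f₁ g₁ := by
  obtain ⟨eY, heY, sqY⟩ := exists_isPullback_of_isPullback hb sY₁ sY₂
  obtain ⟨eX, -, sqX⟩ := exists_isPullback_of_isPullback heY sX₁ sX₂
  have : LocallyOfFiniteType g₁ :=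
    MorphismProperty.of_isPullback (P := @LocallyOfFiniteType) sY₁ inferInstance
  have : QuasiCompact g₁ := MorphismProperty.of_isPullback (P := @QuasiCompact) sY₁ inferInstance
  have : LocallyOfFiniteType (f₁ ≫ g₁) :=
    MorphismProperty.of_isPullback (P := @LocallyOfFiniteType) (sX₁.paste_vert sY₁) inferInstance
  have : QuasiCompact (f₁ ≫ g₁) :=
    MorphismProperty.of_isPullback (P := @QuasiCompact) (sX₁.paste_vert sY₁) inferInstance
  exact locusMor_preimage hP sqY sqX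

/-- **EGA IV 9.3.3** for relations on morphisms. -/
theorem forall_mem_locusMor_iff (hP : ConsProp.IsIndConsMor P)
    {I : Type u} [SmallCategory I] [IsCofiltered I]
    (D : I ⥤ Scheme.{u}) (c : Cone D) (hc : IsLimit c)
    [∀ (i j : I) (a : i ⟶ j), IsAffineHom (D.map a)] (i₀ : I) [CompactSpace ↥(D.obj i₀)]
    {X₀ Y₀ : Scheme.{u}} (f₀ : X₀ ⟶ Y₀) (g₀ : Y₀ ⟶ D.obj i₀)
    [LocallyOfFinitePresentation g₀] [QuasiCompact g₀] [QuasiSeparated g₀]
    [LocallyOfFinitePresentation (f₀ ≫ g₀)] [QuasiCompact (f₀ ≫ g₀)] [QuasiSeparated (f₀ ≫ g₀)]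
    {X Y : Scheme.{u}} (f : X ⟶ Y) (g : Y ⟶ c.pt) (qY : Y ⟶ Y₀) (qX : X ⟶ X₀)
    (hY : IsPullback qY g g₀ (c.π.app i₀)) (hX : IsPullback qX f f₀ qY) :
    (∀ s : ↥c.pt, s ∈ ConsProp.locusMor P f g) ↔
      ∃ (j : I) (φ : j ⟶ i₀) (Xj Yj : Scheme.{u}) (fj : Xj ⟶ Yj) (gj : Yj ⟶ D.obj j)
        (pY : Yj ⟶ Y₀) (pX : Xj ⟶ X₀), IsPullback pY gj g₀ (D.map φ) ∧ IsPullback pX fj f₀ pY ∧
          ∀ t : ↥(D.obj j), t ∈ ConsProp.locusMor P fj gj := by
  constructor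
  · intro hall
    let F₀ := Over.forget i₀
    let D' : Over i₀ ⥤ Scheme.{u} := F₀ ⋙ D
    let c' : Cone D' := c.whisker F₀
    have hc' : IsLimit c' := (Functor.Initial.isLimitWhiskerEquiv F₀ c).symm hc
    have hAffE : ∀ (i j : Over i₀) (f : i ⟶ j), IsAffineHom (D'.map f) := fun i j f =>
      inferInstanceAs (IsAffineHom (D.map f.left))
    have hcpt : CompactSpace (D'.obj (Over.mk (𝟙 i₀))) :=
      inferInstanceAs (CompactSpace (D.obj i₀))
    let Floc : ∀ j : Over i₀, Set (D'.obj j) := fun j =>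
      ConsProp.locusMor P (pullback.snd f₀ (pullback.fst g₀ (D.map j.hom)))
        (pullback.snd g₀ (D.map j.hom))
    have sY : ∀ j : Over i₀, IsPullback (pullback.fst g₀ (D.map j.hom))
        (pullback.snd g₀ (D.map j.hom)) g₀ (D.map j.hom) := fun j =>
      IsPullback.of_hasPullback g₀ (D.map j.hom)
    have sX : ∀ j : Over i₀, IsPullback (pullback.fst f₀ (pullback.fst g₀ (D.map j.hom)))
        (pullback.snd f₀ (pullback.fst g₀ (D.map j.hom))) f₀ (pullback.fst g₀ (D.map j.hom)) :=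
      fun j => IsPullback.of_hasPullback f₀ (pullback.fst g₀ (D.map j.hom))
    have hstage : ∀ j : Over i₀,
        ConsProp.locusMor P f g = (c.π.app j.left) ⁻¹' Floc j := fun j =>
      locusMor_preimage_of_squares hP.1 (c.w j.hom) (sY j) (sX j) hY hX
    have hFind : ∀ j, ProCons.IsIndConstructible (Floc j) := by
      intro j
      have h1 : LocallyOfFinitePresentation (pullback.snd f₀ (pullback.fst g₀ (D.map j.hom)) ≫
          pullback.snd g₀ (D.map j.hom)) :=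
        MorphismProperty.of_isPullback (P := @LocallyOfFinitePresentation)
          ((sX j).paste_vert (sY j)) inferInstance
      have h2 : QuasiCompact (pullback.snd f₀ (pullback.fst g₀ (D.map j.hom)) ≫
          pullback.snd g₀ (D.map j.hom)) :=
        MorphismProperty.of_isPullback (P := @QuasiCompact)
          ((sX j).paste_vert (sY j)) inferInstance
      have h3 : QuasiSeparated (pullback.snd f₀ (pullback.fst g₀ (D.map j.hom)) ≫
          pullback.snd g₀ (D.map j.hom)) :=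
        MorphismProperty.of_isPullback (P := @QuasiSeparated)
          ((sX j).paste_vert (sY j)) inferInstance
      exact isIndConstructible_locusMor hP (pullback.snd f₀ (pullback.fst g₀ (D.map j.hom)))
        (pullback.snd g₀ (D.map j.hom))
    have hFm : ∀ (j k : Over i₀) (f : j ⟶ k), ⇑(D'.map f) ⁻¹' Floc k ⊆ Floc j := by
      intro j k f
      have := locusMor_preimage_of_squares hP.1
        (show D.map f.left ≫ D.map k.hom = D.map j.hom by rw [← D.map_comp, Over.w f])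
        (sY k) (sX k) (sY j) (sX j)
      exact this.ge
    have hEF : (⋂ i, ⇑(c'.π.app i) ⁻¹' (Set.univ : Set (D'.obj i)) : Set c'.pt) ⊆
        (⋃ i, ⇑(c'.π.app i) ⁻¹' Floc i : Set c'.pt) := by
      intro s _
      refine Set.mem_iUnion.mpr ⟨Over.mk (𝟙 i₀), ?_⟩
      have := hall s
      rw [hstage (Over.mk (𝟙 i₀))] at this
      exact this
    obtain ⟨i, -, hi⟩ := (iInter_subset_iUnion_iff D' c' hc' (Over.mk (𝟙 i₀))
      (fun _ => Set.univ) Floc (fun _ => isProConstructible_univ) hFind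
      (fun _ _ _ _ _ => trivial) hFm).mp hEF
    exact ⟨i.left, i.hom, _, _, _, _, _, _, sY i, sX i, fun t => hi i (𝟙 i) (Set.mem_univ t)⟩
  · rintro ⟨j, φ, Xj, Yj, fj, gj, pY, pX, sY, sX, ht⟩ s
    rw [locusMor_preimage_of_squares hP.1 (c.w φ) sY sX hY hX]
    exact ht _

end Mor

end Groth.Agent.H24
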