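import Mathlib
import Groth.Agent.H24.DescFP
import Groth.Agent.S2075
import Groth.Agent.S9192

/-!
# Coverings descend to a finite stage of a cofiltered limit (helper24)

`exists_cover_descend_of_descends`: for a class `Q` of flat morphisms, stable under base change
and descending along cofiltered limits (in the form of `S2075` / `S9192`), every `Q`-covering of
the limit by morphisms of finite presentation descends to a finite `Q`-covering of a stage.
-/

set_option autoImplicit false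

open CategoryTheory AlgebraicGeometry Limits TopologicalSpace Topology

universe u

namespace Groth.Agent.H24

section

variable {I : Type u} [SmallCategory I] [IsCofiltered I] (D : I ⥤ Scheme.{u}) (c : Cone D)

/-- Stage data for `h : Z ⟶ c.pt` at `i` with the extra property `Q`. -/
def QDescAt (Q : MorphismProperty Scheme.{u}) {Z : Scheme.{u}} (h : Z ⟶ c.pt) (i : I) : Prop :=
  ∃ (Zi : Scheme.{u}) (hi : Zi ⟶ D.obj i) (g : Z ⟶ Zi), Q hi ∧ LocallyOfFinitePresentation hi ∧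
    QuasiCompact hi ∧ QuasiSeparated hi ∧ IsPullback g h hi (c.π.app i)

variable {D c}

theorem QDescAt.restage [∀ {i j : I} (f : i ⟶ j), IsAffineHom (D.map f)]
    {Q : MorphismProperty Scheme.{u}} [Q.IsStableUnderBaseChange]
    {Z : Scheme.{u}} {h : Z ⟶ c.pt} {i j : I}
    (hd : QDescAt D c Q h i) (φ : j ⟶ i) : QDescAt D c Q h j := by
  obtain ⟨Zi, hi, g, hQ, h1, h2, h3, sq⟩ := hd
  obtain ⟨g', -, -, sq'⟩ := restage_data hi g sq φ
  exact ⟨pullback hi (D.map φ), pullback.snd hi (D.map φ), g', Q.pullback_snd _ _ hQ,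
    inferInstance, inferInstance, inferInstance, sq'⟩

omit [IsCofiltered I] in
theorem QDescAt.of_squares {Q : MorphismProperty Scheme.{u}} [Q.RespectsIso] {Z : Scheme.{u}}
    {h : Z ⟶ c.pt} {i₀ : I} {Zi : Scheme.{u}} (hi : Zi ⟶ D.obj i₀) (g : Z ⟶ Zi)
    [LocallyOfFinitePresentation hi] [QuasiCompact hi] [QuasiSeparated hi]
    (sq : IsPullback g h hi (c.π.app i₀))
    (H : ∃ (i : I) (φ : i ⟶ i₀) (Xi Yi : Scheme.{u}) (fi : Xi ⟶ Yi) (gi : Yi ⟶ D.obj i)
      (pY : Yi ⟶ D.obj i₀) (pX : Xi ⟶ Zi), IsPullback pY gi (𝟙 (D.obj i₀)) (D.map φ) ∧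
        IsPullback pX fi hi pY ∧ Q fi) :
    ∃ j, QDescAt D c Q h j := by
  obtain ⟨i, φ, Xi, Yi, fi, gi, pY, pX, h1, h2, hQ⟩ := H
  have : IsIso gi := h1.isIso_snd_of_isIso
  have h3 : IsPullback pX (fi ≫ gi) hi (D.map φ) := by
    have := h2.paste_vert h1
    rwa [Category.comp_id] at this
  have w : g ≫ hi = (h ≫ c.π.app i) ≫ D.map φ := by rw [sq.w, Category.assoc, c.w]
  refine ⟨i, Xi, fi ≫ gi, h3.lift g (h ≫ c.π.app i) w,
    (Q.cancel_right_of_respectsIso fi gi).mpr hQ,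
    MorphismProperty.of_isPullback (P := @LocallyOfFinitePresentation) h3 inferInstance,
    MorphismProperty.of_isPullback (P := @QuasiCompact) h3 inferInstance,
    MorphismProperty.of_isPullback (P := @QuasiSeparated) h3 inferInstance, ?_⟩
  refine IsPullback.of_right ?_ (h3.lift_snd _ _ _) h3
  rw [h3.lift_fst, c.w]
  exact sq

end

section Main

variable {I : Type u} [SmallCategory I] [IsCofiltered I] {D : I ⥤ Scheme.{u}} {c : Cone D}
  (hc : IsLimit c) [∀ {i j : I} (f : i ⟶ j), IsAffineHom (D.map f)]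
  [∀ i, CompactSpace (D.obj i)] [∀ i, QuasiSeparatedSpace (D.obj i)]

include hc in
omit [∀ i, QuasiSeparatedSpace (D.obj i)] in
/-- Coverings descend: version for a system all of whose objects are quasi-compact. -/
theorem exists_cover_descend (Q : MorphismProperty Scheme.{u}) [Q.IsStableUnderBaseChange]
    (hflat : ∀ {X Y : Scheme.{u}} (f : X ⟶ Y), Q f → Flat f)
    (hQdesc : ∀ {Z : Scheme.{u}} (h : Z ⟶ c.pt) [LocallyOfFinitePresentation h] [QuasiCompact h]
      [QuasiSeparated h], Q h → ∃ j, QDescAt D c Q h j)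
    {ι : Type u} (U : ι → Scheme.{u}) (u : ∀ a, U a ⟶ c.pt) (hQ : ∀ a, Q (u a))
    [∀ a, LocallyOfFinitePresentation (u a)] [∀ a, QuasiCompact (u a)]
    [∀ a, QuasiSeparated (u a)]
    (hcov : ∀ x : c.pt, ∃ (a : ι) (y : U a), (u a).base y = x) :
    ∃ (i : I) (n : ℕ) (V : Fin n → Scheme.{u}) (v : ∀ j, V j ⟶ D.obj i) (a : Fin n → ι)
      (e : ∀ j, U (a j) ⟶ V j),
      (∀ j, Q (v j) ∧ LocallyOfFinitePresentation (v j) ∧ QuasiCompact (v j) ∧
        QuasiSeparated (v j)) ∧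
      (∀ x : D.obj i, ∃ (j : Fin n) (y : V j), (v j).base y = x) ∧
      ∀ j, IsPullback (e j) (u (a j)) (v j) (c.π.app i) := by
  classical
  obtain ⟨i₀⟩ := IsCofiltered.nonempty (C := I)
  have hπaff : ∀ i, IsAffineHom (c.π.app i) := fun i => isAffineHom_π_app D c hc i
  have hcS : CompactSpace c.pt := QuasiCompact.compactSpace_of_compactSpace (c.π.app i₀)
  have hopen : ∀ {X Y : Scheme.{u}} (f : X ⟶ Y), Q f → LocallyOfFinitePresentation f →
      IsOpenMap f := by
    intro X Y f hf hlfp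
    have := hflat f hf
    exact f.isOpenMap
  -- a finite subcover
  obtain ⟨t, ht⟩ := isCompact_univ.elim_finite_subcover (fun a => Set.range (u a))
    (fun a => (hopen (u a) (hQ a) inferInstance).isOpen_range) (by
      intro x _
      obtain ⟨a, y, hy⟩ := hcov x
      exact Set.mem_iUnion.mpr ⟨a, y, hy⟩)
  let n := t.card
  let a : Fin n → ι := fun j => (t.equivFin.symm j).1
  have ha : ∀ b ∈ t, ∃ j, a j = b := fun b hb => ⟨t.equivFin ⟨b, hb⟩, by simp [a]⟩
  have hcov' : ∀ x : c.pt, ∃ (j : Fin n) (y : U (a j)), (u (a j)) y = x := by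
    intro x
    obtain ⟨b, hb, y, hy⟩ := Set.mem_iUnion₂.mp (ht (Set.mem_univ x))
    obtain ⟨j, rfl⟩ := ha b hb
    exact ⟨j, y, hy⟩
  -- a common stage
  have h2 : ∀ j : Fin n, ∃ k, QDescAt D c Q (u (a j)) k := fun j => hQdesc (u (a j)) (hQ (a j))
  choose k hk using h2
  obtain ⟨S, hS⟩ := IsCofiltered.inf_objs_exists (Finset.univ.image k)
  have h3 : ∀ j : Fin n, QDescAt D c Q (u (a j)) S := fun j =>
    (hk j).restage (hS (Finset.mem_image_of_mem _ (Finset.mem_univ j))).some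
  choose Z hi g hQi hLFP hQC hQS sq using h3
  -- joint surjectivity at a later stage
  have hopeni : ∀ j, IsOpen (Set.range (hi j)) := fun j =>
    (hopen (hi j) (hQi j) (hLFP j)).isOpen_range
  let O : (D.obj S).Opens := ⨆ j : Fin n, ⟨Set.range (hi j), hopeni j⟩
  have hO : c.π.app S ⁻¹ᵁ O = ⊤ := by
    rw [eq_top_iff]
    intro x _
    obtain ⟨j, y, hy⟩ := hcov' x
    change (c.π.app S) x ∈ O
    refine Opens.mem_iSup.mpr ⟨j, ?_⟩
    change (c.π.app S) x ∈ Set.range (hi j)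
    refine ⟨(g j) y, ?_⟩
    rw [← hy, ← Scheme.Hom.comp_apply, ← Scheme.Hom.comp_apply, (sq j).w]
  obtain ⟨S', φ, hφ⟩ := exists_map_eq_top D c hc O hO
  have h5 : ∀ j, ∃ g' : U (a j) ⟶ pullback (hi j) (D.map φ),
      g' ≫ pullback.fst (hi j) (D.map φ) = g j ∧
      g' ≫ pullback.snd (hi j) (D.map φ) = u (a j) ≫ c.π.app S' ∧
      IsPullback g' (u (a j)) (pullback.snd (hi j) (D.map φ)) (c.π.app S') := fun j =>
    restage_data (hi j) (g j) (sq j) φ
  choose g' _ _ sq' using h5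
  refine ⟨S', n, fun j => pullback (hi j) (D.map φ), fun j => pullback.snd (hi j) (D.map φ), a,
    g', fun j => ⟨Q.pullback_snd _ _ (hQi j), ?_, ?_, ?_⟩, ?_, sq'⟩
  · have := hLFP j; infer_instance
  · have := hQC j; infer_instance
  · have := hQS j; infer_instance
  · intro x
    have hx : (D.map φ) x ∈ O := by
      have : x ∈ D.map φ ⁻¹ᵁ O := by rw [hφ]; trivial
      exact this
    obtain ⟨j, hj⟩ := Opens.mem_iSup.mp hx
    obtain ⟨z, hz⟩ : (D.map φ) x ∈ Set.range (hi j) := hj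
    obtain ⟨w, -, hw⟩ :=
      Scheme.Pullback.exists_preimage_pullback (f := hi j) (g := D.map φ) z x hz
    exact ⟨j, w, hw⟩

end Main

/-- The form of the descent statement for a property `Q` (as in `S2075` / `S9192`). -/
def DescendsAlongLimits (Q : MorphismProperty Scheme.{u}) : Prop :=
  ∀ {J : Type u} [SmallCategory J] [IsCofiltered J] (E : J ⥤ Scheme.{u}) (d : Cone E)
    (_ : IsLimit d) [∀ (i j : J) (f : i ⟶ j), IsAffineHom (E.map f)] (j₀ : J)
    [CompactSpace (E.obj j₀)] [QuasiSeparatedSpace (E.obj j₀)] {X₀ Y₀ : Scheme.{u}}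
    (f₀ : X₀ ⟶ Y₀) (g₀ : Y₀ ⟶ E.obj j₀) [CompactSpace X₀] [QuasiSeparatedSpace X₀]
    [CompactSpace Y₀] [QuasiSeparatedSpace Y₀] [LocallyOfFinitePresentation f₀]
    {X Y : Scheme.{u}} (f : X ⟶ Y) (g : Y ⟶ d.pt) (qY : Y ⟶ Y₀) (qX : X ⟶ X₀)
    (_ : IsPullback qY g g₀ (d.π.app j₀)) (_ : IsPullback qX f f₀ qY), Q f →
    ∃ (i : J) (φ : i ⟶ j₀) (Xi Yi : Scheme.{u}) (fi : Xi ⟶ Yi) (gi : Yi ⟶ E.obj i)
      (pY : Yi ⟶ Y₀) (pX : Xi ⟶ X₀), IsPullback pY gi g₀ (E.map φ) ∧ IsPullback pX fi f₀ pY ∧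
        Q fi

theorem descendsAlongLimits_flat : DescendsAlongLimits.{u} @Flat := by
  intro J _ _ E d hd _ j₀ _ _ X₀ Y₀ f₀ g₀ _ _ _ _ _ X Y f g qY qX hY hX hQ
  have : Flat f := hQ
  exact Groth.Agent.S2075.result E d hd j₀ f₀ g₀ f g qY qX hY hX

theorem descendsAlongLimits_etale : DescendsAlongLimits.{u} @Etale := by
  intro J _ _ E d hd _ j₀ _ _ X₀ Y₀ f₀ g₀ _ _ _ _ _ X Y f g qY qX hY hX hQ
  have : Etale f := hQ
  exact Groth.Agent.S9192.result E d hd j₀ f₀ g₀ f g qY qX hY hX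

/-- Coverings descend: one quasi-compact quasi-separated stage suffices. -/
theorem exists_cover_descend_of_descends (Q : MorphismProperty Scheme.{u})
    [Q.IsStableUnderBaseChange] (hflat : ∀ {X Y : Scheme.{u}} (f : X ⟶ Y), Q f → Flat f)
    (hdesc : DescendsAlongLimits Q)
    {I : Type u} [SmallCategory I] [IsCofiltered I]
    (D : I ⥤ Scheme.{u}) (c : Cone D) (hc : IsLimit c)
    [∀ (i j : I) (t : i ⟶ j), IsAffineHom (D.map t)] (i₀ : I) [CompactSpace (D.obj i₀)]
    [QuasiSeparatedSpace (D.obj i₀)] {ι : Type u} (U : ι → Scheme.{u}) (u : ∀ a, U a ⟶ c.pt)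
    (hQ : ∀ a, Q (u a))
    [∀ a, LocallyOfFinitePresentation (u a)] [∀ a, QuasiCompact (u a)]
    [∀ a, QuasiSeparated (u a)]
    (hcov : ∀ x : c.pt, ∃ (a : ι) (y : U a), (u a).base y = x) :
    ∃ (i : I) (n : ℕ) (V : Fin n → Scheme.{u}) (v : ∀ j, V j ⟶ D.obj i) (a : Fin n → ι)
      (e : ∀ j, U (a j) ⟶ V j),
      (∀ j, Q (v j) ∧ LocallyOfFinitePresentation (v j) ∧ QuasiCompact (v j) ∧
        QuasiSeparated (v j)) ∧
      (∀ x : D.obj i, ∃ (j : Fin n) (y : V j), (v j).base y = x) ∧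
      ∀ j, IsPullback (e j) (u (a j)) (v j) (c.π.app i) := by
  let F := Over.forget i₀
  let D' : Over i₀ ⥤ Scheme.{u} := F ⋙ D
  let c' : Cone D' := c.whisker F
  have hc' : IsLimit c' := (Functor.Initial.isLimitWhiskerEquiv F c).symm hc
  have hAffE : ∀ (i j : Over i₀) (f : i ⟶ j), IsAffineHom (D'.map f) := fun i j f =>
    inferInstanceAs (IsAffineHom (D.map f.left))
  have hAffI : ∀ {i j : Over i₀} (f : i ⟶ j), IsAffineHom (D'.map f) := fun {i j} f =>
    hAffE i j f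
  have hcpt' : ∀ (j : I) (_ : j ⟶ i₀), CompactSpace (D.obj j) := fun j f =>
    QuasiCompact.compactSpace_of_compactSpace (D.map f)
  have hqs' : ∀ (j : I) (_ : j ⟶ i₀), QuasiSeparatedSpace (D.obj j) := fun j f =>
    quasiSeparatedSpace_of_quasiSeparated (D.map f)
  have hcpt : ∀ i : Over i₀, CompactSpace (D'.obj i) := fun i => hcpt' i.left i.hom
  have hqs : ∀ i : Over i₀, QuasiSeparatedSpace (D'.obj i) := fun i => hqs' i.left i.hom
  obtain ⟨i, n, V, v, a, e, h1, h2, h3⟩ := exists_cover_descend (D := D') (c := c') hc' Q hflat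
    (fun {Z} h _ _ _ hQh => by
      obtain ⟨i, Zi, hi, g, h1, h2, h3, sq⟩ := desc_of_finitePresentation hc' h
      have : CompactSpace Zi := QuasiCompact.compactSpace_of_compactSpace hi
      have : QuasiSeparatedSpace Zi := quasiSeparatedSpace_of_quasiSeparated hi
      exact QDescAt.of_squares hi g sq
        (hdesc D' c' hc' i hi (𝟙 _) h (𝟙 _) (c'.π.app i) g (IsPullback.id_vert _) sq hQh))
    U u hQ hcov
  exact ⟨i.left, n, V, v, a, e, h1, h2, h3⟩

end Groth.Agent.H24
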