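import Mathlib
import Groth.Agent.H24.StalkLim

/-!
# Cycles on a Noetherian cofiltered limit of schemes come from a stage (helper24)
-/

set_option autoImplicit false
set_option linter.style.haveILetI false

open CategoryTheory CategoryTheory.Limits AlgebraicGeometry Opposite TopologicalSpace

universe u

namespace Groth.Agent.H24.CycleLim

open FibreGeneric StalkLim

/-- A finitely supported function is the coefficient function of a cycle. -/
theorem exists_cycle_of_finite_support {Y : Scheme.{u}} (a : Y → ℤ)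
    (h : (Function.support a).Finite) : ∃ α : AlgebraicCycle Y ℤ, ⇑α = a :=
  ⟨{ toFun := a
     supportWithinDomain' := Set.subset_univ _
     supportLocallyFiniteWithinDomain' := fun _ _ =>
       ⟨Set.univ, Filter.univ_mem, h.subset Set.inter_subset_right⟩ }, rfl⟩

/-- The pointwise verification: a finitely supported function on `X`, supported in dimension `k`,
is the flat pullback (shift `0`) of a function on `Y` provided its support maps injectively to `Y`
and at each point `s` of the support the maximal ideal of `s` is generated by that of its image,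
and the fibre through `s` lies in the closure of `s`. -/
theorem exists_pullFun_eq {X Y : Scheme.{u}} (g : X ⟶ Y) (δX : X → ℤ) (δY : Y → ℤ)
    (hdim : Cyc.IsDimFun X δX)
    (hshift : ∀ x : X, (∀ y, g y = g x → y ⤳ x → y = x) → δX x = δY (g x))
    (k : ℤ) (α' : X → ℤ) (hα' : ∀ x, δX x ≠ k → α' x = 0) (S : Finset X)
    (hS : ∀ x, x ∈ S ↔ α' x ≠ 0)
    (hC1 : ∀ s ∈ S, fibId g s = IsLocalRing.maximalIdeal (X.presheaf.stalk s))
    (hC2 : ∀ s ∈ S, g ⁻¹' closure {g s} ⊆ closure {s})
    (hC3 : ∀ s ∈ S, ∀ s' ∈ S, s ≠ s' → g s ≠ g s') :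
    ∃ a : Y → ℤ, (Function.support a).Finite ∧ (∀ z, δY z ≠ k → a z = 0) ∧
      Cyc.pullFun g δX δY 0 a = α' := by
  classical
  have hgen : ∀ s ∈ S, FibGen g s := fun s hs => fibGen_of_fibId_eq g s (hC1 s hs)
  have hδ : ∀ s ∈ S, δX s = δY (g s) := fun s hs => hshift s (hgen s hs)
  have hk : ∀ s ∈ S, δX s = k := fun s hs => by
    by_contra h
    exact (hS s).mp hs (hα' s h)
  let a : Y → ℤ := fun z => ∑ s ∈ S, if g s = z then α' s else 0
  have ha_apply : ∀ s ∈ S, a (g s) = α' s := by
    intro s hs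
    show (∑ s' ∈ S, if g s' = g s then α' s' else 0) = α' s
    rw [Finset.sum_eq_single s]
    · rw [if_pos rfl]
    · intro s' hs' hne
      rw [if_neg (hC3 s' hs' s hs hne)]
    · intro h
      exact absurd hs h
  have ha_zero : ∀ z, (∀ s ∈ S, g s ≠ z) → a z = 0 := by
    intro z hz
    exact Finset.sum_eq_zero fun s hs => if_neg (hz s hs)
  refine ⟨a, ?_, ?_, ?_⟩
  · refine (S.image g).finite_toSet.subset fun z hz => ?_
    by_contra hcon
    refine hz (ha_zero z fun s hs hsz => hcon ?_)
    exact Finset.mem_coe.mpr (Finset.mem_image.mpr ⟨s, hs, hsz⟩)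
  · intro z hz
    refine ha_zero z fun s hs hsz => hz ?_
    rw [← hsz, ← hδ s hs, hk s hs]
  · funext y
    rw [Cyc.pullFun]
    by_cases hyS : y ∈ S
    · rw [if_pos (by rw [add_zero]; exact hδ y hyS), ha_apply y hyS,
        length_quot_eq_one _ (hC1 y hyS), Nat.cast_one, mul_one]
    · have hy0 : α' y = 0 := by
        by_contra h
        exact hyS ((hS y).mpr h)
      rw [hy0]
      by_cases hex : ∃ s ∈ S, g s = g y
      · obtain ⟨s, hs, hsy⟩ := hex
        have hsp : s ⤳ y := specializes_iff_mem_closure.mpr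
          (hC2 s hs (show g y ∈ closure {g s} by rw [← hsy]; exact subset_closure rfl))
        have hne : s ≠ y := fun h => hyS (h ▸ hs)
        have hlt : δX y < δX s := (hdim s y hsp hne).1
        rw [if_neg]
        rw [add_zero, ← hsy, ← hδ s hs]
        exact ne_of_lt hlt
      · have hex' : ∀ s ∈ S, g s ≠ g y := fun s hs h => hex ⟨s, hs, h⟩
        rw [ha_zero _ hex', zero_mul, ite_self]

section Lim

variable {J : Type u} [SmallCategory J] [IsCofiltered J] (D : J ⥤ Scheme.{u}) (c : Cone D)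
  (hc : IsLimit c) [∀ (i j : J) (f : i ⟶ j), IsAffineHom (D.map f)]

include hc in
/-- **Every cycle of dimension `k` on a Noetherian limit is the pullback of a cycle of dimension
`k` on a stage.** -/
theorem exists_cycle_pullFun_eq [IsLocallyNoetherian c.pt] [CompactSpace c.pt]
    (δ : ∀ j : J, D.obj j → ℤ) (δ' : c.pt → ℤ) (hdim : Cyc.IsDimFun c.pt δ')
    (hshift' : ∀ (j : J) (x : c.pt),
      (∀ y, c.π.app j y = c.π.app j x → y ⤳ x → y = x) → δ' x = δ j (c.π.app j x))
    (k : ℤ) (α' : AlgebraicCycle c.pt ℤ) (hα' : α' ∈ Cyc.Zk c.pt δ' k) :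
    ∃ (i : J) (α : AlgebraicCycle (D.obj i) ℤ), α ∈ Cyc.Zk (D.obj i) (δ i) k ∧
      Cyc.pullFun (c.π.app i) δ' (δ i) 0 ⇑α = ⇑α' := by
  classical
  haveI : IsNoetherian c.pt := {}
  have hfin : (Function.support ⇑α').Finite := by
    have := (Function.locallyFinsupp.locallyFiniteSupport α').finite_inter_support_of_isCompact
      isCompact_univ
    rwa [Set.univ_inter] at this
  let S : Finset c.pt := hfin.toFinset
  have hS : ∀ x, x ∈ S ↔ α' x ≠ 0 := fun x => by
    rw [Set.Finite.mem_toFinset, Function.mem_support]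
  choose j1 hj1 using fun x' : c.pt => exists_stage_fibId_eq D c hc x'
  choose j2 hj2 using fun x' : c.pt => exists_stage_preimage_closure_subset D c hc x'
  have h3 : ∀ p : c.pt × c.pt, ∃ j₀ : J, p.1 ≠ p.2 →
      ∀ (j : J) (_ : j ⟶ j₀), c.π.app j p.1 ≠ c.π.app j p.2 := fun p => by
    by_cases h : p.1 = p.2
    · obtain ⟨i₀⟩ := IsCofiltered.nonempty (C := J)
      exact ⟨i₀, fun h' => absurd h h'⟩
    · obtain ⟨j₀, hj₀⟩ := exists_stage_ne D c hc p.1 p.2 h
      exact ⟨j₀, fun _ => hj₀⟩
  choose j3 hj3 using h3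
  obtain ⟨i, hi⟩ := IsCofiltered.inf_objs_exists
    (S.image j1 ∪ S.image j2 ∪ (S ×ˢ S).image j3)
  have hC1 : ∀ s ∈ S, fibId (c.π.app i) s = IsLocalRing.maximalIdeal (c.pt.presheaf.stalk s) :=
    fun s hs => hj1 s i (hi (Finset.mem_union_left _ (Finset.mem_union_left _
      (Finset.mem_image_of_mem j1 hs)))).some
  have hC2 : ∀ s ∈ S, (c.π.app i) ⁻¹' closure {c.π.app i s} ⊆ closure {s} :=
    fun s hs => hj2 s i (hi (Finset.mem_union_left _ (Finset.mem_union_right _
      (Finset.mem_image_of_mem j2 hs)))).some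
  have hC3 : ∀ s ∈ S, ∀ s' ∈ S, s ≠ s' → c.π.app i s ≠ c.π.app i s' :=
    fun s hs s' hs' hne => hj3 (s, s') hne i (hi (Finset.mem_union_right _
      (Finset.mem_image_of_mem j3 (Finset.mem_product.mpr ⟨hs, hs'⟩)))).some
  obtain ⟨a, hafin, hak, hapull⟩ := exists_pullFun_eq (X := c.pt) (Y := D.obj i) (c.π.app i) δ'
    (δ i) hdim (hshift' i) k ⇑α' hα' S hS hC1 hC2 hC3
  obtain ⟨α, hα⟩ := exists_cycle_of_finite_support a hafin
  refine ⟨i, α, ?_, ?_⟩
  · intro z hz
    rw [hα]
    exact hak z hz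
  · rw [hα]
    exact hapull

end Lim

end Groth.Agent.H24.CycleLim
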