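import Mathlib

open CategoryTheory AlgebraicGeometry TopologicalSpace

universe u

namespace Groth.Agent.H24

theorem coe_map_eq_closure_singleton {X W : Type*} [TopologicalSpace X] [TopologicalSpace W]
    (g : X → W) (hg : Continuous g) (Z : IrreducibleCloseds X) (x : X)
    (hx : IsGenericPoint x (Z : Set X)) :
    (IrreducibleCloseds.map g hg Z : Set W) = closure {g x} := by
  rw [IrreducibleCloseds.coe_map, ← hx.def, closure_image_closure hg, Set.image_singleton]

theorem map_strictMono_of_isDiscrete_fibres {X W : Type*} [TopologicalSpace X]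
    [TopologicalSpace W] [QuasiSober X] [T0Space W] (g : X → W) (hg : Continuous g)
    (hd : ∀ w, _root_.IsDiscrete (g ⁻¹' {w})) : StrictMono (IrreducibleCloseds.map g hg) := by
  intro Z Z' hlt
  refine lt_of_le_of_ne (IrreducibleCloseds.map_mono hg hlt.le) (fun heq => ?_)
  obtain ⟨x, hx⟩ := QuasiSober.sober Z.isIrreducible Z.isClosed
  obtain ⟨x', hx'⟩ := QuasiSober.sober Z'.isIrreducible Z'.isClosed
  have h1 : closure {g x} = closure {g x'} := by
    rw [← coe_map_eq_closure_singleton g hg Z x hx,
      ← coe_map_eq_closure_singleton g hg Z' x' hx', heq]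
  have h2 : g x = g x' := (inseparable_iff_closure_eq.mpr h1).eq
  have hsp : x' ⤳ x := by
    rw [specializes_iff_mem_closure, hx'.def]
    exact hlt.le hx.mem
  have h3 : x' = x := (hd (g x)).eq_of_specializes hsp h2.symm rfl
  apply hlt.ne
  apply SetLike.coe_injective
  rw [← hx.def, ← hx'.def, h3]

/-- quasi-finite-type maps do not lower dimension (onto the closure of the image) -/
theorem topologicalKrullDim_le_closure_range {X Y : Type*} [TopologicalSpace X]
    [TopologicalSpace Y] [QuasiSober X] [T0Space Y] (f : X → Y) (hf : Continuous f)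
    (hd : ∀ y, _root_.IsDiscrete (f ⁻¹' {y})) :
    topologicalKrullDim X ≤ topologicalKrullDim (closure (Set.range f)) := by
  let g : X → closure (Set.range f) := fun x => ⟨f x, subset_closure (Set.mem_range_self x)⟩
  have hg : Continuous g := hf.subtype_mk _
  have hdg : ∀ w, _root_.IsDiscrete (g ⁻¹' {w}) := by
    intro w
    have : g ⁻¹' {w} = f ⁻¹' {w.1} := by
      ext x
      simp only [Set.mem_preimage, Set.mem_singleton_iff, g]
      exact ⟨fun h => congrArg Subtype.val h, fun h => Subtype.ext h⟩
    rw [this]
    exact hd _
  exact Order.krullDim_le_of_strictMono _ (map_strictMono_of_isDiscrete_fibres g hg hdg)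

/-- finite-type maps (continuous closed surjections with discrete fibres) preserve dimension -/
theorem topologicalKrullDim_eq_of_isClosedMap_surjective {X W : Type*} [TopologicalSpace X]
    [TopologicalSpace W] [QuasiSober X] [QuasiSober W] [T0Space W] (g : X → W) (hg : Continuous g)
    (hcl : IsClosedMap g) (hsurj : Function.Surjective g)
    (hd : ∀ w, _root_.IsDiscrete (g ⁻¹' {w})) :
    topologicalKrullDim X = topologicalKrullDim W := by
  have hsm := map_strictMono_of_isDiscrete_fibres g hg hd
  have hlift : ∀ (Z : IrreducibleCloseds X) (T : IrreducibleCloseds W),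
      T < IrreducibleCloseds.map g hg Z → ∃ Z' : IrreducibleCloseds X, Z' < Z ∧
        IrreducibleCloseds.map g hg Z' = T := by
    intro Z T hT
    obtain ⟨w, hw⟩ := QuasiSober.sober T.isIrreducible T.isClosed
    have hwZ : w ∈ g '' (Z : Set X) := by
      have h1 : w ∈ (IrreducibleCloseds.map g hg Z : Set W) := hT.le hw.mem
      rwa [IrreducibleCloseds.coe_map, (hcl _ Z.isClosed).closure_eq] at h1
    obtain ⟨x', hx'Z, rfl⟩ := hwZ
    let Z' : IrreducibleCloseds X :=
      ⟨closure {x'}, isIrreducible_singleton.closure, isClosed_closure⟩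
    have hZ'gen : IsGenericPoint x' (Z' : Set X) := rfl
    have hmap : IrreducibleCloseds.map g hg Z' = T := by
      apply SetLike.coe_injective
      rw [coe_map_eq_closure_singleton g hg Z' x' hZ'gen]
      exact hw.def
    have hle : Z' ≤ Z := by
      change closure {x'} ⊆ (Z : Set X)
      exact Z.isClosed.closure_subset_iff.mpr (Set.singleton_subset_iff.mpr hx'Z)
    refine ⟨Z', lt_of_le_of_ne hle (fun h => ?_), hmap⟩
    rw [h] at hmap
    exact hT.ne hmap.symm
  have hsurjmap : Function.Surjective (IrreducibleCloseds.map g hg) := by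
    intro T
    obtain ⟨w, hw⟩ := QuasiSober.sober T.isIrreducible T.isClosed
    obtain ⟨x, rfl⟩ := hsurj w
    let Z₀ : IrreducibleCloseds X :=
      ⟨closure {x}, isIrreducible_singleton.closure, isClosed_closure⟩
    have hZ₀ : IsGenericPoint x (Z₀ : Set X) := rfl
    refine ⟨Z₀, ?_⟩
    apply SetLike.coe_injective
    rw [coe_map_eq_closure_singleton g hg Z₀ x hZ₀]
    exact hw.def
  unfold topologicalKrullDim
  rw [Order.krullDim_eq_iSup_height, Order.krullDim_eq_iSup_height]
  apply le_antisymm
  · refine iSup_le fun Z => ?_
    rw [Order.height_eq_of_strictMono _ hsm hlift Z]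
    exact le_iSup (fun T : IrreducibleCloseds W => (Order.height T : WithBot ℕ∞)) _
  · refine iSup_le fun T => ?_
    obtain ⟨Z, rfl⟩ := hsurjmap T
    rw [← Order.height_eq_of_strictMono _ hsm hlift Z]
    exact le_iSup (fun Z : IrreducibleCloseds X => (Order.height Z : WithBot ℕ∞)) _


theorem dim_le_of_locallyQuasiFinite {X Y : Scheme.{u}} (f : X ⟶ Y) [LocallyQuasiFinite f] :
    topologicalKrullDim X ≤ topologicalKrullDim (closure (Set.range f.base)) ∧
      topologicalKrullDim (closure (Set.range f.base)) ≤ topologicalKrullDim Y :=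
  ⟨topologicalKrullDim_le_closure_range f.base f.continuous
    (fun y => f.isDiscrete_preimage_singleton y), topologicalKrullDim_subspace_le Y _⟩

theorem dim_eq_of_isFinite {X Y : Scheme.{u}} (f : X ⟶ Y) [IsFinite f] :
    topologicalKrullDim X = topologicalKrullDim (Set.range f.base) ∧
      (Function.Surjective f.base → topologicalKrullDim X = topologicalKrullDim Y) := by
  have hcl : IsClosedMap f.base := f.isClosedMap
  have hd : ∀ y, _root_.IsDiscrete (f.base ⁻¹' {y}) := fun y => f.isDiscrete_preimage_singleton y
  constructor
  · have hclosed : IsClosed (Set.range f.base) := hcl.isClosed_range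
    have : QuasiSober (Set.range f.base) :=
      hclosed.isClosedEmbedding_subtypeVal.quasiSober
    let g : X → Set.range f.base := Set.rangeFactorization f.base
    have hg : Continuous g := f.continuous.subtype_mk _
    have hgcl : IsClosedMap g := by
      intro C hC
      have : g '' C = Subtype.val ⁻¹' (f.base '' C) := by
        ext ⟨w, hw⟩
        simp only [Set.mem_image, Set.mem_preimage, g, Set.rangeFactorization, Subtype.mk.injEq]
      rw [this]
      exact (hcl C hC).preimage continuous_subtype_val
    have hdg : ∀ w, _root_.IsDiscrete (g ⁻¹' {w}) := by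
      intro w
      have : g ⁻¹' {w} = f.base ⁻¹' {w.1} := by
        ext x
        simp only [Set.mem_preimage, Set.mem_singleton_iff, g, Set.rangeFactorization]
        exact ⟨fun h => congrArg Subtype.val h, fun h => Subtype.ext h⟩
      rw [this]
      exact hd _
    exact topologicalKrullDim_eq_of_isClosedMap_surjective g hg hgcl
      Set.rangeFactorization_surjective hdg
  · intro hsurj
    exact topologicalKrullDim_eq_of_isClosedMap_surjective f.base f.continuous hcl hsurj hd

end Groth.Agent.H24
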