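import Mathlib

open CategoryTheory AlgebraicGeometry

universe u

namespace Groth.Agent.H24

theorem exists_prime_le_liesOver_height_le {A B : Type*} [CommRing A] [CommRing B]
    [IsNoetherianRing A] [IsNoetherianRing B] [Algebra A B] (p : Ideal A) [p.IsPrime]
    (q₀ : Ideal B) [q₀.IsPrime] (h : q₀.comap (algebraMap A B) = p) :
    ∃ q : Ideal B, q.IsPrime ∧ q ≤ q₀ ∧ q.comap (algebraMap A B) = p ∧ q.height ≤ p.height := by
  have hI : p.map (algebraMap A B) ≤ q₀ := Ideal.map_le_iff_le_comap.mpr h.ge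
  obtain ⟨q, hq, hqq₀⟩ := Ideal.exists_minimalPrimes_le hI
  have hqp : q.IsPrime := hq.1.1
  have hcomap : q.comap (algebraMap A B) = p :=
    le_antisymm ((Ideal.comap_mono hqq₀).trans h.le) (Ideal.map_le_iff_le_comap.mp hq.1.2)
  have hlo : q.LiesOver p := ⟨hcomap.symm⟩
  refine ⟨q, hqp, hqq₀, hcomap, ?_⟩
  have h1 := Ideal.height_le_height_add_of_liesOver p q
  have h2 : (q.map (Ideal.Quotient.mk (p.map (algebraMap A B)))).height = 0 := by
    have hq' := hq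
    rw [Ideal.minimalPrimes_eq_comap] at hq'
    obtain ⟨Q', hQ', hQq⟩ := hq'
    rw [← hQq, Ideal.map_comap_of_surjective _ Ideal.Quotient.mk_surjective]
    have := hQ'.1.1
    exact Ideal.height_eq_zero_iff.mpr hQ'
  rw [h2, add_zero] at h1
  exact h1

set_option backward.isDefEq.respectTransparency.types false in
theorem exists_point_over_dim_le {X Y : Scheme.{u}} (f : X ⟶ Y) [IsLocallyNoetherian X]
    [IsLocallyNoetherian Y] (x₀ : X) :
    ∃ x : X, f x = f x₀ ∧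
      ringKrullDim (X.presheaf.stalk x) ≤ ringKrullDim (Y.presheaf.stalk (f x₀)) := by
  obtain ⟨_, ⟨V, hV : IsAffineOpen V, rfl⟩, hyV, -⟩ :=
    Y.isBasis_affineOpens.exists_subset_of_mem_open (Set.mem_univ (f x₀)) isOpen_univ
  obtain ⟨_, ⟨U, hU : IsAffineOpen U, rfl⟩, hxU, hUV⟩ :=
    X.isBasis_affineOpens.exists_subset_of_mem_open
      (show x₀ ∈ (f ⁻¹ᵁ V : Set X) from hyV) (f ⁻¹ᵁ V).isOpen
  have hUV' : U ≤ f ⁻¹ᵁ V := hUV
  have : IsNoetherianRing Γ(Y, V) := IsLocallyNoetherian.component_noetherian ⟨V, hV⟩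
  have : IsNoetherianRing Γ(X, U) := IsLocallyNoetherian.component_noetherian ⟨U, hU⟩
  let _ : Algebra Γ(Y, V) Γ(X, U) := (f.appLE V U hUV').hom.toAlgebra
  let p := hV.primeIdealOf ⟨f x₀, hyV⟩
  let q₀ := hU.primeIdealOf ⟨x₀, hxU⟩
  have hcomap : q₀.asIdeal.comap (algebraMap Γ(Y, V) Γ(X, U)) = p.asIdeal :=
    congrArg PrimeSpectrum.asIdeal (IsAffineOpen.comap_primeIdealOf_appLE V hV U hU hUV' hxU)
  obtain ⟨q, hqp, hqq₀, hq, hht⟩ :=
    exists_prime_le_liesOver_height_le p.asIdeal q₀.asIdeal hcomap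
  let Q : PrimeSpectrum Γ(X, U) := ⟨q, hqp⟩
  have hQU : hU.fromSpec Q ∈ U := by
    have : hU.fromSpec Q ∈ Set.range hU.fromSpec := Set.mem_range_self Q
    rwa [hU.range_fromSpec] at this
  refine ⟨hU.fromSpec Q, ?_, ?_⟩
  · have h1 := congrArg (fun g : Spec Γ(X, U) ⟶ Y => g Q)
      (IsAffineOpen.SpecMap_appLE_fromSpec f hV hU hUV')
    have h2 : Spec.map (f.appLE V U hUV') Q = p := PrimeSpectrum.ext hq
    have h3 : hV.fromSpec (Spec.map (f.appLE V U hUV') Q) = f (hU.fromSpec Q) := h1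
    rw [← h3, h2]
    exact hV.fromSpec_primeIdealOf ⟨f x₀, hyV⟩
  · let algX : Algebra Γ(X, U) (X.presheaf.stalk (hU.fromSpec Q)) :=
      TopCat.Presheaf.algebra_section_stalk X.presheaf ⟨hU.fromSpec Q, hQU⟩
    have hlocX : IsLocalization.AtPrime (X.presheaf.stalk (hU.fromSpec Q)) Q.asIdeal :=
      hU.isLocalization_stalk' Q hQU
    rw [IsLocalization.AtPrime.ringKrullDim_eq_height Q.asIdeal
      (X.presheaf.stalk (hU.fromSpec Q))]
    let algY : Algebra Γ(Y, V) (Y.presheaf.stalk (f x₀)) :=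
      TopCat.Presheaf.algebra_section_stalk Y.presheaf ⟨f x₀, hyV⟩
    have hlocY : IsLocalization.AtPrime (Y.presheaf.stalk (f x₀)) p.asIdeal :=
      hV.isLocalization_stalk ⟨f x₀, hyV⟩
    rw [IsLocalization.AtPrime.ringKrullDim_eq_height p.asIdeal (Y.presheaf.stalk (f x₀))]
    exact_mod_cast hht

theorem dim_stalk_le_of_flat {X Y : Scheme.{u}} (f : X ⟶ Y) [IsLocallyNoetherian X]
    [IsLocallyNoetherian Y] [Flat f] (x : X) :
    ringKrullDim (Y.presheaf.stalk (f x)) ≤ ringKrullDim (X.presheaf.stalk x) := by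
  let _ : Algebra (Y.presheaf.stalk (f x)) (X.presheaf.stalk x) := (f.stalkMap x).hom.toAlgebra
  have hflat : Module.Flat (Y.presheaf.stalk (f x)) (X.presheaf.stalk x) := Flat.stalkMap f x
  have hloc : IsLocalHom (algebraMap (Y.presheaf.stalk (f x)) (X.presheaf.stalk x)) :=
    inferInstanceAs (IsLocalHom (f.stalkMap x).hom)
  rw [← IsLocalRing.maximalIdeal_height_eq_ringKrullDim,
    ← IsLocalRing.maximalIdeal_height_eq_ringKrullDim]
  have := Ideal.height_eq_height_add_of_liesOver_of_hasGoingDown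
    (IsLocalRing.maximalIdeal (Y.presheaf.stalk (f x)))
    (IsLocalRing.maximalIdeal (X.presheaf.stalk x))
  rw [this]
  exact_mod_cast le_self_add

theorem iInf_stalk_dim_preimage_le_of_surjective {X Y : Scheme.{u}} (f : X ⟶ Y) [IsLocallyNoetherian X]
    [IsLocallyNoetherian Y] (hf : Function.Surjective f.base) (Z : Set Y) (_hZ : IsClosed Z) :
    (⨅ x ∈ f.base ⁻¹' Z, ringKrullDim (X.presheaf.stalk x)) ≤ ⨅ y ∈ Z, ringKrullDim (Y.presheaf.stalk y) ∧
      (Flat f → (⨅ x ∈ f.base ⁻¹' Z, ringKrullDim (X.presheaf.stalk x)) = ⨅ y ∈ Z, ringKrullDim (Y.presheaf.stalk y)) := by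
  have h1 : (⨅ x ∈ f.base ⁻¹' Z, ringKrullDim (X.presheaf.stalk x)) ≤
      ⨅ y ∈ Z, ringKrullDim (Y.presheaf.stalk y) := by
    refine le_iInf₂ fun y hy => ?_
    obtain ⟨x₀, rfl⟩ := hf y
    obtain ⟨x, hx, hdim⟩ := exists_point_over_dim_le f x₀
    have hxZ : x ∈ f.base ⁻¹' Z := by
      change f x ∈ Z
      rw [hx]
      exact hy
    exact iInf₂_le_of_le x hxZ hdim
  refine ⟨h1, fun hflat => le_antisymm h1 ?_⟩
  refine le_iInf₂ fun x hx => ?_
  exact iInf₂_le_of_le (f x) hx (dim_stalk_le_of_flat f x)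

end Groth.Agent.H24
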