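import Mathlib
import Groth.Agent.H24.FlatClosure
import Groth.Agent.H24.LimPullback
import Groth.Agent.S3398

/-!
# Dominance and flat limits (helper24)
-/

set_option autoImplicit false

open CategoryTheory AlgebraicGeometry Limits TopologicalSpace Topology Opposite

universe u

namespace Groth.Agent.H24

theorem range_eq_preimage_of_isPullback {P X Y Z : Scheme.{u}} {fst : P ⟶ X} {snd : P ⟶ Y}
    {f : X ⟶ Z} {g : Y ⟶ Z} (h : IsPullback fst snd f g) :
    Set.range snd = g ⁻¹' Set.range f := by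
  have := Scheme.image_preimage_eq_of_isPullback h Set.univ
  rw [Set.preimage_univ, Set.image_univ, Set.image_univ] at this
  exact this

theorem isProConstructible_range {X Y : Scheme.{u}} (f : X ⟶ Y) [QuasiCompact f] :
    ProCons.IsProConstructible (Set.range f) := by
  have := Groth.Agent.S3398.result f Set.univ isProConstructible_univ
  rwa [Set.image_univ] at this

/-- Dominance is preserved by flat base change of quasi-compact morphisms. -/
theorem isDominant_of_isPullback_flat {P X Y Z : Scheme.{u}} {fst : P ⟶ X} {snd : P ⟶ Y}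
    {f : X ⟶ Z} {g : Y ⟶ Z} (h : IsPullback fst snd f g) [QuasiCompact f] [Flat g]
    [IsDominant f] : IsDominant snd := by
  constructor
  rw [DenseRange, dense_iff_closure_eq, range_eq_preimage_of_isPullback h,
    closure_preimage_eq_of_flat g _ (isProConstructible_range f),
    (IsDominant.denseRange (f := f)).closure_eq, Set.preimage_univ]

theorem isDominant_iff_eventually_of_flat {I : Type u} [SmallCategory I] [IsCofiltered I]
    (D : I ⥤ Scheme.{u}) (c : Limits.Cone D) (hc : Limits.IsLimit c)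
    [∀ (i j : I) (f : i ⟶ j), IsAffineHom (D.map f)] (i₀ : I) [CompactSpace (D.obj i₀)]
    (hfl : ∀ (i j : I) (φ : i ⟶ j), Flat (D.map φ))
    {X₀ Y₀ : Scheme.{u}} (f₀ : X₀ ⟶ Y₀) (g₀ : Y₀ ⟶ D.obj i₀)
    [QuasiCompact (f₀ ≫ g₀)] [QuasiCompact g₀] [QuasiSeparated g₀]
    (hcl : Topology.IsConstructible (closure (Set.range ⇑f₀)))
    {X Y : Scheme.{u}} (f : X ⟶ Y) (g : Y ⟶ c.pt) (qY : Y ⟶ Y₀) (qX : X ⟶ X₀)
    (hY : IsPullback qY g g₀ (c.π.app i₀)) (hX : IsPullback qX f f₀ qY) :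
    IsDominant f ↔ ∃ (j : I) (φ : j ⟶ i₀) (Xj Yj : Scheme.{u}) (fj : Xj ⟶ Yj) (gj : Yj ⟶ D.obj j)
      (pY : Yj ⟶ Y₀) (pX : Xj ⟶ X₀), IsPullback pY gj g₀ (D.map φ) ∧ IsPullback pX fj f₀ pY ∧
      IsDominant fj := by
  have hAff : ∀ {a b : I} (f : a ⟶ b), IsAffineHom (D.map f) := fun f => inferInstance
  have hqcf₀ : QuasiCompact f₀ := QuasiCompact.of_comp f₀ g₀
  have hrange₀ : ProCons.IsProConstructible (Set.range f₀) := isProConstructible_range f₀
  constructor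
  · intro hdom
    have hc' : IsLimit (pbCone D (𝟙 i₀) g₀ c qY g hY.w) :=
      isLimitPbCone D (𝟙 i₀) g₀ c hc qY g hY
    have hcomp : CompactSpace ↥((pbDiagram D (𝟙 i₀) g₀).obj (Over.mk (𝟙 i₀))) := by
      rw [pbDiagram_obj]
      haveI : CompactSpace ↥(D.obj (Over.mk (𝟙 i₀)).left) :=
        (inferInstance : CompactSpace ↥(D.obj i₀))
      exact QuasiCompact.compactSpace_of_compactSpace
        (pullback.snd g₀ (D.map ((Over.mk (𝟙 i₀)).hom ≫ 𝟙 i₀)))
    have hfl' : ∀ (a b : Over i₀) (φ : a ⟶ b), Flat ((pbDiagram D (𝟙 i₀) g₀).map φ) := by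
      intro a b φ
      rw [pbDiagram_map]
      exact MorphismProperty.of_isPullback (P := @Flat) (isPullback_pbMap D (𝟙 i₀) g₀ φ).flip
        (hfl _ _ φ.left)
    have hAff' : ∀ (a b : Over i₀) (φ : a ⟶ b), IsAffineHom ((pbDiagram D (𝟙 i₀) g₀).map φ) :=
      fun a b φ => inferInstance
    have hZ' : ProCons.IsProConstructible
        ((pullback.fst g₀ (D.map ((Over.mk (𝟙 i₀)).hom ≫ 𝟙 i₀))) ⁻¹' Set.range f₀) :=
      Groth.Agent.S15542.result _ _ hrange₀
    have hisoD : IsIso (D.map ((Over.mk (𝟙 i₀)).hom ≫ 𝟙 i₀)) := by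
      have : (Over.mk (𝟙 i₀)).hom ≫ 𝟙 i₀ = 𝟙 i₀ := Category.comp_id _
      rw [this]
      exact Functor.map_isIso D (𝟙 i₀)
    have hisofst : IsIso (pullback.fst g₀ (D.map ((Over.mk (𝟙 i₀)).hom ≫ 𝟙 i₀))) :=
      inferInstance
    have hclZ' : Topology.IsConstructible (closure
        ((pullback.fst g₀ (D.map ((Over.mk (𝟙 i₀)).hom ≫ 𝟙 i₀))) ⁻¹' Set.range f₀)) := by
      rw [closure_preimage_eq_of_flat _ _ hrange₀]
      exact Scheme.Hom.isConstructible_preimage _ hcl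
    have key := preimage_subset_closure_preimage_iff_of_flat (pbDiagram D (𝟙 i₀) g₀)
      (pbCone D (𝟙 i₀) g₀ c qY g hY.w) hc' (Over.mk (𝟙 i₀)) hfl'
      ((pullback.fst g₀ (D.map ((Over.mk (𝟙 i₀)).hom ≫ 𝟙 i₀))) ⁻¹' Set.range f₀) Set.univ
      hZ' isProConstructible_univ hclZ'
    have hL : (((pbCone D (𝟙 i₀) g₀ c qY g hY.w).π.app (Over.mk (𝟙 i₀))) ⁻¹' Set.univ :
          Set (pbCone D (𝟙 i₀) g₀ c qY g hY.w).pt) ⊆
        closure (((pbCone D (𝟙 i₀) g₀ c qY g hY.w).π.app (Over.mk (𝟙 i₀))) ⁻¹'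
          ((pullback.fst g₀ (D.map ((Over.mk (𝟙 i₀)).hom ≫ 𝟙 i₀))) ⁻¹' Set.range f₀)) := by
      have e1 : (((pbCone D (𝟙 i₀) g₀ c qY g hY.w).π.app (Over.mk (𝟙 i₀))) ⁻¹'
          ((pullback.fst g₀ (D.map ((Over.mk (𝟙 i₀)).hom ≫ 𝟙 i₀))) ⁻¹' Set.range f₀) :
            Set Y) = Set.range f := by
        rw [range_eq_preimage_of_isPullback hX]
        have e := pbLift_fst D (𝟙 i₀) g₀ c qY g hY.w (Over.mk (𝟙 i₀))
        ext y
        simp only [Set.mem_preimage]
        rw [show qY y = (pbLift D (𝟙 i₀) g₀ c qY g hY.w (Over.mk (𝟙 i₀)) ≫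
          pullback.fst g₀ (D.map ((Over.mk (𝟙 i₀)).hom ≫ 𝟙 i₀))) y from by rw [e]]
        rfl
      intro y _
      have hy : y ∈ closure (Set.range f) := by
        rw [(IsDominant.denseRange (f := f)).closure_eq]
        trivial
      exact closure_mono e1.symm.subset hy
    obtain ⟨j, φ, hj⟩ := key.mp hL
    refine ⟨j.left, j.hom ≫ 𝟙 i₀, _, _, pbRel D (𝟙 i₀) f₀ g₀ j, pullback.snd g₀ _,
      pullback.fst g₀ _, pullback.fst (f₀ ≫ g₀) _, IsPullback.of_hasPullback _ _,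
      isPullback_pbRel D (𝟙 i₀) f₀ g₀ j, ?_⟩
    constructor
    have e2 : (((pbDiagram D (𝟙 i₀) g₀).map φ) ⁻¹'
          ((pullback.fst g₀ (D.map ((Over.mk (𝟙 i₀)).hom ≫ 𝟙 i₀))) ⁻¹' Set.range f₀) :
            Set ↥((pbDiagram D (𝟙 i₀) g₀).obj j)) = Set.range (pbRel D (𝟙 i₀) f₀ g₀ j) := by
      rw [range_eq_preimage_of_isPullback (isPullback_pbRel D (𝟙 i₀) f₀ g₀ j)]
      have e := pbMap_fst D (𝟙 i₀) g₀ φ
      ext y
      change (pullback.fst g₀ (D.map ((Over.mk (𝟙 i₀)).hom ≫ 𝟙 i₀)))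
        (((pbDiagram D (𝟙 i₀) g₀).map φ) y) ∈ Set.range f₀ ↔
        (pullback.fst g₀ (D.map (j.hom ≫ 𝟙 i₀))) y ∈ Set.range f₀
      rw [show pullback.fst g₀ (D.map (j.hom ≫ 𝟙 i₀)) y = (pbMap D (𝟙 i₀) g₀ φ ≫
        pullback.fst g₀ (D.map ((Over.mk (𝟙 i₀)).hom ≫ 𝟙 i₀))) y from by rw [e]]
      rfl
    rw [DenseRange, dense_iff_closure_eq]
    apply Set.eq_univ_of_univ_subset
    intro y hy
    exact closure_mono e2.subset (hj hy)
  · rintro ⟨j, φ, Xj, Yj, fj, gj, pY, pX, hYj, hXj, hdom⟩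
    have hflat : Flat (c.π.app j) :=
      Groth.Agent.S4764.result D c hc j (fun k ψ => hfl k j ψ)
    have hv : IsPullback (hYj.lift qY (g ≫ c.π.app j) (by rw [hY.w, Category.assoc, c.w])) g gj
        (c.π.app j) := by
      have big : IsPullback (hYj.lift qY (g ≫ c.π.app j)
          (by rw [hY.w, Category.assoc, c.w]) ≫ pY) g g₀ (c.π.app j ≫ D.map φ) := by
        rw [hYj.lift_fst, c.w]
        exact hY
      exact IsPullback.of_right big (hYj.lift_snd _ _ _) hYj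
    have hvflat : Flat (hYj.lift qY (g ≫ c.π.app j) (by rw [hY.w, Category.assoc, c.w])) :=
      MorphismProperty.of_isPullback (P := @Flat) hv.flip hflat
    have hw : IsPullback (hXj.lift qX (f ≫ hYj.lift qY (g ≫ c.π.app j)
        (by rw [hY.w, Category.assoc, c.w])) (by rw [hX.w, Category.assoc, hYj.lift_fst])) f fj
        (hYj.lift qY (g ≫ c.π.app j) (by rw [hY.w, Category.assoc, c.w])) := by
      have big : IsPullback (hXj.lift qX (f ≫ hYj.lift qY (g ≫ c.π.app j)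
          (by rw [hY.w, Category.assoc, c.w])) (by rw [hX.w, Category.assoc, hYj.lift_fst]) ≫ pX)
          f f₀ (hYj.lift qY (g ≫ c.π.app j) (by rw [hY.w, Category.assoc, c.w]) ≫ pY) := by
        rw [hXj.lift_fst, hYj.lift_fst]
        exact hX
      exact IsPullback.of_right big (hXj.lift_snd _ _ _) hXj
    have hqcfj : QuasiCompact fj :=
      MorphismProperty.of_isPullback (P := @QuasiCompact) hXj hqcf₀
    exact isDominant_of_isPullback_flat hw

end Groth.Agent.H24
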