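import Mathlib
import Groth.Agent.H24.ConsAtoms
import Groth.Agent.H24.CDStrat
import Groth.Agent.H24.IndConsImm
import Groth.Agent.H24.IndConsFibre
import Groth.Agent.S9187
import Groth.Agent.H9.EtalePt

/-!
# Stratifying the base of a quasi-compact locally quasi-finite morphism into pieces over which
it is finite (helper24)
-/

set_option autoImplicit false
universe u
open CategoryTheory CategoryTheory.Limits AlgebraicGeometry Opposite Topology TopologicalSpace

namespace Groth.Agent.H24.EtStrat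

open Groth.Agent.H24 Groth.Agent.H24.ConsAtoms

theorem descends_isFinite : Descends.{u} @IsFinite := by
  unfold Descends
  intro I _ _ D c hc _ i₀ _ _ X₀ Y₀ f₀ g₀ _ _ _ _ _ _ X Y f g qY qX hY hX hf
  have : IsFinite f := hf
  have : LocallyOfFiniteType f₀ := locallyOfFiniteType_of_comp f₀ g₀
  have : CompactSpace Y₀ := QuasiCompact.compactSpace_of_compactSpace g₀
  have : QuasiSeparatedSpace Y₀ := quasiSeparatedSpace_of_quasiSeparated g₀
  have : CompactSpace X₀ := QuasiCompact.compactSpace_of_compactSpace (f₀ ≫ g₀)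
  have : QuasiSeparatedSpace X₀ := quasiSeparatedSpace_of_quasiSeparated (f₀ ≫ g₀)
  exact Groth.Agent.S9187.result D c hc i₀ f₀ g₀ f g qY qX hY hX

/-- a subscheme of `L` with underlying set `z ⁻¹ (O \ O')` -/
theorem exists_immersion_range {L X : Scheme.{u}} (z : L ⟶ X) (O O' : X.Opens) :
    ∃ (T : Scheme.{u}) (g : T ⟶ L), IsImmersion g ∧
      Set.range ⇑g = ⇑z ⁻¹' ((O : Set X) \ (O' : Set X)) := by
  let W : L.Opens := z ⁻¹ᵁ O
  let K : Closeds ↥(W : Scheme.{u}) :=
    ⟨(((W.ι ≫ z) ⁻¹ᵁ O' : (W : Scheme.{u}).Opens) : Set ↥(W : Scheme.{u}))ᶜ,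
      (Opens.isOpen _).isClosed_compl⟩
  refine ⟨(Scheme.IdealSheafData.vanishingIdeal K).subscheme,
    (Scheme.IdealSheafData.vanishingIdeal K).subschemeι ≫ W.ι, inferInstance, ?_⟩
  have hr : Set.range ⇑(Scheme.IdealSheafData.vanishingIdeal K).subschemeι = (K : Set _) := by
    rw [Scheme.IdealSheafData.range_subschemeι, Scheme.IdealSheafData.coe_support_vanishingIdeal]
  ext l
  constructor
  · rintro ⟨t, rfl⟩
    have ht : (Scheme.IdealSheafData.vanishingIdeal K).subschemeι t ∈ (K : Set _) := by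
      rw [← hr]; exact ⟨t, rfl⟩
    rw [Scheme.Hom.comp_apply]
    refine ⟨((Scheme.IdealSheafData.vanishingIdeal K).subschemeι t).2, fun h => ht ?_⟩
    exact h
  · rintro ⟨h1, h2⟩
    have hk : (⟨l, h1⟩ : ↥(W : Scheme.{u})) ∈ (K : Set ↥(W : Scheme.{u})) := fun h => h2 h
    rw [← hr] at hk
    obtain ⟨t, ht⟩ := hk
    refine ⟨t, ?_⟩
    rw [Scheme.Hom.comp_apply, ht]
    rfl

section R

variable {U X : Scheme.{u}} (j : U ⟶ X)

theorem isFinite_snd_congr {j' : U ⟶ X} (h : j' = j) {W : Scheme.{u}} (w : W ⟶ X) :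
    IsFinite (pullback.snd j' w) ↔ IsFinite (pullback.snd j w) := by
  subst h; rfl

theorem isFinite_bcHom_iff {W : Scheme.{u}} (w : W ⟶ X) :
    IsFinite (bcHom j (𝟙 X) w) ↔ IsFinite (pullback.snd j w) := by
  rw [← isFinite_snd_congr j (Category.comp_id j) w, ← bcHom_snd j (𝟙 X) w]
  constructor
  · intro h
    infer_instance
  · intro h
    have e : bcHom j (𝟙 X) w =
        (bcHom j (𝟙 X) w ≫ pullback.snd (𝟙 X) w) ≫ inv (pullback.snd (𝟙 X) w) := by
      rw [Category.assoc, IsIso.hom_inv_id]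
      exact (Category.comp_id _).symm
    rw [e]
    infer_instance

end R

/-- **Stratification of the base of an étale morphism of qcqs schemes.** -/
theorem exists_stratification_isFinite {U X : Scheme.{u}} [CompactSpace U]
    [QuasiSeparatedSpace U] [CompactSpace X] [QuasiSeparatedSpace X] (j : U ⟶ X)
    [LocallyOfFinitePresentation j] [LocallyQuasiFinite j] :
    ∃ (n : ℕ) (T : Fin n → Scheme.{u}) (g : ∀ i, T i ⟶ X),
      (∀ i, IsImmersion (g i)) ∧ (∀ i, IsConstructible (Set.range (g i))) ∧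
      Pairwise (fun i i' => Disjoint (Set.range (g i)) (Set.range (g i'))) ∧
      (⋃ i, Set.range (g i)) = Set.univ ∧ ∀ i, IsFinite (pullback.snd j (g i)) := by
  classical
  -- the predicate
  let R : ∀ ⦃W : Scheme.{u}⦄, (W ⟶ X) → Prop := fun W w => IsFinite (bcHom j (𝟙 X) w)
  have hbc : ∀ ⦃W W' : Scheme.{u}⦄ (w : W ⟶ X) (k : W' ⟶ W), R w → R (k ≫ w) :=
    fun W W' w k h => bcHom_of_fac @IsFinite j (𝟙 X) w k h
  have hR0 : ∀ x : X, R (X.fromSpecResidueField x) := by
    intro x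
    show IsFinite (bcHom j (𝟙 X) (X.fromSpecResidueField x))
    rw [isFinite_bcHom_iff]
    exact (isFinite_iff_locallyQuasiFinite_of_subsingleton _).mpr inferInstance
  -- local immersions
  have hloc : ∀ y : X, ∃ (L : Scheme.{u}) (z : L ⟶ X), IsImmersion z ∧
      LocallyOfFinitePresentation z ∧ QuasiCompact z ∧ y ∈ Set.range ⇑z ∧ R z := by
    intro y
    obtain ⟨V, hV, hyV, -⟩ : ∃ V : X.Opens, V ∈ X.affineOpens ∧ y ∈ V ∧ V ≤ ⊤ :=
      TopologicalSpace.Opens.isBasis_iff_nbhd.mp X.isBasis_affineOpens (U := ⊤) (x := y) trivial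
    obtain ⟨L, i, hLaff, h1, h2, h3, h4, l, hl⟩ :=
      IndConsImm.exists_fp_nhd_imm' R hbc (by
        intro I _ _ D c hc _ _ _ β t hβ h
        exact exists_stage_bcHom @IsFinite j (𝟙 X) D c hc descends_isFinite β t hβ h)
        V hV y hyV (hR0 y)
    refine ⟨L, i ≫ V.ι, inferInstance, inferInstance, inferInstance, ⟨l, ?_⟩, h4⟩
    rw [Scheme.Hom.comp_apply, hl]
    rfl
  choose L z h1 h2 h3 h5 hRz using hloc
  have hcons : ∀ y, IsConstructible (Set.range ⇑(z y)) := fun y => by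
    have := h2 y
    have := h3 y
    have h := (z y).isConstructible_image (s := Set.univ) IsConstructible.univ
    rwa [Set.image_univ] at h
  obtain ⟨J, hJ⟩ := CDStrat.exists_finset_of_isConstructible_cover X
    (fun y => Set.range ⇑(z y)) hcons (fun y => ⟨y, h5 y⟩)
  obtain ⟨𝒪, h𝒪, hsat⟩ := exists_sat_finite J (fun y => Set.range ⇑(z y))
    (fun y _ => hcons y)
  -- one stratum for each atom
  have hatom : ∀ S : Finset (Opens X), S ⊆ 𝒪 → ∃ (T : Scheme.{u}) (g : T ⟶ X), IsImmersion g ∧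
      Set.range ⇑g = atom 𝒪 S ∧ IsFinite (pullback.snd j g) := by
    intro S hS
    by_cases hne : (atom 𝒪 S).Nonempty
    · obtain ⟨x, hx⟩ := hne
      obtain ⟨y0, hy0, hxy0⟩ := hJ x
      have hsub : atom 𝒪 S ⊆ Set.range ⇑(z y0) := atom_subset_of_sat (hsat y0 hy0) hx hxy0
      obtain ⟨T, g', hg', hr⟩ := exists_immersion_range (z y0) (atomIn S) (atomOut 𝒪 S)
      have := h1 y0
      refine ⟨T, g' ≫ z y0, inferInstance, ?_, ?_⟩
      · rw [Scheme.Hom.comp_base, TopCat.coe_comp, Set.range_comp, hr, ← atom_eq hS,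
          Set.image_preimage_eq_inter_range, Set.inter_eq_left.mpr hsub]
      · exact (isFinite_bcHom_iff j _).mp (hbc (z y0) g' (hRz y0))
    · obtain ⟨T, g', hg', hr⟩ := exists_immersion_range (𝟙 X) (⊥ : X.Opens) (⊥ : X.Opens)
      have hre : Set.range ⇑g' = ∅ := by
        rw [hr]
        ext a
        simp
      have hT : IsEmpty T := Set.range_eq_empty_iff.mp hre
      refine ⟨T, g', hg', ?_, inferInstance⟩
      rw [hre]
      exact (Set.not_nonempty_iff_eq_empty.mp hne).symm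
  choose T g hg1 hg2 hg3 using hatom
  -- reindex by `Fin`
  let e := 𝒪.powerset.equivFin
  have hmem : ∀ i : Fin 𝒪.powerset.card, (e.symm i).1 ⊆ 𝒪 := fun i =>
    Finset.mem_powerset.mp (e.symm i).2
  refine ⟨𝒪.powerset.card, fun i => T (e.symm i).1 (hmem i), fun i => g (e.symm i).1 (hmem i),
    fun i => hg1 _ _, fun i => ?_, ?_, ?_, fun i => hg3 _ _⟩
  · rw [hg2]
    exact isConstructible_atom (hmem i) h𝒪
  · intro i i' hii'
    show Disjoint (Set.range ⇑(g (e.symm i).1 (hmem i))) (Set.range ⇑(g (e.symm i').1 (hmem i')))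
    rw [hg2, hg2]
    refine atom_disjoint (hmem i) (hmem i') fun h => hii' ?_
    exact e.symm.injective (Subtype.ext h)
  · rw [Set.eq_univ_iff_forall]
    intro x
    obtain ⟨S, hS, hx⟩ := exists_mem_atom 𝒪 x
    rw [Set.mem_iUnion]
    refine ⟨e ⟨S, Finset.mem_powerset.mpr hS⟩, ?_⟩
    show x ∈ Set.range ⇑(g (e.symm (e ⟨S, Finset.mem_powerset.mpr hS⟩)).1 (hmem _))
    rw [hg2]
    rw [Equiv.symm_apply_apply]
    exact hx

/-- the étale case -/
theorem exists_stratification_isFinite_of_etale {U X : Scheme.{u}} [CompactSpace U]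
    [QuasiSeparatedSpace U] [CompactSpace X] [QuasiSeparatedSpace X] (j : U ⟶ X) [Etale j] :
    ∃ (n : ℕ) (T : Fin n → Scheme.{u}) (g : ∀ i, T i ⟶ X),
      (∀ i, IsImmersion (g i)) ∧ (∀ i, IsConstructible (Set.range (g i))) ∧
      Pairwise (fun i i' => Disjoint (Set.range (g i)) (Set.range (g i'))) ∧
      (⋃ i, Set.range (g i)) = Set.univ ∧ ∀ i, IsFinite (pullback.snd j (g i)) := by
  have : LocallyQuasiFinite j := Groth.Agent.H9.EtalePt.locallyQuasiFinite_of_etale j
  exact exists_stratification_isFinite j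

end Groth.Agent.H24.EtStrat
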