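import Mathlib
import Groth.Agent.H24.FGSubLimit
import Groth.Agent.H24.QuotFGLimit

/-!
# Algebras `B` such that `Hom_A(B, -)` commutes with directed colimits are finitely presented
(EGA IV 8.14.2.2, necessity) (helper24)
-/

set_option autoImplicit false
universe u
open CategoryTheory CategoryTheory.Limits Opposite

namespace Groth.Agent.H24

section Retract

variable {A C B : Type u} [CommRing A] [CommRing C] [CommRing B] [Algebra A C] [Algebra A B]

/-- The kernel of a retraction of a finite type algebra is finitely generated. -/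
theorem ker_fg_of_section [Algebra.FiniteType A C] (ρ : C →ₐ[A] B) (s : B →ₐ[A] C)
    (h : ∀ b, ρ (s b) = b) : (RingHom.ker ρ.toRingHom).FG := by
  classical
  obtain ⟨t, ht⟩ := (Algebra.FiniteType.out : (⊤ : Subalgebra A C).FG)
  let K : Ideal C := Ideal.span ((fun g => g - s (ρ g)) '' (t : Set C))
  have hK : ∀ x : C, x - s (ρ x) ∈ K := by
    intro x
    have hx : x ∈ Algebra.adjoin A (t : Set C) := by rw [ht]; trivial
    induction hx using Algebra.adjoin_induction with
    | mem x hx => exact Ideal.subset_span ⟨x, hx, rfl⟩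
    | algebraMap a =>
      have : algebraMap A C a - s (ρ (algebraMap A C a)) = 0 := by
        rw [AlgHom.commutes, AlgHom.commutes, sub_self]
      rw [this]
      exact K.zero_mem
    | add x y _ _ hx hy =>
      have : x + y - s (ρ (x + y)) = (x - s (ρ x)) + (y - s (ρ y)) := by
        rw [map_add, map_add]; ring
      rw [this]
      exact K.add_mem hx hy
    | mul x y _ _ hx hy =>
      have : x * y - s (ρ (x * y)) = (x - s (ρ x)) * y + s (ρ x) * (y - s (ρ y)) := by
        rw [map_mul, map_mul]; ring
      rw [this]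
      exact K.add_mem (K.mul_mem_right _ hx) (K.mul_mem_left _ hy)
  have hker : RingHom.ker ρ.toRingHom = K := by
    apply le_antisymm
    · intro x hx
      have h0 : ρ x = 0 := hx
      have := hK x
      rwa [h0, map_zero, sub_zero] at this
    · rw [Ideal.span_le]
      rintro _ ⟨g, -, rfl⟩
      show ρ (g - s (ρ g)) = 0
      rw [map_sub, h, sub_self]
  rw [hker]
  exact ⟨t.image (fun g => g - s (ρ g)), by rw [Finset.coe_image]⟩

/-- A retract of a finitely presented algebra is finitely presented. -/
theorem finitePresentation_of_retract [Algebra.FinitePresentation A C] (ρ : C →ₐ[A] B)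
    (s : B →ₐ[A] C) (h : ∀ b, ρ (s b) = b) : Algebra.FinitePresentation A B :=
  Algebra.FinitePresentation.of_surjective (f := ρ) (fun b => ⟨s b, h b⟩)
    (ker_fg_of_section ρ s h)

end Retract

section Main

variable {A B : Type u} [CommRing A] [CommRing B] [Algebra A B]

/-- Step 1: finite type. -/
theorem finiteType_of_preservesColimit
    (h : ∀ (J : Type u) [Preorder J] [IsDirected J (· ≤ ·)] [Nonempty J]
      (F : J ⥤ Under (CommRingCat.of A)),
      PreservesColimit F (coyoneda.obj (op (Under.mk (CommRingCat.ofHom (algebraMap A B)))))) :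
    Algebra.FiniteType A B := by
  let X : Under (CommRingCat.of A) := Under.mk (CommRingCat.ofHom (algebraMap A B))
  let s₁ : (Functor.const (FGSub A B)).obj (CommRingCat.of A) ⟶ fgSubFunctor A B :=
    { app := fun E => CommRingCat.ofHom (algebraMap A E.1)
      naturality := fun E E' φ => by
        ext a
        rfl }
  let c' := Under.liftCocone (fgSubFunctor A B) s₁ (fgSubCocone A B)
    (CommRingCat.ofHom (algebraMap A B)) (fun E => by ext a; rfl)
  have hc' : IsColimit c' := Under.isColimitLiftCocone _ _ _ _ _ (fgSubCoconeIsColimit A B)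
  obtain ⟨hcol⟩ := (h (FGSub A B) (Under.lift (fgSubFunctor A B) s₁)).preserves hc'
  obtain ⟨E, y, hy⟩ := Types.jointly_surjective_of_isColimit hcol (𝟙 X : X ⟶ c'.pt)
  have hy' : y ≫ c'.ι.app E = 𝟙 X := hy
  have hmem : ∀ b : B, b ∈ E.1 := by
    intro b
    have h1 := congrArg (fun m : X ⟶ X => m.right.hom b) hy'
    let z : E.1 := y.right.hom b
    have h2 : (z : B) = b := h1
    rw [← h2]
    exact z.2
  have htop : E.1 = ⊤ := eq_top_iff.mpr (fun b _ => hmem b)
  exact ⟨htop ▸ E.2⟩

/-- **EGA IV 8.14.2.2** (necessity): if `Hom_A(B, -)` commutes with directed colimits then `B` is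
of finite presentation over `A`. -/
theorem finitePresentation_of_preservesColimit
    (h : ∀ (J : Type u) [Preorder J] [IsDirected J (· ≤ ·)] [Nonempty J]
      (F : J ⥤ Under (CommRingCat.of A)),
      PreservesColimit F (coyoneda.obj (op (Under.mk (CommRingCat.ofHom (algebraMap A B)))))) :
    Algebra.FinitePresentation A B := by
  have hft := finiteType_of_preservesColimit h
  obtain ⟨n, f', hf'⟩ := Algebra.FiniteType.iff_quotient_mvPolynomial''.mp hft
  let R' := MvPolynomial (Fin n) A
  let 𝔞 : Ideal R' := RingHom.ker f'.toRingHom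
  let e : (R' ⧸ 𝔞) ≃ₐ[A] B := Ideal.quotientKerAlgEquivOfSurjective hf'
  let X : Under (CommRingCat.of A) := Under.mk (CommRingCat.ofHom (algebraMap A B))
  let s₂ : (Functor.const (FGIdeal R' 𝔞)).obj (CommRingCat.of A) ⟶ fgIdealFunctor R' 𝔞 :=
    { app := fun I => CommRingCat.ofHom (algebraMap A (R' ⧸ I.1))
      naturality := fun I I' φ => by
        ext a
        rfl }
  let c' := Under.liftCocone (fgIdealFunctor R' 𝔞) s₂ (fgIdealCocone R' 𝔞)
    (CommRingCat.ofHom (algebraMap A (R' ⧸ 𝔞))) (fun I => by ext a; rfl)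
  have hc' : IsColimit c' := Under.isColimitLiftCocone _ _ _ _ _ (fgIdealCoconeIsColimit R' 𝔞)
  obtain ⟨hcol⟩ := (h (FGIdeal R' 𝔞) (Under.lift (fgIdealFunctor R' 𝔞) s₂)).preserves hc'
  let x : X ⟶ c'.pt := Under.homMk (CommRingCat.ofHom e.symm.toAlgHom.toRingHom) (by
    ext a
    exact e.symm.commutes a)
  obtain ⟨I, y, hy⟩ := Types.jointly_surjective_of_isColimit hcol x
  have hy' : y ≫ c'.ι.app I = x := hy
  -- the section and the retraction
  let s : B →ₐ[A] (R' ⧸ I.1) :=
    { toRingHom := y.right.hom
      commutes' := fun a => by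
        have := congrArg (fun m : (CommRingCat.of A) ⟶ CommRingCat.of (R' ⧸ I.1) => m.hom a)
          (Under.w y)
        exact this }
  let ρ : (R' ⧸ I.1) →ₐ[A] B := e.toAlgHom.comp (Ideal.Quotient.factorₐ A I.2.2)
  have hρs : ∀ b, ρ (s b) = b := by
    intro b
    have h1 := congrArg (fun m : X ⟶ c'.pt => m.right.hom b) hy'
    have h2 : Ideal.Quotient.factor I.2.2 (y.right.hom b) = e.symm b := h1
    show e (Ideal.Quotient.factor I.2.2 (y.right.hom b)) = b
    rw [h2, AlgEquiv.apply_symm_apply]
  have : Algebra.FinitePresentation A (R' ⧸ I.1) := Algebra.FinitePresentation.quotient I.2.1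
  exact finitePresentation_of_retract ρ s hρs

end Main

/-- The statement for objects of `CommRingCat`. -/
theorem finitePresentation_of_preservesColimit_commRingCat {A B : CommRingCat.{u}} (f : A ⟶ B)
    (h : ∀ (J : Type u) [Preorder J] [IsDirected J (· ≤ ·)] [Nonempty J] (F : J ⥤ Under A),
      PreservesColimit F (coyoneda.obj (op (Under.mk f)))) :
    f.hom.FinitePresentation := by
  letI : Algebra A B := f.hom.toAlgebra
  exact finitePresentation_of_preservesColimit (A := A) (B := B) h

end Groth.Agent.H24
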