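import Mathlib

/-!
# Linear maps out of a finitely presented module into a filtered colimit lift to a stage
(helper24)

Abstract formulation: `Y j` a family of modules indexed by a cofiltered category, with transition
maps `T t : Y j → Y j'` for `t : j' ⟶ j` and compatible maps `L j : Y j → Y'`, such that every
element of `Y'` comes from a stage (`SF1`) and an element of a stage dying in `Y'` dies at a later
stage (`SF2`).
-/

set_option autoImplicit false

open CategoryTheory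

namespace Groth.Agent.H24.FPLift

variable {A : Type*} [CommRing A] {M : Type*} [AddCommGroup M] [Module A M]
variable {J : Type*} [Category J] [IsCofiltered J]
variable (Y : J → Type*) [∀ j, AddCommGroup (Y j)] [∀ j, Module A (Y j)]
variable {Y' : Type*} [AddCommGroup Y'] [Module A Y']
variable (T : ∀ {j j' : J}, (j' ⟶ j) → (Y j →ₗ[A] Y j'))
  (L : ∀ j, Y j →ₗ[A] Y')
  (hLT : ∀ {j j' : J} (t : j' ⟶ j) (y : Y j), L j' (T t y) = L j y)
  (hTT : ∀ {j j' j'' : J} (t : j' ⟶ j) (s : j'' ⟶ j') (y : Y j), T s (T t y) = T (s ≫ t) y)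
  (SF1 : ∀ z : Y', ∃ j, ∃ y : Y j, L j y = z)
  (SF2 : ∀ j (y : Y j), L j y = 0 → ∃ (j' : J) (t : j' ⟶ j), T t y = 0)

include hLT SF1 in
theorem exists_lifts {n : ℕ} (z : Fin n → Y') :
    ∃ (j : J) (y : Fin n → Y j), ∀ a, L j (y a) = z a := by
  induction n with
  | zero =>
    obtain ⟨j⟩ := IsCofiltered.nonempty (C := J)
    exact ⟨j, Fin.elim0, fun a => a.elim0⟩
  | succ n ih =>
    obtain ⟨j₁, y, hy⟩ := ih (fun a => z a.castSucc)
    obtain ⟨j', y', hy'⟩ := SF1 (z (Fin.last n))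
    refine ⟨IsCofiltered.min j₁ j',
      Fin.lastCases (T (IsCofiltered.minToRight j₁ j') y')
        (fun a => T (IsCofiltered.minToLeft j₁ j') (y a)), fun a => ?_⟩
    refine Fin.lastCases ?_ (fun i => ?_) a
    · simp only [Fin.lastCases_last, hLT, hy']
    · simp only [Fin.lastCases_castSucc, hLT, hy]

include hLT hTT SF2 in
theorem exists_kill (j : J) {m : ℕ} (ρ : Fin m → Y j) (hρ : ∀ b, L j (ρ b) = 0) :
    ∃ (j' : J) (t : j' ⟶ j), ∀ b, T t (ρ b) = 0 := by
  induction m with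
  | zero => exact ⟨j, 𝟙 j, fun b => b.elim0⟩
  | succ m ih =>
    obtain ⟨j₁, t₁, h₁⟩ := ih (fun b => ρ b.castSucc) (fun b => hρ _)
    obtain ⟨j₂, t₂, h₂⟩ := SF2 j₁ (T t₁ (ρ (Fin.last m))) (by rw [hLT]; exact hρ _)
    refine ⟨j₂, t₂ ≫ t₁, fun b => ?_⟩
    rw [← hTT]
    refine Fin.lastCases ?_ (fun i => ?_) b
    · exact h₂
    · rw [h₁ i, map_zero]

include hLT hTT SF1 SF2 in
/-- **A linear map from a finitely presented module to the colimit lifts to a stage.** -/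
theorem exists_lift [Module.FinitePresentation A M] (θ : M →ₗ[A] Y') :
    ∃ (j : J) (θj : M →ₗ[A] Y j), ∀ m, L j (θj m) = θ m := by
  classical
  obtain ⟨n, k, f, g, hf, hfg⟩ := Module.FinitePresentation.exists_fin' A M
  obtain ⟨j₁, y, hy⟩ := exists_lifts Y T L hLT SF1 (fun a : Fin n => θ (f (Pi.single a 1)))
  let Λ₁ : (Fin n → A) →ₗ[A] Y j₁ := Fintype.linearCombination A y
  have hΛ₁s : ∀ a, Λ₁ (Pi.single a 1) = y a := fun a => by
    show Fintype.linearCombination A y (Pi.single a 1) = y a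
    rw [Fintype.linearCombination_apply_single, one_smul]
  have hΛ₁ : (L j₁) ∘ₗ Λ₁ = θ ∘ₗ f := by
    refine LinearMap.pi_ext' fun a => LinearMap.ext_ring ?_
    show L j₁ (Λ₁ (Pi.single a 1)) = θ (f (Pi.single a 1))
    rw [hΛ₁s]
    exact hy a
  have hΛ₁' : ∀ v, L j₁ (Λ₁ v) = θ (f v) := fun v => LinearMap.congr_fun hΛ₁ v
  have hρ : ∀ b : Fin k, L j₁ (Λ₁ (g (Pi.single b 1))) = 0 := by
    intro b
    rw [hΛ₁', hfg.apply_apply_eq_zero, map_zero]
  obtain ⟨j₂, u, hu⟩ := exists_kill Y T L hLT hTT SF2 j₁ (fun b : Fin k => Λ₁ (g (Pi.single b 1))) hρ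
  let Λ₂ : (Fin n → A) →ₗ[A] Y j₂ := (T u) ∘ₗ Λ₁
  have hΛ₂g : Λ₂ ∘ₗ g = 0 := by
    refine LinearMap.pi_ext' fun b => LinearMap.ext_ring ?_
    show T u (Λ₁ (g (Pi.single b 1))) = 0
    exact hu b
  have hle : LinearMap.ker f ≤ LinearMap.ker Λ₂ := by
    intro v hv
    obtain ⟨w, rfl⟩ := (hfg v).mp hv
    exact LinearMap.congr_fun hΛ₂g w
  let θj : M →ₗ[A] Y j₂ := (LinearMap.ker f).liftQ Λ₂ hle ∘ₗ
    (f.quotKerEquivOfSurjective hf).symm.toLinearMap
  have hθj : ∀ v, θj (f v) = Λ₂ v := by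
    intro v
    have h1 : (f.quotKerEquivOfSurjective hf).symm (f v) = Submodule.Quotient.mk v := by
      rw [LinearEquiv.symm_apply_eq]
      exact (LinearMap.quotKerEquivOfSurjective_apply_mk f hf v).symm
    show (LinearMap.ker f).liftQ Λ₂ hle ((f.quotKerEquivOfSurjective hf).symm (f v)) = Λ₂ v
    rw [h1, Submodule.liftQ_apply]
  refine ⟨j₂, θj, fun m => ?_⟩
  obtain ⟨v, rfl⟩ := hf m
  rw [hθj]
  show L j₂ (T u (Λ₁ v)) = θ (f v)
  rw [hLT, hΛ₁']

end Groth.Agent.H24.FPLift
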