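import Mathlib
import Groth.Agent.H24.ClosedLimit
import Groth.Agent.H9.Equidim
import Groth.Agent.H9.FibDimTarget
import Groth.Agent.H60.UnivOpenAtFibre

/-!
# Closed subschemes of finite presentation with bounded fibre dimension (helper24)
-/

set_option autoImplicit false
universe u
open CategoryTheory CategoryTheory.Limits AlgebraicGeometry TopologicalSpace Opposite

namespace Groth.Agent.H24.FibDimClosed

open Groth.Agent.H24.IdealExt Groth.Agent.H24.ClosedLimit

theorem le_natCast_of_not_succ_le (a : WithBot ℕ∞) (d : ℕ)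
    (h : ¬ (((d + 1 : ℕ) : WithBot ℕ∞) ≤ a)) : a ≤ (d : WithBot ℕ∞) := by
  induction a using WithBot.recBotCoe with
  | bot => exact bot_le
  | coe e =>
    induction e using ENat.recTopCoe with
    | top =>
      exfalso
      apply h
      exact_mod_cast (le_top : ((d + 1 : ℕ) : ℕ∞) ≤ ⊤)
    | coe k =>
      have hk : ¬ (d + 1 ≤ k) := fun hh => h (by exact_mod_cast hh)
      have hk' : k ≤ d := by omega
      exact_mod_cast hk'

theorem not_succ_le_of_le (a : WithBot ℕ∞) (d : ℕ) (h : a ≤ (d : WithBot ℕ∞)) :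
    ¬ (((d + 1 : ℕ) : WithBot ℕ∞) ≤ a) := by
  intro h'
  have h2 : ((d + 1 : ℕ) : WithBot ℕ∞) ≤ (d : WithBot ℕ∞) := h'.trans h
  have h3 : d + 1 ≤ d := by exact_mod_cast h2
  omega

theorem localDim_congr {T : Type*} [TopologicalSpace T] {A B : Set T} (h : A = B) (x : T)
    (hA : x ∈ A) (hB : x ∈ B) :
    FlatMor.localDim ↥A ⟨x, hA⟩ = FlatMor.localDim ↥B ⟨x, hB⟩ := by
  subst h; rfl

set_option backward.isDefEq.respectTransparency.types false in
theorem noetherianSpace_preimage_singleton {X S : Scheme.{u}} (f : X ⟶ S) [LocallyOfFiniteType f]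
    [QuasiCompact f] (s : S) : NoetherianSpace ↥(f.base ⁻¹' {s}) := by
  haveI : IsLocallyNoetherian (f.fiber s) := by
    have : LocallyOfFiniteType (f.fiberToSpecResidueField s) :=
      MorphismProperty.pullback_snd _ _ inferInstance
    exact LocallyOfFiniteType.isLocallyNoetherian (f.fiberToSpecResidueField s)
  haveI : IsNoetherian (f.fiber s) := {}
  exact (noetherianSpace_iff_of_homeomorph (f.fiberHomeo s)).mp inferInstance

/-- **Stabilization on a fibre.** A downward directed family of closed subsets stabilizes on each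
fibre of a morphism of finite type. -/
theorem exists_inter_fibre_subset {X S : Scheme.{u}} (f : X ⟶ S) [LocallyOfFiniteType f]
    [QuasiCompact f] (s : S) {ι : Type*} [Nonempty ι] (R : ι → Set X) (hR : ∀ i, IsClosed (R i))
    (hdir : ∀ i j, ∃ k, R k ⊆ R i ∧ R k ⊆ R j) :
    ∃ i₀, ∀ i, R i₀ ∩ f.base ⁻¹' {s} ⊆ R i := by
  haveI := noetherianSpace_preimage_singleton f s
  let A : ι → Closeds ↥(f.base ⁻¹' {s}) := fun i =>
    ⟨Subtype.val ⁻¹' R i, (hR i).preimage continuous_subtype_val⟩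
  obtain ⟨_, ⟨i₀, rfl⟩, hmin⟩ := wellFounded_lt.has_min (Set.range A)
    ⟨_, ⟨Classical.arbitrary ι, rfl⟩⟩
  refine ⟨i₀, fun i => ?_⟩
  obtain ⟨k, hk₀, hki⟩ := hdir i₀ i
  have hle : A k ≤ A i₀ := fun y hy => hk₀ hy
  have heq : A k = A i₀ := eq_of_le_of_not_lt hle (hmin _ ⟨k, rfl⟩)
  rintro y ⟨hy₀, hys⟩
  have hyA : (⟨y, hys⟩ : ↥(f.base ⁻¹' {s})) ∈ A i₀ := hy₀
  rw [← heq] at hyA
  exact hki hyA

section

variable {X Z : Scheme.{u}} (ι : Z ⟶ X)

theorem isClosedImmersion_inclusion {I J : X.IdealSheafData} (h : I ≤ J) :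
    IsClosedImmersion (Scheme.IdealSheafData.inclusion h) := by
  have h2 : IsClosedImmersion (Scheme.IdealSheafData.inclusion h ≫ I.subschemeι) := by
    rw [Scheme.IdealSheafData.inclusion_subschemeι]; infer_instance
  exact IsClosedImmersion.of_comp _ I.subschemeι

theorem range_subschemeι_anti {I J : X.IdealSheafData} (h : I ≤ J) :
    Set.range J.subschemeι.base ⊆ Set.range I.subschemeι.base := by
  rintro _ ⟨z, rfl⟩
  refine ⟨(Scheme.IdealSheafData.inclusion h).base z, ?_⟩
  rw [← Scheme.Hom.comp_apply, Scheme.IdealSheafData.inclusion_subschemeι]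

variable [IsClosedImmersion ι]

theorem range_subset_range_subschemeι (i : Idx ι.ker) :
    Set.range ι.base ⊆ Set.range i.1.subschemeι.base := by
  rintro _ ⟨z, rfl⟩
  refine ⟨(coneLeg ι (op i)).base z, ?_⟩
  rw [← Scheme.Hom.comp_apply]
  exact congrArg (fun g : Z ⟶ X => g.base z) (coneLeg_ι ι (op i))

variable [CompactSpace X] [QuasiSeparatedSpace X]

/-- The closed subscheme is the set-theoretic intersection of the closed subschemes of finite
presentation containing it. -/
theorem iInter_range_subset :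
    (⋂ i : Idx ι.ker, Set.range i.1.subschemeι.base) ⊆ Set.range ι.base := by
  intro x hx
  have hK : ι.ker ≤ ⨆ i : Idx ι.ker, i.1 :=
    le_of_forall_fg_le ι.ker _
      (fun J hJ hfg => le_iSup (fun i : Idx ι.ker => i.1) ⟨J, hJ, hfg⟩)
  have h1 := Scheme.IdealSheafData.support_antitone hK
  rw [Scheme.IdealSheafData.support_iSup] at h1
  have h2 : x ∈ (⨅ i : Idx ι.ker, i.1.support : Closeds X) := by
    rw [Closeds.mem_iInf]
    intro i
    have h3 := Set.mem_iInter.mp hx i
    rw [show Set.range i.1.subschemeι.base = (i.1.support : Set X) from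
      i.1.range_subschemeι] at h3
    exact h3
  have h4 : x ∈ (ι.ker.support : Set X) := h1 h2
  rw [Scheme.Hom.support_ker] at h4
  rw [ι.isClosedEmbedding.isClosed_range.closure_eq] at h4
  exact h4

end

section main

variable {X S Z : Scheme.{u}} (f : X ⟶ S) [LocallyOfFinitePresentation f] [QuasiCompact f]
  (d : ℕ) (ι : Z ⟶ X) [IsClosedImmersion ι]

/-- The closed set of points where the fibre dimension of `V(J) → S` exceeds `d`. -/
def badSet (i : Idx ι.ker) : Set X :=
  i.1.subschemeι.base '' {z | ((d + 1 : ℕ) : WithBot ℕ∞) ≤ FlatMor.fibreDimAt (i.1.subschemeι ≫ f) z}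

theorem isClosed_badSet (i : Idx ι.ker) : IsClosed (badSet f d ι i) :=
  i.1.subschemeι.isClosedEmbedding.isClosedMap _
    (Groth.Agent.H9.FibDim.isClosed_setOf_natCast_le_fibreDimAt _ (d + 1))

theorem badSet_anti {i j : Idx ι.ker} (h : i ≤ j) : badSet f d ι j ⊆ badSet f d ι i := by
  rintro _ ⟨z, hz, rfl⟩
  have hij : i.1 ≤ j.1 := h
  haveI := isClosedImmersion_inclusion hij
  refine ⟨(Scheme.IdealSheafData.inclusion hij).base z, ?_, ?_⟩
  · have e : Scheme.IdealSheafData.inclusion hij ≫ (i.1.subschemeι ≫ f) = j.1.subschemeι ≫ f := by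
      rw [← Category.assoc, Scheme.IdealSheafData.inclusion_subschemeι]
    have h1 := Groth.Agent.H60.UnivOpenAtFibre.fibreDimAt_comp_le
      (Scheme.IdealSheafData.inclusion hij) (i.1.subschemeι ≫ f) z
    rw [e] at h1
    exact le_trans hz h1
  · rw [← Scheme.Hom.comp_apply, Scheme.IdealSheafData.inclusion_subschemeι]

variable [CompactSpace X] [QuasiSeparatedSpace X]

theorem iInter_badSet_eq_empty
    (hZ : ∀ s : S, topologicalKrullDim ↥((ι ≫ f).fiber s) ≤ d) :
    (⋂ i : Idx ι.ker, badSet f d ι i) = ∅ := by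
  rw [Set.eq_empty_iff_forall_notMem]
  intro x hx
  have hxi : ∀ i : Idx ι.ker, x ∈ badSet f d ι i := fun i => Set.mem_iInter.mp hx i
  have hxr : ∀ i : Idx ι.ker, x ∈ Set.range i.1.subschemeι.base := by
    intro i
    obtain ⟨z, -, hz⟩ := hxi i
    exact ⟨z, hz⟩
  -- stabilization on the fibre through `x`
  obtain ⟨i₀, hi₀⟩ := exists_inter_fibre_subset f (f.base x)
    (fun i : Idx ι.ker => Set.range i.1.subschemeι.base)
    (fun i => i.1.subschemeι.isClosedEmbedding.isClosed_range)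
    (fun i j => by
      obtain ⟨k, hik, hjk⟩ := directed_of (fun a b : Idx ι.ker => a ≤ b) i j
      exact ⟨k, range_subschemeι_anti (show i.1 ≤ k.1 from hik),
        range_subschemeι_anti (show j.1 ≤ k.1 from hjk)⟩)
  have hE : Set.range i₀.1.subschemeι.base ∩ f.base ⁻¹' {f.base x} =
      Set.range ι.base ∩ f.base ⁻¹' {f.base x} := by
    apply Set.Subset.antisymm
    · rintro y hy
      refine ⟨iInter_range_subset ι (Set.mem_iInter.mpr fun i => hi₀ i hy), hy.2⟩
    · rintro y ⟨hy1, hy2⟩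
      exact ⟨range_subset_range_subschemeι ι i₀ hy1, hy2⟩
  obtain ⟨z₀, hz₀d, hz₀⟩ := hxi i₀
  obtain ⟨z, hz⟩ := iInter_range_subset ι (Set.mem_iInter.mpr hxr)
  have e1 := Groth.Agent.H9.Equidim.localDim_inter_fibre_eq i₀.1.subschemeι
    i₀.1.subschemeι.isClosedEmbedding.isEmbedding (Set.range i₀.1.subschemeι.base) rfl f z₀ x hz₀
    ⟨z₀, hz₀⟩
  have e2 := Groth.Agent.H9.Equidim.localDim_inter_fibre_eq ι
    ι.isClosedEmbedding.isEmbedding (Set.range ι.base) rfl f z x hz ⟨z, hz⟩
  have e3 := localDim_congr hE x ⟨⟨z₀, hz₀⟩, rfl⟩ ⟨⟨z, hz⟩, rfl⟩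
  have h5 : FlatMor.fibreDimAt (ι ≫ f) z ≤ (d : WithBot ℕ∞) := by
    unfold FlatMor.fibreDimAt
    exact (Groth.Agent.H9.FibDim.localDim_le_dim _ _).trans (hZ _)
  have h6 : FlatMor.fibreDimAt (i₀.1.subschemeι ≫ f) z₀ = FlatMor.fibreDimAt (ι ≫ f) z := by
    rw [← e1, ← e2]; exact e3
  have hz₀d' : ((d + 1 : ℕ) : WithBot ℕ∞) ≤ FlatMor.fibreDimAt (i₀.1.subschemeι ≫ f) z₀ := hz₀d
  rw [h6] at hz₀d'
  exact not_succ_le_of_le _ d h5 hz₀d' 

/-- **Approximation with bounded fibre dimension.** -/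
theorem exists_fibreDim_le
    (hZ : ∀ s : S, topologicalKrullDim ↥((ι ≫ f).fiber s) ≤ d) :
    ∃ i : Idx ι.ker, ∀ s : S, topologicalKrullDim ↥((i.1.subschemeι ≫ f).fiber s) ≤ d := by
  by_contra hne
  push_neg at hne
  have hCne : ∀ i : Idx ι.ker, (badSet f d ι i).Nonempty := by
    intro i
    obtain ⟨s, hs⟩ := hne i
    have h1 : ((d + 1 : ℕ) : WithBot ℕ∞) ≤
        topologicalKrullDim ↥((i.1.subschemeι ≫ f).fiber s) := by
      by_contra h
      exact absurd (le_natCast_of_not_succ_le _ d h) (not_le.mpr hs)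
    obtain ⟨z, -, hzd⟩ := (Groth.Agent.H9.FibDim.natCast_le_dim_fiber_iff _ s (d + 1)).mp h1
    exact ⟨_, z, hzd, rfl⟩
  have hne' := IsCompact.nonempty_iInter_of_directed_nonempty_isCompact_isClosed
    (badSet f d ι)
    (fun i j => by
      obtain ⟨k, hik, hjk⟩ := directed_of (fun a b : Idx ι.ker => a ≤ b) i j
      exact ⟨k, badSet_anti f d ι hik, badSet_anti f d ι hjk⟩)
    hCne (fun i => (isClosed_badSet f d ι i).isCompact) (isClosed_badSet f d ι)
  rw [iInter_badSet_eq_empty f d ι hZ] at hne'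
  exact Set.not_nonempty_empty hne'

end main

end Groth.Agent.H24.FibDimClosed
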