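import Mathlib
import Groth.Agent.H24.FibDimClosed
import Groth.Agent.H60.FibreDimBC

/-!
# Fibre dimension bounds descend to a stage of a limit (helper24)
-/

set_option autoImplicit false
universe u
open CategoryTheory CategoryTheory.Limits AlgebraicGeometry TopologicalSpace Opposite

namespace Groth.Agent.H24.FibDimLimit

open Groth.Agent.H24.FibDimClosed

/-! ### Cofiltered systems of closed subschemes -/

section closedsys

variable {J : Type u} [SmallCategory J] [IsCofiltered J] (E : J ⥤ Scheme.{u}) (c : Cone E)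
  (hc : IsLimit c) (j₀ : J) (hcl : ∀ {i j : J} (a : i ⟶ j), IsClosedImmersion (E.map a))

include hc hcl in
/-- In a cofiltered system of closed immersions the projection from the limit is a closed
immersion, whose range is the intersection of the ranges of the transition maps. -/
theorem isClosedImmersion_π_and_range :
    IsClosedImmersion (c.π.app j₀) ∧
      (⋂ a : Over j₀, Set.range (E.map a.hom).base) ⊆ Set.range (c.π.app j₀).base := by
  haveI : ∀ a : Over j₀, IsClosedImmersion (E.map a.hom) := fun a => hcl a.hom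
  let M : (E.obj j₀).IdealSheafData := ⨆ a : Over j₀, (E.map a.hom).ker
  have hM : ∀ a : Over j₀, (E.map a.hom).ker ≤ M.subschemeι.ker := by
    intro a
    rw [Scheme.IdealSheafData.ker_subschemeι]
    exact le_iSup (fun a : Over j₀ => (E.map a.hom).ker) a
  let m : ∀ a : Over j₀, M.subscheme ⟶ E.obj a.left := fun a =>
    IsClosedImmersion.lift (E.map a.hom) M.subschemeι (hM a)
  have hm : ∀ a : Over j₀, m a ≫ E.map a.hom = M.subschemeι := fun a =>
    IsClosedImmersion.lift_fac _ _ _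
  let hc' : IsLimit (c.whisker (Over.forget j₀)) :=
    (Functor.Initial.isLimitWhiskerEquiv (Over.forget j₀) c).symm hc
  let coneM : Cone (Over.forget j₀ ⋙ E) :=
    { pt := M.subscheme
      π :=
        { app := fun a => m a
          naturality := fun a b k => by
            apply (cancel_mono (E.map b.hom)).mp
            have hk : k.left ≫ b.hom = a.hom := Over.w k
            show (𝟙 _ ≫ m b) ≫ E.map b.hom = (m a ≫ E.map k.left) ≫ E.map b.hom
            rw [Category.id_comp, Category.assoc, ← E.map_comp, hk, hm, hm] } }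
  let w : M.subscheme ⟶ c.pt := hc'.lift coneM
  have hw : ∀ a : Over j₀, w ≫ c.π.app a.left = m a := fun a => hc'.fac coneM a
  have hπ : ∀ a : Over j₀, c.π.app a.left ≫ E.map a.hom = c.π.app j₀ := fun a => c.w a.hom
  have hker : M.subschemeι.ker ≤ (c.π.app j₀).ker := by
    rw [Scheme.IdealSheafData.ker_subschemeι]
    apply iSup_le
    intro a
    rw [← hπ a]
    exact Scheme.Hom.le_ker_comp _ _
  let v : c.pt ⟶ M.subscheme := IsClosedImmersion.lift M.subschemeι (c.π.app j₀) hker
  have hv : v ≫ M.subschemeι = c.π.app j₀ := IsClosedImmersion.lift_fac _ _ _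
  have hw₀ : w ≫ c.π.app j₀ = M.subschemeι := by
    have h1 := hw (Over.mk (𝟙 j₀))
    have h2 := hm (Over.mk (𝟙 j₀))
    simp only [Over.mk_left, Over.mk_hom, E.map_id, Category.comp_id] at h1 h2
    rw [h1, h2]
  have hvw : v ≫ w = 𝟙 _ := by
    apply hc'.hom_ext
    intro a
    show (v ≫ w) ≫ c.π.app a.left = 𝟙 _ ≫ c.π.app a.left
    rw [Category.assoc, hw a, Category.id_comp]
    apply (cancel_mono (E.map a.hom)).mp
    rw [Category.assoc, hm a, hv, hπ a]
  have hwv : w ≫ v = 𝟙 _ := by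
    apply (cancel_mono M.subschemeι).mp
    rw [Category.assoc, hv, hw₀, Category.id_comp]
  haveI : IsIso v := ⟨w, hvw, hwv⟩
  refine ⟨?_, ?_⟩
  · rw [← hv]; infer_instance
  · intro y hy
    have hy' : y ∈ (M.support : Set (E.obj j₀)) := by
      show y ∈ M.support
      rw [Scheme.IdealSheafData.support_iSup, Closeds.mem_iInf]
      intro a
      have h3 := Set.mem_iInter.mp hy a
      have h4 : ((E.map a.hom).ker.support : Set (E.obj j₀)) = closure (Set.range (E.map a.hom)) :=
        Scheme.Hom.support_ker _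
      rw [(E.map a.hom).isClosedEmbedding.isClosed_range.closure_eq] at h4
      show y ∈ ((E.map a.hom).ker.support : Set (E.obj j₀))
      rw [h4]
      exact h3
    rw [← M.range_subschemeι] at hy'
    obtain ⟨z, rfl⟩ := hy'
    refine ⟨w.base z, ?_⟩
    rw [← Scheme.Hom.comp_apply]
    exact congrArg (fun g : M.subscheme ⟶ E.obj j₀ => g.base z) hw₀

end closedsys

/-! ### The base-changed system `P i = X_i ×_{S_i} S` -/

theorem lft_snd {X Y T : Scheme.{u}} (f : X ⟶ Y) (g : T ⟶ Y) [LocallyOfFiniteType f] :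
    LocallyOfFiniteType (pullback.snd f g) :=
  inferInstance

set_option backward.isDefEq.respectTransparency.types false in
theorem isAffineHom_fst {X Y T : Scheme.{u}} (f : X ⟶ Y) (g : T ⟶ Y) [IsAffineHom g] :
    IsAffineHom (pullback.fst f g) :=
  MorphismProperty.pullback_fst f g inferInstance

theorem qc_snd {X Y T : Scheme.{u}} (f : X ⟶ Y) (g : T ⟶ Y) [QuasiCompact f] :
    QuasiCompact (pullback.snd f g) :=
  inferInstance

section system

variable {I : Type u} [SmallCategory I] {DX DS : I ⥤ Scheme.{u}} (φ : DX ⟶ DS)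
  {cX : Cone DX} (cS : Cone DS)

/-- `X_i ×_{S_i} S`. -/
noncomputable def P (i : I) : Scheme.{u} := pullback (φ.app i) (cS.π.app i)

/-- first projection -/
noncomputable def pf (i : I) : P φ cS i ⟶ DX.obj i := pullback.fst _ _

/-- second projection -/
noncomputable def pg (i : I) : P φ cS i ⟶ cS.pt := pullback.snd _ _

theorem p_cond (i : I) : pf φ cS i ≫ φ.app i = pg φ cS i ≫ cS.π.app i := pullback.condition

theorem isPullback_P (i : I) : IsPullback (pf φ cS i) (pg φ cS i) (φ.app i) (cS.π.app i) :=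
  IsPullback.of_hasPullback _ _

instance [∀ i, LocallyOfFiniteType (φ.app i)] (i : I) : LocallyOfFiniteType (pg φ cS i) :=
  lft_snd (φ.app i) (cS.π.app i)

instance [∀ i, QuasiCompact (φ.app i)] (i : I) : QuasiCompact (pg φ cS i) :=
  qc_snd (φ.app i) (cS.π.app i)

/-- transition maps -/
noncomputable def pt {i j : I} (a : i ⟶ j) : P φ cS i ⟶ P φ cS j :=
  pullback.lift (pf φ cS i ≫ DX.map a) (pg φ cS i) (by
    rw [Category.assoc, φ.naturality a, ← Category.assoc, p_cond, Category.assoc, cS.w a])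

theorem pt_pf {i j : I} (a : i ⟶ j) : pt φ cS a ≫ pf φ cS j = pf φ cS i ≫ DX.map a :=
  pullback.lift_fst _ _ _

theorem pt_pg {i j : I} (a : i ⟶ j) : pt φ cS a ≫ pg φ cS j = pg φ cS i :=
  pullback.lift_snd _ _ _

theorem pt_id (i : I) : pt φ cS (𝟙 i) = 𝟙 _ := by
  apply (isPullback_P φ cS i).hom_ext
  · rw [pt_pf, DX.map_id, Category.comp_id, Category.id_comp]
  · rw [pt_pg, Category.id_comp]

theorem pt_comp {i j k : I} (a : i ⟶ j) (b : j ⟶ k) :
    pt φ cS (a ≫ b) = pt φ cS a ≫ pt φ cS b := by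
  apply (isPullback_P φ cS k).hom_ext
  · rw [pt_pf, Category.assoc, pt_pf, ← Category.assoc, pt_pf, Category.assoc, DX.map_comp]
  · rw [pt_pg, Category.assoc, pt_pg, pt_pg]

/-- The diagram of the `P i`. -/
noncomputable abbrev DP : I ⥤ Scheme.{u} where
  obj := P φ cS
  map a := pt φ cS a
  map_id := pt_id φ cS
  map_comp := pt_comp φ cS

theorem DP_map {i j : I} (a : i ⟶ j) : (DP φ cS).map a = pt φ cS a := rfl

variable (f : cX.pt ⟶ cS.pt) (hf : ∀ i, f ≫ cS.π.app i = cX.π.app i ≫ φ.app i)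

/-- the maps from the limit -/
noncomputable def pu (i : I) : cX.pt ⟶ P φ cS i :=
  pullback.lift (cX.π.app i) f (hf i).symm

theorem pu_pf (i : I) : pu φ cS f hf i ≫ pf φ cS i = cX.π.app i := pullback.lift_fst _ _ _

theorem pu_pg (i : I) : pu φ cS f hf i ≫ pg φ cS i = f := pullback.lift_snd _ _ _

theorem pu_pt {i j : I} (a : i ⟶ j) : pu φ cS f hf i ≫ pt φ cS a = pu φ cS f hf j := by
  apply (isPullback_P φ cS j).hom_ext
  · rw [Category.assoc, pt_pf, ← Category.assoc, pu_pf, pu_pf, cX.w a]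
  · rw [Category.assoc, pt_pg, pu_pg, pu_pg]

/-- The cone over the `P i` with vertex the limit `X`. -/
noncomputable def coneP : Cone (DP φ cS) where
  pt := cX.pt
  π :=
    { app := fun i => pu φ cS f hf i
      naturality := fun i j a => by
        show 𝟙 _ ≫ pu φ cS f hf j = pu φ cS f hf i ≫ pt φ cS a
        rw [Category.id_comp, pu_pt] }

theorem coneP_π (i : I) : (coneP φ cS f hf).π.app i = pu φ cS f hf i := rfl

theorem cone_pg_eq [IsCofiltered I] (s : Cone (DP φ cS)) (i k : I) :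
    s.π.app i ≫ pg φ cS i = s.π.app k ≫ pg φ cS k := by
  have h1 : s.π.app (IsCofiltered.min i k) ≫ pt φ cS (IsCofiltered.minToLeft i k) = s.π.app i :=
    s.w (IsCofiltered.minToLeft i k)
  have h2 : s.π.app (IsCofiltered.min i k) ≫ pt φ cS (IsCofiltered.minToRight i k) = s.π.app k :=
    s.w (IsCofiltered.minToRight i k)
  rw [← h1, ← h2, Category.assoc, Category.assoc, pt_pg, pt_pg]

/-- `X = lim X_i ×_{S_i} S`. -/
noncomputable def isLimitConeP [IsCofiltered I] (hX : IsLimit cX) (hS : IsLimit cS) :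
    IsLimit (coneP φ cS f hf) where
  lift s := hX.lift
    { pt := s.pt
      π :=
        { app := fun i => s.π.app i ≫ pf φ cS i
          naturality := fun i j a => by
            have h1 : s.π.app i ≫ pt φ cS a = s.π.app j := s.w a
            show 𝟙 _ ≫ s.π.app j ≫ pf φ cS j = (s.π.app i ≫ pf φ cS i) ≫ DX.map a
            rw [Category.id_comp, ← h1, Category.assoc, Category.assoc, pt_pf] } }
  fac s i := by
    apply (isPullback_P φ cS i).hom_ext
    · show (_ ≫ pu φ cS f hf i) ≫ pf φ cS i = _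
      rw [Category.assoc, pu_pf, hX.fac]
    · show (_ ≫ pu φ cS f hf i) ≫ pg φ cS i = _
      rw [Category.assoc, pu_pg]
      apply hS.hom_ext
      intro k
      rw [Category.assoc, hf k, ← Category.assoc, hX.fac]
      show (s.π.app k ≫ pf φ cS k) ≫ φ.app k = _
      rw [Category.assoc, p_cond, ← Category.assoc, cone_pg_eq φ cS s k i]
  uniq s m hm := by
    apply hX.hom_ext
    intro i
    rw [hX.fac]
    show m ≫ cX.π.app i = s.π.app i ≫ pf φ cS i
    rw [← hm i, ← pu_pf φ cS f hf i, Category.assoc]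
    rfl

omit cX in
/-- The transition maps of the `P i` are closed immersions. -/
theorem isClosedImmersion_pt {i j : I} (a : i ⟶ j)
    (hcl : IsClosedImmersion (pullback.lift (DX.map a) (φ.app i) (φ.naturality a))) :
    IsClosedImmersion (pt φ cS a) := by
  let l : DX.obj i ⟶ pullback (φ.app j) (DS.map a) :=
    pullback.lift (DX.map a) (φ.app i) (φ.naturality a)
  have hl_snd : l ≫ pullback.snd (φ.app j) (DS.map a) = φ.app i := pullback.lift_snd _ _ _
  have hl_fst : l ≫ pullback.fst (φ.app j) (DS.map a) = DX.map a := pullback.lift_fst _ _ _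
  let r : P φ cS j ⟶ pullback (φ.app j) (DS.map a) :=
    pullback.lift (pf φ cS j) (pg φ cS j ≫ cS.π.app i) (by
      rw [p_cond, Category.assoc, cS.w a])
  have hr_fst : r ≫ pullback.fst (φ.app j) (DS.map a) = pf φ cS j := pullback.lift_fst _ _ _
  have hr_snd : r ≫ pullback.snd (φ.app j) (DS.map a) = pg φ cS j ≫ cS.π.app i :=
    pullback.lift_snd _ _ _
  have sqA : IsPullback r (pg φ cS j) (pullback.snd (φ.app j) (DS.map a)) (cS.π.app i) := by
    refine IsPullback.of_right (h₁₂ := pullback.fst (φ.app j) (DS.map a)) (v₁₃ := φ.app j)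
      (h₂₂ := DS.map a) ?_ hr_snd (IsPullback.of_hasPullback _ _)
    rw [hr_fst, cS.w a]
    exact isPullback_P φ cS j
  have hcomm : pt φ cS a ≫ r = pf φ cS i ≫ l := by
    apply pullback.hom_ext
    · rw [Category.assoc, hr_fst, pt_pf, Category.assoc, hl_fst]
    · rw [Category.assoc, hr_snd, ← Category.assoc, pt_pg, Category.assoc, hl_snd, p_cond]
  have main : IsPullback (pt φ cS a) (pf φ cS i) r l := by
    refine IsPullback.of_right (h₁₂ := pg φ cS j) (v₁₃ := cS.π.app i)
      (h₂₂ := pullback.snd (φ.app j) (DS.map a)) ?_ hcomm sqA.flip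
    rw [pt_pg, hl_snd]
    exact (isPullback_P φ cS i).flip
  exact MorphismProperty.of_isPullback (P := @IsClosedImmersion) main.flip hcl

end system

section main

variable {I : Type u} [SmallCategory I] [IsCofiltered I] {DX DS : I ⥤ Scheme.{u}} (φ : DX ⟶ DS)
  (cX : Cone DX) (cS : Cone DS) (hX : IsLimit cX) (hS : IsLimit cS)
  [∀ (i j : I) (a : i ⟶ j), IsAffineHom (DS.map a)] [∀ i, CompactSpace (DS.obj i)]
  [∀ i, QuasiSeparatedSpace (DS.obj i)] [∀ i, LocallyOfFiniteType (φ.app i)]
  [∀ i, QuasiCompact (φ.app i)]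
  (hcl : ∀ (i j : I) (a : i ⟶ j),
    IsClosedImmersion (pullback.lift (DX.map a) (φ.app i) (φ.naturality a)))
  (f : cX.pt ⟶ cS.pt) (hf : ∀ i, f ≫ cS.π.app i = cX.π.app i ≫ φ.app i) (d : ℕ)

/-- The closed set of points of `X_i` where the local fibre dimension exceeds `d`. -/
def bad (i : I) : Set (DX.obj i) :=
  {p | ((d + 1 : ℕ) : WithBot ℕ∞) ≤ FlatMor.fibreDimAt (φ.app i) p}

omit [IsCofiltered I] [∀ (i j : I) (a : i ⟶ j), IsAffineHom (DS.map a)]
  [∀ i, CompactSpace (DS.obj i)] [∀ i, QuasiSeparatedSpace (DS.obj i)]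
  [∀ i, QuasiCompact (φ.app i)] in
theorem isClosed_bad (i : I) : IsClosed (bad φ d i) :=
  Groth.Agent.H9.FibDim.isClosed_setOf_natCast_le_fibreDimAt _ (d + 1)

omit [IsCofiltered I] [∀ i, CompactSpace (DS.obj i)] [∀ i, QuasiSeparatedSpace (DS.obj i)]
  [∀ i, QuasiCompact (φ.app i)] in
include hcl in
theorem mapsTo_bad {i j : I} (a : i ⟶ j) :
    Set.MapsTo (DX.map a).base (bad φ d i) (bad φ d j) := by
  intro p hp
  obtain ⟨l, hl⟩ : ∃ l : DX.obj i ⟶ pullback (φ.app j) (DS.map a),
      l = pullback.lift (DX.map a) (φ.app i) (φ.naturality a) := ⟨_, rfl⟩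
  haveI : IsClosedImmersion l := hl ▸ hcl i j a
  have hl_snd : l ≫ pullback.snd (φ.app j) (DS.map a) = φ.app i := by
    rw [hl]; exact pullback.lift_snd _ _ _
  have hl_fst : l ≫ pullback.fst (φ.app j) (DS.map a) = DX.map a := by
    rw [hl]; exact pullback.lift_fst _ _ _
  haveI : LocallyOfFiniteType (l ≫ pullback.snd (φ.app j) (DS.map a)) := by
    rw [hl_snd]; infer_instance
  have h1 := Groth.Agent.H60.UnivOpenAtFibre.fibreDimAt_comp_le l
    (pullback.snd (φ.app j) (DS.map a)) p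
  rw [hl_snd] at h1
  have h2 := Groth.Agent.H60.FibreDimBC.fibreDimAt_baseChange (φ.app j) (DS.map a) (l.base p)
  have h3 : (pullback.fst (φ.app j) (DS.map a)).base (l.base p) = (DX.map a).base p := by
    rw [← Scheme.Hom.comp_apply, hl_fst]
  rw [h2, h3] at h1
  exact le_trans hp h1

omit [IsCofiltered I] [∀ (i j : I) (a : i ⟶ j), IsAffineHom (DS.map a)]
  [∀ i, CompactSpace (DS.obj i)] [∀ i, QuasiSeparatedSpace (DS.obj i)]
  [∀ i, LocallyOfFiniteType (φ.app i)] [∀ i, QuasiCompact (φ.app i)] in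
theorem range_pt_subset {i j k : I} (c : i ⟶ j) (b : j ⟶ k) (e : i ⟶ k) (h : c ≫ b = e) :
    Set.range (pt φ cS e).base ⊆ Set.range (pt φ cS b).base := by
  rintro _ ⟨z, rfl⟩
  refine ⟨(pt φ cS c).base z, ?_⟩
  rw [← Scheme.Hom.comp_apply, ← pt_comp, h]

include hX hS hcl hf in
/-- **Fibre dimension bounds descend to a stage.** -/
theorem exists_stage_fibreDim_le (hd : ∀ s : cS.pt, topologicalKrullDim ↥(f.fiber s) ≤ d) :
    ∃ i : I, ∀ s : DS.obj i, topologicalKrullDim ↥((φ.app i).fiber s) ≤ d := by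
  by_contra hne
  push_neg at hne
  have hBne : ∀ i, (bad φ d i).Nonempty := by
    intro i
    obtain ⟨s, hs⟩ := hne i
    have h1 : ((d + 1 : ℕ) : WithBot ℕ∞) ≤ topologicalKrullDim ↥((φ.app i).fiber s) := by
      by_contra h
      exact absurd (le_natCast_of_not_succ_le _ d h) (not_le.mpr hs)
    obtain ⟨z, -, hzd⟩ := (Groth.Agent.H9.FibDim.natCast_le_dim_fiber_iff _ s (d + 1)).mp h1
    exact ⟨z, hzd⟩
  haveI : ∀ i, CompactSpace (DX.obj i) := fun i =>
    QuasiCompact.compactSpace_of_compactSpace (φ.app i)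
  haveI : ∀ {i j : I} (a : i ⟶ j), IsAffineHom (DX.map a) := by
    intro i j a
    haveI := hcl i j a
    haveI := isAffineHom_fst (φ.app j) (DS.map a)
    have h := pullback.lift_fst (DX.map a) (φ.app i) (φ.naturality a)
    rw [← h]; infer_instance
  obtain ⟨x, hx⟩ := exists_mem_of_isClosed_of_nonempty DX cX hX (fun i => bad φ d i)
    (isClosed_bad φ d) hBne (fun i => (isClosed_bad φ d i).isCompact)
    (fun a => mapsTo_bad φ hcl d a)
  obtain ⟨i₀⟩ := IsCofiltered.nonempty (C := I)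
  haveI : Nonempty (Over i₀) := ⟨Over.mk (𝟙 i₀)⟩
  haveI hclP : ∀ {i j : I} (a : i ⟶ j), IsClosedImmersion (pt φ cS a) := fun a =>
    isClosedImmersion_pt φ cS a (hcl _ _ a)
  obtain ⟨hT1, hT2⟩ := isClosedImmersion_π_and_range (DP φ cS) (coneP φ cS f hf)
    (isLimitConeP φ cS f hf hX hS) i₀ (fun a => hclP a)
  haveI hT1' : IsClosedImmersion (pu φ cS f hf i₀) := hT1
  obtain ⟨a₀, ha₀⟩ := exists_inter_fibre_subset (pg φ cS i₀)
    ((pg φ cS i₀).base ((pu φ cS f hf i₀).base x))
    (fun a : Over i₀ => Set.range (pt φ cS a.hom).base)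
    (fun a => (pt φ cS a.hom).isClosedEmbedding.isClosed_range)
    (fun a b => ⟨IsCofiltered.min a b,
      range_pt_subset φ cS (IsCofiltered.minToLeft a b).left a.hom _
        (Over.w (IsCofiltered.minToLeft a b)),
      range_pt_subset φ cS (IsCofiltered.minToRight a b).left b.hom _
        (Over.w (IsCofiltered.minToRight a b))⟩)
  have hp₁ : (pt φ cS a₀.hom).base ((pu φ cS f hf a₀.left).base x) =
      (pu φ cS f hf i₀).base x := by
    rw [← Scheme.Hom.comp_apply, pu_pt]
  have hE : Set.range (pt φ cS a₀.hom).base ∩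
      (pg φ cS i₀).base ⁻¹' {(pg φ cS i₀).base ((pu φ cS f hf i₀).base x)} =
      Set.range (pu φ cS f hf i₀).base ∩
      (pg φ cS i₀).base ⁻¹' {(pg φ cS i₀).base ((pu φ cS f hf i₀).base x)} := by
    apply Set.Subset.antisymm
    · intro y hy
      exact ⟨hT2 (Set.mem_iInter.mpr fun a => ha₀ a hy), hy.2⟩
    · rintro y ⟨⟨z, rfl⟩, hy2⟩
      refine ⟨⟨(pu φ cS f hf a₀.left).base z, ?_⟩, hy2⟩
      rw [← Scheme.Hom.comp_apply, pu_pt]
  have e1 := Groth.Agent.H9.Equidim.localDim_inter_fibre_eq (pt φ cS a₀.hom)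
    (pt φ cS a₀.hom).isClosedEmbedding.isEmbedding (Set.range (pt φ cS a₀.hom).base) rfl
    (pg φ cS i₀) ((pu φ cS f hf a₀.left).base x) ((pu φ cS f hf i₀).base x) hp₁
    ⟨_, hp₁⟩
  have e2 := Groth.Agent.H9.Equidim.localDim_inter_fibre_eq (pu φ cS f hf i₀)
    (pu φ cS f hf i₀).isClosedEmbedding.isEmbedding (Set.range (pu φ cS f hf i₀).base) rfl
    (pg φ cS i₀) x ((pu φ cS f hf i₀).base x) rfl ⟨x, rfl⟩
  have e3 := localDim_congr hE ((pu φ cS f hf i₀).base x) ⟨⟨_, hp₁⟩, rfl⟩ ⟨⟨x, rfl⟩, rfl⟩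
  rw [pt_pg] at e1
  rw [pu_pg] at e2
  have h4 := Groth.Agent.H60.FibreDimBC.fibreDimAt_baseChange (φ.app a₀.left)
    (cS.π.app a₀.left) ((pu φ cS f hf a₀.left).base x)
  have h5 : (pf φ cS a₀.left).base ((pu φ cS f hf a₀.left).base x) =
      (cX.π.app a₀.left).base x := by
    rw [← Scheme.Hom.comp_apply, pu_pf]
  have h6 : FlatMor.fibreDimAt f x ≤ (d : WithBot ℕ∞) := by
    unfold FlatMor.fibreDimAt
    exact (Groth.Agent.H9.FibDim.localDim_le_dim _ _).trans (hd _)
  have h7 : ((d + 1 : ℕ) : WithBot ℕ∞) ≤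
      FlatMor.fibreDimAt (φ.app a₀.left) ((cX.π.app a₀.left).base x) := hx a₀.left
  have h8 : FlatMor.fibreDimAt (φ.app a₀.left) ((cX.π.app a₀.left).base x) =
      FlatMor.fibreDimAt f x := by
    rw [← h5]
    exact h4.symm.trans (e1.symm.trans (e3.trans e2))
  rw [h8] at h7
  exact not_succ_le_of_le _ d h6 h7

end main

end Groth.Agent.H24.FibDimLimit
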