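import Groth.Agent.H24.ModLimHomSurj
import Groth.Agent.H24.ModLimIso

/-!
# Isomorphy of the pullbacks of two finitely presented modules to a limit descends to a stage
(helper24)
-/

set_option autoImplicit false
set_option linter.style.haveILetI false

open CategoryTheory CategoryTheory.Limits AlgebraicGeometry Opposite TopologicalSpace

universe u

namespace Groth.Agent.H24.ModLimIsoStage

variable {I : Type u} [SmallCategory I] [IsCofiltered I] (D : I ⥤ Scheme.{u}) (c : Cone D)
  (hc : IsLimit c) [∀ (i j : I) (f : i ⟶ j), IsAffineHom (D.map f)] (i₀ : I)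
  [CompactSpace (D.obj i₀)] [QuasiSeparatedSpace (D.obj i₀)]
  (F₀ G₀ : (D.obj i₀).Modules) [F₀.IsQuasicoherent] [G₀.IsQuasicoherent]

include hc in
theorem nonempty_iso_pullback_iff
    (hF : SheafOfModules.IsFinitePresentation (R := (D.obj i₀).ringCatSheaf) F₀)
    (hG : SheafOfModules.IsFinitePresentation (R := (D.obj i₀).ringCatSheaf) G₀) :
    Nonempty ((Scheme.Modules.pullback (c.π.app i₀)).obj F₀ ≅
        (Scheme.Modules.pullback (c.π.app i₀)).obj G₀) ↔
      ∃ (j : I) (φ : j ⟶ i₀), Nonempty ((Scheme.Modules.pullback (D.map φ)).obj F₀ ≅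
        (Scheme.Modules.pullback (D.map φ)).obj G₀) := by
  haveI := hF
  haveI := hG
  constructor
  · rintro ⟨e⟩
    obtain ⟨j, hj, hh⟩ := ModLimHomSurj.exists_hom_pullback_eq D c hc i₀ F₀ G₀ e.hom
    have hmap : (Scheme.Modules.pullback (c.π.app j.left)).map hj =
        ((Scheme.Modules.pullbackComp (c.π.app j.left) (D.map j.hom) ≪≫
          Scheme.Modules.pullbackCongr (c.w j.hom)).app F₀).hom ≫ e.hom ≫
        ((Scheme.Modules.pullbackComp (c.π.app j.left) (D.map j.hom) ≪≫
          Scheme.Modules.pullbackCongr (c.w j.hom)).app G₀).inv := by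
      rw [← hh]
      simp only [Category.assoc, Iso.hom_inv_id, Category.comp_id, Iso.hom_inv_id_assoc]
    have hiso : IsIso ((Scheme.Modules.pullback (c.π.app j.left)).map hj) := by
      rw [hmap]
      infer_instance
    haveI : CompactSpace (D.obj j.left) :=
      QuasiCompact.compactSpace_of_compactSpace (D.map j.hom)
    haveI := H8.isQuasicoherent_pullback (D.map j.hom) F₀
    haveI := H8.isQuasicoherent_pullback (D.map j.hom) G₀
    haveI hFj := ModLimIso.isFinitePresentation_pullback (D.map j.hom) F₀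
    haveI hGj := ModLimIso.isFinitePresentation_pullback (D.map j.hom) G₀
    have hFt := ModLimIso.isFiniteType_of_isFinitePresentation
      ((Scheme.Modules.pullback (D.map j.hom)).obj F₀)
    obtain ⟨j', hj'⟩ := ModLimIso.exists_stage_isIso D c hc j.left hFt hGj hj hiso
    haveI := hj'
    refine ⟨j'.left, j'.hom ≫ j.hom, ⟨?_⟩⟩
    exact ((ModLimIso.compIso (D.map j'.hom) (D.map j.hom) (D.map (j'.hom ≫ j.hom))
        (D.map_comp _ _).symm).app F₀).symm ≪≫
      asIso ((Scheme.Modules.pullback (D.map j'.hom)).map hj) ≪≫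
      (ModLimIso.compIso (D.map j'.hom) (D.map j.hom) (D.map (j'.hom ≫ j.hom))
        (D.map_comp _ _).symm).app G₀
  · rintro ⟨j, φ, ⟨e⟩⟩
    exact ⟨((Scheme.Modules.pullbackComp (c.π.app j) (D.map φ) ≪≫
        Scheme.Modules.pullbackCongr (c.w φ)).app F₀).symm ≪≫
      (Scheme.Modules.pullback (c.π.app j)).mapIso e ≪≫
      (Scheme.Modules.pullbackComp (c.π.app j) (D.map φ) ≪≫
        Scheme.Modules.pullbackCongr (c.w φ)).app G₀⟩

end Groth.Agent.H24.ModLimIsoStage
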