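import Mathlib
import Groth.Agent.H24.ModLimIsoStage
import Groth.Agent.H28.LpullLoc
import Groth.Agent.H8.FreeMod
import Groth.Agent.S9805

/-!
# Finite local freeness of a pulled-back module descends to a stage (helper24)

`FreeAlong g M n`: the pullback of `M` along `g` is free of rank `n`.
Main results: `exists_stage_freeAlong` (freeness on the preimage of an affine open of a stage
descends to a later stage) and `exists_stage_forall_freeOn` (compactness argument).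
-/

set_option autoImplicit false

open CategoryTheory AlgebraicGeometry Limits TopologicalSpace

universe u

namespace Groth.Agent.H24.FinLocFreeLim

/-- The pullback of `M` along `g` is free of rank `n`. -/
def FreeAlong {T X : Scheme.{u}} (g : T ⟶ X) (M : X.Modules) (n : ℕ) : Prop :=
  Nonempty ((Scheme.Modules.pullback g).obj M ≅ FlatMod.freeMod T n)

section Basic

variable {T' T X Y : Scheme.{u}}

theorem FreeAlong.of_eq {g g' : T ⟶ X} {M : X.Modules} {n : ℕ} (h : FreeAlong g M n)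
    (e : g = g') : FreeAlong g' M n := e ▸ h

theorem freeAlong_pullback_iff (g : T ⟶ X) (f : X ⟶ Y) (M : Y.Modules) (n : ℕ) :
    FreeAlong g ((Scheme.Modules.pullback f).obj M) n ↔ FreeAlong (g ≫ f) M n := by
  constructor
  · rintro ⟨e⟩
    exact ⟨((Scheme.Modules.pullbackComp g f).app M).symm ≪≫ e⟩
  · rintro ⟨e⟩
    exact ⟨(Scheme.Modules.pullbackComp g f).app M ≪≫ e⟩

theorem FreeAlong.precomp (h : T' ⟶ T) {g : T ⟶ X} {M : X.Modules} {n : ℕ}
    (hg : FreeAlong g M n) : FreeAlong (h ≫ g) M n := by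
  obtain ⟨e⟩ := hg
  exact ⟨((Scheme.Modules.pullbackComp h g).app M).symm ≪≫
    (Scheme.Modules.pullback h).mapIso e ≪≫ H28.LpullLoc.pullbackFreeModIso h n⟩

theorem FreeAlong.of_iso {g : T ⟶ X} {M M' : X.Modules} {n : ℕ} (e : M ≅ M')
    (hg : FreeAlong g M n) : FreeAlong g M' n := by
  obtain ⟨e'⟩ := hg
  exact ⟨(Scheme.Modules.pullback g).mapIso e.symm ≪≫ e'⟩

theorem freeAlong_ι_iff {X : Scheme.{u}} (M : X.Modules) (V : X.Opens) (n : ℕ) :
    FreeAlong V.ι M n ↔ Nonempty (M.restrict V.ι ≅ FlatMod.freeMod (↑V) n) := by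
  constructor
  · rintro ⟨e⟩
    exact ⟨(Scheme.Modules.restrictFunctorIsoPullback V.ι).app M ≪≫ e⟩
  · rintro ⟨e⟩
    exact ⟨((Scheme.Modules.restrictFunctorIsoPullback V.ι).app M).symm ≪≫ e⟩

theorem freeAlong_freeMod (g : T ⟶ X) (n : ℕ) : FreeAlong g (FlatMod.freeMod X n) n :=
  ⟨H28.LpullLoc.pullbackFreeModIso g n⟩

/-- `O_X^n` is of finite presentation. -/
theorem isFinitePresentation_freeMod (X : Scheme.{u}) (n : ℕ) :
    SheafOfModules.IsFinitePresentation (R := X.ringCatSheaf) (FlatMod.freeMod X n) := by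
  have h : FlatMod.IsFinLocFree (FlatMod.freeMod X n) := by
    intro x
    exact ⟨⊤, n, trivial, ⟨H8.restrictFreeIso (⊤ : X.Opens).ι n⟩⟩
  exact ((Groth.Agent.S9805.result X _ (H8.isQuasicoherent_freeMod X n)).mpr h).2

end Basic

section Lim

section Aux

variable {J : Type u} [SmallCategory J] [IsCofiltered J] (D' : J ⥤ Scheme.{u}) (c' : Cone D')
  (hc' : IsLimit c') [∀ (i j : J) (f : i ⟶ j), IsAffineHom (D'.map f)] (i₀' : J)
  [CompactSpace (D'.obj i₀')] [QuasiSeparatedSpace (D'.obj i₀')]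

include hc' in
theorem exists_stage_freeAlong_aux {Y : Scheme.{u}} (g : D'.obj i₀' ⟶ Y) (F₀ : Y.Modules)
    [F₀.IsQuasicoherent]
    (hF : SheafOfModules.IsFinitePresentation (R := Y.ringCatSheaf) F₀) (n : ℕ)
    (h : FreeAlong (c'.π.app i₀' ≫ g) F₀ n) :
    ∃ (k : J) (φ : k ⟶ i₀'), FreeAlong (D'.map φ ≫ g) F₀ n := by
  haveI : ((Scheme.Modules.pullback g).obj F₀).IsQuasicoherent :=
    H8.isQuasicoherent_pullback _ F₀
  haveI : (FlatMod.freeMod (D'.obj i₀') n).IsQuasicoherent := H8.isQuasicoherent_freeMod _ n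
  have hF' : SheafOfModules.IsFinitePresentation (R := (D'.obj i₀').ringCatSheaf)
      ((Scheme.Modules.pullback g).obj F₀) := by
    haveI := hF
    exact ModLimIso.isFinitePresentation_pullback _ F₀
  have hG' := isFinitePresentation_freeMod (D'.obj i₀') n
  have h1 : Nonempty ((Scheme.Modules.pullback (c'.π.app i₀')).obj
      ((Scheme.Modules.pullback g).obj F₀) ≅
      (Scheme.Modules.pullback (c'.π.app i₀')).obj (FlatMod.freeMod (D'.obj i₀') n)) := by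
    obtain ⟨e⟩ := (freeAlong_pullback_iff (c'.π.app i₀') g F₀ n).mpr h
    obtain ⟨e'⟩ := freeAlong_freeMod (c'.π.app i₀') (X := D'.obj i₀') n
    exact ⟨e ≪≫ e'.symm⟩
  obtain ⟨k, φ, ⟨e⟩⟩ := (ModLimIsoStage.nonempty_iso_pullback_iff D' c' hc' i₀'
    ((Scheme.Modules.pullback g).obj F₀) (FlatMod.freeMod (D'.obj i₀') n) hF' hG').mp h1
  refine ⟨k, φ, ?_⟩
  obtain ⟨e'⟩ := freeAlong_freeMod (D'.map φ) (X := D'.obj i₀') n
  exact (freeAlong_pullback_iff _ _ _ _).mp ⟨e ≪≫ e'⟩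

end Aux

variable {I : Type u} [SmallCategory I] [IsCofiltered I] (D : I ⥤ Scheme.{u}) (c : Cone D)
  (hc : IsLimit c) [∀ (i j : I) (f : i ⟶ j), IsAffineHom (D.map f)] (i₀ : I)
  (F₀ : (D.obj i₀).Modules) [F₀.IsQuasicoherent]

include hc in
/-- Freeness of the pullback of `F₀` on the preimage in the limit of an affine open `W` of a stage
descends to the preimage of `W` in a later stage. -/
theorem exists_stage_freeAlong
    (hF : SheafOfModules.IsFinitePresentation (R := (D.obj i₀).ringCatSheaf) F₀)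
    (j : I) (ψ : j ⟶ i₀) (W : (D.obj j).Opens) (hW : IsAffineOpen W) (n : ℕ)
    (h : FreeAlong ((c.π.app j ⁻¹ᵁ W).ι ≫ c.π.app i₀) F₀ n) :
    ∃ (k : I) (a : k ⟶ j), FreeAlong ((D.map a ⁻¹ᵁ W).ι ≫ D.map (a ≫ ψ)) F₀ n := by
  have hAff : ∀ {i j : I} (f : i ⟶ j), IsAffineHom (D.map f) := fun f => inferInstance
  have hc' : IsLimit (opensCone D c j W) := isLimitOpensCone D c hc j W
  haveI : IsAffine ((opensDiagram D j W).obj (Over.mk (𝟙 j))) := hW.preimage (D.map (𝟙 j))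
  have key : (opensCone D c j W).π.app (Over.mk (𝟙 j)) ≫ (D.map (𝟙 j) ⁻¹ᵁ W).ι ≫ D.map ψ =
      (c.π.app j ⁻¹ᵁ W).ι ≫ c.π.app i₀ := by
    show (c.π.app j).resLE _ _ _ ≫ (D.map (𝟙 j) ⁻¹ᵁ W).ι ≫ D.map ψ = _
    rw [Scheme.Hom.resLE_comp_ι_assoc, c.w]
  obtain ⟨k, φ, hk⟩ := exists_stage_freeAlong_aux (opensDiagram D j W) (opensCone D c j W) hc'
    (Over.mk (𝟙 j)) ((D.map (𝟙 j) ⁻¹ᵁ W).ι ≫ D.map ψ) F₀ hF n (h.of_eq key.symm)
  refine ⟨k.left, k.hom, ?_⟩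
  have hφ : φ.left = k.hom := by
    have := Over.w φ
    simpa using this
  have key2 : (opensDiagram D j W).map φ ≫ (D.map (𝟙 j) ⁻¹ᵁ W).ι ≫ D.map ψ =
      (D.map k.hom ⁻¹ᵁ W).ι ≫ D.map (k.hom ≫ ψ) := by
    show (D.map φ.left).resLE _ _ _ ≫ (D.map (𝟙 j) ⁻¹ᵁ W).ι ≫ D.map ψ = _
    rw [Scheme.Hom.resLE_comp_ι_assoc, ← D.map_comp, hφ]
  exact hk.of_eq key2

include hc in
/-- Local freeness (with ranks satisfying `P`) of the pullback to the limit of a module of finite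
presentation is equivalent to local freeness of its pullback to some stage. -/
theorem forall_freeAlong_iff [CompactSpace (D.obj i₀)]
    (hF : SheafOfModules.IsFinitePresentation (R := (D.obj i₀).ringCatSheaf) F₀) (P : ℕ → Prop) :
    (∀ x : c.pt, ∃ (U : c.pt.Opens) (n : ℕ), P n ∧ x ∈ U ∧
        FreeAlong (U.ι ≫ c.π.app i₀) F₀ n) ↔
      ∃ (j : I) (φ : j ⟶ i₀), ∀ y : D.obj j, ∃ (V : (D.obj j).Opens) (n : ℕ), P n ∧ y ∈ V ∧
        FreeAlong (V.ι ≫ D.map φ) F₀ n := by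
  have hAff : ∀ {i j : I} (f : i ⟶ j), IsAffineHom (D.map f) := fun f => inferInstance
  constructor
  · intro h
    have step1 : ∀ x : c.pt, ∃ (k : Over i₀) (V : (D.obj k.left).Opens) (n : ℕ), P n ∧
        c.π.app k.left x ∈ V ∧ FreeAlong (V.ι ≫ D.map k.hom) F₀ n := by
      intro x
      obtain ⟨U, n, hPn, hxU, hU⟩ := h x
      obtain ⟨_, ⟨k, Wk, hWk, rfl⟩, hxW, hWU⟩ :=
        Opens.isBasis_iff_nbhd.mp (isBasis_preimage_isAffineOpen D c hc) (U := U) hxU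
      obtain ⟨j, a, ψ, -⟩ : ∃ (j : I) (a : j ⟶ k) (ψ : j ⟶ i₀), True :=
        ⟨IsCofiltered.min k i₀, IsCofiltered.minToLeft k i₀, IsCofiltered.minToRight k i₀, trivial⟩
      have hW : IsAffineOpen (D.map a ⁻¹ᵁ Wk) := hWk.preimage (D.map a)
      have hpre : c.π.app j ⁻¹ᵁ (D.map a ⁻¹ᵁ Wk) = c.π.app k ⁻¹ᵁ Wk := by
        rw [← Scheme.Hom.comp_preimage, c.w]
      have hle : c.π.app j ⁻¹ᵁ (D.map a ⁻¹ᵁ Wk) ≤ U := by
        rw [hpre]
        exact hWU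
      have h2 : FreeAlong ((c.π.app j ⁻¹ᵁ (D.map a ⁻¹ᵁ Wk)).ι ≫ c.π.app i₀) F₀ n :=
        (hU.precomp (c.pt.homOfLE hle)).of_eq (by rw [Scheme.homOfLE_ι_assoc])
      obtain ⟨k', a', hk'⟩ := exists_stage_freeAlong D c hc i₀ F₀ hF j ψ _ hW n h2
      refine ⟨Over.mk (a' ≫ ψ), D.map a' ⁻¹ᵁ (D.map a ⁻¹ᵁ Wk), n, hPn, ?_, hk'⟩
      show c.π.app k' x ∈ D.map a' ⁻¹ᵁ (D.map a ⁻¹ᵁ Wk)
      have hx1 : x ∈ c.π.app j ⁻¹ᵁ (D.map a ⁻¹ᵁ Wk) := by
        rw [hpre]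
        exact hxW
      have hx2 : c.π.app k' ⁻¹ᵁ (D.map a' ⁻¹ᵁ (D.map a ⁻¹ᵁ Wk)) =
          c.π.app j ⁻¹ᵁ (D.map a ⁻¹ᵁ Wk) := by
        rw [← Scheme.Hom.comp_preimage, c.w]
      have hx3 : x ∈ c.π.app k' ⁻¹ᵁ (D.map a' ⁻¹ᵁ (D.map a ⁻¹ᵁ Wk)) := by
        rw [hx2]
        exact hx1
      exact hx3
    choose k V n hP hxV hfree using step1
    haveI : CompactSpace c.pt := by
      haveI := isAffineHom_π_app D c hc i₀
      exact QuasiCompact.compactSpace_of_compactSpace (c.π.app i₀)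
    obtain ⟨s, hs⟩ := isCompact_univ.elim_finite_subcover
      (fun x : c.pt => ((c.π.app (k x).left ⁻¹ᵁ V x : c.pt.Opens) : Set c.pt))
      (fun x => (c.π.app (k x).left ⁻¹ᵁ V x).isOpen)
      (fun x _ => Set.mem_iUnion.mpr ⟨x, hxV x⟩)
    classical
    obtain ⟨K, hK⟩ := IsCofiltered.inf_objs_exists (s.image k)
    have b : ∀ x ∈ s, K ⟶ k x := fun x hx => (hK (Finset.mem_image_of_mem k hx)).some
    obtain ⟨D₁, hD₁⟩ : ∃ D₁ : Over i₀ ⥤ Scheme.{u}, D₁ = Over.forget i₀ ⋙ D := ⟨_, rfl⟩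
    subst hD₁
    have hc₁ : IsLimit (c.whisker (Over.forget i₀)) :=
      (Functor.Initial.isLimitWhiskerEquiv (Over.forget i₀) c).symm hc
    haveI : ∀ {i j : Over i₀} (f : i ⟶ j), IsAffineHom ((Over.forget i₀ ⋙ D).map f) :=
      fun f => hAff f.left
    have hcpt : ∀ (j : I) (φ : j ⟶ i₀), CompactSpace (D.obj j) := fun j φ =>
      QuasiCompact.compactSpace_of_compactSpace (D.map φ)
    haveI : ∀ i : Over i₀, CompactSpace ((Over.forget i₀ ⋙ D).obj i) := fun i =>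
      hcpt i.left i.hom
    obtain ⟨UK, hUKdef⟩ : ∃ UK : (D.obj K.left).Opens,
        UK = ⨆ x : s, D.map (b x.1 x.2).left ⁻¹ᵁ V x.1 := ⟨_, rfl⟩
    have hUK : (c.whisker (Over.forget i₀)).π.app K ⁻¹ᵁ UK = ⊤ := by
      rw [eq_top_iff]
      intro z _
      obtain ⟨x, hx, hz⟩ : ∃ x ∈ s, z ∈ c.π.app (k x).left ⁻¹ᵁ V x := by
        have := hs (Set.mem_univ z)
        simpa using this
      show c.π.app K.left z ∈ UK
      rw [hUKdef]
      refine Opens.mem_iSup.mpr ⟨⟨x, hx⟩, ?_⟩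
      show D.map (b x hx).left (c.π.app K.left z) ∈ V x
      rw [← Scheme.Hom.comp_apply, c.w]
      exact hz
    obtain ⟨K', t, ht⟩ := exists_map_eq_top (Over.forget i₀ ⋙ D) (c.whisker (Over.forget i₀))
      hc₁ UK hUK
    refine ⟨K'.left, K'.hom, fun y => ?_⟩
    have hy : y ∈ (Over.forget i₀ ⋙ D).map t ⁻¹ᵁ UK := by
      rw [ht]
      trivial
    have hy' : D.map t.left y ∈ UK := hy
    rw [hUKdef] at hy'
    obtain ⟨⟨x, hx⟩, hyx⟩ := Opens.mem_iSup.mp hy'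
    have hyx' : D.map (b x hx).left (D.map t.left y) ∈ V x := hyx
    obtain ⟨g, hg⟩ : ∃ g : D.obj K'.left ⟶ D.obj (k x).left, g = D.map (t ≫ b x hx).left :=
      ⟨_, rfl⟩
    have hgw : g ≫ D.map (k x).hom = D.map K'.hom := by
      rw [hg, ← D.map_comp, Over.w]
    refine ⟨g ⁻¹ᵁ V x, n x, hP x, ?_, ?_⟩
    · show g y ∈ V x
      rw [hg, Over.comp_left, D.map_comp, Scheme.Hom.comp_apply]
      exact hyx'
    · refine ((hfree x).precomp (g ∣_ V x)).of_eq ?_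
      rw [morphismRestrict_ι_assoc, hgw]
  · rintro ⟨j, φ, h⟩ x
    obtain ⟨V, n, hPn, hyV, hV⟩ := h (c.π.app j x)
    refine ⟨c.π.app j ⁻¹ᵁ V, n, hPn, hyV, ?_⟩
    refine (hV.precomp (c.π.app j ∣_ V)).of_eq ?_
    rw [morphismRestrict_ι_assoc, c.w]

end Lim

end Groth.Agent.H24.FinLocFreeLim
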