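import Mathlib

/-!
# Flat surjective morphisms: injectivity on sections (helper24)
-/

set_option autoImplicit false

open CategoryTheory AlgebraicGeometry Limits TopologicalSpace

universe u

namespace Groth.Agent.H24

/-- The stalk maps of a flat morphism are injective. -/
theorem stalkMap_injective_of_flat {X Y : Scheme.{u}} (f : X ⟶ Y) [Flat f] (x : X) :
    Function.Injective (f.stalkMap x).hom := by
  algebraize [(f.stalkMap x).hom]
  have : Module.FaithfullyFlat (Y.presheaf.stalk (f x)) (X.presheaf.stalk x) :=
    @Module.FaithfullyFlat.of_flat_of_isLocalHom _ _ _ _ _ _ _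
      (Flat.stalkMap f x) (f.toLRSHom.prop x)
  exact ‹RingHom.FaithfullyFlat _›.injective

/-- For a flat surjective morphism, pulling back sections is injective over every open. -/
theorem app_injective_of_flat_of_surjective {X Y : Scheme.{u}} (f : X ⟶ Y) [Flat f]
    [Surjective f] (V : Y.Opens) : Function.Injective (f.app V).hom := by
  rw [injective_iff_map_eq_zero]
  intro t ht
  apply TopCat.Presheaf.section_ext Y.sheaf V t 0
  intro y hy
  change (Y.presheaf.germ V y hy) t = (Y.presheaf.germ V y hy) 0
  rw [map_zero]
  obtain ⟨x, rfl⟩ := f.surjective y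
  apply stalkMap_injective_of_flat f x
  rw [map_zero]
  have := Scheme.Hom.germ_stalkMap_apply f V x hy t
  refine this.trans ?_
  have ht' : (f.app V) t = 0 := ht
  rw [ht', map_zero]

end Groth.Agent.H24
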