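import Mathlib

/-!
# Colimits of schemes can be checked fpqc-locally on the target
-/

open CategoryTheory AlgebraicGeometry Limits Opposite

universe w u

namespace Groth.Agent.H24

theorem isColimit_of_isColimit_fpqc_locally {J : Type u} [SmallCategory J] (D : J ⥤ Scheme.{u})
    (c : Cocone D)
    (F : PreZeroHypercover.{w} c.pt) (hF : F.presieve₀ ∈ Scheme.fpqcPrecoverage c.pt)
    (h1 : ∀ a : F.I₀, Nonempty (IsColimit ((Over.forgetCocone (F.X a)).whisker
      (D.toOver c.pt (fun j => c.ι.app j) (fun g => c.w g) ⋙ Over.pullback (F.f a)))))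
    (h2 : ∀ a b : F.I₀, Nonempty (IsColimit ((Over.forgetCocone (pullback (F.f a) (F.f b))).whisker
      (D.toOver c.pt (fun j => c.ι.app j) (fun g => c.w g) ⋙
        Over.pullback (pullback.fst (F.f a) (F.f b) ≫ F.f a))))) :
    Nonempty (IsColimit c) := by
  refine ⟨IsColimit.ofExistsUnique fun s => ?_⟩
  -- the sheaf condition on `W`
  have hsheafW : Presieve.IsSheafFor (yoneda.obj s.pt) (Presieve.ofArrows F.X F.f) :=
    (GrothendieckTopology.Subcanonical.isSheaf_of_isRepresentable
      (J := Scheme.fpqcTopology) (yoneda.obj s.pt)).isSheafFor _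
      (Precoverage.generate_mem_toGrothendieck hF)
  -- the sheaf condition on `X_j`
  have hsheafX : ∀ j : J, Presieve.IsSheafFor (yoneda.obj s.pt)
      (Presieve.ofArrows (fun a => pullback (c.ι.app j) (F.f a))
        (fun a => pullback.fst (c.ι.app j) (F.f a))) := by
    intro j
    have hmem : Presieve.ofArrows (fun a => pullback (c.ι.app j) (F.f a))
        (fun a => pullback.fst (c.ι.app j) (F.f a)) ∈ Scheme.fpqcPrecoverage (D.obj j) :=
      Precoverage.mem_coverings_of_isPullback F.f hF (c.ι.app j)
        (fun a => pullback.fst (c.ι.app j) (F.f a)) (fun a => pullback.snd (c.ι.app j) (F.f a))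
        (fun a => IsPullback.of_hasPullback _ _)
    exact (GrothendieckTopology.Subcanonical.isSheaf_of_isRepresentable
      (J := Scheme.fpqcTopology) (yoneda.obj s.pt)).isSheafFor _
      (Precoverage.generate_mem_toGrothendieck hmem)
  -- the local cocones
  let sa : ∀ a : F.I₀, Cocone ((D.toOver c.pt (fun j => c.ι.app j) (fun g => c.w g) ⋙
      Over.pullback (F.f a)) ⋙ Over.forget (F.X a)) := fun a =>
    { pt := s.pt
      ι :=
        { app := fun j => pullback.fst (c.ι.app j) (F.f a) ≫ s.ι.app j
          naturality := fun j j' m => by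
            have e : pullback.lift (pullback.fst (c.ι.app j) (F.f a) ≫ D.map m)
                (pullback.snd (c.ι.app j) (F.f a))
                (by rw [Category.assoc, c.w m, pullback.condition]) ≫
                pullback.fst (c.ι.app j') (F.f a) =
                pullback.fst (c.ι.app j) (F.f a) ≫ D.map m := pullback.lift_fst _ _ _
            show pullback.lift (pullback.fst (c.ι.app j) (F.f a) ≫ D.map m)
                (pullback.snd (c.ι.app j) (F.f a)) _ ≫
              pullback.fst (c.ι.app j') (F.f a) ≫ s.ι.app j' =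
              (pullback.fst (c.ι.app j) (F.f a) ≫ s.ι.app j) ≫ 𝟙 _
            rw [← Category.assoc, e, Category.assoc, s.w m, Category.comp_id] } }
  let sA : ∀ a : F.I₀, F.X a ⟶ s.pt := fun a => (h1 a).some.desc (sa a)
  have hfac : ∀ (a : F.I₀) (j : J), pullback.snd (c.ι.app j) (F.f a) ≫ sA a =
      pullback.fst (c.ι.app j) (F.f a) ≫ s.ι.app j := fun a j => (h1 a).some.fac (sa a) j
  -- compatibility on overlaps
  have key : ∀ a b : F.I₀, pullback.fst (F.f a) (F.f b) ≫ sA a =
      pullback.snd (F.f a) (F.f b) ≫ sA b := by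
    intro a b
    apply (h2 a b).some.hom_ext
    intro j
    show pullback.snd (c.ι.app j) (pullback.fst (F.f a) (F.f b) ≫ F.f a) ≫
        pullback.fst (F.f a) (F.f b) ≫ sA a =
      pullback.snd (c.ι.app j) (pullback.fst (F.f a) (F.f b) ≫ F.f a) ≫
        pullback.snd (F.f a) (F.f b) ≫ sA b
    have ea : pullback.snd (c.ι.app j) (pullback.fst (F.f a) (F.f b) ≫ F.f a) ≫
        pullback.fst (F.f a) (F.f b) =
        pullback.lift (pullback.fst (c.ι.app j) (pullback.fst (F.f a) (F.f b) ≫ F.f a))
          (pullback.snd (c.ι.app j) (pullback.fst (F.f a) (F.f b) ≫ F.f a) ≫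
            pullback.fst (F.f a) (F.f b))
          (by rw [Category.assoc, pullback.condition (f := c.ι.app j)]) ≫
            pullback.snd (c.ι.app j) (F.f a) :=
      (pullback.lift_snd _ _ _).symm
    have eb : pullback.snd (c.ι.app j) (pullback.fst (F.f a) (F.f b) ≫ F.f a) ≫
        pullback.snd (F.f a) (F.f b) =
        pullback.lift (pullback.fst (c.ι.app j) (pullback.fst (F.f a) (F.f b) ≫ F.f a))
          (pullback.snd (c.ι.app j) (pullback.fst (F.f a) (F.f b) ≫ F.f a) ≫
            pullback.snd (F.f a) (F.f b))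
          (by rw [Category.assoc, ← pullback.condition (f := F.f a) (g := F.f b),
            pullback.condition (f := c.ι.app j)]) ≫ pullback.snd (c.ι.app j) (F.f b) :=
      (pullback.lift_snd _ _ _).symm
    rw [← Category.assoc, ea, Category.assoc, hfac a j, ← Category.assoc, pullback.lift_fst,
      ← Category.assoc, eb, Category.assoc, hfac b j, ← Category.assoc, pullback.lift_fst]
  have hcompat : Presieve.Arrows.Compatible (yoneda.obj s.pt) F.f (fun a => sA a) := by
    intro a b Z ga gb hgab
    show ga ≫ sA a = gb ≫ sA b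
    rw [← pullback.lift_fst ga gb hgab, Category.assoc, key, ← Category.assoc, pullback.lift_snd]
  obtain ⟨t, ht, htuniq⟩ := (Presieve.isSheafFor_arrows_iff (yoneda.obj s.pt) F.f).mp hsheafW
    (fun a => sA a) hcompat
  have ht' : ∀ a, F.f a ≫ t = sA a := ht
  refine ⟨t, ?_, ?_⟩
  · intro j
    apply (hsheafX j).isSeparatedFor.ext
    rintro Y f ⟨a⟩
    show pullback.fst (c.ι.app j) (F.f a) ≫ c.ι.app j ≫ t =
      pullback.fst (c.ι.app j) (F.f a) ≫ s.ι.app j
    rw [← Category.assoc, pullback.condition, Category.assoc, ht' a, hfac a j]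
  · intro m hm
    apply htuniq
    intro a
    show F.f a ≫ m = sA a
    apply (h1 a).some.uniq (sa a)
    intro j
    show pullback.snd (c.ι.app j) (F.f a) ≫ F.f a ≫ m =
      pullback.fst (c.ι.app j) (F.f a) ≫ s.ι.app j
    rw [← Category.assoc, ← pullback.condition, Category.assoc, hm j]

end Groth.Agent.H24
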