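import Mathlib
import Groth.Agent.H24.AmpleLim
import Groth.Agent.H24.LimPullback
import Groth.Agent.H22.PullBC
import Groth.Agent.H22.PullRelAmple
import Groth.Agent.S4380
import Groth.Agent.S4381

/-!
# Relative ampleness and cofiltered limits (helper24)
-/

set_option autoImplicit false

open CategoryTheory AlgebraicGeometry Limits TopologicalSpace
open Groth.Agent.H22.PullGen Groth.Agent.H22.PullAmple

universe u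

namespace Groth.Agent.H24.RelAmpleLim

/-- The pullback of `L` along `g` is ample. -/
def AmpleAlong {T X : Scheme.{u}} (g : T ⟶ X) (L : X.Modules) : Prop :=
  CohB1.IsAmple ((Scheme.Modules.pullback g).obj L)

section Basic

variable {T' T X Y : Scheme.{u}}

theorem AmpleAlong.of_eq {g g' : T ⟶ X} {M : X.Modules} (h : AmpleAlong g M) (e : g = g') :
    AmpleAlong g' M := e ▸ h

theorem ampleAlong_pullback_iff (g : T ⟶ X) (f : X ⟶ Y) (M : Y.Modules) :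
    AmpleAlong g ((Scheme.Modules.pullback f).obj M) ↔ AmpleAlong (g ≫ f) M := by
  constructor
  · intro h
    exact H18.AmpleIso.isAmple_of_iso ((Scheme.Modules.pullbackComp g f).app M) h
  · intro h
    exact H18.AmpleIso.isAmple_of_iso ((Scheme.Modules.pullbackComp g f).app M).symm h

theorem AmpleAlong.precomp_affine (h : T' ⟶ T) [IsAffineHom h] {g : T ⟶ X} {M : X.Modules}
    (hg : AmpleAlong g M) : AmpleAlong (h ≫ g) M :=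
  (ampleAlong_pullback_iff h g M).mp (isAmple_pullback_of_isAffineHom h hg)

theorem ampleAlong_ι_iff (M : X.Modules) (V : X.Opens) :
    AmpleAlong V.ι M ↔ CohB1.IsAmple (M.restrict V.ι) := by
  constructor
  · intro h
    exact H18.AmpleIso.isAmple_of_iso
      ((Scheme.Modules.restrictFunctorIsoPullback V.ι).app M).symm h
  · intro h
    exact H18.AmpleIso.isAmple_of_iso ((Scheme.Modules.restrictFunctorIsoPullback V.ι).app M) h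

end Basic

section Core

variable {J : Type u} [SmallCategory J] [IsCofiltered J] (𝒳 : J ⥤ Scheme.{u}) (cX : Cone 𝒳)
  (hcX : IsLimit cX) [∀ (i j : J) (f : i ⟶ j), IsAffineHom (𝒳.map f)] (j₀ : J)
  {X₀ : Scheme.{u}} (p : 𝒳.obj j₀ ⟶ X₀) (L₀ : X₀.Modules) (hL₀ : PicF.IsInvertible L₀)
  (W : (𝒳.obj j₀).Opens)

include hcX hL₀ in
theorem exists_stage_ampleAlong
    (hqc : ∀ k : Over j₀, CompactSpace ↥(𝒳.map k.hom ⁻¹ᵁ W))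
    (hqs : ∀ k : Over j₀, QuasiSeparatedSpace ↥(𝒳.map k.hom ⁻¹ᵁ W))
    (h : AmpleAlong ((cX.π.app j₀ ⁻¹ᵁ W).ι ≫ cX.π.app j₀ ≫ p) L₀) :
    ∃ k : Over j₀, AmpleAlong ((𝒳.map k.hom ⁻¹ᵁ W).ι ≫ 𝒳.map k.hom ≫ p) L₀ := by
  have hAff : ∀ {i j : J} (f : i ⟶ j), IsAffineHom (𝒳.map f) := fun f => inferInstance
  have hc' : IsLimit (opensCone 𝒳 cX j₀ W) := isLimitOpensCone 𝒳 cX hcX j₀ W
  haveI : ∀ k : Over j₀, CompactSpace ((opensDiagram 𝒳 j₀ W).obj k) := hqc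
  haveI : ∀ k : Over j₀, QuasiSeparatedSpace ((opensDiagram 𝒳 j₀ W).obj k) := hqs
  have key : (opensCone 𝒳 cX j₀ W).π.app (Over.mk (𝟙 j₀)) ≫ (𝒳.map (𝟙 j₀) ⁻¹ᵁ W).ι ≫ p =
      (cX.π.app j₀ ⁻¹ᵁ W).ι ≫ cX.π.app j₀ ≫ p := by
    show (cX.π.app j₀).resLE _ _ _ ≫ (𝒳.map (𝟙 j₀) ⁻¹ᵁ W).ι ≫ p = _
    rw [Scheme.Hom.resLE_comp_ι_assoc]
  have hL₀' : PicF.IsInvertible
      ((Scheme.Modules.pullback ((𝒳.map (𝟙 j₀) ⁻¹ᵁ W).ι ≫ p)).obj L₀) :=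
    isInvertible_pullback _ hL₀
  obtain ⟨k, φ, hk⟩ := AmpleLim.exists_stage_isAmple (opensDiagram 𝒳 j₀ W) (opensCone 𝒳 cX j₀ W)
    hc' (Over.mk (𝟙 j₀)) _ hL₀' ((ampleAlong_pullback_iff _ _ _).mpr (h.of_eq key.symm))
  refine ⟨k, ?_⟩
  have hφ : φ.left = k.hom := by
    have := Over.w φ
    simpa using this
  have key2 : (opensDiagram 𝒳 j₀ W).map φ ≫ (𝒳.map (𝟙 j₀) ⁻¹ᵁ W).ι ≫ p =
      (𝒳.map k.hom ⁻¹ᵁ W).ι ≫ 𝒳.map k.hom ≫ p := by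
    show (𝒳.map φ.left).resLE _ _ _ ≫ (𝒳.map (𝟙 j₀) ⁻¹ᵁ W).ι ≫ p = _
    rw [Scheme.Hom.resLE_comp_ι_assoc, hφ]
  exact ((ampleAlong_pullback_iff _ _ _).mp hk).of_eq key2

theorem ampleAlong_stage_mono {k k' : Over j₀} (a : k' ⟶ k)
    (h : AmpleAlong ((𝒳.map k.hom ⁻¹ᵁ W).ι ≫ 𝒳.map k.hom ≫ p) L₀) :
    AmpleAlong ((𝒳.map k'.hom ⁻¹ᵁ W).ι ≫ 𝒳.map k'.hom ≫ p) L₀ := by
  have hAff : ∀ {i j : J} (f : i ⟶ j), IsAffineHom (𝒳.map f) := fun f => inferInstance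
  refine (h.precomp_affine ((opensDiagram 𝒳 j₀ W).map a)).of_eq ?_
  show (𝒳.map a.left).resLE _ _ _ ≫ (𝒳.map k.hom ⁻¹ᵁ W).ι ≫ 𝒳.map k.hom ≫ p = _
  rw [Scheme.Hom.resLE_comp_ι_assoc, ← 𝒳.map_comp_assoc, Over.w a]

end Core

section Finite

theorem AmpleAlong.congr_opens {X X₀ : Scheme.{u}} {U U' : X.Opens} {g g' : X ⟶ X₀}
    {L₀ : X₀.Modules} (h : AmpleAlong (U.ι ≫ g) L₀) (eU : U = U') (eg : g = g') :
    AmpleAlong (U'.ι ≫ g') L₀ := by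
  subst eU eg
  exact h

theorem compactSpace_preimage_comp {A B C : Scheme.{u}} (a : A ⟶ B) (b : B ⟶ C)
    [QuasiCompact (a ≫ b)] {V : C.Opens} (hV : IsAffineOpen V) :
    CompactSpace ↥(a ⁻¹ᵁ b ⁻¹ᵁ V) :=
  isCompact_iff_compactSpace.mp
    (QuasiCompact.isCompact_preimage (f := a ≫ b) _ V.2 hV.isCompact)

theorem quasiSeparatedSpace_preimage_comp {A B C : Scheme.{u}} (a : A ⟶ B) (b : B ⟶ C)
    [QuasiSeparated (a ≫ b)] {V : C.Opens} (hV : IsAffineOpen V) :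
    QuasiSeparatedSpace ↥(a ⁻¹ᵁ b ⁻¹ᵁ V) := by
  haveI : IsAffine V.toScheme := hV
  exact quasiSeparatedSpace_of_quasiSeparated ((a ≫ b) ∣_ V)

variable {J : Type u} [SmallCategory J] [IsCofiltered J] (𝒳 : J ⥤ Scheme.{u}) (cX : Cone 𝒳)
  (hcX : IsLimit cX) [∀ (i j : J) (f : i ⟶ j), IsAffineHom (𝒳.map f)] (j₀ : J)
  {X₀ Y₀ : Scheme.{u}} (p : 𝒳.obj j₀ ⟶ X₀) (h : 𝒳.obj j₀ ⟶ Y₀) [QuasiCompact h]
  [QuasiSeparated h] (L₀ : X₀.Modules) (hL₀ : PicF.IsInvertible L₀)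

include hcX hL₀ in
theorem exists_stage_forall_ampleAlong (t : Finset Y₀.affineOpens)
    (hA : ∀ V ∈ t, AmpleAlong ((cX.π.app j₀ ⁻¹ᵁ h ⁻¹ᵁ V.1).ι ≫ cX.π.app j₀ ≫ p) L₀) :
    ∃ K : Over j₀, ∀ V ∈ t,
      AmpleAlong ((𝒳.map K.hom ⁻¹ᵁ h ⁻¹ᵁ V.1).ι ≫ 𝒳.map K.hom ≫ p) L₀ := by
  classical
  have step : ∀ V ∈ t, ∃ k : Over j₀,
      AmpleAlong ((𝒳.map k.hom ⁻¹ᵁ h ⁻¹ᵁ V.1).ι ≫ 𝒳.map k.hom ≫ p) L₀ := by
    intro V hV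
    exact exists_stage_ampleAlong 𝒳 cX hcX j₀ p L₀ hL₀ (h ⁻¹ᵁ V.1)
      (fun k => compactSpace_preimage_comp (𝒳.map k.hom) h V.2)
      (fun k => quasiSeparatedSpace_preimage_comp (𝒳.map k.hom) h V.2) (hA V hV)
  haveI : Nonempty (Over j₀) := ⟨Over.mk (𝟙 j₀)⟩
  choose! k hk using step
  obtain ⟨K, hK⟩ := IsCofiltered.inf_objs_exists (t.image k)
  refine ⟨K, fun V hV => ?_⟩
  exact ampleAlong_stage_mono 𝒳 j₀ p L₀ (h ⁻¹ᵁ V.1) (hK (Finset.mem_image_of_mem k hV)).some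
    (hk V hV)

end Finite

section Main

variable {I : Type u} [SmallCategory I] [IsCofiltered I]
    (D : I ⥤ Scheme.{u}) (c : Cone D) (hc : IsLimit c)
    [∀ (i j : I) (f : i ⟶ j), IsAffineHom (D.map f)] (i₀ : I) [CompactSpace (D.obj i₀)]
    {X₀ Y₀ : Scheme.{u}} (f₀ : X₀ ⟶ Y₀) (g₀ : Y₀ ⟶ D.obj i₀)
    [QuasiCompact g₀] [QuasiSeparated g₀]
    [QuasiCompact (f₀ ≫ g₀)] [QuasiSeparated (f₀ ≫ g₀)]
    (L₀ : X₀.Modules) (hL₀ : PicF.IsInvertible L₀)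
    {X Y : Scheme.{u}} (f : X ⟶ Y) (g : Y ⟶ c.pt) (qY : Y ⟶ Y₀) (qX : X ⟶ X₀)
    (hY : IsPullback qY g g₀ (c.π.app i₀)) (hX : IsPullback qX f f₀ qY)

include hc hL₀ hY hX in
set_option backward.isDefEq.respectTransparency.types false in
theorem exists_stage_isRelAmple
    (hA : RelAmple.IsRelAmple f ((Scheme.Modules.pullback qX).obj L₀)) :
    ∃ j : Over i₀, RelAmple.IsRelAmple (pbRel D (𝟙 i₀) f₀ g₀ j)
      ((Scheme.Modules.pullback (pullback.fst (f₀ ≫ g₀) (D.map (j.hom ≫ 𝟙 i₀)))).obj L₀) := by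
  classical
  have hAff : ∀ {i j : I} (f : i ⟶ j), IsAffineHom (D.map f) := fun f => inferInstance
  haveI : QuasiCompact f₀ := QuasiCompact.of_comp f₀ g₀
  haveI : QuasiSeparated f₀ := QuasiSeparated.of_comp f₀ g₀
  haveI : CompactSpace Y₀ := QuasiCompact.compactSpace_of_compactSpace g₀
  haveI : IsAffineHom (c.π.app i₀) := isAffineHom_π_app D c hc i₀
  haveI : IsAffineHom qY := MorphismProperty.of_isPullback (P := @IsAffineHom) hY.flip inferInstance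
  -- finite affine cover of Y₀
  obtain ⟨t, ht⟩ := isCompact_univ.elim_finite_subcover
    (fun V : Y₀.affineOpens => ((V : Y₀.Opens) : Set Y₀)) (fun V => V.1.2) (by
      intro x _
      obtain ⟨V, hV, hxV, -⟩ := exists_isAffineOpen_mem_and_subset (x := x)
        (U := (⊤ : Y₀.Opens)) trivial
      exact Set.mem_iUnion.mpr ⟨⟨V, hV⟩, hxV⟩)
  -- the limit system
  have hcX : IsLimit (pbCone D (𝟙 i₀) (f₀ ≫ g₀) c qX (f ≫ g) (hX.paste_vert hY).w) :=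
    isLimitPbCone D (𝟙 i₀) (f₀ ≫ g₀) c hc qX (f ≫ g) (hX.paste_vert hY)
  obtain ⟨j₀, hj₀⟩ : ∃ j₀ : Over i₀, j₀ = Over.mk (𝟙 i₀) := ⟨_, rfl⟩
  obtain ⟨p, hp⟩ : ∃ p : (pbDiagram D (𝟙 i₀) (f₀ ≫ g₀)).obj j₀ ⟶ X₀,
      p = pullback.fst (f₀ ≫ g₀) (D.map (j₀.hom ≫ 𝟙 i₀)) := ⟨_, rfl⟩
  haveI : IsAffineHom p := by
    rw [hp]
    exact MorphismProperty.pullback_fst (P := @IsAffineHom) _ _ inferInstance
  have e1 : (pbCone D (𝟙 i₀) (f₀ ≫ g₀) c qX (f ≫ g) (hX.paste_vert hY).w).π.app j₀ ≫ p = qX := by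
    rw [hp]
    exact pbLift_fst D (𝟙 i₀) (f₀ ≫ g₀) c qX (f ≫ g) (hX.paste_vert hY).w j₀
  obtain ⟨K, hK⟩ := exists_stage_forall_ampleAlong (pbDiagram D (𝟙 i₀) (f₀ ≫ g₀))
    (pbCone D (𝟙 i₀) (f₀ ≫ g₀) c qX (f ≫ g) (hX.paste_vert hY).w) hcX j₀
    p (p ≫ f₀) L₀ hL₀ t (by
      intro V hV
      have h1 := hA.2 ⟨qY ⁻¹ᵁ V.1, V.2.preimage qY⟩
      have h2 := (ampleAlong_pullback_iff _ _ _).mp ((ampleAlong_ι_iff _ _).mpr h1)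
      refine h2.congr_opens ?_ e1.symm
      calc f ⁻¹ᵁ qY ⁻¹ᵁ V.1 = (f ≫ qY) ⁻¹ᵁ V.1 := rfl
        _ = (qX ≫ f₀) ⁻¹ᵁ V.1 := by rw [hX.w]
        _ = (((pbCone D (𝟙 i₀) (f₀ ≫ g₀) c qX (f ≫ g) (hX.paste_vert hY).w).π.app j₀ ≫
            p) ≫ f₀) ⁻¹ᵁ V.1 :=
          congrArg (fun m => (m ≫ f₀) ⁻¹ᵁ V.1) e1.symm
        _ = _ := by rw [Category.assoc]; rfl)
  refine ⟨K.left, ?_⟩
  have e2 : (pbDiagram D (𝟙 i₀) (f₀ ≫ g₀)).map K.hom ≫ p =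
      pullback.fst (f₀ ≫ g₀) (D.map (K.left.hom ≫ 𝟙 i₀)) := by
    rw [hp]
    exact pbMap_fst D (𝟙 i₀) (f₀ ≫ g₀) K.hom
  have e3 : pbRel D (𝟙 i₀) f₀ g₀ K.left ≫ pullback.fst g₀ (D.map (K.left.hom ≫ 𝟙 i₀)) =
      pullback.fst (f₀ ≫ g₀) (D.map (K.left.hom ≫ 𝟙 i₀)) ≫ f₀ := pbRel_fst D (𝟙 i₀) f₀ g₀ K.left
  haveI : QuasiCompact (pbRel D (𝟙 i₀) f₀ g₀ K.left) :=
    MorphismProperty.of_isPullback (P := @QuasiCompact) (isPullback_pbRel D (𝟙 i₀) f₀ g₀ K.left)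
      inferInstance
  haveI : IsAffineHom (pullback.fst g₀ (D.map (K.left.hom ≫ 𝟙 i₀))) :=
    MorphismProperty.pullback_fst (P := @IsAffineHom) _ _ inferInstance
  refine (Groth.Agent.S4380.result (pbRel D (𝟙 i₀) f₀ g₀ K.left) _
    (fun V : ↥t => pullback.fst g₀ (D.map (K.left.hom ≫ 𝟙 i₀)) ⁻¹ᵁ V.1.1) ?_).mpr ?_
  · refine eq_top_iff.mpr fun y _ => ?_
    obtain ⟨V, hV, hyV⟩ := Set.mem_iUnion₂.mp
      (ht (Set.mem_univ (pullback.fst g₀ (D.map (K.left.hom ≫ 𝟙 i₀)) y)))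
    exact Opens.mem_iSup.mpr ⟨⟨V, hV⟩, hyV⟩
  · intro V
    haveI : IsAffine ((pullback.fst g₀ (D.map (K.left.hom ≫ 𝟙 i₀)) ⁻¹ᵁ V.1.1 :
        (pullback g₀ (D.map (K.left.hom ≫ 𝟙 i₀))).Opens) : Scheme.{u}) :=
      V.1.2.preimage (pullback.fst g₀ (D.map (K.left.hom ≫ 𝟙 i₀)))
    refine (Groth.Agent.S4381.result _ _).mpr ?_
    refine (ampleAlong_ι_iff _ _).mp ((ampleAlong_pullback_iff _ _ _).mpr ?_)
    refine (hK V.1 V.2).congr_opens ?_ e2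
    calc (pbDiagram D (𝟙 i₀) (f₀ ≫ g₀)).map K.hom ⁻¹ᵁ (p ≫ f₀) ⁻¹ᵁ V.1.1
        = (((pbDiagram D (𝟙 i₀) (f₀ ≫ g₀)).map K.hom ≫ p) ≫ f₀) ⁻¹ᵁ V.1.1 := by
          rw [Category.assoc]; rfl
      _ = (pullback.fst (f₀ ≫ g₀) (D.map (K.left.hom ≫ 𝟙 i₀)) ≫ f₀) ⁻¹ᵁ V.1.1 :=
          congrArg (fun m => (m ≫ f₀) ⁻¹ᵁ V.1.1) e2
      _ = (pbRel D (𝟙 i₀) f₀ g₀ K.left ≫ pullback.fst g₀ (D.map (K.left.hom ≫ 𝟙 i₀))) ⁻¹ᵁ
          V.1.1 := by rw [e3]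
      _ = _ := rfl

end Main

section Converse

variable {I : Type u} [SmallCategory I]
    (D : I ⥤ Scheme.{u}) (c : Cone D) (i₀ : I)
    {X₀ Y₀ : Scheme.{u}} (f₀ : X₀ ⟶ Y₀) (g₀ : Y₀ ⟶ D.obj i₀)
    (L₀ : X₀.Modules)
    {X Y : Scheme.{u}} (f : X ⟶ Y) (g : Y ⟶ c.pt) (qY : Y ⟶ Y₀) (qX : X ⟶ X₀)
    (hY : IsPullback qY g g₀ (c.π.app i₀)) (hX : IsPullback qX f f₀ qY)

include hY hX in
theorem isRelAmple_of_stage {j : I} (φ : j ⟶ i₀) {Xj Yj : Scheme.{u}} (fj : Xj ⟶ Yj)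
    (gj : Yj ⟶ D.obj j) (pY : Yj ⟶ Y₀) (pX : Xj ⟶ X₀)
    (hYj : IsPullback pY gj g₀ (D.map φ)) (hXj : IsPullback pX fj f₀ pY)
    (hA : RelAmple.IsRelAmple fj ((Scheme.Modules.pullback pX).obj L₀)) :
    RelAmple.IsRelAmple f ((Scheme.Modules.pullback qX).obj L₀) := by
  obtain ⟨v, hv1, hv2⟩ : ∃ v : Y ⟶ Yj, v ≫ pY = qY ∧ v ≫ gj = g ≫ c.π.app j :=
    ⟨hYj.lift qY (g ≫ c.π.app j) (by rw [hY.w, Category.assoc, c.w]), hYj.lift_fst _ _ _,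
      hYj.lift_snd _ _ _⟩
  obtain ⟨u, hu1, hu2⟩ : ∃ u : X ⟶ Xj, u ≫ pX = qX ∧ u ≫ fj = f ≫ v :=
    ⟨hXj.lift qX (f ≫ v) (by rw [hX.w, Category.assoc, hv1]), hXj.lift_fst _ _ _,
      hXj.lift_snd _ _ _⟩
  have hsq : IsPullback u f fj v := by
    refine IsPullback.of_right ?_ hu2 hXj
    rw [hu1, hv1]
    exact hX
  haveI : QuasiCompact fj := hA.1
  have h1 := H22.PullBC.isRelAmple_baseChange fj v hA
  have h2 := H22.PullRelAmple.isRelAmple_pullback_of_isAffineHom (pullback.snd fj v)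
    hsq.isoPullback.hom h1
  rw [hsq.isoPullback_hom_snd] at h2
  refine H22.PullRelAmple.isRelAmple_of_iso f ?_ h2
  exact (Scheme.Modules.pullbackComp _ _).app _ ≪≫
    (Scheme.Modules.pullbackCongr hsq.isoPullback_hom_fst).app _ ≪≫
    (Scheme.Modules.pullbackComp u pX).app L₀ ≪≫ (Scheme.Modules.pullbackCongr hu1).app L₀

end Converse

end Groth.Agent.H24.RelAmpleLim
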