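import Mathlib
import Groth.Agent.H24.AmpleLim
import Groth.Agent.H24.RelAmpleLim
import Groth.Agent.H22.CounitEpi
import Groth.Agent.H22.AmpleLocal
import Groth.Agent.H18.GlobGen

/-!
# Pointwise generation by global sections and cofiltered limits (helper24)
-/

set_option autoImplicit false

open CategoryTheory AlgebraicGeometry Limits TopologicalSpace
open Groth.Agent.H22.PullGen Groth.Agent.H22.PullAmple

universe u

namespace Groth.Agent.H24.GGLim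

section Basic

variable {T : Scheme.{u}}

/-- `N` is generated by global sections at every point, in terms of the loci `X_σ`. -/
def PG (N : T.Modules) : Prop :=
  ∀ y : T, ∃ σ : Coh.structureModule T ⟶ N, y ∈ CohB1.genLocus N σ

theorem PG.of_iso {N N' : T.Modules} (e : N ≅ N') (h : PG N) : PG N' := fun y => by
  obtain ⟨σ, hσ⟩ := h y
  refine ⟨σ ≫ e.hom, ?_⟩
  rw [H18.TwistAmple.genLocus_comp_iso]
  exact hσ

theorem PG.pullback {T' : Scheme.{u}} (h : T' ⟶ T) {N : T.Modules} (hN : PicF.IsInvertible N)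
    (hPG : PG N) : PG ((Scheme.Modules.pullback h).obj N) := fun y => by
  obtain ⟨σ, hσ⟩ := hPG (h y)
  exact ⟨pbSec h σ, (mem_genLocus_pbSec h hN σ y).mpr hσ⟩

open Groth.Agent.H18.SecTw Groth.Agent.H18.TensorGen in
theorem ggAt_of_mem_genLocus (N : T.Modules) (σ : Coh.structureModule T ⟶ N) (x : T)
    (hx : x ∈ CohB1.genLocus N σ) : H18.GlobGen.GGAt N x := by
  obtain ⟨V, hxV, hV⟩ := (H22.AmpleLocal.mem_genLocus_iff_isGen σ x).mp hx
  intro U t hxU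
  refine ⟨V ⊓ U, inf_le_right, ⟨hxV, hxU⟩, ?_⟩
  obtain ⟨r, hr⟩ := (hV (V ⊓ U) inf_le_left).2 (N.presheaf.map (homOfLE inf_le_right).op t)
  have hr' : r • N.presheaf.map (homOfLE (inf_le_left : V ⊓ U ≤ V)).op (sv σ V) =
      N.presheaf.map (homOfLE inf_le_right).op t := hr
  rw [sv_res, ← sv_res σ (le_top : V ⊓ U ≤ ⊤)] at hr'
  rw [← hr']
  exact Submodule.smul_mem _ r (Submodule.subset_span ⟨sv σ ⊤, rfl⟩)

theorem PG.isGloballyGenerated {N : T.Modules} (h : PG N) : Curv2.IsGloballyGenerated N :=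
  H18.GlobGen.isGloballyGenerated_of_ggAt N fun x => by
    obtain ⟨σ, hσ⟩ := h x
    exact ggAt_of_mem_genLocus N σ x hσ

/-- Sections over `U` generating `M` near each point of `U` give pointwise generation of `M|_U`. -/
theorem pg_restrict_of_genAt (M : T.Modules) (U : T.Opens)
    (h : ∀ x ∈ U, ∃ s : Γ(M, U), H22.AmpleLocal.GenAt M s x) : PG (M.restrict U.ι) := by
  intro y
  obtain ⟨s, hs⟩ := h (U.ι y) y.2
  have hle : U.ι ''ᵁ ⊤ ≤ U := U.ι_image_le ⊤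
  obtain ⟨t, ht⟩ : ∃ t : Γ(M.restrict U.ι, ⊤),
      H18.RestrictTensor.ofRes U.ι M t = M.presheaf.map (homOfLE hle).op s := ⟨_, rfl⟩
  refine ⟨H18.TensorPowIso.secHom _ t, ?_⟩
  rw [H22.AmpleLocal.mem_genLocus_secHom, H22.AmpleLocal.genAt_restrict, ht]
  exact (H22.AmpleLocal.genAt_res hle s ⟨y, trivial, rfl⟩).mpr hs

end Basic

section Lim

variable {I : Type u} [SmallCategory I] [IsCofiltered I] (D : I ⥤ Scheme.{u}) (c : Cone D)
  (hc : IsLimit c) [∀ (i j : I) (f : i ⟶ j), IsAffineHom (D.map f)] (i₀ : I)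
  (L₀ : (D.obj i₀).Modules) (hL₀ : PicF.IsInvertible L₀)

include hc hL₀ in
/-- A section of the pullback of `L₀` to the limit has the same non-vanishing locus as
the pullback of a section at some stage. -/
theorem exists_stage_section' [CompactSpace (D.obj i₀)] [QuasiSeparatedSpace (D.obj i₀)]
    (s : Coh.structureModule c.pt ⟶ (Scheme.Modules.pullback (c.π.app i₀)).obj L₀) :
    ∃ (j : Over i₀) (sj : Coh.structureModule (D.obj j.left) ⟶
        (Scheme.Modules.pullback (D.map j.hom)).obj L₀),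
      CohB1.genLocus _ s = c.π.app j.left ⁻¹ᵁ CohB1.genLocus _ sj := by
  haveI : (Coh.structureModule (D.obj i₀)).IsQuasicoherent :=
    H8.isQuasicoherent_structureModule' _
  haveI := AmpleLim.isFinitePresentation_of_isInvertible
    (H8.isInvertible_structureModule (D.obj i₀))
  haveI : L₀.IsQuasicoherent := H18.AmpleBasis.isQuasicoherent_of_isInvertible hL₀
  obtain ⟨j, hj, hh⟩ := ModLimHomSurj.exists_hom_pullback_eq D c hc i₀
    (Coh.structureModule (D.obj i₀)) L₀ ((pullbackUnitIso (c.π.app i₀)).hom ≫ s)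
  refine ⟨j, (pullbackUnitIso (D.map j.hom)).inv ≫ hj, ?_⟩
  have hN : PicF.IsInvertible ((Scheme.Modules.pullback (D.map j.hom)).obj L₀) :=
    isInvertible_pullback _ hL₀
  rw [← genLocus_pbSec (c.π.app j.left) hN]
  obtain ⟨A, hA⟩ : ∃ A, A = (Scheme.Modules.pullbackComp (c.π.app j.left) (D.map j.hom) ≪≫
      Scheme.Modules.pullbackCongr (c.w j.hom)).app (Coh.structureModule (D.obj i₀)) := ⟨_, rfl⟩
  obtain ⟨B, hB⟩ : ∃ B, B = (Scheme.Modules.pullbackComp (c.π.app j.left) (D.map j.hom) ≪≫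
      Scheme.Modules.pullbackCongr (c.w j.hom)).app L₀ := ⟨_, rfl⟩
  rw [← hA, ← hB] at hh
  have hmap : (Scheme.Modules.pullback (c.π.app j.left)).map hj =
      A.hom ≫ ((pullbackUnitIso (c.π.app i₀)).hom ≫ s) ≫ B.inv := by
    rw [← hh]
    simp only [Category.assoc, Iso.hom_inv_id, Category.comp_id, Iso.hom_inv_id_assoc]
  obtain ⟨α, hα⟩ : ∃ α : Coh.structureModule c.pt ≅ Coh.structureModule c.pt,
      α = (pullbackUnitIso (c.π.app j.left)).symm ≪≫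
        (Scheme.Modules.pullback (c.π.app j.left)).mapIso (pullbackUnitIso (D.map j.hom)).symm ≪≫
        A ≪≫ pullbackUnitIso (c.π.app i₀) := ⟨_, rfl⟩
  have hpb : pbSec (c.π.app j.left) ((pullbackUnitIso (D.map j.hom)).inv ≫ hj) =
      α.hom ≫ s ≫ B.symm.hom := by
    rw [hα]
    simp only [pbSec, Functor.map_comp, hmap, Iso.trans_hom, Iso.symm_hom, Functor.mapIso_hom,
      Category.assoc, Functor.mapIso_inv]
  rw [hpb, AmpleLim.genLocus_iso_comp, H18.TwistAmple.genLocus_comp_iso]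

include hc hL₀ in
/-- **Pointwise generation by global sections descends to a stage.** -/
theorem exists_stage_pg [∀ i, CompactSpace (D.obj i)] [∀ i, QuasiSeparatedSpace (D.obj i)]
    (h : PG ((Scheme.Modules.pullback (c.π.app i₀)).obj L₀)) :
    ∃ (i : I) (φ : i ⟶ i₀), PG ((Scheme.Modules.pullback (D.map φ)).obj L₀) := by
  have hAff : ∀ {i j : I} (f : i ⟶ j), IsAffineHom (D.map f) := fun f => inferInstance
  have step1 : ∀ x : c.pt, ∃ (k : Over i₀) (sk : Coh.structureModule (D.obj k.left) ⟶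
      (Scheme.Modules.pullback (D.map k.hom)).obj L₀),
      c.π.app k.left x ∈ CohB1.genLocus _ sk := by
    intro x
    obtain ⟨s, hx⟩ := h x
    obtain ⟨j, sj, hgen⟩ := exists_stage_section' D c hc i₀ L₀ hL₀ s
    refine ⟨j, sj, ?_⟩
    have hx' : x ∈ c.π.app j.left ⁻¹ᵁ CohB1.genLocus _ sj := hgen ▸ hx
    exact hx'
  choose k sk hxk using step1
  haveI : CompactSpace c.pt := by
    haveI := isAffineHom_π_app D c hc i₀
    exact QuasiCompact.compactSpace_of_compactSpace (c.π.app i₀)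
  obtain ⟨t, ht⟩ := isCompact_univ.elim_finite_subcover
    (fun x : c.pt => ((c.π.app (k x).left ⁻¹ᵁ CohB1.genLocus _ (sk x) : c.pt.Opens) : Set c.pt))
    (fun x => (c.π.app (k x).left ⁻¹ᵁ CohB1.genLocus _ (sk x)).isOpen)
    (fun x _ => Set.mem_iUnion.mpr ⟨x, hxk x⟩)
  classical
  obtain ⟨K, hK⟩ := IsCofiltered.inf_objs_exists (t.image k)
  have b : ∀ x ∈ t, K ⟶ k x := fun x hx => (hK (Finset.mem_image_of_mem k hx)).some
  obtain ⟨UK, hUKdef⟩ : ∃ UK : (D.obj K.left).Opens,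
      UK = ⨆ x : t, D.map (b x.1 x.2).left ⁻¹ᵁ CohB1.genLocus _ (sk x.1) := ⟨_, rfl⟩
  have hUK : c.π.app K.left ⁻¹ᵁ UK = ⊤ := by
    rw [eq_top_iff]
    intro z _
    obtain ⟨x, hx, hz⟩ : ∃ x ∈ t, z ∈ c.π.app (k x).left ⁻¹ᵁ CohB1.genLocus _ (sk x) := by
      have := ht (Set.mem_univ z)
      simpa using this
    show c.π.app K.left z ∈ UK
    rw [hUKdef]
    refine Opens.mem_iSup.mpr ⟨⟨x, hx⟩, ?_⟩
    show D.map (b x hx).left (c.π.app K.left z) ∈ CohB1.genLocus _ (sk x)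
    rw [← Scheme.Hom.comp_apply, c.w]
    exact hz
  obtain ⟨K', u, hu⟩ := exists_map_eq_top D c hc UK hUK
  refine ⟨K', u ≫ K.hom, fun y => ?_⟩
  have hy : y ∈ D.map u ⁻¹ᵁ UK := by
    rw [hu]
    trivial
  have hy' : D.map u y ∈ UK := hy
  rw [hUKdef] at hy'
  obtain ⟨⟨x, hx⟩, hyx⟩ := Opens.mem_iSup.mp hy'
  have hyx' : D.map (b x hx).left (D.map u y) ∈ CohB1.genLocus _ (sk x) := hyx
  have hw : (u ≫ (b x hx).left) ≫ (k x).hom = u ≫ K.hom := by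
    rw [Category.assoc, Over.w]
  have ε : (Scheme.Modules.pullback (D.map (u ≫ (b x hx).left))).obj
      ((Scheme.Modules.pullback (D.map (k x).hom)).obj L₀) ≅
      (Scheme.Modules.pullback (D.map (u ≫ K.hom))).obj L₀ :=
    (Scheme.Modules.pullbackComp (D.map (u ≫ (b x hx).left)) (D.map (k x).hom)).app L₀ ≪≫
      (Scheme.Modules.pullbackCongr (by rw [← D.map_comp, hw])).app L₀
  refine ⟨pbSec (D.map (u ≫ (b x hx).left)) (sk x) ≫ ε.hom, ?_⟩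
  rw [H18.TwistAmple.genLocus_comp_iso,
    mem_genLocus_pbSec _ (isInvertible_pullback (D.map (k x).hom) hL₀)]
  rw [D.map_comp, Scheme.Hom.comp_apply]
  exact hyx'

end Lim

/-- The pullback of `L` along `g` is generated by global sections at every point. -/
def PGAlong {T X : Scheme.{u}} (g : T ⟶ X) (L : X.Modules) : Prop :=
  PG ((Scheme.Modules.pullback g).obj L)

section Along

variable {T' T X Y : Scheme.{u}}

theorem PGAlong.of_eq {g g' : T ⟶ X} {M : X.Modules} (h : PGAlong g M) (e : g = g') :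
    PGAlong g' M := e ▸ h

theorem pgAlong_pullback_iff (g : T ⟶ X) (f : X ⟶ Y) (M : Y.Modules) :
    PGAlong g ((Scheme.Modules.pullback f).obj M) ↔ PGAlong (g ≫ f) M := by
  constructor
  · intro h
    exact PG.of_iso ((Scheme.Modules.pullbackComp g f).app M) h
  · intro h
    exact PG.of_iso ((Scheme.Modules.pullbackComp g f).app M).symm h

theorem PGAlong.precomp (h : T' ⟶ T) {g : T ⟶ X} {M : X.Modules} (hM : PicF.IsInvertible M)
    (hg : PGAlong g M) : PGAlong (h ≫ g) M :=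
  (pgAlong_pullback_iff h g M).mp (PG.pullback h (isInvertible_pullback g hM) hg)

theorem pgAlong_ι_iff (M : X.Modules) (V : X.Opens) :
    PGAlong V.ι M ↔ PG (M.restrict V.ι) := by
  constructor
  · intro h
    exact PG.of_iso ((Scheme.Modules.restrictFunctorIsoPullback V.ι).app M).symm h
  · intro h
    exact PG.of_iso ((Scheme.Modules.restrictFunctorIsoPullback V.ι).app M) h

theorem PGAlong.congr_opens {X X₀ : Scheme.{u}} {U U' : X.Opens} {g g' : X ⟶ X₀}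
    {L₀ : X₀.Modules} (h : PGAlong (U.ι ≫ g) L₀) (eU : U = U') (eg : g = g') :
    PGAlong (U'.ι ≫ g') L₀ := by
  subst eU eg
  exact h

end Along

section Core

variable {J : Type u} [SmallCategory J] [IsCofiltered J] (𝒳 : J ⥤ Scheme.{u}) (cX : Cone 𝒳)
  (hcX : IsLimit cX) [∀ (i j : J) (f : i ⟶ j), IsAffineHom (𝒳.map f)] (j₀ : J)
  {X₀ : Scheme.{u}} (p : 𝒳.obj j₀ ⟶ X₀) (L₀ : X₀.Modules) (hL₀ : PicF.IsInvertible L₀)
  (W : (𝒳.obj j₀).Opens)

include hcX hL₀ in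
theorem exists_stage_pgAlong
    (hqc : ∀ k : Over j₀, CompactSpace ↥(𝒳.map k.hom ⁻¹ᵁ W))
    (hqs : ∀ k : Over j₀, QuasiSeparatedSpace ↥(𝒳.map k.hom ⁻¹ᵁ W))
    (h : PGAlong ((cX.π.app j₀ ⁻¹ᵁ W).ι ≫ cX.π.app j₀ ≫ p) L₀) :
    ∃ k : Over j₀, PGAlong ((𝒳.map k.hom ⁻¹ᵁ W).ι ≫ 𝒳.map k.hom ≫ p) L₀ := by
  have hAff : ∀ {i j : J} (f : i ⟶ j), IsAffineHom (𝒳.map f) := fun f => inferInstance
  have hc' : IsLimit (opensCone 𝒳 cX j₀ W) := isLimitOpensCone 𝒳 cX hcX j₀ W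
  have : ∀ k : Over j₀, CompactSpace ((opensDiagram 𝒳 j₀ W).obj k) := hqc
  have : ∀ k : Over j₀, QuasiSeparatedSpace ((opensDiagram 𝒳 j₀ W).obj k) := hqs
  have key : (opensCone 𝒳 cX j₀ W).π.app (Over.mk (𝟙 j₀)) ≫ (𝒳.map (𝟙 j₀) ⁻¹ᵁ W).ι ≫ p =
      (cX.π.app j₀ ⁻¹ᵁ W).ι ≫ cX.π.app j₀ ≫ p := by
    show (cX.π.app j₀).resLE _ _ _ ≫ (𝒳.map (𝟙 j₀) ⁻¹ᵁ W).ι ≫ p = _
    rw [Scheme.Hom.resLE_comp_ι_assoc]
  have hL₀' : PicF.IsInvertible
      ((Scheme.Modules.pullback ((𝒳.map (𝟙 j₀) ⁻¹ᵁ W).ι ≫ p)).obj L₀) :=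
    isInvertible_pullback _ hL₀
  obtain ⟨k, φ, hk⟩ := exists_stage_pg (opensDiagram 𝒳 j₀ W) (opensCone 𝒳 cX j₀ W)
    hc' (Over.mk (𝟙 j₀)) _ hL₀' ((pgAlong_pullback_iff _ _ _).mpr (h.of_eq key.symm))
  refine ⟨k, ?_⟩
  have hφ : φ.left = k.hom := by
    have := Over.w φ
    simpa using this
  have key2 : (opensDiagram 𝒳 j₀ W).map φ ≫ (𝒳.map (𝟙 j₀) ⁻¹ᵁ W).ι ≫ p =
      (𝒳.map k.hom ⁻¹ᵁ W).ι ≫ 𝒳.map k.hom ≫ p := by
    show (𝒳.map φ.left).resLE _ _ _ ≫ (𝒳.map (𝟙 j₀) ⁻¹ᵁ W).ι ≫ p = _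
    rw [Scheme.Hom.resLE_comp_ι_assoc, hφ]
  exact ((pgAlong_pullback_iff _ _ _).mp hk).of_eq key2

omit [IsCofiltered J] in
include hL₀ in
theorem pgAlong_stage_mono {k k' : Over j₀} (a : k' ⟶ k)
    (h : PGAlong ((𝒳.map k.hom ⁻¹ᵁ W).ι ≫ 𝒳.map k.hom ≫ p) L₀) :
    PGAlong ((𝒳.map k'.hom ⁻¹ᵁ W).ι ≫ 𝒳.map k'.hom ≫ p) L₀ := by
  have hAff : ∀ {i j : J} (f : i ⟶ j), IsAffineHom (𝒳.map f) := fun f => inferInstance
  refine (h.precomp ((opensDiagram 𝒳 j₀ W).map a) hL₀).of_eq ?_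
  show (𝒳.map a.left).resLE _ _ _ ≫ (𝒳.map k.hom ⁻¹ᵁ W).ι ≫ 𝒳.map k.hom ≫ p = _
  rw [Scheme.Hom.resLE_comp_ι_assoc, ← 𝒳.map_comp_assoc, Over.w a]

end Core

section Finite

open Groth.Agent.H24.RelAmpleLim (compactSpace_preimage_comp quasiSeparatedSpace_preimage_comp)

variable {J : Type u} [SmallCategory J] [IsCofiltered J] (𝒳 : J ⥤ Scheme.{u}) (cX : Cone 𝒳)
  (hcX : IsLimit cX) [∀ (i j : J) (f : i ⟶ j), IsAffineHom (𝒳.map f)] (j₀ : J)
  {X₀ Y₀ : Scheme.{u}} (p : 𝒳.obj j₀ ⟶ X₀) (h : 𝒳.obj j₀ ⟶ Y₀) [QuasiCompact h]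
  [QuasiSeparated h] (L₀ : X₀.Modules) (hL₀ : PicF.IsInvertible L₀)

include hcX hL₀ in
theorem exists_stage_forall_pgAlong (t : Finset Y₀.affineOpens)
    (hA : ∀ V ∈ t, PGAlong ((cX.π.app j₀ ⁻¹ᵁ h ⁻¹ᵁ V.1).ι ≫ cX.π.app j₀ ≫ p) L₀) :
    ∃ K : Over j₀, ∀ V ∈ t,
      PGAlong ((𝒳.map K.hom ⁻¹ᵁ h ⁻¹ᵁ V.1).ι ≫ 𝒳.map K.hom ≫ p) L₀ := by
  classical
  have step : ∀ V ∈ t, ∃ k : Over j₀,
      PGAlong ((𝒳.map k.hom ⁻¹ᵁ h ⁻¹ᵁ V.1).ι ≫ 𝒳.map k.hom ≫ p) L₀ := by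
    intro V hV
    exact exists_stage_pgAlong 𝒳 cX hcX j₀ p L₀ hL₀ (h ⁻¹ᵁ V.1)
      (fun k => compactSpace_preimage_comp (𝒳.map k.hom) h V.2)
      (fun k => quasiSeparatedSpace_preimage_comp (𝒳.map k.hom) h V.2) (hA V hV)
  haveI : Nonempty (Over j₀) := ⟨Over.mk (𝟙 j₀)⟩
  choose! k hk using step
  obtain ⟨K, hK⟩ := IsCofiltered.inf_objs_exists (t.image k)
  refine ⟨K, fun V hV => ?_⟩
  exact pgAlong_stage_mono 𝒳 j₀ p L₀ hL₀ (h ⁻¹ᵁ V.1)
    (hK (Finset.mem_image_of_mem k hV)).some (hk V hV)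

end Finite

end Groth.Agent.H24.GGLim
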