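import Mathlib
import Groth.Agent.H24.IndConsDesc

/-!
# Geometrically isomorphic schemes of finite type become isomorphic over a finite extension
-/

set_option autoImplicit false
universe u
open CategoryTheory CategoryTheory.Limits AlgebraicGeometry Opposite

namespace Groth.Agent.H24

/-- An isomorphism over the base of the bottom row of two base-change squares induces an
isomorphism of the base changes. -/
theorem exists_iso_of_isPullback {X Y Xj Yj T Tj : Scheme.{u}} {a : X ⟶ T} {b : Y ⟶ T}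
    {aj : Xj ⟶ Tj} {bj : Yj ⟶ Tj} {π : T ⟶ Tj} {rX : X ⟶ Xj} {rY : Y ⟶ Yj}
    (hXj : IsPullback rX a aj π) (hYj : IsPullback rY b bj π) (e : Xj ≅ Yj)
    (he : e.hom ≫ bj = aj) : ∃ e' : X ≅ Y, e'.hom ≫ b = a := by
  have sqe : IsPullback e.hom aj bj (𝟙 Tj) :=
    IsPullback.of_horiz_isIso ⟨by rw [he, Category.comp_id]⟩
  have hXj' : IsPullback (rX ≫ e.hom) a bj π := by
    have := hXj.paste_horiz sqe
    rwa [Category.comp_id] at this
  exact ⟨hXj'.isoIsPullback _ _ hYj, IsPullback.isoIsPullback_hom_snd _ _ hXj' hYj⟩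

theorem exists_iso_baseChange_finite_extension {k : Type u} [Field k] {X Y : Scheme.{u}}
    (p : X ⟶ Spec (CommRingCat.of k)) (q : Y ⟶ Spec (CommRingCat.of k))
    [LocallyOfFiniteType p] [QuasiCompact p] [LocallyOfFiniteType q] [QuasiCompact q]
    (K : Type u) [Field K] [Algebra k K]
    (e : pullback p (Spec.map (CommRingCat.ofHom (algebraMap k K))) ≅
      pullback q (Spec.map (CommRingCat.ofHom (algebraMap k K))))
    (he : e.hom ≫ pullback.snd q (Spec.map (CommRingCat.ofHom (algebraMap k K))) =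
      pullback.snd p (Spec.map (CommRingCat.ofHom (algebraMap k K)))) :
    ∃ (k' : Type u) (_ : Field k') (_ : Algebra k k') (_ : Module.Finite k k')
      (e' : pullback p (Spec.map (CommRingCat.ofHom (algebraMap k k'))) ≅
        pullback q (Spec.map (CommRingCat.ofHom (algebraMap k k')))),
      e'.hom ≫ pullback.snd q (Spec.map (CommRingCat.ofHom (algebraMap k k'))) =
        pullback.snd p (Spec.map (CommRingCat.ofHom (algebraMap k k'))) := by
  -- finite presentation over the field
  have hXloc : IsLocallyNoetherian X := LocallyOfFiniteType.isLocallyNoetherian p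
  have hYloc : IsLocallyNoetherian Y := LocallyOfFiniteType.isLocallyNoetherian q
  have hplfp : LocallyOfFinitePresentation p :=
    LocallyOfFinitePresentation.iff_locallyOfFiniteType.mpr inferInstance
  have hqlfp : LocallyOfFinitePresentation q :=
    LocallyOfFinitePresentation.iff_locallyOfFiniteType.mpr inferInstance
  -- the limit system
  have hAffD : ∀ (i j : (FGSub k K)ᵒᵖ) (f : i ⟶ j),
      IsAffineHom ((fgSpecDiagram k K).map f) := fun _ _ f => inferInstance
  obtain ⟨i₀⟩ : Nonempty (FGSub k K)ᵒᵖ := ⟨op ⟨⊥, Subalgebra.fg_bot⟩⟩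
  have ht : ∀ i, (fgSpecCone k K).π.app i ≫ (fgSpecDiagramβ k K).app i =
      Spec.map (CommRingCat.ofHom (algebraMap k K)) := fgSpecCone_π_β k K
  obtain ⟨β₀, hβ₀⟩ : ∃ β₀ : (fgSpecDiagram k K).obj i₀ ⟶ Spec (CommRingCat.of k),
      β₀ = (fgSpecDiagramβ k K).app i₀ := ⟨_, rfl⟩
  obtain ⟨π₀, hπ₀⟩ : ∃ π₀ : Spec (CommRingCat.of K) ⟶ (fgSpecDiagram k K).obj i₀,
      π₀ = (fgSpecCone k K).π.app i₀ := ⟨_, rfl⟩
  have ht₀ : π₀ ≫ β₀ = Spec.map (CommRingCat.ofHom (algebraMap k K)) := by
    rw [hπ₀, hβ₀]; exact ht i₀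
  have wX : pullback.fst p (Spec.map (CommRingCat.ofHom (algebraMap k K))) ≫ p =
      (pullback.snd p (Spec.map (CommRingCat.ofHom (algebraMap k K))) ≫ π₀) ≫ β₀ := by
    rw [Category.assoc, ht₀, pullback.condition]
  have wY : pullback.fst q (Spec.map (CommRingCat.ofHom (algebraMap k K))) ≫ q =
      (pullback.snd q (Spec.map (CommRingCat.ofHom (algebraMap k K))) ≫ π₀) ≫ β₀ := by
    rw [Category.assoc, ht₀, pullback.condition]
  have hX₀ : IsPullback (pullback.lift _ _ wX)
      (pullback.snd p (Spec.map (CommRingCat.ofHom (algebraMap k K))))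
      (pullback.snd p β₀) π₀ := by
    refine IsPullback.of_right ?_ (pullback.lift_snd _ _ _) (IsPullback.of_hasPullback p β₀)
    rw [pullback.lift_fst, ht₀]
    exact IsPullback.of_hasPullback _ _
  have hY₀ : IsPullback (pullback.lift _ _ wY)
      (pullback.snd q (Spec.map (CommRingCat.ofHom (algebraMap k K))))
      (pullback.snd q β₀) π₀ := by
    refine IsPullback.of_right ?_ (pullback.lift_snd _ _ _) (IsPullback.of_hasPullback q β₀)
    rw [pullback.lift_fst, ht₀]
    exact IsPullback.of_hasPullback _ _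
  subst hβ₀ hπ₀
  obtain ⟨i, ψ, Xi, Yi, fi, pX, pY, eXi, eYi, sX, sY, hfi, hQi⟩ :=
    exists_stage_hom (fgSpecDiagram k K) (fgSpecCone k K) (fgSpecConeIsLimit k K)
      (MorphismProperty.isomorphisms Scheme.{u}) descends_isomorphisms i₀
      (pullback.snd p ((fgSpecDiagramβ k K).app i₀)) (pullback.snd q ((fgSpecDiagramβ k K).app i₀))
      _ _ _ _ hX₀ hY₀ e.hom he (inferInstanceAs (IsIso e.hom))
  haveI : IsIso fi := hQi
  have nat : (fgSpecDiagram k K).map ψ ≫ (fgSpecDiagramβ k K).app i₀ =
      (fgSpecDiagramβ k K).app i := fgSpecDiagramβ_map k K ψ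
  have sX' : IsPullback (eXi ≫ pullback.fst p ((fgSpecDiagramβ k K).app i₀)) pX p
      ((fgSpecDiagramβ k K).app i) :=
    nat ▸ sX.paste_horiz (IsPullback.of_hasPullback p ((fgSpecDiagramβ k K).app i₀))
  have sY' : IsPullback (eYi ≫ pullback.fst q ((fgSpecDiagramβ k K).app i₀)) pY q
      ((fgSpecDiagramβ k K).app i) :=
    nat ▸ sY.paste_horiz (IsPullback.of_hasPullback q ((fgSpecDiagramβ k K).app i₀))
  -- a closed point of the stage
  obtain ⟨m, hm⟩ := Ideal.exists_maximal i.unop.1
  let k' := i.unop.1 ⧸ m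
  letI : Field k' := Ideal.Quotient.field m
  haveI : Algebra.FiniteType k i.unop.1 := (Subalgebra.fg_iff_finiteType _).mp i.unop.2
  haveI : Algebra.FiniteType k k' :=
    Algebra.FiniteType.of_surjective (Ideal.Quotient.mkₐ k m) Ideal.Quotient.mk_surjective
  have hfin : Module.Finite k k' := finite_of_finite_type_of_isJacobsonRing k k'
  refine ⟨k', inferInstance, inferInstance, hfin, ?_⟩
  let w' : Spec (CommRingCat.of k') ⟶ (fgSpecDiagram k K).obj i :=
    Spec.map (CommRingCat.ofHom (algebraMap i.unop.1 k'))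
  have hw' : w' ≫ (fgSpecDiagramβ k K).app i = Spec.map (CommRingCat.ofHom (algebraMap k k')) := by
    show Spec.map _ ≫ Spec.map _ = _
    rw [← Spec.map_comp]
    rfl
  obtain ⟨w'', hw''⟩ : ∃ w'' : Spec (CommRingCat.of k') ⟶ (fgSpecDiagram k K).obj i,
      w'' ≫ (fgSpecDiagramβ k K).app i = Spec.map (CommRingCat.ofHom (algebraMap k k')) := ⟨w', hw'⟩
  have wX' : pullback.fst p (Spec.map (CommRingCat.ofHom (algebraMap k k'))) ≫ p =
      (pullback.snd p (Spec.map (CommRingCat.ofHom (algebraMap k k'))) ≫ w'') ≫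
        (fgSpecDiagramβ k K).app i := by
    rw [Category.assoc, hw'', pullback.condition]
  have wY' : pullback.fst q (Spec.map (CommRingCat.ofHom (algebraMap k k'))) ≫ q =
      (pullback.snd q (Spec.map (CommRingCat.ofHom (algebraMap k k'))) ≫ w'') ≫
        (fgSpecDiagramβ k K).app i := by
    rw [Category.assoc, hw'', pullback.condition]
  have hX' : IsPullback (sX'.lift _ _ wX')
      (pullback.snd p (Spec.map (CommRingCat.ofHom (algebraMap k k')))) pX w'' := by
    refine IsPullback.of_right ?_ (sX'.lift_snd _ _ _) sX'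
    rw [sX'.lift_fst, hw'']
    exact IsPullback.of_hasPullback _ _
  have hY' : IsPullback (sY'.lift _ _ wY')
      (pullback.snd q (Spec.map (CommRingCat.ofHom (algebraMap k k')))) pY w'' := by
    refine IsPullback.of_right ?_ (sY'.lift_snd _ _ _) sY'
    rw [sY'.lift_fst, hw'']
    exact IsPullback.of_hasPullback _ _
  exact exists_iso_of_isPullback hX' hY' (asIso fi) hfi

end Groth.Agent.H24
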