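import Mathlib

/-!
# Hom out of finitely generated / presented modules and directed colimits (helper24)
-/

set_option autoImplicit false

open CategoryTheory CategoryTheory.Limits

universe u

namespace Groth.Agent.H24

theorem post_coyoneda_injective {A : Type u} [CommRing A] (M : ModuleCat.{u} A)
    [Module.Finite A M] {J : Type u} [Preorder J] [IsDirected J (· ≤ ·)] [Nonempty J]
    (N : J ⥤ ModuleCat.{u} A) :
    Function.Injective (colimit.post N (coyoneda.obj (Opposite.op M))) := by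
  classical
  intro a b hab
  obtain ⟨j, φ, ψ, rfl, rfl⟩ := Types.FilteredColimit.jointly_surjective_of_isColimit₂
    (colimit.isColimit (N ⋙ coyoneda.obj (Opposite.op M))) a b
  have h1 : ∀ χ : (N ⋙ coyoneda.obj (Opposite.op M)).obj j,
      colimit.post N (coyoneda.obj (Opposite.op M))
        (colimit.ι (N ⋙ coyoneda.obj (Opposite.op M)) j χ) = χ ≫ colimit.ι N j := by
    intro χ
    have := ConcreteCategory.congr_hom (colimit.ι_post N (coyoneda.obj (Opposite.op M)) j) χ
    exact this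
  change colimit.post N (coyoneda.obj (Opposite.op M))
        (colimit.ι (N ⋙ coyoneda.obj (Opposite.op M)) j φ) = colimit.post N (coyoneda.obj (Opposite.op M))
        (colimit.ι (N ⋙ coyoneda.obj (Opposite.op M)) j ψ) at hab
  rw [h1, h1] at hab
  change (M ⟶ N.obj j) at φ ψ
  have hcol := isColimitOfPreserves (forget (ModuleCat A)) (colimit.isColimit N)
  have h2 : ∀ m : M, ∃ (k : J) (f : j ⟶ k), (N.map f) (φ m) = (N.map f) (ψ m) := by
    intro m
    have h3 : (colimit.ι N j) (φ m) = (colimit.ι N j) (ψ m) := by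
      have := congrArg (fun χ : M ⟶ colimit N => χ.hom m) hab
      exact this
    exact (Types.FilteredColimit.isColimit_eq_iff' hcol (φ m) (ψ m)).mp h3
  obtain ⟨S, hS⟩ := Module.Finite.fg_top (R := A) (M := M)
  choose k f hk using h2
  obtain ⟨k₀, hk₀⟩ := Finite.exists_le (fun s : Option S => s.elim j (fun s => k s.1))
  have hjk : j ≤ k₀ := hk₀ none
  have hsk : ∀ s : S, k s.1 ≤ k₀ := fun s => hk₀ (some s)
  let g : j ⟶ k₀ := homOfLE hjk
  have hg : φ ≫ N.map g = ψ ≫ N.map g := by
    apply ModuleCat.hom_ext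
    apply LinearMap.ext_on hS
    intro s hs
    have hgs : g = f s ≫ homOfLE (hsk ⟨s, hs⟩) := Subsingleton.elim _ _
    change (N.map g) (φ s) = (N.map g) (ψ s)
    rw [hgs, N.map_comp]
    change (N.map (homOfLE (hsk ⟨s, hs⟩))) ((N.map (f s)) (φ s)) =
      (N.map (homOfLE (hsk ⟨s, hs⟩))) ((N.map (f s)) (ψ s))
    rw [hk s]
  rw [Types.FilteredColimit.isColimit_eq_iff' (colimit.isColimit _)]
  exact ⟨k₀, g, hg⟩

theorem post_coyoneda_surjective {A : Type u} [CommRing A] (M : ModuleCat.{u} A)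
    [Module.FinitePresentation A M] {J : Type u} [Preorder J] [IsDirected J (· ≤ ·)] [Nonempty J]
    (N : J ⥤ ModuleCat.{u} A) :
    Function.Surjective (colimit.post N (coyoneda.obj (Opposite.op M))) := by
  classical
  intro χ
  change (M ⟶ colimit N) at χ
  have h1 : ∀ (j : J) (φ : (N ⋙ coyoneda.obj (Opposite.op M)).obj j),
      colimit.post N (coyoneda.obj (Opposite.op M))
        (colimit.ι (N ⋙ coyoneda.obj (Opposite.op M)) j φ) = φ ≫ colimit.ι N j := by
    intro j φ
    have := ConcreteCategory.congr_hom (colimit.ι_post N (coyoneda.obj (Opposite.op M)) j) φ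
    exact this
  have hcol := isColimitOfPreserves (forget (ModuleCat A)) (colimit.isColimit N)
  obtain ⟨n, m, p, g, hp, hex⟩ := Module.FinitePresentation.exists_fin' A M
  -- Step 1
  have hlift : ∀ l : Fin n, ∃ (j : J) (y : N.obj j),
      (colimit.ι N j) y = χ (p (Pi.single l 1)) := fun l =>
    Types.jointly_surjective_of_isColimit hcol (χ (p (Pi.single l 1)))
  choose jl y hy using hlift
  obtain ⟨j₁, hj₁⟩ := Finite.exists_le jl
  let y' : Fin n → N.obj j₁ := fun l => (N.map (homOfLE (hj₁ l))) (y l)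
  have hy' : ∀ l, (colimit.ι N j₁) (y' l) = χ (p (Pi.single l 1)) := by
    intro l
    rw [← hy l, ← colimit.w N (homOfLE (hj₁ l))]
    rfl
  -- Step 2
  let φ₀ : (Fin n → A) →ₗ[A] N.obj j₁ := (Pi.basisFun A (Fin n)).constr A y'
  have hφ₀ : ∀ l, φ₀ (Pi.single l 1) = y' l := by
    intro l
    have := (Pi.basisFun A (Fin n)).constr_basis A y' l
    rwa [Pi.basisFun_apply] at this
  have hcomm : (colimit.ι N j₁).hom ∘ₗ φ₀ = χ.hom ∘ₗ p := by
    apply (Pi.basisFun A (Fin n)).ext
    intro l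
    simp only [Pi.basisFun_apply, LinearMap.coe_comp, Function.comp_apply]
    rw [hφ₀]
    exact hy' l
  -- Step 3
  have hrel : ∀ k : Fin m, ∃ (j : J) (f : j₁ ⟶ j),
      (N.map f) (φ₀ (g (Pi.single k 1))) = (N.map f) 0 := by
    intro k
    apply (Types.FilteredColimit.isColimit_eq_iff' hcol _ _).mp
    change (colimit.ι N j₁) (φ₀ (g (Pi.single k 1))) = (colimit.ι N j₁) 0
    have := LinearMap.congr_fun hcomm (g (Pi.single k 1))
    simp only [LinearMap.coe_comp, Function.comp_apply] at this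
    rw [map_zero]
    refine this.trans ?_
    rw [hex.apply_apply_eq_zero, map_zero]
  choose jk fk hk using hrel
  obtain ⟨j₂, hj₂⟩ := Finite.exists_le (fun s : Option (Fin m) => s.elim j₁ jk)
  have h12 : j₁ ≤ j₂ := hj₂ none
  have hj₂' : ∀ k : Fin m, jk k ≤ j₂ := fun k => hj₂ (some k)
  let t : j₁ ⟶ j₂ := homOfLE h12
  let φ₁ : (Fin n → A) →ₗ[A] N.obj j₂ := (N.map t).hom ∘ₗ φ₀
  have hφ₁g : φ₁ ∘ₗ g = 0 := by
    apply (Pi.basisFun A (Fin m)).ext
    intro k
    simp only [Pi.basisFun_apply, LinearMap.coe_comp, Function.comp_apply, LinearMap.zero_apply,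
      φ₁]
    have ht : t = fk k ≫ homOfLE (hj₂' k) := Subsingleton.elim _ _
    rw [ht, N.map_comp]
    change (N.map (homOfLE (hj₂' k))) ((N.map (fk k)) (φ₀ (g (Pi.single k 1)))) = 0
    rw [hk k, map_zero, map_zero]
  have hker : LinearMap.ker p ≤ LinearMap.ker φ₁ := by
    intro x hx
    obtain ⟨z, rfl⟩ := (hex x).mp hx
    exact LinearMap.congr_fun hφ₁g z
  let φ : M →ₗ[A] N.obj j₂ :=
    ((LinearMap.ker p).liftQ φ₁ hker) ∘ₗ (p.quotKerEquivOfSurjective hp).symm.toLinearMap
  have hφp : ∀ x, φ (p x) = φ₁ x := by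
    intro x
    simp only [φ, LinearMap.coe_comp, LinearEquiv.coe_coe, Function.comp_apply]
    have : (p.quotKerEquivOfSurjective hp).symm (p x) = (LinearMap.ker p).mkQ x := by
      rw [LinearEquiv.symm_apply_eq]
      rfl
    rw [this]
    rfl
  refine ⟨colimit.ι (N ⋙ coyoneda.obj (Opposite.op M)) j₂ (ModuleCat.ofHom φ), ?_⟩
  rw [h1]
  apply ModuleCat.hom_ext
  apply LinearMap.ext
  intro x
  obtain ⟨z, rfl⟩ := hp x
  change (colimit.ι N j₂) (φ (p z)) = χ (p z)
  rw [hφp]
  have := LinearMap.congr_fun hcomm z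
  simp only [LinearMap.coe_comp, Function.comp_apply] at this
  refine Eq.trans ?_ this
  simp only [φ₁, LinearMap.coe_comp, Function.comp_apply]
  rw [← colimit.w N t]
  rfl

end Groth.Agent.H24
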