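import Mathlib
import Groth.Agent.H24.DescFP
import Groth.Agent.H24.LimBCClosed
import Groth.Agent.H24.LimPullback

/-!
# Ideal sheaves of finite type descend through cofiltered limits (helper24)
-/

set_option autoImplicit false

open CategoryTheory AlgebraicGeometry Limits TopologicalSpace Topology Opposite

universe u

namespace Groth.Agent.H24

/-- A closed subscheme whose ideals are finitely generated on affine opens is locally of finite
presentation. -/
theorem locallyOfFinitePresentation_subschemeι_of_fg {X : Scheme.{u}} (J : X.IdealSheafData)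
    (hJ : ∀ U : X.affineOpens, (J.ideal U).FG) : LocallyOfFinitePresentation J.subschemeι := by
  rw [HasRingHomProperty.iff_exists_appLE (P := @LocallyOfFinitePresentation)
    (RingHom.finitePresentation_stableUnderComposition.stableUnderCompositionWithLocalizationAway
      RingHom.finitePresentation_holdsForLocalizationAway).left]
  intro x
  obtain ⟨U, hU, hxU⟩ : ∃ U : X.Opens, IsAffineOpen U ∧ J.subschemeι x ∈ U := by
    obtain ⟨_, ⟨V, hV, rfl⟩, hxV, -⟩ := X.isBasis_affineOpens.exists_subset_of_mem_open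
      (Set.mem_univ (J.subschemeι x)) isOpen_univ
    exact ⟨V, hV, hxV⟩
  refine ⟨⟨U, hU⟩, ⟨J.subschemeι ⁻¹ᵁ U, hU.preimage J.subschemeι⟩, hxU, le_rfl, ?_⟩
  rw [← Scheme.Hom.app_eq_appLE]
  apply RingHom.FinitePresentation.of_surjective _ (J.subschemeι_app_surjective ⟨U, hU⟩)
  rw [J.ker_subschemeι_app ⟨U, hU⟩]
  exact hJ ⟨U, hU⟩

/-- The kernel of a closed immersion locally of finite presentation is finitely generated on
affine opens. -/
theorem ker_fg_of_isClosedImmersion_lfp {Z X : Scheme.{u}} (f : Z ⟶ X) [IsClosedImmersion f]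
    [LocallyOfFinitePresentation f] (U : X.affineOpens) : (f.ker.ideal U).FG := by
  rw [Scheme.Hom.ker_apply]
  have hfp : (f.app U.1).hom.FinitePresentation := by
    have := HasRingHomProperty.appLE (P := @LocallyOfFinitePresentation) f inferInstance U
      ⟨f ⁻¹ᵁ U.1, U.2.preimage f⟩ le_rfl
    rwa [← Scheme.Hom.app_eq_appLE] at this
  have hsurj : Function.Surjective (f.app U.1).hom := f.app_surjective U.1 U.2
  algebraize [(f.app U.1).hom]
  have h := Algebra.FinitePresentation.ker_fG_of_surjective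
    (Algebra.ofId Γ(X, U.1) Γ(Z, f ⁻¹ᵁ U.1)) hsurj
  exact h

section

variable {I : Type u} [SmallCategory I] [IsCofiltered I] (D : I ⥤ Scheme.{u}) (c : Cone D)
  (hc : IsLimit c) [∀ {i j : I} (f : i ⟶ j), IsAffineHom (D.map f)]
  [∀ i, CompactSpace (D.obj i)] [∀ i, QuasiSeparatedSpace (D.obj i)]

include hc in
/-- **Ideal sheaves of finite type on the limit come from a stage.** -/
theorem exists_idealSheaf_fg_descend (J : c.pt.IdealSheafData)
    (hJ : ∀ U : c.pt.affineOpens, (J.ideal U).FG) :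
    ∃ (i : I) (Ji : (D.obj i).IdealSheafData), (∀ U : (D.obj i).affineOpens, (Ji.ideal U).FG) ∧
      Ji.comap (c.π.app i) = J := by
  have hlfp : LocallyOfFinitePresentation J.subschemeι :=
    locallyOfFinitePresentation_subschemeι_of_fg J hJ
  obtain ⟨i, Zi, hi, g, h1, h2, h3, sq⟩ := desc_of_finitePresentation hc J.subschemeι
  have hY : IsPullback (c.π.app i) (𝟙 c.pt) (𝟙 (D.obj i)) (c.π.app i) :=
    IsPullback.of_id_snd
  have hqc : QuasiCompact (hi ≫ 𝟙 (D.obj i)) := by rw [Category.comp_id]; exact h2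
  have hqs : QuasiSeparated (hi ≫ 𝟙 (D.obj i)) := by rw [Category.comp_id]; exact h3
  have hlfp' : LocallyOfFinitePresentation (hi ≫ 𝟙 (D.obj i)) := by
    rw [Category.comp_id]; exact h1
  obtain ⟨j, hj⟩ := exists_isClosedImmersion_pbRel D c hc i hi (𝟙 (D.obj i)) J.subschemeι
    (𝟙 c.pt) (c.π.app i) g hY sq
  have hcl : IsClosedImmersion (pullback.snd (hi ≫ 𝟙 (D.obj i)) (D.map (j.hom ≫ 𝟙 i))) := by
    rw [← pbRel_snd D (𝟙 i) hi (𝟙 (D.obj i)) j]
    infer_instance
  have hlfpj : LocallyOfFinitePresentation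
      (pullback.snd (hi ≫ 𝟙 (D.obj i)) (D.map (j.hom ≫ 𝟙 i))) :=
    inferInstance
  have sq' : IsPullback g J.subschemeι (hi ≫ 𝟙 (D.obj i)) (c.π.app i) := by
    rw [Category.comp_id]; exact sq
  have hpb := isPullback_pbLift D (𝟙 i) (hi ≫ 𝟙 (D.obj i)) c g J.subschemeι sq' j
  refine ⟨j.left, (pullback.snd (hi ≫ 𝟙 (D.obj i)) (D.map (j.hom ≫ 𝟙 i))).ker,
    fun U => ker_fg_of_isClosedImmersion_lfp _ U, ?_⟩
  -- the pullback square over the image subscheme
  have hpb2 : IsPullback J.subschemeι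
      (pbLift D (𝟙 i) (hi ≫ 𝟙 (D.obj i)) c g J.subschemeι sq'.w j ≫
        (pullback.snd (hi ≫ 𝟙 (D.obj i)) (D.map (j.hom ≫ 𝟙 i))).toImage)
      (c.π.app j.left)
      (pullback.snd (hi ≫ 𝟙 (D.obj i)) (D.map (j.hom ≫ 𝟙 i))).ker.subschemeι := by
    have hiso : IsPullback
        (pullback.snd (hi ≫ 𝟙 (D.obj i)) (D.map (j.hom ≫ 𝟙 i)))
        (pullback.snd (hi ≫ 𝟙 (D.obj i)) (D.map (j.hom ≫ 𝟙 i))).toImage
        (𝟙 _) (pullback.snd (hi ≫ 𝟙 (D.obj i)) (D.map (j.hom ≫ 𝟙 i))).ker.subschemeι :=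
      IsPullback.of_vert_isIso ⟨by
        rw [Category.comp_id]
        exact (Scheme.Hom.toImage_imageι _).symm⟩
    have := hpb.flip.paste_vert hiso
    rwa [Category.comp_id (c.π.app j.left)] at this
  have e1 : hpb2.isoPullback.hom ≫ pullback.fst (c.π.app j.left)
      (pullback.snd (hi ≫ 𝟙 (D.obj i)) (D.map (j.hom ≫ 𝟙 i))).ker.subschemeι = J.subschemeι :=
    hpb2.isoPullback_hom_fst
  have e2 := Scheme.Hom.ker_comp_of_isIso hpb2.isoPullback.hom (pullback.fst (c.π.app j.left)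
      (pullback.snd (hi ≫ 𝟙 (D.obj i)) (D.map (j.hom ≫ 𝟙 i))).ker.subschemeι)
  rw [e1, Scheme.IdealSheafData.ker_subschemeι] at e2
  exact e2.symm

end

end Groth.Agent.H24
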