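import Mathlib
import Groth.Agent.H24.IndCons
import Groth.Agent.S2583

set_option autoImplicit false
universe u
open CategoryTheory CategoryTheory.Limits AlgebraicGeometry

namespace Groth.Agent.H24

/-- quasi-finite = locally of finite type, quasi-compact, locally quasi-finite -/
def QFProp : MorphismProperty Scheme.{u} :=
  fun _ _ g => LocallyOfFiniteType g ∧ QuasiCompact g ∧ LocallyQuasiFinite g

instance : QFProp.{u}.IsStableUnderBaseChange where
  of_isPullback := fun {_ _ _ _ _ _ _ _} sq hg =>
    ⟨MorphismProperty.of_isPullback (P := @LocallyOfFiniteType) sq hg.1,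
      MorphismProperty.of_isPullback (P := @QuasiCompact) sq hg.2.1,
      MorphismProperty.of_isPullback (P := @LocallyQuasiFinite) sq hg.2.2⟩

theorem descends_QFProp : Descends QFProp.{u} := by
  unfold Descends
  intro I _ _ D c hc _ i₀ _ _ X₀ Y₀ f₀ g₀ _ _ _ _ _ _ X Y f g qY qX hY hX hf
  haveI : LocallyQuasiFinite f := hf.2.2
  obtain ⟨i, φ, Xi, Yi, fi, gi, pY, pX, hYi, hXi, hfi⟩ :=
    Groth.Agent.S2583.result D c hc i₀ f₀ g₀ f g qY qX hY hX
  refine ⟨i, φ, Xi, Yi, fi, gi, pY, pX, hYi, hXi, ?_, ?_, hfi⟩
  · have : LocallyOfFinitePresentation (fi ≫ gi) :=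
      MorphismProperty.of_isPullback (P := @LocallyOfFinitePresentation) (hXi.paste_vert hYi)
        inferInstance
    exact locallyOfFiniteType_of_comp fi gi
  · have h1 : QuasiCompact (fi ≫ gi) :=
      MorphismProperty.of_isPullback (P := @QuasiCompact) (hXi.paste_vert hYi) inferInstance
    have h2 : QuasiSeparated gi :=
      MorphismProperty.of_isPullback (P := @QuasiSeparated) hYi inferInstance
    exact QuasiCompact.of_comp fi gi

end Groth.Agent.H24
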