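import Mathlib
import Groth.Prelude

set_option autoImplicit false
universe u
open AlgebraicGeometry CategoryTheory Limits

namespace Groth.Agent.H24.IrrCountIFS

theorem irrCount_fieldStable
    (hIEXT : ∀ {L K : Type u} [Field L] [IsSepClosed L] [Field K]
      (j : Spec (CommRingCat.of K) ⟶ Spec (CommRingCat.of L)) {X Z : Scheme.{u}}
      (p : X ⟶ Spec (CommRingCat.of L)) (fst : Z ⟶ X) (snd : Z ⟶ Spec (CommRingCat.of K)),
      IsPullback fst snd p j →
      (irreducibleComponents ↥Z).encard = (irreducibleComponents ↥X).encard)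
    {Y Y' T T' : Scheme.{u}} (g : Y ⟶ T) (g' : Y' ⟶ T') (eY : Y' ⟶ Y) (h : T' ⟶ T)
    [Subsingleton ↥T] [Nonempty ↥T'] (sq : IsPullback eY g' g h) (n : ℕ∞) :
    (∀ (K : Type u) [Field K] [IsAlgClosed K] (q : Spec (CommRingCat.of K) ⟶ T) (Z : Scheme.{u})
      (fst : Z ⟶ Y) (snd : Z ⟶ Spec (CommRingCat.of K)), IsPullback fst snd g q →
      (irreducibleComponents ↥Z).encard = n) ↔
    (∀ (K : Type u) [Field K] [IsAlgClosed K] (q : Spec (CommRingCat.of K) ⟶ T') (Z : Scheme.{u})
      (fst : Z ⟶ Y') (snd : Z ⟶ Spec (CommRingCat.of K)), IsPullback fst snd g' q →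
      (irreducibleComponents ↥Z).encard = n) := by
  constructor
  · intro H K _ _ q' Z fst snd hZ
    exact H K (q' ≫ h) Z (fst ≫ eY) snd (hZ.paste_horiz sq)
  · intro H' K _ _ q Z fst snd hZ
    -- a point of the fibre product `Spec K ×_T T'`
    haveI : Nonempty ↥(Spec (CommRingCat.of K)) := inferInstance
    obtain ⟨w⟩ : Nonempty ↥(pullback q h) := inferInstance
    let P := pullback q h
    let K'' := AlgebraicClosure (P.residueField w)
    let c : Spec (CommRingCat.of K'') ⟶ P :=
      Spec.map (CommRingCat.ofHom (algebraMap (P.residueField w) K'')) ≫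
        P.fromSpecResidueField w
    let a : Spec (CommRingCat.of K'') ⟶ Spec (CommRingCat.of K) := c ≫ pullback.fst q h
    let b : Spec (CommRingCat.of K'') ⟶ T' := c ≫ pullback.snd q h
    have hab : a ≫ q = b ≫ h := by
      simp only [a, b, Category.assoc, pullback.condition]
    -- pull `Z` back along `a`
    have hZ'' : IsPullback (pullback.fst snd a) (pullback.snd snd a) snd a :=
      IsPullback.of_hasPullback snd a
    have hcard : (irreducibleComponents ↥(pullback snd a)).encard =
        (irreducibleComponents ↥Z).encard :=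
      hIEXT a snd (pullback.fst snd a) (pullback.snd snd a) hZ''
    -- the big rectangle
    have hbig : IsPullback (pullback.fst snd a ≫ fst) (pullback.snd snd a) g (b ≫ h) := by
      rw [← hab]
      exact hZ''.paste_horiz hZ
    have hfin := IsPullback.of_right' hbig sq
    rw [← hcard]
    exact H' K'' b (pullback snd a) _ (pullback.snd snd a) hfin

end Groth.Agent.H24.IrrCountIFS
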