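import Mathlib
import Groth.Prelude

set_option autoImplicit false
universe u
open AlgebraicGeometry CategoryTheory Limits

namespace Groth.Agent.H24.IrrCountIGF

theorem irrCount_iff_nGeomIrredComp
    (hIEXT : ∀ {L K : Type u} [Field L] [IsSepClosed L] [Field K]
      (j : Spec (CommRingCat.of K) ⟶ Spec (CommRingCat.of L)) {X Z : Scheme.{u}}
      (p : X ⟶ Spec (CommRingCat.of L)) (fst : Z ⟶ X) (snd : Z ⟶ Spec (CommRingCat.of K)),
      IsPullback fst snd p j →
      (irreducibleComponents ↥Z).encard = (irreducibleComponents ↥X).encard)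
    {Y S : Scheme.{u}} (g : Y ⟶ S) (s : S) (n : ℕ∞) :
    (∀ (K : Type u) [Field K] [IsAlgClosed K]
      (q : Spec (CommRingCat.of K) ⟶ Spec (S.residueField s)) (Z : Scheme.{u})
      (fst : Z ⟶ g.fiber s) (snd : Z ⟶ Spec (CommRingCat.of K)),
      IsPullback fst snd (g.fiberToSpecResidueField s) q →
      (irreducibleComponents ↥Z).encard = n) ↔ MoreMor.nGeomIrredComp g s = n := by
  let κ := S.residueField s
  let κs := SeparableClosure κ
  let m : Spec (CommRingCat.of κs) ⟶ Spec κ :=
    Spec.map (CommRingCat.ofHom (algebraMap κ κs))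
  have hG : IsPullback (pullback.fst (g.fiberToSpecResidueField s) m)
      (pullback.snd (g.fiberToSpecResidueField s) m) (g.fiberToSpecResidueField s) m :=
    IsPullback.of_hasPullback _ _
  show _ ↔ (irreducibleComponents ↥(pullback (g.fiberToSpecResidueField s) m)).encard = n
  constructor
  · intro H
    let K := AlgebraicClosure κs
    let j : Spec (CommRingCat.of K) ⟶ Spec (CommRingCat.of κs) :=
      Spec.map (CommRingCat.ofHom (algebraMap κs K))
    let psnd := pullback.snd (g.fiberToSpecResidueField s) m
    have hZ : IsPullback (pullback.fst psnd j) (pullback.snd psnd j) psnd j :=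
      IsPullback.of_hasPullback _ _
    have hcard := hIEXT j psnd (pullback.fst psnd j) (pullback.snd psnd j) hZ
    rw [← hcard]
    exact H K (j ≫ m) (pullback psnd j) _ (pullback.snd psnd j) (hZ.paste_horiz hG)
  · intro hn K _ _ q Z fst snd hZ
    obtain ⟨φ, hφ⟩ := Spec.map_surjective q
    letI : Algebra κ K := φ.hom.toAlgebra
    let ψ : κs →ₐ[κ] K := IsAlgClosed.lift
    let j : Spec (CommRingCat.of K) ⟶ Spec (CommRingCat.of κs) :=
      Spec.map (CommRingCat.ofHom ψ.toRingHom)
    have hjm : j ≫ m = q := by
      rw [← hφ, ← Spec.map_comp]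
      congr 1
      ext x
      exact ψ.commutes x
    have hbig : IsPullback fst snd (g.fiberToSpecResidueField s) (j ≫ m) := by
      rw [hjm]; exact hZ
    have hfin := IsPullback.of_right' hbig hG
    rw [← hn]
    exact hIEXT j _ _ snd hfin

end Groth.Agent.H24.IrrCountIGF
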