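import Mathlib

/-!
# Irreducibility helper lemmas (helper24)
-/

set_option autoImplicit false

open CategoryTheory AlgebraicGeometry Limits TopologicalSpace

universe u

namespace Groth.Agent.H24

theorem irreducibleSpace_of_denseRange {X Y : Type*} [TopologicalSpace X] [TopologicalSpace Y]
    [IrreducibleSpace X] {f : X → Y} (hf : Continuous f) (hd : DenseRange f) :
    IrreducibleSpace Y := by
  rw [irreducibleSpace_def]
  have h1 : IsIrreducible (f '' Set.univ) :=
    (IrreducibleSpace.isIrreducible_univ X).image f hf.continuousOn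
  have h2 := h1.closure
  rw [Set.image_univ, hd.closure_range] at h2
  exact h2

theorem not_irreducibleSpace_of_opens {X : Type*} [TopologicalSpace X] (U V : Set X)
    (hU : IsOpen U) (hV : IsOpen V) (hUne : U.Nonempty) (hVne : V.Nonempty) (hUV : U ∩ V = ∅) :
    ¬ IrreducibleSpace X := by
  intro h
  have := nonempty_preirreducible_inter hU hV hUne hVne
  rw [hUV] at this
  exact Set.not_nonempty_empty this

theorem exists_disjoint_opens_of_not_irreducibleSpace {X : Type*} [TopologicalSpace X]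
    [Nonempty X] (h : ¬ IrreducibleSpace X) :
    ∃ U V : Set X, IsOpen U ∧ IsOpen V ∧ U.Nonempty ∧ V.Nonempty ∧ U ∩ V = ∅ := by
  by_contra hcon
  apply h
  refine { isPreirreducible_univ := ?_, toNonempty := inferInstance }
  intro u v hu hv hune hvne
  rw [Set.univ_inter] at hune hvne ⊢
  by_contra hne
  exact hcon ⟨u, v, hu, hv, hune, hvne, Set.not_nonempty_iff_eq_empty.mp hne⟩

theorem exists_disjoint_compact_opens_of_not_irreducibleSpace (X : Scheme.{u}) [Nonempty X]
    (h : ¬ IrreducibleSpace X) :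
    ∃ U V : X.Opens, IsCompact (U : Set X) ∧ IsCompact (V : Set X) ∧ (U : Set X).Nonempty ∧
      (V : Set X).Nonempty ∧ U ⊓ V = ⊥ := by
  obtain ⟨U, V, hU, hV, ⟨x, hx⟩, ⟨y, hy⟩, hUV⟩ := exists_disjoint_opens_of_not_irreducibleSpace h
  obtain ⟨_, ⟨U', hU' : IsAffineOpen U', rfl⟩, hxU', hU'U⟩ :=
    X.isBasis_affineOpens.exists_subset_of_mem_open hx hU
  obtain ⟨_, ⟨V', hV' : IsAffineOpen V', rfl⟩, hyV', hV'V⟩ :=
    X.isBasis_affineOpens.exists_subset_of_mem_open hy hV
  refine ⟨U', V', hU'.isCompact, hV'.isCompact, ⟨x, hxU'⟩, ⟨y, hyV'⟩, ?_⟩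
  ext z
  simp only [Opens.coe_inf, Set.mem_inter_iff, SetLike.mem_coe, Opens.coe_bot,
    Set.mem_empty_iff_false, iff_false, not_and]
  intro hzU hzV
  have : z ∈ U ∩ V := ⟨hU'U hzU, hV'V hzV⟩
  rw [hUV] at this
  exact this

end Groth.Agent.H24
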