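import Mathlib
import Groth.Agent.H24.FPColim

/-!
# A morphism `X ⟶ S` such that `Hom_S(-, X)` commutes with directed limits of affine schemes is
locally of finite presentation (EGA IV 8.14.2, c ⇒ a) (helper24)
-/

set_option autoImplicit false
universe u
open CategoryTheory CategoryTheory.Limits Opposite AlgebraicGeometry

namespace Groth.Agent.H24

attribute [local instance] IsCofiltered.isConnected in
theorem preservesColimit_coyoneda_of_scheme {X S : Scheme.{u}} (f : X ⟶ S) {U : S.Opens}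
    (hU : IsAffineOpen U) {V : X.Opens} (hV : IsAffineOpen V) (e : V ≤ f ⁻¹ᵁ U)
    (J : Type u) [Preorder J] [IsDirected J (· ≤ ·)] [Nonempty J]
    (hJ : ∀ (Z : Jᵒᵖ ⥤ Over (U : Scheme.{u})), (∀ j, IsAffine (Z.obj j).left) →
      PreservesColimit (Z ⋙ Over.map U.ι).op (yoneda.obj (Over.mk f)))
    (F : J ⥤ Under Γ(S, U)) :
    PreservesColimit F (coyoneda.obj (op (Under.mk (f.appLE U V e)))) := by
  constructor
  intro c hc
  set φ := f.appLE U V e with hφ
  have hφf : Spec.map φ ≫ hU.fromSpec = hV.fromSpec ≫ f :=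
    IsAffineOpen.SpecMap_appLE_fromSpec f hU hV e
  -- the diagram of spectra
  let R : J ⥤ CommRingCat.{u} := F ⋙ Under.forget _
  let c₀ : Cocone R := (Under.forget _).mapCocone c
  have hc₀ : IsColimit c₀ := isColimitOfPreserves (Under.forget _) hc
  let D : Jᵒᵖ ⥤ Scheme.{u} := R.op ⋙ Scheme.Spec
  let d : Cone D := Scheme.Spec.mapCone c₀.op
  have hd : IsLimit d := isLimitOfPreserves Scheme.Spec hc₀.op
  have hDmap : ∀ {a b : Jᵒᵖ} (t : a ⟶ b), D.map t = Spec.map (F.map t.unop).right := fun _ => rfl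
  have hdπ : ∀ j' : Jᵒᵖ, d.π.app j' = Spec.map (c.ι.app j'.unop).right := fun _ => rfl
  have hAffObj : ∀ j' : Jᵒᵖ, IsAffine (D.obj j') := fun j' =>
    inferInstanceAs (IsAffine (Spec (R.obj j'.unop)))
  have hAffD : ∀ {a b : Jᵒᵖ} (t : a ⟶ b), IsAffineHom (D.map t) := fun {a b} t =>
    isAffineHom_of_isAffine (D.map t)
  have hcptD : ∀ j', CompactSpace (D.obj j') := fun j' =>
    inferInstanceAs (CompactSpace (Spec (R.obj j'.unop)))
  -- structure maps
  have hw : ∀ {a b : J} (t : a ⟶ b), (F.obj a).hom ≫ (F.map t).right = (F.obj b).hom := fun t =>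
    Under.w (F.map t)
  have hwc : ∀ a : J, (F.obj a).hom ≫ (c.ι.app a).right = c.pt.hom := fun a => Under.w (c.ι.app a)
  let s : D ⟶ (Functor.const Jᵒᵖ).obj (U : Scheme.{u}) :=
    { app := fun j' => Spec.map (F.obj j'.unop).hom ≫ hU.isoSpec.inv
      naturality := fun a b t => by
        rw [hDmap]
        change Spec.map (F.map t.unop).right ≫ Spec.map (F.obj b.unop).hom ≫ hU.isoSpec.inv =
          (Spec.map (F.obj a.unop).hom ≫ hU.isoSpec.inv) ≫ 𝟙 _
        rw [Category.comp_id, ← Spec.map_comp_assoc, hw] }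
  let Z : Jᵒᵖ ⥤ Over (U : Scheme.{u}) := Over.lift D s
  have hZ : ∀ j, IsAffine (Z.obj j).left := fun j =>
    inferInstanceAs (IsAffine (Spec (R.obj j.unop)))
  have hpres := hJ Z hZ
  let s' : D ⟶ (Functor.const Jᵒᵖ).obj S :=
    { app := fun j' => s.app j' ≫ U.ι
      naturality := fun a b t => by
        have := s.naturality t
        simp only [Functor.const_obj_obj, Functor.const_obj_map, Category.comp_id] at this ⊢
        rw [← Category.assoc, this] }
  have hp : ∀ j', d.π.app j' ≫ s'.app j' = Spec.map c.pt.hom ≫ hU.fromSpec := by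
    intro j'
    rw [hdπ]
    change Spec.map (c.ι.app j'.unop).right ≫ (Spec.map (F.obj j'.unop).hom ≫ hU.isoSpec.inv) ≫
      U.ι = _
    rw [Category.assoc, IsAffineOpen.isoSpec_inv_ι, ← Spec.map_comp_assoc, hwc]
  let T : Cone (Z ⋙ Over.map U.ι) := Over.liftCone D s' d (Spec.map c.pt.hom ≫ hU.fromSpec) hp
  have hT : IsLimit T := Over.isLimitLiftCone D s' d _ hp hd
  obtain ⟨hcol⟩ := hpres.preserves (IsLimit.op hT)
  -- morphisms `Spec C ⟶ X` from ring maps
  refine ⟨Types.FilteredColimit.isColimitOf' _ _ ?_ ?_⟩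
  · -- surjectivity
    intro (x : Under.mk φ ⟶ c.pt)
    have hxw : φ ≫ x.right = c.pt.hom := Under.w x
    let g : Spec c.pt.right ⟶ X := Spec.map x.right ≫ hV.fromSpec
    have hg : g ≫ f = Spec.map c.pt.hom ≫ hU.fromSpec := by
      change (Spec.map x.right ≫ hV.fromSpec) ≫ f = _
      rw [Category.assoc, ← hφf, ← Spec.map_comp_assoc, hxw]
    let gx : T.pt ⟶ Over.mk f := Over.homMk g hg
    obtain ⟨j', y, hy⟩ := Types.jointly_surjective_of_isColimit hcol gx
    have hy' : T.π.app j'.unop ≫ y = gx := hy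
    obtain ⟨j, rfl⟩ : ∃ j : J, j' = op (op j) := ⟨j'.unop.unop, rfl⟩
    let yl : Spec (F.obj j).right ⟶ X := y.left
    have hyl : Spec.map (c.ι.app j).right ≫ yl = g := by
      have := congrArg (fun m => m.left) hy'
      exact this
    have hyw : yl ≫ f = Spec.map (F.obj j).hom ≫ hU.fromSpec := by
      have := Over.w y
      change yl ≫ f = (Spec.map (F.obj j).hom ≫ hU.isoSpec.inv) ≫ U.ι at this
      rw [this, Category.assoc, IsAffineOpen.isoSpec_inv_ι]
    let W : (D.obj (op j)).Opens := yl ⁻¹ᵁ V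
    have hW : d.π.app (op j) ⁻¹ᵁ W = ⊤ := by
      rw [eq_top_iff]
      intro z _
      change yl ((Spec.map (c.ι.app j).right) z) ∈ V
      have h1 : yl ((Spec.map (c.ι.app j).right) z) = hV.fromSpec ((Spec.map x.right) z) := by
        have := congrArg (fun m : Spec c.pt.right ⟶ X => m z) hyl
        exact this
      rw [h1]
      have h2 : hV.fromSpec ((Spec.map x.right) z) ∈ Set.range hV.fromSpec := ⟨_, rfl⟩
      rw [hV.range_fromSpec] at h2
      exact h2
    obtain ⟨k', t, ht⟩ := exists_map_eq_top D d hd W hW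
    obtain ⟨k, rfl⟩ : ∃ k : J, k' = op k := ⟨k'.unop, rfl⟩
    let gk : Spec (F.obj k).right ⟶ X := Spec.map (F.map t.unop).right ≫ yl
    have hgk : Set.range gk ⊆ Set.range hV.fromSpec := by
      rw [hV.range_fromSpec]
      rintro _ ⟨z, rfl⟩
      have hz : z ∈ D.map t ⁻¹ᵁ W := by rw [ht]; trivial
      exact hz
    let l : Spec (F.obj k).right ⟶ Spec Γ(X, V) := IsOpenImmersion.lift hV.fromSpec gk hgk
    have hl : l ≫ hV.fromSpec = gk := IsOpenImmersion.lift_fac _ _ _
    let ψ : Γ(X, V) ⟶ (F.obj k).right := Spec.preimage l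
    have hψ : Spec.map ψ = l := Spec.map_preimage l
    have hψw : φ ≫ ψ = (F.obj k).hom := by
      apply Spec.map_injective
      rw [← cancel_mono hU.fromSpec, Spec.map_comp, Category.assoc, hφf, hψ, ← Category.assoc, hl]
      change (Spec.map (F.map t.unop).right ≫ yl) ≫ f = _
      rw [Category.assoc, hyw, ← Spec.map_comp_assoc, hw]
    refine ⟨k, Under.homMk ψ hψw, ?_⟩
    apply Under.UnderMorphism.ext
    change x.right = ψ ≫ (c.ι.app k).right
    apply Spec.map_injective
    rw [← cancel_mono hV.fromSpec, Spec.map_comp, Category.assoc, hψ, hl]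
    change _ = Spec.map (c.ι.app k).right ≫ Spec.map (F.map t.unop).right ≫ yl
    rw [← Spec.map_comp_assoc]
    have hcw : (F.map t.unop).right ≫ (c.ι.app k).right = (c.ι.app j).right := by
      have := congrArg (fun m => m.right) (c.w t.unop)
      exact this
    rw [hcw, hyl]
  · -- injectivity
    intro j (y₁ : Under.mk φ ⟶ F.obj j) (y₂ : Under.mk φ ⟶ F.obj j) hy
    have hy' : y₁ ≫ c.ι.app j = y₂ ≫ c.ι.app j := hy
    have hyr : y₁.right ≫ (c.ι.app j).right = y₂.right ≫ (c.ι.app j).right := by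
      have := congrArg (fun m => m.right) hy'
      exact this
    have hmw : ∀ y : Under.mk φ ⟶ F.obj j, (Spec.map y.right ≫ hV.fromSpec) ≫ f =
        ((Z ⋙ Over.map U.ι).obj (op j)).hom := by
      intro y
      change _ = (Spec.map (F.obj j).hom ≫ hU.isoSpec.inv) ≫ U.ι
      have hyw' : φ ≫ y.right = (F.obj j).hom := Under.w y
      rw [Category.assoc, Category.assoc, IsAffineOpen.isoSpec_inv_ι, ← hφf, ← Spec.map_comp_assoc,
        hyw']
    let m : (Under.mk φ ⟶ F.obj j) → ((Z ⋙ Over.map U.ι).obj (op j) ⟶ Over.mk f) := fun y =>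
      Over.homMk (Spec.map y.right ≫ hV.fromSpec) (hmw y)
    have hm : T.π.app (op j) ≫ m y₁ = T.π.app (op j) ≫ m y₂ := by
      apply Over.OverMorphism.ext
      change Spec.map (c.ι.app j).right ≫ Spec.map y₁.right ≫ hV.fromSpec =
        Spec.map (c.ι.app j).right ≫ Spec.map y₂.right ≫ hV.fromSpec
      rw [← Spec.map_comp_assoc, ← Spec.map_comp_assoc, hyr]
    obtain ⟨k'', q, hq⟩ := (Types.FilteredColimit.isColimit_eq_iff' hcol
      (i := op (op j)) (m y₁) (m y₂)).mp hm
    have hq' : (Z ⋙ Over.map U.ι).map q.unop ≫ m y₁ = (Z ⋙ Over.map U.ι).map q.unop ≫ m y₂ := hq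
    have hql : D.map q.unop ≫ Spec.map y₁.right ≫ hV.fromSpec =
        D.map q.unop ≫ Spec.map y₂.right ≫ hV.fromSpec := by
      have := congrArg (fun m => m.left) hq'
      exact this
    refine ⟨k''.unop.unop, q.unop.unop, ?_⟩
    change y₁ ≫ F.map q.unop.unop = y₂ ≫ F.map q.unop.unop
    apply Under.UnderMorphism.ext
    change y₁.right ≫ (F.map q.unop.unop).right = y₂.right ≫ (F.map q.unop.unop).right
    apply Spec.map_injective
    rw [← cancel_mono hV.fromSpec, Spec.map_comp, Spec.map_comp, Category.assoc, Category.assoc]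
    rw [hDmap] at hql
    exact hql

/-- **EGA IV 8.14.2** (c ⇒ a). -/
theorem locallyOfFinitePresentation_of_preservesColimit {X S : Scheme.{u}} (f : X ⟶ S)
    (h : ∀ (U : S.Opens), IsAffineOpen U →
      ∀ (J : Type u) [Preorder J] [IsDirected J (· ≤ ·)] [Nonempty J]
        (Z : Jᵒᵖ ⥤ Over (U : Scheme.{u})),
      (∀ j, IsAffine (Z.obj j).left) →
      PreservesColimit (Z ⋙ Over.map U.ι).op (yoneda.obj (Over.mk f))) :
    LocallyOfFinitePresentation f := by
  rw [HasRingHomProperty.iff_appLE (P := @LocallyOfFinitePresentation)]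
  intro U V e
  apply finitePresentation_of_preservesColimit_commRingCat
  intro J _ _ _ F
  exact preservesColimit_coyoneda_of_scheme f U.2 V.2 e J (fun Z hZ => h U.1 U.2 J Z hZ) F

end Groth.Agent.H24
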