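import Mathlib
import Groth.Agent.H24.FPColim

/-!
# Finite presentation from surjectivity of `colim Hom(B, C_j) → Hom(B, colim C_j)` alone (helper24)
-/

set_option autoImplicit false
universe u
open CategoryTheory CategoryTheory.Limits Opposite AlgebraicGeometry

namespace Groth.Agent.H24

section Main

variable {A B : Type u} [CommRing A] [CommRing B] [Algebra A B]

/-- Step 1: finite type. -/
theorem finiteType_of_surj
    (h : ∀ (J : Type u) [Preorder J] [IsDirected J (· ≤ ·)] [Nonempty J]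
      (F : J ⥤ Under (CommRingCat.of A)) (c : Cocone F), IsColimit c →
      ∀ x : Under.mk (CommRingCat.ofHom (algebraMap A B)) ⟶ c.pt,
        ∃ (j : J) (y : Under.mk (CommRingCat.ofHom (algebraMap A B)) ⟶ F.obj j),
          y ≫ c.ι.app j = x) :
    Algebra.FiniteType A B := by
  let X : Under (CommRingCat.of A) := Under.mk (CommRingCat.ofHom (algebraMap A B))
  let s₁ : (Functor.const (FGSub A B)).obj (CommRingCat.of A) ⟶ fgSubFunctor A B :=
    { app := fun E => CommRingCat.ofHom (algebraMap A E.1)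
      naturality := fun E E' φ => by
        ext a
        rfl }
  let c' := Under.liftCocone (fgSubFunctor A B) s₁ (fgSubCocone A B)
    (CommRingCat.ofHom (algebraMap A B)) (fun E => by ext a; rfl)
  have hc' : IsColimit c' := Under.isColimitLiftCocone _ _ _ _ _ (fgSubCoconeIsColimit A B)
  obtain ⟨E, y, hy⟩ := h (FGSub A B) (Under.lift (fgSubFunctor A B) s₁) c' hc' (𝟙 X : X ⟶ c'.pt)
  have hy' : y ≫ c'.ι.app E = 𝟙 X := hy
  have hmem : ∀ b : B, b ∈ E.1 := by
    intro b
    have h1 := congrArg (fun m : X ⟶ X => m.right.hom b) hy'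
    let z : E.1 := y.right.hom b
    have h2 : (z : B) = b := h1
    rw [← h2]
    exact z.2
  have htop : E.1 = ⊤ := eq_top_iff.mpr (fun b _ => hmem b)
  exact ⟨htop ▸ E.2⟩

/-- **EGA IV 8.14.2.2** (necessity): if `Hom_A(B, -)` commutes with directed colimits then `B` is
of finite presentation over `A`. -/
theorem finitePresentation_of_surj
    (h : ∀ (J : Type u) [Preorder J] [IsDirected J (· ≤ ·)] [Nonempty J]
      (F : J ⥤ Under (CommRingCat.of A)) (c : Cocone F), IsColimit c →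
      ∀ x : Under.mk (CommRingCat.ofHom (algebraMap A B)) ⟶ c.pt,
        ∃ (j : J) (y : Under.mk (CommRingCat.ofHom (algebraMap A B)) ⟶ F.obj j),
          y ≫ c.ι.app j = x) :
    Algebra.FinitePresentation A B := by
  have hft := finiteType_of_surj h
  obtain ⟨n, f', hf'⟩ := Algebra.FiniteType.iff_quotient_mvPolynomial''.mp hft
  let R' := MvPolynomial (Fin n) A
  let 𝔞 : Ideal R' := RingHom.ker f'.toRingHom
  let e : (R' ⧸ 𝔞) ≃ₐ[A] B := Ideal.quotientKerAlgEquivOfSurjective hf'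
  let X : Under (CommRingCat.of A) := Under.mk (CommRingCat.ofHom (algebraMap A B))
  let s₂ : (Functor.const (FGIdeal R' 𝔞)).obj (CommRingCat.of A) ⟶ fgIdealFunctor R' 𝔞 :=
    { app := fun I => CommRingCat.ofHom (algebraMap A (R' ⧸ I.1))
      naturality := fun I I' φ => by
        ext a
        rfl }
  let c' := Under.liftCocone (fgIdealFunctor R' 𝔞) s₂ (fgIdealCocone R' 𝔞)
    (CommRingCat.ofHom (algebraMap A (R' ⧸ 𝔞))) (fun I => by ext a; rfl)
  have hc' : IsColimit c' := Under.isColimitLiftCocone _ _ _ _ _ (fgIdealCoconeIsColimit R' 𝔞)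
  let x : X ⟶ c'.pt := Under.homMk (CommRingCat.ofHom e.symm.toAlgHom.toRingHom) (by
    ext a
    exact e.symm.commutes a)
  obtain ⟨I, y, hy⟩ := h (FGIdeal R' 𝔞) (Under.lift (fgIdealFunctor R' 𝔞) s₂) c' hc' x
  have hy' : y ≫ c'.ι.app I = x := hy
  -- the section and the retraction
  let s : B →ₐ[A] (R' ⧸ I.1) :=
    { toRingHom := y.right.hom
      commutes' := fun a => by
        have := congrArg (fun m : (CommRingCat.of A) ⟶ CommRingCat.of (R' ⧸ I.1) => m.hom a)
          (Under.w y)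
        exact this }
  let ρ : (R' ⧸ I.1) →ₐ[A] B := e.toAlgHom.comp (Ideal.Quotient.factorₐ A I.2.2)
  have hρs : ∀ b, ρ (s b) = b := by
    intro b
    have h1 := congrArg (fun m : X ⟶ c'.pt => m.right.hom b) hy'
    have h2 : Ideal.Quotient.factor I.2.2 (y.right.hom b) = e.symm b := h1
    show e (Ideal.Quotient.factor I.2.2 (y.right.hom b)) = b
    rw [h2, AlgEquiv.apply_symm_apply]
  have : Algebra.FinitePresentation A (R' ⧸ I.1) := Algebra.FinitePresentation.quotient I.2.1
  exact finitePresentation_of_retract ρ s hρs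

end Main

/-- The statement for objects of `CommRingCat`. -/
theorem finitePresentation_of_surj_commRingCat {A B : CommRingCat.{u}} (f : A ⟶ B)
    (h : ∀ (J : Type u) [Preorder J] [IsDirected J (· ≤ ·)] [Nonempty J] (F : J ⥤ Under A)
      (c : Cocone F), IsColimit c → ∀ x : Under.mk f ⟶ c.pt,
        ∃ (j : J) (y : Under.mk f ⟶ F.obj j), y ≫ c.ι.app j = x) :
    f.hom.FinitePresentation := by
  letI : Algebra A B := f.hom.toAlgebra
  exact finitePresentation_of_surj (A := A) (B := B) h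

/-- **Scheme version** (surjectivity alone). -/
theorem locallyOfFinitePresentation_of_surj {X S : Scheme.{u}} (f : X ⟶ S)
    (h : ∀ (J : Type u) [Preorder J] [IsDirected J (· ≤ ·)] [Nonempty J] (D : Jᵒᵖ ⥤ Scheme.{u})
      (t : D ⟶ (Functor.const Jᵒᵖ).obj S) (c : Limits.Cone D) (_ : Limits.IsLimit c),
      (∀ j, IsAffine (D.obj j)) → ∀ (j₀ : Jᵒᵖ) (g : c.pt ⟶ X), g ≫ f = c.π.app j₀ ≫ t.app j₀ →
        ∃ (j : Jᵒᵖ) (gj : D.obj j ⟶ X), gj ≫ f = t.app j ∧ c.π.app j ≫ gj = g) :
    LocallyOfFinitePresentation f := by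
  rw [HasRingHomProperty.iff_appLE (P := @LocallyOfFinitePresentation)]
  intro U V e
  apply finitePresentation_of_surj_commRingCat
  intro J _ _ _ F c hc
  have hU : IsAffineOpen U.1 := U.2
  have hV : IsAffineOpen V.1 := V.2
  set φ := f.appLE U.1 V.1 e with hφ
  have hφf : Spec.map φ ≫ hU.fromSpec = hV.fromSpec ≫ f :=
    IsAffineOpen.SpecMap_appLE_fromSpec f hU hV e
  let R : J ⥤ CommRingCat.{u} := F ⋙ Under.forget _
  let c₀ : Cocone R := (Under.forget _).mapCocone c
  have hc₀ : IsColimit c₀ := isColimitOfPreserves (Under.forget _) hc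
  let D : Jᵒᵖ ⥤ Scheme.{u} := R.op ⋙ Scheme.Spec
  let d : Cone D := Scheme.Spec.mapCone c₀.op
  have hd : IsLimit d := isLimitOfPreserves Scheme.Spec hc₀.op
  have hDmap : ∀ {a b : Jᵒᵖ} (t : a ⟶ b), D.map t = Spec.map (F.map t.unop).right := fun _ => rfl
  have hdπ : ∀ j' : Jᵒᵖ, d.π.app j' = Spec.map (c.ι.app j'.unop).right := fun _ => rfl
  have hAffObj : ∀ j' : Jᵒᵖ, IsAffine (D.obj j') := fun j' =>
    inferInstanceAs (IsAffine (Spec (R.obj j'.unop)))
  have hAffD : ∀ {a b : Jᵒᵖ} (t : a ⟶ b), IsAffineHom (D.map t) := fun {a b} t =>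
    isAffineHom_of_isAffine (D.map t)
  have hcptD : ∀ j', CompactSpace (D.obj j') := fun j' =>
    inferInstanceAs (CompactSpace (Spec (R.obj j'.unop)))
  have hw : ∀ {a b : J} (t : a ⟶ b), (F.obj a).hom ≫ (F.map t).right = (F.obj b).hom := fun t =>
    Under.w (F.map t)
  have hwc : ∀ a : J, (F.obj a).hom ≫ (c.ι.app a).right = c.pt.hom := fun a => Under.w (c.ι.app a)
  let s' : D ⟶ (Functor.const Jᵒᵖ).obj S :=
    { app := fun j' => Spec.map (F.obj j'.unop).hom ≫ hU.fromSpec
      naturality := fun a b t => by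
        rw [hDmap]
        change Spec.map (F.map t.unop).right ≫ Spec.map (F.obj b.unop).hom ≫ hU.fromSpec =
          (Spec.map (F.obj a.unop).hom ≫ hU.fromSpec) ≫ 𝟙 _
        rw [Category.comp_id, ← Spec.map_comp_assoc, hw] }
  intro x
  have hxw : φ ≫ x.right = c.pt.hom := Under.w x
  let g : Spec c.pt.right ⟶ X := Spec.map x.right ≫ hV.fromSpec
  obtain ⟨j₀⟩ : Nonempty Jᵒᵖ := inferInstance
  have hg : g ≫ f = d.π.app j₀ ≫ s'.app j₀ := by
    change (Spec.map x.right ≫ hV.fromSpec) ≫ f =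
      Spec.map (c.ι.app j₀.unop).right ≫ Spec.map (F.obj j₀.unop).hom ≫ hU.fromSpec
    rw [Category.assoc, ← hφf, ← Spec.map_comp_assoc, hxw, ← Spec.map_comp_assoc, hwc]
  obtain ⟨j', y, hyw', hyl'⟩ := h J D s' d hd hAffObj j₀ g hg
  obtain ⟨j, rfl⟩ : ∃ j : J, j' = op j := ⟨j'.unop, rfl⟩
  let yl : Spec (F.obj j).right ⟶ X := y
  have hyl : Spec.map (c.ι.app j).right ≫ yl = g := hyl'
  have hyw : yl ≫ f = Spec.map (F.obj j).hom ≫ hU.fromSpec := hyw'
  let W : (D.obj (op j)).Opens := yl ⁻¹ᵁ V.1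
  have hW : d.π.app (op j) ⁻¹ᵁ W = ⊤ := by
    rw [eq_top_iff]
    intro z _
    change yl ((Spec.map (c.ι.app j).right) z) ∈ V.1
    have h1 : yl ((Spec.map (c.ι.app j).right) z) = hV.fromSpec ((Spec.map x.right) z) := by
      have := congrArg (fun m : Spec c.pt.right ⟶ X => m z) hyl
      exact this
    rw [h1]
    have h2 : hV.fromSpec ((Spec.map x.right) z) ∈ Set.range hV.fromSpec := ⟨_, rfl⟩
    rw [hV.range_fromSpec] at h2
    exact h2
  obtain ⟨k', t, ht⟩ := exists_map_eq_top D d hd W hW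
  obtain ⟨k, rfl⟩ : ∃ k : J, k' = op k := ⟨k'.unop, rfl⟩
  let gk : Spec (F.obj k).right ⟶ X := Spec.map (F.map t.unop).right ≫ yl
  have hgk : Set.range gk ⊆ Set.range hV.fromSpec := by
    rw [hV.range_fromSpec]
    rintro _ ⟨z, rfl⟩
    have hz : z ∈ D.map t ⁻¹ᵁ W := by rw [ht]; trivial
    exact hz
  let l : Spec (F.obj k).right ⟶ Spec Γ(X, V.1) := IsOpenImmersion.lift hV.fromSpec gk hgk
  have hl : l ≫ hV.fromSpec = gk := IsOpenImmersion.lift_fac _ _ _
  let ψ : Γ(X, V.1) ⟶ (F.obj k).right := Spec.preimage l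
  have hψ : Spec.map ψ = l := Spec.map_preimage l
  have hψw : φ ≫ ψ = (F.obj k).hom := by
    apply Spec.map_injective
    rw [← cancel_mono hU.fromSpec, Spec.map_comp, Category.assoc, hφf, hψ, ← Category.assoc, hl]
    change (Spec.map (F.map t.unop).right ≫ yl) ≫ f = _
    rw [Category.assoc, hyw, ← Spec.map_comp_assoc, hw]
  refine ⟨k, Under.homMk ψ hψw, ?_⟩
  apply Under.UnderMorphism.ext
  change ψ ≫ (c.ι.app k).right = x.right
  apply Spec.map_injective
  rw [← cancel_mono hV.fromSpec, Spec.map_comp, Category.assoc, hψ, hl]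
  change Spec.map (c.ι.app k).right ≫ Spec.map (F.map t.unop).right ≫ yl = _
  rw [← Spec.map_comp_assoc]
  have hcw : (F.map t.unop).right ≫ (c.ι.app k).right = (c.ι.app j).right := by
    have := congrArg (fun m => m.right) (c.w t.unop)
    exact this
  rw [hcw, hyl]

end Groth.Agent.H24
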