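import Mathlib

/-!
# Base change of a cofiltered limit over a fixed base

`D : I ⥤ Scheme` with compatible maps `s i : D i ⟶ S` and `f : X ⟶ S`.  Then
`X ×_S lim D = lim (X ×_S D i)`.  We also prove a spreading-out statement for closed subsets
avoiding a fibre.
-/

open CategoryTheory AlgebraicGeometry Limits

universe u

namespace Groth.Agent.H24

section

variable {I : Type u} [SmallCategory I] (D : I ⥤ Scheme.{u}) {S X : Scheme.{u}}
  (s : ∀ i, D.obj i ⟶ S) (hs : ∀ {j k : I} (a : j ⟶ k), D.map a ≫ s k = s j) (f : X ⟶ S)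

/-- transition maps of `bcDiagram` -/
noncomputable def bcMap {j k : I} (a : j ⟶ k) : pullback f (s j) ⟶ pullback f (s k) :=
  pullback.lift (pullback.fst f (s j)) (pullback.snd f (s j) ≫ D.map a)
    (by rw [Category.assoc, hs a, pullback.condition])

theorem bcMap_fst {j k : I} (a : j ⟶ k) :
    bcMap D s hs f a ≫ pullback.fst f (s k) = pullback.fst f (s j) :=
  pullback.lift_fst _ _ _

theorem bcMap_snd {j k : I} (a : j ⟶ k) :
    bcMap D s hs f a ≫ pullback.snd f (s k) = pullback.snd f (s j) ≫ D.map a :=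
  pullback.lift_snd _ _ _

/-- The diagram `j ↦ X ×_S D j`. -/
noncomputable def bcDiagram : I ⥤ Scheme.{u} where
  obj j := pullback f (s j)
  map a := bcMap D s hs f a
  map_id j := by
    apply pullback.hom_ext
    · rw [bcMap_fst, Category.id_comp]
    · rw [bcMap_snd, Category.id_comp, D.map_id, Category.comp_id]
  map_comp a b := by
    apply pullback.hom_ext
    · rw [bcMap_fst, Category.assoc, bcMap_fst, bcMap_fst]
    · rw [bcMap_snd, Category.assoc, bcMap_snd, ← Category.assoc, bcMap_snd, Category.assoc,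
        ← D.map_comp]

@[simp]
theorem bcDiagram_obj (j : I) : (bcDiagram D s hs f).obj j = pullback f (s j) := rfl

@[simp]
theorem bcDiagram_map {j k : I} (a : j ⟶ k) :
    (bcDiagram D s hs f).map a = bcMap D s hs f a := rfl

/-- The projection to the original diagram. -/
noncomputable def bcDiagramπ : bcDiagram D s hs f ⟶ D where
  app j := pullback.snd f (s j)
  naturality _ _ a := bcMap_snd D s hs f a

theorem isPullback_bcMap {j k : I} (a : j ⟶ k) :
    IsPullback (bcMap D s hs f a) (pullback.snd f (s j)) (pullback.snd f (s k)) (D.map a) := by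
  have big : IsPullback (bcMap D s hs f a ≫ pullback.fst f (s k)) (pullback.snd f (s j)) f
      (D.map a ≫ s k) := by
    rw [bcMap_fst, hs a]
    exact IsPullback.of_hasPullback _ _
  exact IsPullback.of_right big (bcMap_snd D s hs f a) (IsPullback.of_hasPullback _ _)

instance [∀ {a b : I} (g : a ⟶ b), IsAffineHom (D.map g)] {j k : I} (a : j ⟶ k) :
    IsAffineHom ((bcDiagram D s hs f).map a) :=
  MorphismProperty.of_isPullback (P := @IsAffineHom) (isPullback_bcMap D s hs f a).flip
    inferInstance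

variable (c : Cone D) (sInf : c.pt ⟶ S) (hsInf : ∀ i, c.π.app i ≫ s i = sInf)

/-- components of the cone over `bcDiagram` -/
noncomputable def bcLift {P : Scheme.{u}} (pX : P ⟶ X) (pT : P ⟶ c.pt)
    (w : pX ≫ f = pT ≫ sInf) (j : I) : P ⟶ pullback f (s j) :=
  pullback.lift pX (pT ≫ c.π.app j) (by rw [w, Category.assoc, hsInf j])

theorem bcLift_fst {P : Scheme.{u}} (pX : P ⟶ X) (pT : P ⟶ c.pt)
    (w : pX ≫ f = pT ≫ sInf) (j : I) :
    bcLift D s f c sInf hsInf pX pT w j ≫ pullback.fst f (s j) = pX :=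
  pullback.lift_fst _ _ _

theorem bcLift_snd {P : Scheme.{u}} (pX : P ⟶ X) (pT : P ⟶ c.pt)
    (w : pX ≫ f = pT ≫ sInf) (j : I) :
    bcLift D s f c sInf hsInf pX pT w j ≫ pullback.snd f (s j) = pT ≫ c.π.app j :=
  pullback.lift_snd _ _ _

theorem bcLift_bcMap {P : Scheme.{u}} (pX : P ⟶ X) (pT : P ⟶ c.pt)
    (w : pX ≫ f = pT ≫ sInf) {j k : I} (a : j ⟶ k) :
    bcLift D s f c sInf hsInf pX pT w j ≫ bcMap D s hs f a =
      bcLift D s f c sInf hsInf pX pT w k := by
  apply pullback.hom_ext
  · rw [Category.assoc, bcMap_fst, bcLift_fst, bcLift_fst]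
  · rw [Category.assoc, bcMap_snd, ← Category.assoc, bcLift_snd, bcLift_snd, Category.assoc, c.w]

/-- A cone over `bcDiagram` from a commutative square over the cone `c`. -/
noncomputable def bcCone {P : Scheme.{u}} (pX : P ⟶ X) (pT : P ⟶ c.pt)
    (w : pX ≫ f = pT ≫ sInf) : Cone (bcDiagram D s hs f) where
  pt := P
  π :=
    { app := fun j => bcLift D s f c sInf hsInf pX pT w j
      naturality := fun _ _ a =>
        (Category.id_comp _).trans (bcLift_bcMap D s hs f c sInf hsInf pX pT w a).symm }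

@[simp]
theorem bcCone_pt {P : Scheme.{u}} (pX : P ⟶ X) (pT : P ⟶ c.pt)
    (w : pX ≫ f = pT ≫ sInf) : (bcCone D s hs f c sInf hsInf pX pT w).pt = P := rfl

@[simp]
theorem bcCone_π_app {P : Scheme.{u}} (pX : P ⟶ X) (pT : P ⟶ c.pt)
    (w : pX ≫ f = pT ≫ sInf) (j : I) :
    (bcCone D s hs f c sInf hsInf pX pT w).π.app j = bcLift D s f c sInf hsInf pX pT w j := rfl

theorem isPullback_bcLift {P : Scheme.{u}} (pX : P ⟶ X) (pT : P ⟶ c.pt)
    (hP : IsPullback pX pT f sInf) (j : I) :
    IsPullback (bcLift D s f c sInf hsInf pX pT hP.w j) pT (pullback.snd f (s j))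
      (c.π.app j) := by
  have big : IsPullback (bcLift D s f c sInf hsInf pX pT hP.w j ≫ pullback.fst f (s j)) pT f
      (c.π.app j ≫ s j) := by
    rw [bcLift_fst, hsInf j]
    exact hP
  exact IsPullback.of_right big (bcLift_snd D s f c sInf hsInf pX pT hP.w j)
    (IsPullback.of_hasPullback _ _)

attribute [local instance] IsCofiltered.isConnected

/-- The base change of the limit is the limit of the base changes. -/
noncomputable def isLimitBcCone [IsCofiltered I] (hc : IsLimit c) {P : Scheme.{u}} (pX : P ⟶ X)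
    (pT : P ⟶ c.pt) (hP : IsPullback pX pT f sInf) :
    IsLimit (bcCone D s hs f c sInf hsInf pX pT hP.w) :=
  isLimitOfIsPullbackOfIsConnected (bcDiagramπ D s hs f) _ c
    { hom := pT
      w := fun j => (bcLift_snd D s f c sInf hsInf pX pT hP.w j).symm }
    (fun j => isPullback_bcLift D s f c sInf hsInf pX pT hP j)
    hc

include hs hsInf in
/-- **Spreading out closed subsets avoiding a fibre** (EGA IV 8.?).  Let `T = lim T_i` over `S`
with affine transition maps, `f : X ⟶ S` quasi-compact, `P = X ×_S T`, `t ∈ T` and `Z ⊆ P` closed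
not meeting the fibre over `t`.  Then for some `i` there is a closed `Z_i ⊆ X ×_S T_i` not meeting
the fibre over the image of `t` and such that the canonical map sends `Z` into `Z_i`. -/
theorem exists_closed_stage_avoiding_fibre [IsCofiltered I]
    [∀ {a b : I} (g : a ⟶ b), IsAffineHom (D.map g)] [QuasiCompact f]
    (hc : IsLimit c) {P : Scheme.{u}} (pX : P ⟶ X) (pT : P ⟶ c.pt)
    (hP : IsPullback pX pT f sInf) (t : c.pt) (Z : Set P) (hZ : IsClosed Z)
    (hZt : ∀ z ∈ Z, pT.base z ≠ t) :
    ∃ (i : I) (Zi : Set ↥(pullback f (s i))), IsClosed Zi ∧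
      (∀ z' ∈ Zi, (pullback.snd f (s i)).base z' ≠ (c.π.app i).base t) ∧
      ∀ (m : P ⟶ pullback f (s i)), m ≫ pullback.fst f (s i) = pX →
        m ≫ pullback.snd f (s i) = pT ≫ c.π.app i → ∀ z ∈ Z, m.base z ∈ Zi := by
  have : QuasiCompact pT := MorphismProperty.of_isPullback (P := @QuasiCompact) hP inferInstance
  have hK : IsCompact (pT.base ⁻¹' {t}) := pT.isCompact_preimage_singleton t
  have hKZ : pT.base ⁻¹' {t} ⊆ Zᶜ := by
    intro z hz hzZ
    exact hZt z hzZ hz
  obtain ⟨U, hUc, hUo, hKU, hUZ⟩ :=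
    PrespectralSpace.exists_isCompact_and_isOpen_between hK hZ.isOpen_compl hKZ
  obtain ⟨i, V, -, hVU⟩ := exists_preimage_eq (bcDiagram D s hs f)
    (bcCone D s hs f c sInf hsInf pX pT hP.w)
    (isLimitBcCone D s hs f c sInf hsInf hc pX pT hP) ⟨U, hUo⟩ hUc
  have hmemU : ∀ z : P, z ∈ U ↔ (bcLift D s f c sInf hsInf pX pT hP.w i).base z ∈ V := by
    intro z
    have h1 := congrArg (fun W : TopologicalSpace.Opens P => z ∈ W) hVU
    exact (iff_of_eq h1).symm
  let V' : (pullback f (s i)).Opens := V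
  refine ⟨i, (V' : Set ↥(pullback f (s i)))ᶜ, V'.2.isClosed_compl, ?_, ?_⟩
  · intro z' hz' hz't
    obtain ⟨z, hz1, hz2⟩ := Scheme.exists_preimage_of_isPullback
      (isPullback_bcLift D s f c sInf hsInf pX pT hP i) z' t hz't
    apply hz'
    rw [← hz1]
    exact (hmemU z).mp (hKU hz2)
  · intro m hm1 hm2 z hz hmz
    have hm : m = bcLift D s f c sInf hsInf pX pT hP.w i := by
      apply pullback.hom_ext
      · rw [hm1, bcLift_fst]
      · rw [hm2, bcLift_snd]
    rw [hm] at hmz
    exact hUZ ((hmemU z).mpr hmz) hz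

end

end Groth.Agent.H24
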