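import Mathlib
import Groth.Agent.H24.LimBaseChangeS
import Groth.Agent.H24.FGSubLimit
import Groth.Agent.H24.QuotFGLimit

/-!
# Spreading out a closed subset avoiding a fibre to a finitely presented base (EGA IV 8.?)
-/

open CategoryTheory AlgebraicGeometry Limits

universe u

namespace Groth.Agent.H24

/-- Stage I: pass from an `A`-algebra `B` to a finitely generated subalgebra. -/
theorem exists_fgSub_closed_avoiding_fibre {X S : Scheme.{u}} (f : X ⟶ S) [QuasiCompact f]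
    (A B : Type u) [CommRing A] [CommRing B] [Algebra A B]
    (σ : Spec (CommRingCat.of A) ⟶ S) {P : Scheme.{u}} (pX : P ⟶ X)
    (pT : P ⟶ Spec (CommRingCat.of B))
    (hP : IsPullback pX pT f (Spec.map (CommRingCat.ofHom (algebraMap A B)) ≫ σ))
    (t : Spec (CommRingCat.of B)) (Z : Set P) (hZ : IsClosed Z)
    (hZt : ∀ z ∈ Z, pT.base z ≠ t) :
    ∃ (E : FGSub A B)
      (Z₁ : Set ↥(pullback f (Spec.map (CommRingCat.ofHom (algebraMap A E.1)) ≫ σ))),
      IsClosed Z₁ ∧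
      (∀ z' ∈ Z₁, (pullback.snd f (Spec.map (CommRingCat.ofHom (algebraMap A E.1)) ≫ σ)).base z' ≠
        (Spec.map (CommRingCat.ofHom (algebraMap E.1 B))).base t) ∧
      ∀ (m : P ⟶ pullback f (Spec.map (CommRingCat.ofHom (algebraMap A E.1)) ≫ σ)),
        m ≫ pullback.fst f _ = pX →
        m ≫ pullback.snd f _ = pT ≫ Spec.map (CommRingCat.ofHom (algebraMap E.1 B)) →
        ∀ z ∈ Z, m.base z ∈ Z₁ := by
  let s₁ : ∀ E : (FGSub A B)ᵒᵖ, (fgSpecDiagram A B).obj E ⟶ S := fun E =>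
    Spec.map (CommRingCat.ofHom (algebraMap A E.unop.1)) ≫ σ
  have hs₁ : ∀ {j k : (FGSub A B)ᵒᵖ} (a : j ⟶ k), (fgSpecDiagram A B).map a ≫ s₁ k = s₁ j := by
    intro j k a
    have h := fgSpecDiagramβ_map A B a
    show (fgSpecDiagram A B).map a ≫ (fgSpecDiagramβ A B).app k ≫ σ =
      (fgSpecDiagramβ A B).app j ≫ σ
    rw [← Category.assoc, h]
  have hsInf : ∀ E : (FGSub A B)ᵒᵖ, (fgSpecCone A B).π.app E ≫ s₁ E =
      Spec.map (CommRingCat.ofHom (algebraMap A B)) ≫ σ := by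
    intro E
    have h := fgSpecCone_π_β A B E
    show (fgSpecCone A B).π.app E ≫ (fgSpecDiagramβ A B).app E ≫ σ = _
    rw [← Category.assoc, h]
    rfl
  obtain ⟨E, Z₁, hZ₁, hav, hm⟩ := exists_closed_stage_avoiding_fibre (fgSpecDiagram A B) s₁ @hs₁ f
    (fgSpecCone A B) (Spec.map (CommRingCat.ofHom (algebraMap A B)) ≫ σ) hsInf
    (fgSpecConeIsLimit A B) pX pT hP t Z hZ hZt
  exact ⟨E.unop, Z₁, hZ₁, hav, hm⟩

/-- Stage II: pass from a quotient `R ⧸ 𝔞` to a quotient by a finitely generated ideal. -/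
theorem exists_fgIdeal_closed_avoiding_fibre {X S : Scheme.{u}} (f : X ⟶ S) [QuasiCompact f]
    (R : Type u) [CommRing R] (𝔞 : Ideal R)
    (σ : Spec (CommRingCat.of R) ⟶ S) {P : Scheme.{u}} (pX : P ⟶ X)
    (pT : P ⟶ Spec (CommRingCat.of (R ⧸ 𝔞)))
    (hP : IsPullback pX pT f (Spec.map (CommRingCat.ofHom (Ideal.Quotient.mk 𝔞)) ≫ σ))
    (t : Spec (CommRingCat.of (R ⧸ 𝔞))) (Z : Set P) (hZ : IsClosed Z)
    (hZt : ∀ z ∈ Z, pT.base z ≠ t) :
    ∃ (J : FGIdeal R 𝔞)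
      (Z₂ : Set ↥(pullback f (Spec.map (CommRingCat.ofHom (Ideal.Quotient.mk J.1)) ≫ σ))),
      IsClosed Z₂ ∧
      (∀ z' ∈ Z₂, (pullback.snd f (Spec.map (CommRingCat.ofHom (Ideal.Quotient.mk J.1)) ≫ σ)).base z' ≠
        (Spec.map (CommRingCat.ofHom (Ideal.Quotient.factor J.2.2))).base t) ∧
      ∀ (m : P ⟶ pullback f (Spec.map (CommRingCat.ofHom (Ideal.Quotient.mk J.1)) ≫ σ)),
        m ≫ pullback.fst f _ = pX →
        m ≫ pullback.snd f _ = pT ≫ Spec.map (CommRingCat.ofHom (Ideal.Quotient.factor J.2.2)) →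
        ∀ z ∈ Z, m.base z ∈ Z₂ := by
  let s₂ : ∀ J : (FGIdeal R 𝔞)ᵒᵖ, (fgIdealSpecDiagram R 𝔞).obj J ⟶ S := fun J =>
    Spec.map (CommRingCat.ofHom (Ideal.Quotient.mk J.unop.1)) ≫ σ
  have hs₂ : ∀ {j k : (FGIdeal R 𝔞)ᵒᵖ} (a : j ⟶ k),
      (fgIdealSpecDiagram R 𝔞).map a ≫ s₂ k = s₂ j := by
    intro j k a
    have h : (fgIdealSpecDiagram R 𝔞).map a ≫ (fgIdealSpecDiagramβ R 𝔞).app k =
        (fgIdealSpecDiagramβ R 𝔞).app j := by
      have := (fgIdealSpecDiagramβ R 𝔞).naturality a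
      exact this.trans (Category.comp_id _)
    show (fgIdealSpecDiagram R 𝔞).map a ≫ (fgIdealSpecDiagramβ R 𝔞).app k ≫ σ =
      (fgIdealSpecDiagramβ R 𝔞).app j ≫ σ
    rw [← Category.assoc, h]
  have hsInf : ∀ J : (FGIdeal R 𝔞)ᵒᵖ, (fgIdealSpecCone R 𝔞).π.app J ≫ s₂ J =
      Spec.map (CommRingCat.ofHom (Ideal.Quotient.mk 𝔞)) ≫ σ := by
    intro J
    have h := fgIdealSpecCone_π_β R 𝔞 J
    show (fgIdealSpecCone R 𝔞).π.app J ≫ (fgIdealSpecDiagramβ R 𝔞).app J ≫ σ = _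
    rw [← Category.assoc, h]
    rfl
  obtain ⟨J, Z₂, hZ₂, hav, hm⟩ := exists_closed_stage_avoiding_fibre (fgIdealSpecDiagram R 𝔞)
    s₂ @hs₂ f (fgIdealSpecCone R 𝔞) (Spec.map (CommRingCat.ofHom (Ideal.Quotient.mk 𝔞)) ≫ σ) hsInf
    (fgIdealSpecConeIsLimit R 𝔞) pX pT hP t Z hZ hZt
  exact ⟨J.unop, Z₂, hZ₂, hav, hm⟩

/-- Abstract form: combine both stages. -/
theorem exists_fp_closed_avoiding_fibre {X S : Scheme.{u}} (f : X ⟶ S) [QuasiCompact f]
    (A B : Type u) [CommRing A] [CommRing B] [Algebra A B]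
    (σ : Spec (CommRingCat.of A) ⟶ S) [LocallyOfFinitePresentation σ] {P : Scheme.{u}}
    (pX : P ⟶ X) (pT : P ⟶ Spec (CommRingCat.of B))
    (hP : IsPullback pX pT f (Spec.map (CommRingCat.ofHom (algebraMap A B)) ≫ σ))
    (t : Spec (CommRingCat.of B)) (Z : Set P) (hZ : IsClosed Z)
    (hZt : ∀ z ∈ Z, pT.base z ≠ t) :
    ∃ (T' : Scheme.{u}) (b : T' ⟶ S) (a' : Spec (CommRingCat.of B) ⟶ T'),
      IsAffine T' ∧ LocallyOfFinitePresentation b ∧
      a' ≫ b = Spec.map (CommRingCat.ofHom (algebraMap A B)) ≫ σ ∧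
      ∃ Z' : Set ↥(pullback f b), IsClosed Z' ∧
        (∀ z' ∈ Z', (pullback.snd f b).base z' ≠ a'.base t) ∧
        ∀ (m : P ⟶ pullback f b), m ≫ pullback.fst f b = pX →
          m ≫ pullback.snd f b = pT ≫ a' → ∀ z ∈ Z, m.base z ∈ Z' := by
  -- Stage I
  obtain ⟨E, Z₁, hZ₁, hav₁, hm₁⟩ :=
    exists_fgSub_closed_avoiding_fibre f A B σ pX pT hP t Z hZ hZt
  haveI : Algebra.FiniteType A E.1 := (Subalgebra.fg_iff_finiteType _).mp E.2
  obtain ⟨n, π, hπ⟩ := Algebra.FiniteType.iff_quotient_mvPolynomial''.mp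
    (inferInstance : Algebra.FiniteType A E.1)
  let R := MvPolynomial (Fin n) A
  let πr : R →+* E.1 := π.toRingHom
  have hπr : Function.Surjective πr := hπ
  let 𝔞 : Ideal R := RingHom.ker πr
  let ψ : R ⧸ 𝔞 ≃+* E.1 := RingHom.quotientKerEquivOfSurjective hπr
  let σ' : Spec (CommRingCat.of R) ⟶ S := Spec.map (CommRingCat.ofHom (algebraMap A R)) ≫ σ
  let sE : Spec (CommRingCat.of E.1) ⟶ S := Spec.map (CommRingCat.ofHom (algebraMap A E.1)) ≫ σ
  let eψ : Spec (CommRingCat.of E.1) ⟶ Spec (CommRingCat.of (R ⧸ 𝔞)) :=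
    Spec.map (CommRingCat.ofHom ψ.toRingHom)
  let eψ' : Spec (CommRingCat.of (R ⧸ 𝔞)) ⟶ Spec (CommRingCat.of E.1) :=
    Spec.map (CommRingCat.ofHom ψ.symm.toRingHom)
  have heψ : eψ ≫ eψ' = 𝟙 _ := by
    simp only [eψ, eψ']
    rw [← Spec.map_comp, ← Spec.map_id]
    congr 1
    apply CommRingCat.hom_ext
    apply RingHom.ext
    intro x
    exact ψ.apply_symm_apply x
  have hkey : eψ ≫ Spec.map (CommRingCat.ofHom (Ideal.Quotient.mk 𝔞)) ≫ σ' = sE := by
    simp only [eψ, σ', sE]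
    rw [← Category.assoc, ← Spec.map_comp, ← Category.assoc, ← Spec.map_comp]
    congr 2
    apply CommRingCat.hom_ext
    apply RingHom.ext
    intro a
    show ψ (Ideal.Quotient.mk 𝔞 (algebraMap A R a)) = algebraMap A E.1 a
    rw [RingHom.quotientKerEquivOfSurjective_apply_mk]
    exact π.commutes a
  have hEB : Spec.map (CommRingCat.ofHom (algebraMap E.1 B)) ≫ sE =
      Spec.map (CommRingCat.ofHom (algebraMap A B)) ≫ σ := by
    simp only [sE]
    rw [← Category.assoc, ← Spec.map_comp]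
    rfl
  -- the second pullback square
  have hP₂ : IsPullback (pullback.fst f sE) (pullback.snd f sE ≫ eψ) f
      (Spec.map (CommRingCat.ofHom (Ideal.Quotient.mk 𝔞)) ≫ σ') := by
    have h1 : IsPullback (pullback.fst f sE) (pullback.snd f sE) f sE :=
      IsPullback.of_hasPullback f sE
    have h2 : IsPullback sE eψ (𝟙 S)
        (Spec.map (CommRingCat.ofHom (Ideal.Quotient.mk 𝔞)) ≫ σ') := by
      haveI : IsIso eψ := ⟨eψ', heψ, by
        simp only [eψ, eψ']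
        rw [← Spec.map_comp, ← Spec.map_id]
        congr 1
        apply CommRingCat.hom_ext
        apply RingHom.ext
        intro x
        exact ψ.symm_apply_apply x⟩
      exact IsPullback.of_vert_isIso ⟨by rw [Category.comp_id, hkey]⟩
    have h3 := h1.paste_vert h2
    rwa [Category.comp_id] at h3
  let t₁ : Spec (CommRingCat.of E.1) := (Spec.map (CommRingCat.ofHom (algebraMap E.1 B))).base t
  let t₂ : Spec (CommRingCat.of (R ⧸ 𝔞)) := eψ.base t₁
  have hZ₁t : ∀ z ∈ Z₁, (pullback.snd f sE ≫ eψ).base z ≠ t₂ := by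
    intro z hz h
    apply hav₁ z hz
    have h' := congrArg eψ'.base h
    have e1 : eψ'.base ((pullback.snd f sE ≫ eψ).base z) = (pullback.snd f sE).base z := by
      show ((pullback.snd f sE ≫ eψ) ≫ eψ').base z = _
      rw [Category.assoc, heψ, Category.comp_id]
    have e2 : eψ'.base t₂ = t₁ := by
      show (eψ ≫ eψ').base t₁ = t₁
      rw [heψ]
      rfl
    rw [e1, e2] at h'
    exact h'
  -- Stage II
  obtain ⟨J, Z₂, hZ₂, hav₂, hm₂⟩ :=
    exists_fgIdeal_closed_avoiding_fibre f R 𝔞 σ' (pullback.fst f sE) (pullback.snd f sE ≫ eψ)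
      hP₂ t₂ Z₁ hZ₁ hZ₁t
  let b : Spec (CommRingCat.of (R ⧸ J.1)) ⟶ S :=
    Spec.map (CommRingCat.ofHom (Ideal.Quotient.mk J.1)) ≫ σ'
  let fac : Spec (CommRingCat.of (R ⧸ 𝔞)) ⟶ Spec (CommRingCat.of (R ⧸ J.1)) :=
    Spec.map (CommRingCat.ofHom (Ideal.Quotient.factor J.2.2))
  have hfac : fac ≫ b = Spec.map (CommRingCat.ofHom (Ideal.Quotient.mk 𝔞)) ≫ σ' := by
    simp only [fac, b]
    rw [← Category.assoc, ← Spec.map_comp]
    rfl
  let a' : Spec (CommRingCat.of B) ⟶ Spec (CommRingCat.of (R ⧸ J.1)) :=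
    Spec.map (CommRingCat.ofHom (algebraMap E.1 B)) ≫ eψ ≫ fac
  have ha'b : a' ≫ b = Spec.map (CommRingCat.ofHom (algebraMap A B)) ≫ σ := by
    simp only [a']
    rw [Category.assoc, Category.assoc, hfac, hkey, hEB]
  have hlfpb : LocallyOfFinitePresentation b := by
    haveI h1 : LocallyOfFinitePresentation
        (Spec.map (CommRingCat.ofHom (Ideal.Quotient.mk J.1))) := by
      rw [HasRingHomProperty.Spec_iff (P := @LocallyOfFinitePresentation)]
      show (Ideal.Quotient.mk J.1).FinitePresentation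
      apply RingHom.FinitePresentation.of_surjective _ Ideal.Quotient.mk_surjective
      rw [Ideal.mk_ker]
      exact J.2.1
    haveI h2 : LocallyOfFinitePresentation
        (Spec.map (CommRingCat.ofHom (algebraMap A R))) := by
      rw [HasRingHomProperty.Spec_iff (P := @LocallyOfFinitePresentation)]
      show (algebraMap A R).FinitePresentation
      rw [RingHom.finitePresentation_algebraMap]
      exact (inferInstance : Algebra.FinitePresentation A (MvPolynomial (Fin n) A))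
    simp only [b, σ']
    infer_instance
  refine ⟨Spec (CommRingCat.of (R ⧸ J.1)), b, a', inferInstance, hlfpb, ha'b, Z₂, hZ₂, ?_, ?_⟩
  · intro z' hz'
    exact hav₂ z' hz'
  · intro m hmf hms z hz
    -- factor m through the first stage
    let m₁ : P ⟶ pullback f sE :=
      pullback.lift pX (pT ≫ Spec.map (CommRingCat.ofHom (algebraMap E.1 B)))
        (by rw [Category.assoc, hEB, hP.w])
    let m₂ : pullback f sE ⟶ pullback f b :=
      pullback.lift (pullback.fst f sE) (pullback.snd f sE ≫ eψ ≫ fac)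
        (by rw [Category.assoc, Category.assoc, hfac, hkey, pullback.condition])
    have hm : m = m₁ ≫ m₂ := by
      apply pullback.hom_ext
      · rw [hmf, Category.assoc, pullback.lift_fst, pullback.lift_fst]
      · rw [hms, Category.assoc, pullback.lift_snd, ← Category.assoc m₁, pullback.lift_snd]
        simp only [a', Category.assoc]
    have hz₁ : m₁.base z ∈ Z₁ :=
      hm₁ m₁ (pullback.lift_fst _ _ _) (pullback.lift_snd _ _ _) z hz
    have hz₂ : m₂.base (m₁.base z) ∈ Z₂ :=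
      hm₂ m₂ (pullback.lift_fst _ _ _)
        (by rw [pullback.lift_snd, Category.assoc]) (m₁.base z) hz₁
    rw [hm]
    exact hz₂

/-- EGA IV 8.? : spreading out a closed subset avoiding a fibre to a finitely presented base. -/
theorem exists_lfp_nhd_closed_avoiding_fibre {X S T : Scheme.{u}} (f : X ⟶ S) [QuasiCompact f]
    (g : T ⟶ S) (t : T)
    (Z : Set ↥(pullback f g)) (hZ : IsClosed Z)
    (hZt : ∀ z ∈ Z, (pullback.snd f g).base z ≠ t) :
    ∃ (V : T.Opens) (ht : t ∈ V) (T' : Scheme.{u}) (b : T' ⟶ S) (a : (V : Scheme.{u}) ⟶ T')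
      (n : pullback f (V.ι ≫ g) ⟶ pullback f g) (m : pullback f (V.ι ≫ g) ⟶ pullback f b)
      (Z' : Set ↥(pullback f b)),
      IsAffineOpen V ∧ IsAffine T' ∧ LocallyOfFinitePresentation b ∧ a ≫ b = V.ι ≫ g ∧
      n ≫ pullback.fst f g = pullback.fst f (V.ι ≫ g) ∧
      n ≫ pullback.snd f g = pullback.snd f (V.ι ≫ g) ≫ V.ι ∧
      m ≫ pullback.fst f b = pullback.fst f (V.ι ≫ g) ∧
      m ≫ pullback.snd f b = pullback.snd f (V.ι ≫ g) ≫ a ∧
      IsClosed Z' ∧ (∀ z' ∈ Z', (pullback.snd f b).base z' ≠ a.base ⟨t, ht⟩) ∧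
      ∀ z : ↥(pullback f (V.ι ≫ g)), n.base z ∈ Z → m.base z ∈ Z' := by
  obtain ⟨S₀, hS₀', hgS₀⟩ : ∃ S₀ : S.Opens, IsAffineOpen S₀ ∧ g.base t ∈ S₀ := by
    obtain ⟨_, ⟨S₀, hS₀, rfl⟩, hgS₀, -⟩ := S.isBasis_affineOpens.exists_subset_of_mem_open
      (Set.mem_univ (g.base t)) isOpen_univ
    exact ⟨S₀, hS₀, hgS₀⟩
  obtain ⟨V, hV', htV, e⟩ : ∃ V : T.Opens, IsAffineOpen V ∧ t ∈ V ∧ V ≤ g ⁻¹ᵁ S₀ := by
    obtain ⟨_, ⟨V, hV, rfl⟩, htV, hVS₀⟩ := T.isBasis_affineOpens.exists_subset_of_mem_open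
      (show t ∈ ((g ⁻¹ᵁ S₀ : T.Opens) : Set T) from hgS₀) (g ⁻¹ᵁ S₀).2
    exact ⟨V, hV, htV, hVS₀⟩
  let φ : Γ(S, S₀) ⟶ Γ(T, V) := g.appLE S₀ V e
  letI : Algebra Γ(S, S₀) Γ(T, V) := φ.hom.toAlgebra
  have hφ : Spec.map φ ≫ hS₀'.fromSpec = hV'.fromSpec ≫ g :=
    IsAffineOpen.SpecMap_appLE_fromSpec g hS₀' hV' e
  let σ : Spec (CommRingCat.of Γ(S, S₀)) ⟶ S := hS₀'.fromSpec
  haveI : LocallyOfFinitePresentation σ := by
    haveI : IsOpenImmersion σ := hS₀'.isOpenImmersion_fromSpec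
    infer_instance
  let sB : Spec (CommRingCat.of Γ(T, V)) ⟶ S :=
    Spec.map (CommRingCat.ofHom (algebraMap Γ(S, S₀) Γ(T, V))) ≫ σ
  let iso : (V : Scheme.{u}) ⟶ Spec (CommRingCat.of Γ(T, V)) := hV'.isoSpec.hom
  let iso' : Spec (CommRingCat.of Γ(T, V)) ⟶ (V : Scheme.{u}) := hV'.isoSpec.inv
  have hiso : iso ≫ iso' = 𝟙 _ := hV'.isoSpec.hom_inv_id
  have hisoB : iso ≫ sB = V.ι ≫ g := by
    have h1 : sB = hV'.fromSpec ≫ g := hφ
    rw [h1, ← Category.assoc]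
    congr 1
    exact hV'.isoSpec_hom_fromSpec
  let n : pullback f (V.ι ≫ g) ⟶ pullback f g :=
    pullback.lift (pullback.fst f (V.ι ≫ g)) (pullback.snd f (V.ι ≫ g) ≫ V.ι)
      (by rw [Category.assoc, pullback.condition])
  have hP : IsPullback (pullback.fst f (V.ι ≫ g)) (pullback.snd f (V.ι ≫ g) ≫ iso) f sB := by
    have h1 : IsPullback (pullback.fst f (V.ι ≫ g)) (pullback.snd f (V.ι ≫ g)) f (V.ι ≫ g) :=
      IsPullback.of_hasPullback f (V.ι ≫ g)
    have h2 : IsPullback (V.ι ≫ g) iso (𝟙 S) sB := by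
      haveI : IsIso iso := inferInstanceAs (IsIso hV'.isoSpec.hom)
      exact IsPullback.of_vert_isIso ⟨by rw [Category.comp_id, hisoB]⟩
    have h3 := h1.paste_vert h2
    rwa [Category.comp_id] at h3
  let tB : Spec (CommRingCat.of Γ(T, V)) := iso.base ⟨t, htV⟩
  have hZV : IsClosed (n.base ⁻¹' Z) := hZ.preimage n.continuous
  have hZVt : ∀ z ∈ n.base ⁻¹' Z, (pullback.snd f (V.ι ≫ g) ≫ iso).base z ≠ tB := by
    intro z hz h
    apply hZt (n.base z) hz
    have h' := congrArg iso'.base h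
    have e1 : iso'.base ((pullback.snd f (V.ι ≫ g) ≫ iso).base z) =
        (pullback.snd f (V.ι ≫ g)).base z := by
      show ((pullback.snd f (V.ι ≫ g) ≫ iso) ≫ iso').base z = _
      rw [Category.assoc, hiso, Category.comp_id]
    have e2 : iso'.base tB = ⟨t, htV⟩ := by
      show (iso ≫ iso').base ⟨t, htV⟩ = _
      rw [hiso]
      rfl
    rw [e1, e2] at h'
    show (n ≫ pullback.snd f g).base z = t
    rw [pullback.lift_snd]
    show V.ι.base ((pullback.snd f (V.ι ≫ g)).base z) = t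
    rw [h']
    rfl
  obtain ⟨T', b, a', hT', hb, ha'b, Z', hZ', hav, hm⟩ :=
    exists_fp_closed_avoiding_fibre f Γ(S, S₀) Γ(T, V) σ (pullback.fst f (V.ι ≫ g))
      (pullback.snd f (V.ι ≫ g) ≫ iso) hP tB (n.base ⁻¹' Z) hZV hZVt
  have hab : (iso ≫ a') ≫ b = V.ι ≫ g := by
    rw [Category.assoc, ha'b, hisoB]
  let m : pullback f (V.ι ≫ g) ⟶ pullback f b :=
    pullback.lift (pullback.fst f (V.ι ≫ g)) (pullback.snd f (V.ι ≫ g) ≫ iso ≫ a')
      (by rw [Category.assoc, hab, pullback.condition])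
  refine ⟨V, htV, T', b, iso ≫ a', n, m, Z', hV', hT', hb, hab, pullback.lift_fst _ _ _,
    pullback.lift_snd _ _ _, pullback.lift_fst _ _ _, pullback.lift_snd _ _ _, hZ', ?_, ?_⟩
  · intro z' hz'
    exact hav z' hz'
  · intro z hz
    exact hm m (pullback.lift_fst _ _ _)
      (by rw [pullback.lift_snd, Category.assoc]) z hz

end Groth.Agent.H24
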