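import Mathlib
import Groth.Agent.H24.IrredComp

/-!
# Integral limits of finite-type schemes with finite transition maps (helper24)

If `X = lim X_i` with finite transition maps, `X_i → S` locally of finite type and `X → S`
integral, then `X_i → S` is finite for `i` large.
-/

set_option autoImplicit false

open CategoryTheory AlgebraicGeometry Limits TopologicalSpace Topology

universe u

namespace Groth.Agent.H24

section algebra

/-- If `A` is generated over `R` by `s`, `ψ : A → B` is finite and the images of `s` in `B` are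
integral over `R`, then `B` is finite over `R`. -/
theorem finite_comp_of_isIntegralElem_generators {R A B : Type*} [CommRing R] [CommRing A]
    [CommRing B] (φ : R →+* A) (ψ : A →+* B) (hφ : φ.FiniteType) (hψ : ψ.Finite) (s : Set A)
    (hs : @Algebra.adjoin R A _ _ φ.toAlgebra s = ⊤)
    (hint : ∀ x ∈ s, (ψ.comp φ).IsIntegralElem (ψ x)) : (ψ.comp φ).Finite := by
  -- every element of the image of `A` is integral over `R`
  have h1 : ∀ a : A, (ψ.comp φ).IsIntegralElem (ψ a) := by
    intro a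
    let _ := φ.toAlgebra
    have ha : a ∈ Algebra.adjoin R s := by rw [hs]; trivial
    induction ha using Algebra.adjoin_induction with
    | mem x hx => exact hint x hx
    | algebraMap r => exact (ψ.comp φ).isIntegralElem_map
    | add x y _ _ hx hy => rw [map_add]; exact RingHom.IsIntegralElem.add _ hx hy
    | mul x y _ _ hx hy => rw [map_mul]; exact RingHom.IsIntegralElem.mul _ hx hy
  -- factor through the range
  have hρ : (ψ.rangeRestrict.comp φ).IsIntegral := by
    rintro ⟨y, a, rfl⟩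
    obtain ⟨p, hp, hpa⟩ := h1 a
    refine ⟨p, hp, ?_⟩
    apply Subtype.val_injective
    have h2 := Polynomial.hom_eval₂ p (ψ.rangeRestrict.comp φ) ψ.range.subtype ⟨ψ a, a, rfl⟩
    exact h2.trans hpa
  have hι : ψ.range.subtype.Finite :=
    RingHom.Finite.of_comp_finite (f := ψ.rangeRestrict) (g := ψ.range.subtype) hψ
  have hint' : (ψ.comp φ).IsIntegral :=
    RingHom.IsIntegral.trans (ψ.rangeRestrict.comp φ) ψ.range.subtype hρ hι.to_isIntegral
  exact hint'.to_finite (hψ.finiteType.comp hφ)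

end algebra

set_option backward.isDefEq.respectTransparency false in
/-- Integrality can be checked on an affine open cover of the target (for affine morphisms). -/
theorem isIntegralHom_of_cover {X Y : Scheme.{u}} (f : X ⟶ Y) [IsAffineHom f] {ι : Type*}
    (U : ι → Y.affineOpens) (hU : ⨆ i, (U i : Y.Opens) = ⊤)
    (h : ∀ i, (f.app (U i).1).hom.IsIntegral) : IsIntegralHom f := by
  rw [HasAffineProperty.iff_of_iSup_eq_top (P := @IsIntegralHom) U hU]
  intro i
  refine ⟨(U i).2.preimage f, ?_⟩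
  simp only [morphismRestrict_app, CommRingCat.hom_comp,
    RingHom.isIntegral_respectsIso.cancel_right_isIso]
  have h3 : (f.app ((U i).1.ι ''ᵁ ⊤)).hom.IsIntegral := by
    rw [Scheme.Opens.ι_image_top]
    exact h i
  exact h3

/-- Persistence of integrality of an element along a further transition map. -/
theorem isIntegralElem_app_of_eq {X'' X' X : Scheme.{u}} (g : X'' ⟶ X') (q : X' ⟶ X)
    (r : X'' ⟶ X) (hr : r = g ≫ q) (U : X.Opens) {R : Type*} [CommRing R] (φ : R →+* Γ(X, U))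
    (x : Γ(X, U)) (h : ((q.app U).hom.comp φ).IsIntegralElem ((q.app U).hom x)) :
    ((r.app U).hom.comp φ).IsIntegralElem ((r.app U).hom x) := by
  subst hr
  obtain ⟨p, hp, hpx⟩ := h
  refine ⟨p, hp, ?_⟩
  have h2 := congrArg (g.app (q ⁻¹ᵁ U)).hom hpx
  rw [Polynomial.hom_eval₂, map_zero] at h2
  exact h2

section

variable {I : Type u} [SmallCategory I] [IsCofiltered I]
    (D : I ⥤ Scheme.{u}) (c : Limits.Cone D) (hc : Limits.IsLimit c)

include hc in
/-- If the limit is affine over a qcqs base `S`, then so is some stage. -/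
theorem exists_isAffineHom_stage [∀ {i j : I} (f : i ⟶ j), IsAffineHom (D.map f)]
    (S : Scheme.{u}) [CompactSpace S] [QuasiSeparatedSpace S] (i₀ : I)
    [CompactSpace (D.obj i₀)] [QuasiSeparatedSpace (D.obj i₀)] (h₀ : D.obj i₀ ⟶ S)
    [IsAffineHom (c.π.app i₀ ≫ h₀)] :
    ∃ l₁ : Over i₀, IsAffineHom (D.map l₁.hom ≫ h₀) := by
  classical
  obtain ⟨s, hs⟩ := (IsOpenCover.mk (iSup_affineOpens_eq_top S)).exists_finite_of_compactSpace
  have hqsD : ∀ l : Over i₀, QuasiSeparatedSpace (D.obj l.left) := fun l =>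
    quasiSeparatedSpace_of_quasiSeparated (D.map l.hom)
  let U' : S.affineOpens → (D.obj i₀).Opens := fun W => h₀ ⁻¹ᵁ W.1
  have hU'c : ∀ W : S.affineOpens, IsCompact (U' W : Set (D.obj i₀)) := fun W =>
    QuasiCompact.isCompact_preimage (f := h₀) _ W.1.2 W.2.isCompact
  let P : Over i₀ → S.affineOpens → Prop := fun l W =>
    IsAffine ((opensDiagram D i₀ (U' W)).obj l)
  have hP : ∀ W ∈ (s : Set S.affineOpens), ∀ l₂ : Over i₀,
      ∃ (l : Over i₀) (_ : l ⟶ l₂), ∀ (l' : Over i₀) (_ : l' ⟶ l), P l' W := by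
    intro W _ l₂
    have hcomp : ∀ l, CompactSpace ↥((opensDiagram D i₀ (U' W)).obj l) := fun l =>
      isCompact_iff_compactSpace.mp (QuasiCompact.isCompact_preimage
        (f := D.map l.hom) _ (U' W).2 (hU'c W))
    have hqs : ∀ l, QuasiSeparatedSpace ↥((opensDiagram D i₀ (U' W)).obj l) := fun l => by
      have := hqsD l
      exact (isQuasiSeparated_iff_quasiSeparatedSpace _ (D.map l.hom ⁻¹ᵁ U' W).2).mp
        (.of_quasiSeparatedSpace _)
    have hpt : IsAffineOpen (c.π.app i₀ ⁻¹ᵁ U' W) := W.2.preimage (c.π.app i₀ ≫ h₀)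
    have hptaff : IsAffine (opensCone D c i₀ (U' W)).pt := hpt
    obtain ⟨l₀, hl₀⟩ := Scheme.exists_isAffine_of_isLimit (opensDiagram D i₀ (U' W))
      (opensCone D c i₀ (U' W)) (isLimitOpensCone D c hc i₀ (U' W))
    refine ⟨IsCofiltered.min l₂ l₀, IsCofiltered.minToLeft _ _, fun l' ψ => ?_⟩
    exact isAffine_of_isAffineHom
      ((opensDiagram D i₀ (U' W)).map (ψ ≫ IsCofiltered.minToRight l₂ l₀))
  obtain ⟨l, _, hl⟩ := exists_index_forall_finite (I := Over i₀)
    (s : Set S.affineOpens) s.finite_toSet P hP (Over.mk (𝟙 i₀))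
  refine ⟨l, isAffineHom_of_forall_exists_isAffineOpen _ fun y => ?_⟩
  obtain ⟨W, hW⟩ := hs.exists_mem y
  exact ⟨W.1.1, hW, W.1.2, hl l (𝟙 l) W.1 W.2⟩

include hc in
/-- Finite stage, assuming a stage is already affine over `S`. -/
theorem exists_isFinite_stage_of_isAffineHom [∀ {i j : I} (f : i ⟶ j), IsFinite (D.map f)]
    (S : Scheme.{u}) [CompactSpace S] (i : I) (h : D.obj i ⟶ S) [IsAffineHom h]
    [LocallyOfFiniteType h] [IsIntegralHom (c.π.app i ≫ h)] :
    ∃ (j : I) (f : j ⟶ i), IsFinite (D.map f ≫ h) := by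
  classical
  obtain ⟨s, hs⟩ := (IsOpenCover.mk (iSup_affineOpens_eq_top S)).exists_finite_of_compactSpace
  let P : Over i → S.affineOpens → Prop := fun l W =>
    ((D.map l.hom ≫ h).app W.1).hom.IsIntegral
  have hP : ∀ W ∈ (s : Set S.affineOpens), ∀ l₂ : Over i,
      ∃ (l : Over i) (_ : l ⟶ l₂), ∀ (l' : Over i) (_ : l' ⟶ l), P l' W := by
    intro W _ l₂
    have hU : IsAffineOpen (h ⁻¹ᵁ W.1) := W.2.preimage h
    have hft : (h.app W.1).hom.FiniteType := by
      rw [Scheme.Hom.app_eq_appLE]; exact h.finiteType_appLE W.2 hU le_rfl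
    obtain ⟨⟨t, ht⟩⟩ := id hft
    let Q : Over i → Γ(D.obj i, h ⁻¹ᵁ W.1) → Prop := fun l x =>
      (((D.map l.hom).app (h ⁻¹ᵁ W.1)).hom.comp (h.app W.1).hom).IsIntegralElem
        (((D.map l.hom).app (h ⁻¹ᵁ W.1)).hom x)
    have hQ : ∀ x ∈ (t : Set Γ(D.obj i, h ⁻¹ᵁ W.1)), ∀ l₃ : Over i,
        ∃ (l : Over i) (_ : l ⟶ l₃), ∀ (l' : Over i) (_ : l' ⟶ l), Q l' x := by
      intro x _ l₃
      have hint := IsIntegralHom.isIntegral_app (c.π.app i ≫ h) W.1 W.2
      obtain ⟨p, hp, hpx⟩ := hint (((c.π.app i).app (h ⁻¹ᵁ W.1)).hom x)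
      have hz : (c.π.app i).app (h ⁻¹ᵁ W.1) (p.eval₂ (h.app W.1).hom x) = 0 := by
        have h2 := Polynomial.hom_eval₂ p (h.app W.1).hom ((c.π.app i).app (h ⁻¹ᵁ W.1)).hom x
        exact h2.trans hpx
      obtain ⟨j, f, hjf⟩ := exists_app_map_eq_zero_of_isLimit D c hc hU.isCompact _ hz
      have hQ0 : Q (Over.mk f) x := ⟨p, hp, by
        have h2 := Polynomial.hom_eval₂ p (h.app W.1).hom ((D.map f).app (h ⁻¹ᵁ W.1)).hom x
        exact h2.symm.trans hjf⟩
      refine ⟨IsCofiltered.min l₃ (Over.mk f), IsCofiltered.minToLeft _ _, fun l' ψ => ?_⟩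
      exact isIntegralElem_app_of_eq
        (D.map (ψ ≫ IsCofiltered.minToRight l₃ (Over.mk f)).left) (D.map f) (D.map l'.hom)
        (by rw [← D.map_comp]
            exact congrArg D.map (Over.w (ψ ≫ IsCofiltered.minToRight l₃ (Over.mk f))).symm)
        _ _ x hQ0
    obtain ⟨l, a, hl⟩ := exists_index_forall_finite (I := Over i)
      (t : Set Γ(D.obj i, h ⁻¹ᵁ W.1)) t.finite_toSet Q hQ l₂
    refine ⟨l, a, fun l' ψ => ?_⟩
    have hfin : (((D.map l'.hom).app (h ⁻¹ᵁ W.1)).hom.comp (h.app W.1).hom).Finite :=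
      finite_comp_of_isIntegralElem_generators (h.app W.1).hom
        ((D.map l'.hom).app (h ⁻¹ᵁ W.1)).hom hft
        (IsFinite.finite_app (D.map l'.hom) _ hU) t ht (fun x hx => hl l' ψ x hx)
    exact hfin.to_isIntegral
  obtain ⟨l, _, hl⟩ := exists_index_forall_finite (I := Over i)
    (s : Set S.affineOpens) s.finite_toSet P hP (Over.mk (𝟙 i))
  refine ⟨l.left, l.hom, ?_⟩
  rw [IsFinite.iff_isIntegralHom_and_locallyOfFiniteType]
  exact ⟨isIntegralHom_of_cover _ (fun W : s => W.1) hs.iSup_eq_top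
    (fun W => hl l (𝟙 l) W.1 W.2), inferInstance⟩

include hc in
/-- **Finite stage.** If the limit is integral over the qcqs base `S`, the transition maps are
finite and a qcqs stage is locally of finite type over `S`, then some stage is finite over
`S`. -/
theorem exists_isFinite_stage [∀ {i j : I} (f : i ⟶ j), IsFinite (D.map f)]
    (S : Scheme.{u}) [CompactSpace S] [QuasiSeparatedSpace S] (i₀ : I)
    [CompactSpace (D.obj i₀)] [QuasiSeparatedSpace (D.obj i₀)] (h₀ : D.obj i₀ ⟶ S)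
    [LocallyOfFiniteType h₀] [IsIntegralHom (c.π.app i₀ ≫ h₀)] :
    ∃ (j : I) (f : j ⟶ i₀), IsFinite (D.map f ≫ h₀) := by
  obtain ⟨l₁, hl₁⟩ := exists_isAffineHom_stage D c hc S i₀ h₀
  have e : c.π.app l₁.left ≫ D.map l₁.hom ≫ h₀ = c.π.app i₀ ≫ h₀ := by
    rw [← Category.assoc, c.w]
  have : IsIntegralHom (c.π.app l₁.left ≫ D.map l₁.hom ≫ h₀) := by rw [e]; infer_instance
  obtain ⟨j, f, hf⟩ :=
    exists_isFinite_stage_of_isAffineHom D c hc S l₁.left (D.map l₁.hom ≫ h₀)
  refine ⟨j, f ≫ l₁.hom, ?_⟩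
  rw [D.map_comp, Category.assoc]
  exact hf

end

end Groth.Agent.H24
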