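import Mathlib
import Groth.Agent.H24.LimFinite

/-!
# Limits along closed immersions: closed immersion into the base at a finite stage (helper24)
-/

set_option autoImplicit false

open CategoryTheory AlgebraicGeometry Limits TopologicalSpace Topology

universe u

namespace Groth.Agent.H24

set_option backward.isDefEq.respectTransparency false in
/-- An affine morphism that is surjective on sections over an affine open cover of the target is a
closed immersion. -/
theorem isClosedImmersion_of_cover {X Y : Scheme.{u}} (f : X ⟶ Y) [IsAffineHom f] {ι : Type*}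
    (U : ι → Y.affineOpens) (hU : ⨆ i, (U i : Y.Opens) = ⊤)
    (h : ∀ i, Function.Surjective (f.app (U i).1)) : IsClosedImmersion f := by
  rw [HasAffineProperty.iff_of_iSup_eq_top (P := @IsClosedImmersion) U hU]
  intro i
  refine ⟨(U i).2.preimage f, ?_⟩
  have h3 : Function.Surjective (f.app ((U i).1.ι ''ᵁ ⊤)).hom := by
    rw [Scheme.Opens.ι_image_top]
    exact h i
  change Function.Surjective ((f ∣_ (U i).1).app ⊤).hom
  simp only [morphismRestrict_app]
  exact (RingHom.surjective_respectsIso.cancel_right_isIso _ _).mpr h3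

/-- If `A` is generated over `R` by `s`, `ψ : A → B` is surjective and the images of `s` lie in
the image of `R`, then `R → B` is surjective. -/
theorem surjective_comp_of_generators {R A B : Type*} [CommRing R] [CommRing A] [CommRing B]
    (φ : R →+* A) (ψ : A →+* B) (hψ : Function.Surjective ψ) (s : Set A)
    (hs : @Algebra.adjoin R A _ _ φ.toAlgebra s = ⊤)
    (h : ∀ x ∈ s, ψ x ∈ Set.range (ψ.comp φ)) : Function.Surjective (ψ.comp φ) := by
  intro b
  obtain ⟨a, rfl⟩ := hψ b
  let _ := φ.toAlgebra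
  have ha : a ∈ Algebra.adjoin R s := by rw [hs]; trivial
  induction ha using Algebra.adjoin_induction with
  | mem x hx => exact h x hx
  | algebraMap r => exact ⟨r, rfl⟩
  | add x y _ _ hx hy =>
    obtain ⟨x', hx'⟩ := hx
    obtain ⟨y', hy'⟩ := hy
    exact ⟨x' + y', by rw [map_add, map_add, hx', hy']⟩
  | mul x y _ _ hx hy =>
    obtain ⟨x', hx'⟩ := hx
    obtain ⟨y', hy'⟩ := hy
    exact ⟨x' * y', by rw [map_mul, map_mul, hx', hy']⟩

/-- Persistence of "lies in the image of `R`" along a further transition map. -/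
theorem mem_range_app_of_eq {X'' X' X : Scheme.{u}} (g : X'' ⟶ X') (q : X' ⟶ X)
    (r : X'' ⟶ X) (hr : r = g ≫ q) (U : X.Opens) {R : Type*} [CommRing R] (φ : R →+* Γ(X, U))
    (x : Γ(X, U)) (h : (q.app U).hom x ∈ Set.range ((q.app U).hom.comp φ)) :
    (r.app U).hom x ∈ Set.range ((r.app U).hom.comp φ) := by
  subst hr
  obtain ⟨y, hy⟩ := h
  refine ⟨y, ?_⟩
  have h2 := congrArg (g.app (q ⁻¹ᵁ U)).hom hy
  exact h2

section

variable {I : Type u} [SmallCategory I] [IsCofiltered I]
    (D : I ⥤ Scheme.{u}) (c : Limits.Cone D) (hc : Limits.IsLimit c)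

include hc in
/-- Closed-immersion stage, assuming a stage is already affine over `S`. -/
theorem exists_isClosedImmersion_stage_of_isAffineHom
    [∀ {i j : I} (f : i ⟶ j), IsClosedImmersion (D.map f)]
    (S : Scheme.{u}) [CompactSpace S] (i : I) (h : D.obj i ⟶ S) [IsAffineHom h]
    [LocallyOfFiniteType h] [IsClosedImmersion (c.π.app i ≫ h)] :
    ∃ (j : I) (f : j ⟶ i), IsClosedImmersion (D.map f ≫ h) := by
  classical
  obtain ⟨s, hs⟩ := (IsOpenCover.mk (iSup_affineOpens_eq_top S)).exists_finite_of_compactSpace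
  let P : Over i → S.affineOpens → Prop := fun l W =>
    Function.Surjective ((D.map l.hom ≫ h).app W.1).hom
  have hP : ∀ W ∈ (s : Set S.affineOpens), ∀ l₂ : Over i,
      ∃ (l : Over i) (_ : l ⟶ l₂), ∀ (l' : Over i) (_ : l' ⟶ l), P l' W := by
    intro W _ l₂
    have hU : IsAffineOpen (h ⁻¹ᵁ W.1) := W.2.preimage h
    have hft : (h.app W.1).hom.FiniteType := by
      rw [Scheme.Hom.app_eq_appLE]; exact h.finiteType_appLE W.2 hU le_rfl
    obtain ⟨⟨t, ht⟩⟩ := id hft
    let Q : Over i → Γ(D.obj i, h ⁻¹ᵁ W.1) → Prop := fun l x =>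
      ((D.map l.hom).app (h ⁻¹ᵁ W.1)).hom x ∈
        Set.range (((D.map l.hom).app (h ⁻¹ᵁ W.1)).hom.comp (h.app W.1).hom)
    have hQ : ∀ x ∈ (t : Set Γ(D.obj i, h ⁻¹ᵁ W.1)), ∀ l₃ : Over i,
        ∃ (l : Over i) (_ : l ⟶ l₃), ∀ (l' : Over i) (_ : l' ⟶ l), Q l' x := by
      intro x _ l₃
      have hsurj : Function.Surjective ((c.π.app i ≫ h).app W.1) :=
        (c.π.app i ≫ h).app_surjective W.1 W.2
      obtain ⟨r, hr⟩ := hsurj (((c.π.app i).app (h ⁻¹ᵁ W.1)).hom x)
      have hz : (c.π.app i).app (h ⁻¹ᵁ W.1) (x - (h.app W.1).hom r) = 0 := by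
        have h2 : ((c.π.app i).app (h ⁻¹ᵁ W.1)).hom ((h.app W.1).hom r) =
            ((c.π.app i).app (h ⁻¹ᵁ W.1)).hom x := hr
        change ((c.π.app i).app (h ⁻¹ᵁ W.1)).hom (x - (h.app W.1).hom r) = 0
        rw [map_sub, h2, sub_self]
      obtain ⟨j, f, hjf⟩ := exists_app_map_eq_zero_of_isLimit D c hc hU.isCompact _ hz
      have hQ0 : Q (Over.mk f) x := by
        refine ⟨r, ?_⟩
        have h3 : ((D.map f).app (h ⁻¹ᵁ W.1)).hom (x - (h.app W.1).hom r) = 0 := hjf
        rw [map_sub, sub_eq_zero] at h3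
        exact h3.symm
      refine ⟨IsCofiltered.min l₃ (Over.mk f), IsCofiltered.minToLeft _ _, fun l' ψ => ?_⟩
      exact mem_range_app_of_eq
        (D.map (ψ ≫ IsCofiltered.minToRight l₃ (Over.mk f)).left) (D.map f) (D.map l'.hom)
        (by rw [← D.map_comp]
            exact congrArg D.map (Over.w (ψ ≫ IsCofiltered.minToRight l₃ (Over.mk f))).symm)
        _ _ x hQ0
    obtain ⟨l, a, hl⟩ := exists_index_forall_finite (I := Over i)
      (t : Set Γ(D.obj i, h ⁻¹ᵁ W.1)) t.finite_toSet Q hQ l₂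
    refine ⟨l, a, fun l' ψ => ?_⟩
    exact surjective_comp_of_generators (h.app W.1).hom
      ((D.map l'.hom).app (h ⁻¹ᵁ W.1)).hom ((D.map l'.hom).app_surjective _ hU) t ht
      (fun x hx => hl l' ψ x hx)
  obtain ⟨l, _, hl⟩ := exists_index_forall_finite (I := Over i)
    (s : Set S.affineOpens) s.finite_toSet P hP (Over.mk (𝟙 i))
  refine ⟨l.left, l.hom, ?_⟩
  exact isClosedImmersion_of_cover _ (fun W : s => W.1) hs.iSup_eq_top
    (fun W => hl l (𝟙 l) W.1 W.2)

include hc in
/-- **Closed-immersion stage.** If the transition maps are closed immersions, a qcqs stage is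
locally of finite type over the qcqs base `S` and the limit is a closed subscheme of `S`, then
some stage is a closed subscheme of `S`. -/
theorem exists_isClosedImmersion_stage_of_closed_transitions
    [∀ {i j : I} (f : i ⟶ j), IsClosedImmersion (D.map f)]
    (S : Scheme.{u}) [CompactSpace S] [QuasiSeparatedSpace S] (i₀ : I)
    [CompactSpace (D.obj i₀)] [QuasiSeparatedSpace (D.obj i₀)] (h₀ : D.obj i₀ ⟶ S)
    [LocallyOfFiniteType h₀] [IsClosedImmersion (c.π.app i₀ ≫ h₀)] :
    ∃ (j : I) (f : j ⟶ i₀), IsClosedImmersion (D.map f ≫ h₀) := by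
  obtain ⟨l₁, hl₁⟩ := exists_isAffineHom_stage D c hc S i₀ h₀
  have e : c.π.app l₁.left ≫ D.map l₁.hom ≫ h₀ = c.π.app i₀ ≫ h₀ := by
    rw [← Category.assoc, c.w]
  have : IsClosedImmersion (c.π.app l₁.left ≫ D.map l₁.hom ≫ h₀) := by rw [e]; infer_instance
  obtain ⟨j, f, hf⟩ :=
    exists_isClosedImmersion_stage_of_isAffineHom D c hc S l₁.left (D.map l₁.hom ≫ h₀)
  refine ⟨j, f ≫ l₁.hom, ?_⟩
  rw [D.map_comp, Category.assoc]
  exact hf

end

end Groth.Agent.H24
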