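import Mathlib
import Groth.Agent.H24.LimClosedImm2
import Groth.Agent.H24.ConsLim

/-!
# Limits along closed immersions: immersions into the base at a finite stage (helper24)
-/

set_option autoImplicit false

open CategoryTheory AlgebraicGeometry Limits TopologicalSpace Topology

universe u

namespace Groth.Agent.H24

/-- A quasi-compact immersion has closed range in a suitable quasi-compact open. -/
theorem exists_compact_open_nhd_of_isImmersion {X S : Scheme.{u}} [CompactSpace X] (s : X ⟶ S)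
    [IsImmersion s] :
    ∃ U : S.Opens, IsCompact (U : Set S) ∧ Set.range s ⊆ (U : Set S) ∧
      IsClosed (U.ι ⁻¹' Set.range s) := by
  have hK : IsCompact (Set.range s) := isCompact_range s.continuous
  obtain ⟨U₀, hUo, hUc, hKU, hUcob⟩ := exists_isCompact_isOpen_between hK
    s.isLocallyClosed_range.isOpen_coborder subset_coborder
  obtain ⟨U, rfl⟩ : ∃ U : S.Opens, (U : Set S) = U₀ := ⟨⟨U₀, hUo⟩, rfl⟩
  refine ⟨U, hUc, hKU, ?_⟩
  have e : U.ι ⁻¹' Set.range s = U.ι ⁻¹' closure (Set.range s) := by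
    ext x
    refine ⟨fun hx => subset_closure hx, fun hx => ?_⟩
    have hxU : U.ι x ∈ (U : Set S) := x.2
    have h2 : U.ι x ∈ coborder (Set.range s) ∩ closure (Set.range s) :=
      ⟨hUcob hxU, hx⟩
    rw [coborder_inter_closure] at h2
    exact h2
  rw [e]
  exact isClosed_closure.preimage (Scheme.Hom.continuous _)

/-- The lift of an immersion to an open in which its range is closed is a closed immersion. -/
theorem isClosedImmersion_lift_of_isClosed {X S : Scheme.{u}} (s : X ⟶ S) [IsImmersion s]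
    (U : S.Opens) (hsub : Set.range s ⊆ Set.range U.ι)
    (hcl : IsClosed (U.ι ⁻¹' Set.range s)) :
    IsClosedImmersion (IsOpenImmersion.lift U.ι s hsub) := by
  have hfac : IsOpenImmersion.lift U.ι s hsub ≫ U.ι = s := IsOpenImmersion.lift_fac _ _ _
  have h1 : IsPreimmersion (IsOpenImmersion.lift U.ι s hsub ≫ U.ι) := by
    rw [hfac]; infer_instance
  have h2 : IsPreimmersion (IsOpenImmersion.lift U.ι s hsub) :=
    .of_comp (IsOpenImmersion.lift U.ι s hsub) U.ι
  refine .of_isPreimmersion _ ?_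
  have e : Set.range (IsOpenImmersion.lift U.ι s hsub) = U.ι ⁻¹' Set.range s := by
    ext y
    constructor
    · rintro ⟨x, rfl⟩
      refine ⟨x, ?_⟩
      rw [← Scheme.Hom.comp_apply, hfac]
    · rintro ⟨x, hx⟩
      refine ⟨x, U.ι.isOpenEmbedding.injective ?_⟩
      rw [← Scheme.Hom.comp_apply, hfac]
      exact hx
  rw [e]
  exact hcl

section

variable {I : Type u} [SmallCategory I] [IsCofiltered I]
    (D : I ⥤ Scheme.{u}) (c : Limits.Cone D) (hc : Limits.IsLimit c)

include hc in
/-- **Immersion stage.** Closed-immersion transitions, qcqs stages locally of finite type over a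
quasi-separated `S`; if the limit is immersed in `S`, then so are all late stages. -/
theorem eventually_isImmersion_of_closed_transitions
    [∀ {i j : I} (f : i ⟶ j), IsClosedImmersion (D.map f)]
    (S : Scheme.{u}) [QuasiSeparatedSpace S] [∀ i, CompactSpace (D.obj i)]
    [∀ i, QuasiSeparatedSpace (D.obj i)] (h : ∀ i, D.obj i ⟶ S)
    (hcompat : ∀ {i j : I} (a : i ⟶ j), D.map a ≫ h j = h i)
    [∀ i, LocallyOfFiniteType (h i)] (i₀ : I) [IsImmersion (c.π.app i₀ ≫ h i₀)] :
    ∃ i₁ : I, ∀ (i : I) (_ : i ⟶ i₁), IsImmersion (h i) := by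
  classical
  have hπ := isAffineHom_π_app D c hc
  have hXc : CompactSpace c.pt := QuasiCompact.compactSpace_of_compactSpace (c.π.app i₀)
  obtain ⟨U, hUc, hsub, hcl⟩ :=
    exists_compact_open_nhd_of_isImmersion (X := c.pt) (c.π.app i₀ ≫ h i₀)
  have htop : c.π.app i₀ ⁻¹ᵁ (h i₀ ⁻¹ᵁ U) = ⊤ := by
    refine eq_top_iff.mpr fun x _ => ?_
    have hx : (c.π.app i₀ ≫ h i₀) x ∈ (U : Set S) := hsub ⟨x, rfl⟩
    rw [Scheme.Hom.comp_apply] at hx
    exact hx
  obtain ⟨j, f, hj⟩ := exists_map_eq_top D c hc (h i₀ ⁻¹ᵁ U) htop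
  have hjsub : Set.range (h j) ⊆ Set.range U.ι := by
    rw [Scheme.Opens.range_ι]
    rintro _ ⟨x, rfl⟩
    have hx : x ∈ D.map f ⁻¹ᵁ (h i₀ ⁻¹ᵁ U) := by rw [hj]; trivial
    have hx' : h i₀ (D.map f x) ∈ (U : Set S) := hx
    rw [← Scheme.Hom.comp_apply, hcompat f] at hx'
    exact hx'
  have hh' : IsOpenImmersion.lift U.ι (h j) hjsub ≫ U.ι = h j := IsOpenImmersion.lift_fac _ _ _
  have hlft : LocallyOfFiniteType (IsOpenImmersion.lift U.ι (h j) hjsub) := by
    have : LocallyOfFiniteType (IsOpenImmersion.lift U.ι (h j) hjsub ≫ U.ι) := by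
      rw [hh']; infer_instance
    exact locallyOfFiniteType_of_comp (IsOpenImmersion.lift U.ι (h j) hjsub) U.ι
  have hUcomp : CompactSpace U.toScheme := isCompact_iff_compactSpace.mp hUc
  have hUqs : QuasiSeparatedSpace U.toScheme :=
    (isQuasiSeparated_iff_quasiSeparatedSpace _ U.2).mp (.of_quasiSeparatedSpace _)
  have hsub' : Set.range (c.π.app i₀ ≫ h i₀) ⊆ Set.range U.ι := by
    rw [Scheme.Opens.range_ι]; exact hsub
  have hs' : c.π.app j ≫ IsOpenImmersion.lift U.ι (h j) hjsub =
      IsOpenImmersion.lift U.ι (c.π.app i₀ ≫ h i₀) hsub' := by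
    rw [← cancel_mono U.ι, Category.assoc, hh', IsOpenImmersion.lift_fac, ← hcompat f,
      ← Category.assoc, c.w]
  have hci : IsClosedImmersion (c.π.app j ≫ IsOpenImmersion.lift U.ι (h j) hjsub) := by
    rw [hs']
    exact isClosedImmersion_lift_of_isClosed _ U hsub' hcl
  obtain ⟨k, f', hk⟩ := exists_isClosedImmersion_stage_of_closed_transitions D c hc U.toScheme j
    (IsOpenImmersion.lift U.ι (h j) hjsub)
  refine ⟨k, fun i a => ?_⟩
  have e : h i = D.map a ≫ (D.map f' ≫ IsOpenImmersion.lift U.ι (h j) hjsub) ≫ U.ι := by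
    rw [Category.assoc, hh', hcompat f', hcompat a]
  rw [e]
  infer_instance

end

end Groth.Agent.H24
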