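import Mathlib
import Groth.Agent.H24.LimBCClosed
import Groth.Agent.H24.LimImm3
import Groth.Agent.H24.LimConn

/-!
# Immersions descend to a finite stage along base change (helper24)
-/

set_option autoImplicit false

open CategoryTheory AlgebraicGeometry Limits TopologicalSpace Topology

universe u

namespace Groth.Agent.H24

section descend

variable {I : Type u} [SmallCategory I] [IsCofiltered I]
    (D : I ⥤ Scheme.{u}) (c : Limits.Cone D) (hc : Limits.IsLimit c)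
    [∀ {i j : I} (f : i ⟶ j), IsAffineHom (D.map f)]
    (i₀ : I) {X₀ Y₀ : Scheme.{u}} (f₀ : X₀ ⟶ Y₀) (g₀ : Y₀ ⟶ D.obj i₀)

include hc in
/-- **Immersions descend to a finite stage** (`f₀` locally of finite type, everything qcqs). -/
theorem exists_isImmersion_descend [CompactSpace (D.obj i₀)]
    [QuasiSeparatedSpace (D.obj i₀)] [QuasiCompact g₀] [QuasiSeparated g₀]
    [QuasiCompact (f₀ ≫ g₀)] [QuasiSeparated (f₀ ≫ g₀)] [LocallyOfFiniteType f₀]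
    {X Y : Scheme.{u}} (f : X ⟶ Y) (g : Y ⟶ c.pt) (qY : Y ⟶ Y₀) (qX : X ⟶ X₀)
    (hY : IsPullback qY g g₀ (c.π.app i₀)) (hX : IsPullback qX f f₀ qY) [IsImmersion f] :
    ∃ (i : I) (φ : i ⟶ i₀) (Xi Yi : Scheme.{u}) (fi : Xi ⟶ Yi) (gi : Yi ⟶ D.obj i)
      (pY : Yi ⟶ Y₀) (pX : Xi ⟶ X₀), IsPullback pY gi g₀ (D.map φ) ∧ IsPullback pX fi f₀ pY ∧
        IsImmersion fi := by
  classical
  have hπ := isAffineHom_π_app D c hc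
  have hXY := hX.paste_vert hY
  have hX₀ : CompactSpace X₀ := QuasiCompact.compactSpace_of_compactSpace (f₀ ≫ g₀)
  have hX₀' : QuasiSeparatedSpace X₀ := quasiSeparatedSpace_of_quasiSeparated (f₀ ≫ g₀)
  have hY₀ : CompactSpace Y₀ := QuasiCompact.compactSpace_of_compactSpace g₀
  have hY₀' : QuasiSeparatedSpace Y₀ := quasiSeparatedSpace_of_quasiSeparated g₀
  have hqX : IsAffineHom qX :=
    MorphismProperty.of_isPullback (P := @IsAffineHom) hXY.flip (hπ i₀)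
  have hXc : CompactSpace X := QuasiCompact.compactSpace_of_compactSpace qX
  have haffX : ∀ l : Over i₀, IsAffineHom (pullback.fst (f₀ ≫ g₀) (D.map (l.hom ≫ 𝟙 i₀))) :=
    fun l => MorphismProperty.pullback_fst (P := @IsAffineHom) _ _ inferInstance
  have haffY : ∀ l : Over i₀, IsAffineHom (pullback.fst g₀ (D.map (l.hom ≫ 𝟙 i₀))) :=
    fun l => MorphismProperty.pullback_fst (P := @IsAffineHom) _ _ inferInstance
  have hcX' : ∀ l : Over i₀, CompactSpace ↥(pullback (f₀ ≫ g₀) (D.map (l.hom ≫ 𝟙 i₀))) :=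
    fun l => QuasiCompact.compactSpace_of_compactSpace
      (pullback.fst (f₀ ≫ g₀) (D.map (l.hom ≫ 𝟙 i₀)))
  have hcX : ∀ l : Over i₀, CompactSpace ↥((pbDiagram D (𝟙 i₀) (f₀ ≫ g₀)).obj l) := hcX'
  have hqsX' : ∀ l : Over i₀,
      QuasiSeparatedSpace ↥(pullback (f₀ ≫ g₀) (D.map (l.hom ≫ 𝟙 i₀))) :=
    fun l => quasiSeparatedSpace_of_quasiSeparated
      (pullback.fst (f₀ ≫ g₀) (D.map (l.hom ≫ 𝟙 i₀)))
  have hqsY' : ∀ l : Over i₀, QuasiSeparatedSpace ↥(pullback g₀ (D.map (l.hom ≫ 𝟙 i₀))) :=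
    fun l => quasiSeparatedSpace_of_quasiSeparated (pullback.fst g₀ (D.map (l.hom ≫ 𝟙 i₀)))
  -- Step 1: a compact open neighbourhood in which `X` is closed
  obtain ⟨U, hUc, hfU, hUcl⟩ := exists_compact_open_nhd_of_isImmersion f
  -- Step 2: descend `U`
  obtain ⟨k₁, _, V, hVc, hV⟩ := exists_preimage_eq_over (pbDiagram D (𝟙 i₀) g₀)
    (pbCone D (𝟙 i₀) g₀ c qY g hY.w) (isLimitPbCone D (𝟙 i₀) g₀ c hc qY g hY) U hUc
    (Over.mk (𝟙 i₀))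
  have hV' : pbLift D (𝟙 i₀) g₀ c qY g hY.w k₁ ⁻¹ᵁ V = U := hV
  -- Step 3: `f_j` factors through `U_j` eventually
  have htop : (pbCone D (𝟙 i₀) (f₀ ≫ g₀) c qX (f ≫ g) hXY.w).π.app k₁ ⁻¹ᵁ
      (pbRel D (𝟙 i₀) f₀ g₀ k₁ ⁻¹ᵁ V) = ⊤ := by
    change pbLift D (𝟙 i₀) (f₀ ≫ g₀) c qX (f ≫ g) hXY.w k₁ ⁻¹ᵁ
      (pbRel D (𝟙 i₀) f₀ g₀ k₁ ⁻¹ᵁ V) = ⊤
    rw [← Scheme.Hom.comp_preimage, pbLift_pbRel D (𝟙 i₀) f₀ g₀ c f g qY qX hY hX k₁,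
      Scheme.Hom.comp_preimage, hV']
    exact eq_top_iff.mpr fun x _ => hfU ⟨x, rfl⟩
  obtain ⟨k, a, hk⟩ := exists_map_eq_top (pbDiagram D (𝟙 i₀) (f₀ ≫ g₀))
    (pbCone D (𝟙 i₀) (f₀ ≫ g₀) c qX (f ≫ g) hXY.w)
    (isLimitPbCone D (𝟙 i₀) (f₀ ≫ g₀) c hc qX (f ≫ g) hXY)
    (pbRel D (𝟙 i₀) f₀ g₀ k₁ ⁻¹ᵁ V) htop
  have hk' : pbMap D (𝟙 i₀) (f₀ ≫ g₀) a ⁻¹ᵁ (pbRel D (𝟙 i₀) f₀ g₀ k₁ ⁻¹ᵁ V) = ⊤ := hk
  have haffa : IsAffineHom (pbMap D (𝟙 i₀) g₀ a) :=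
    inferInstanceAs (IsAffineHom ((pbDiagram D (𝟙 i₀) g₀).map a))
  obtain ⟨Uk, hUk⟩ : ∃ W : (pullback g₀ (D.map (k.hom ≫ 𝟙 i₀))).Opens,
      W = pbMap D (𝟙 i₀) g₀ a ⁻¹ᵁ V := ⟨_, rfl⟩
  have hUkc : IsCompact (Uk : Set ↥(pullback g₀ (D.map (k.hom ≫ 𝟙 i₀)))) := by
    rw [hUk]
    exact (pbMap D (𝟙 i₀) g₀ a).isCompact_preimage hVc
  have hUkpre : pbLift D (𝟙 i₀) g₀ c qY g hY.w k ⁻¹ᵁ Uk = U := by
    rw [hUk, ← Scheme.Hom.comp_preimage, pbLift_pbMap, hV']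
  have hUktop : pbRel D (𝟙 i₀) f₀ g₀ k ⁻¹ᵁ Uk = ⊤ := by
    rw [hUk, ← Scheme.Hom.comp_preimage, ← pbMap_pbRel, Scheme.Hom.comp_preimage]
    exact hk'
  clear hUk hk' hk htop hV' hV
  subst hUkpre
  -- the stage morphism factors through `Uk`
  have hsubk : Set.range (pbRel D (𝟙 i₀) f₀ g₀ k) ⊆ Set.range Uk.ι := by
    rw [Scheme.Opens.range_ι]
    rintro _ ⟨x, rfl⟩
    have hx : x ∈ pbRel D (𝟙 i₀) f₀ g₀ k ⁻¹ᵁ Uk := by rw [hUktop]; trivial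
    exact hx
  obtain ⟨f₀', hf₀'⟩ : ∃ f₀' : pullback (f₀ ≫ g₀) (D.map (k.hom ≫ 𝟙 i₀)) ⟶ Uk.toScheme,
      f₀' ≫ Uk.ι = pbRel D (𝟙 i₀) f₀ g₀ k :=
    ⟨IsOpenImmersion.lift Uk.ι _ hsubk, IsOpenImmersion.lift_fac _ _ _⟩
  -- the limit morphism factors through the preimage as a closed immersion
  have hsub : Set.range f ⊆
      Set.range (pbLift D (𝟙 i₀) g₀ c qY g hY.w k ⁻¹ᵁ Uk).ι := by
    rw [Scheme.Opens.range_ι]
    exact hfU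
  obtain ⟨f', hf', hf'cl⟩ : ∃ f' : X ⟶ (pbLift D (𝟙 i₀) g₀ c qY g hY.w k ⁻¹ᵁ Uk).toScheme,
      f' ≫ (pbLift D (𝟙 i₀) g₀ c qY g hY.w k ⁻¹ᵁ Uk).ι = f ∧ IsClosedImmersion f' :=
    ⟨IsOpenImmersion.lift _ f hsub, IsOpenImmersion.lift_fac _ _ _,
      isClosedImmersion_lift_of_isClosed f _ hsub hUcl⟩
  -- new pullback squares over the stage `k.left`
  have hY' : IsPullback (pbLift D (𝟙 i₀) g₀ c qY g hY.w k ∣_ Uk)
      ((pbLift D (𝟙 i₀) g₀ c qY g hY.w k ⁻¹ᵁ Uk).ι ≫ g)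
      (Uk.ι ≫ pullback.snd g₀ (D.map (k.hom ≫ 𝟙 i₀))) (c.π.app k.left) :=
    (isPullback_morphismRestrict (pbLift D (𝟙 i₀) g₀ c qY g hY.w k) Uk).paste_vert
      (isPullback_pbLift D (𝟙 i₀) g₀ c qY g hY k)
  have hX' : IsPullback (pbLift D (𝟙 i₀) (f₀ ≫ g₀) c qX (f ≫ g) hXY.w k) f' f₀'
      (pbLift D (𝟙 i₀) g₀ c qY g hY.w k ∣_ Uk) := by
    have big : IsPullback (pbLift D (𝟙 i₀) (f₀ ≫ g₀) c qX (f ≫ g) hXY.w k)
        (f' ≫ (pbLift D (𝟙 i₀) g₀ c qY g hY.w k ⁻¹ᵁ Uk).ι) (f₀' ≫ Uk.ι)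
        (pbLift D (𝟙 i₀) g₀ c qY g hY.w k) := by
      rw [hf', hf₀']
      exact isPullback_pbLift_pbRel D (𝟙 i₀) f₀ g₀ c f g qY qX hY hX k
    refine IsPullback.of_bot big ?_
      (isPullback_morphismRestrict (pbLift D (𝟙 i₀) g₀ c qY g hY.w k) Uk)
    rw [← cancel_mono Uk.ι, Category.assoc, Category.assoc, hf₀', morphismRestrict_ι,
      ← Category.assoc, hf']
    exact pbLift_pbRel D (𝟙 i₀) f₀ g₀ c f g qY qX hY hX k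
  -- instances at the new base
  have hSk : CompactSpace ↥(D.obj k.left) :=
    QuasiCompact.compactSpace_of_compactSpace (D.map k.hom)
  have hSk' : QuasiSeparatedSpace ↥(D.obj k.left) :=
    quasiSeparatedSpace_of_quasiSeparated (D.map k.hom)
  have hUkcs : CompactSpace ↥Uk.toScheme := isCompact_iff_compactSpace.mp hUkc
  have hYkqs := hqsY' k
  have hUkqs : QuasiSeparatedSpace ↥Uk.toScheme := quasiSeparatedSpace_of_quasiSeparated Uk.ι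
  have hXkcs := hcX' k
  have hXkqs := hqsX' k
  have hlftk : LocallyOfFiniteType (pbRel D (𝟙 i₀) f₀ g₀ k) :=
    MorphismProperty.of_isPullback (P := @LocallyOfFiniteType)
      (isPullback_pbRel D (𝟙 i₀) f₀ g₀ k) inferInstance
  have hlft' : LocallyOfFiniteType f₀' := by
    have : LocallyOfFiniteType (f₀' ≫ Uk.ι) := by rw [hf₀']; exact hlftk
    exact locallyOfFiniteType_of_comp f₀' Uk.ι
  obtain ⟨l, hl⟩ := exists_isClosedImmersion_pbRel D c hc k.left f₀'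
    (Uk.ι ≫ pullback.snd g₀ (D.map (k.hom ≫ 𝟙 i₀))) f'
    ((pbLift D (𝟙 i₀) g₀ c qY g hY.w k ⁻¹ᵁ Uk).ι ≫ g)
    (pbLift D (𝟙 i₀) g₀ c qY g hY.w k ∣_ Uk)
    (pbLift D (𝟙 i₀) (f₀ ≫ g₀) c qX (f ≫ g) hXY.w k) hY' hX'
  have hopen : IsOpenImmersion
      (pbRel D (𝟙 k.left) Uk.ι (pullback.snd g₀ (D.map (k.hom ≫ 𝟙 i₀))) l) :=
    MorphismProperty.of_isPullback (P := @IsOpenImmersion)
      (isPullback_pbRel D (𝟙 k.left) Uk.ι (pullback.snd g₀ (D.map (k.hom ≫ 𝟙 i₀))) l)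
      inferInstance
  have hXl := (isPullback_pbRel D (𝟙 k.left) f₀'
    (Uk.ι ≫ pullback.snd g₀ (D.map (k.hom ≫ 𝟙 i₀))) l).paste_vert
    (isPullback_pbRel D (𝟙 k.left) Uk.ι (pullback.snd g₀ (D.map (k.hom ≫ 𝟙 i₀))) l)
  rw [hf₀'] at hXl
  have hXl' := hXl.paste_horiz (isPullback_pbRel D (𝟙 i₀) f₀ g₀ k)
  have hYl := (IsPullback.of_hasPullback (pullback.snd g₀ (D.map (k.hom ≫ 𝟙 i₀)))
    (D.map (l.hom ≫ 𝟙 k.left))).paste_horiz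
    (IsPullback.of_hasPullback g₀ (D.map (k.hom ≫ 𝟙 i₀)))
  rw [← D.map_comp] at hYl
  exact ⟨l.left, (l.hom ≫ 𝟙 k.left) ≫ (k.hom ≫ 𝟙 i₀), _, _, _, _, _, _, hYl, hXl',
    inferInstance⟩

end descend

end Groth.Agent.H24
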