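import Mathlib
import Groth.Agent.H24.LimBCClosed

/-!
# Separated morphisms descend to a finite stage along base change (helper24)
-/

set_option autoImplicit false

open CategoryTheory AlgebraicGeometry Limits TopologicalSpace Topology

universe u

namespace Groth.Agent.H24

section descend

variable {I : Type u} [SmallCategory I] [IsCofiltered I]
    (D : I ⥤ Scheme.{u}) (c : Limits.Cone D) (hc : Limits.IsLimit c)
    [∀ {i j : I} (f : i ⟶ j), IsAffineHom (D.map f)]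
    (i₀ : I) {X₀ Y₀ : Scheme.{u}} (f₀ : X₀ ⟶ Y₀) (g₀ : Y₀ ⟶ D.obj i₀)

include hc in
/-- **Separated morphisms descend to a finite stage** (no finiteness hypothesis). -/
theorem exists_isSeparated_pbRel [CompactSpace (D.obj i₀)]
    [QuasiSeparatedSpace (D.obj i₀)] [QuasiCompact g₀] [QuasiSeparated g₀]
    [QuasiCompact (f₀ ≫ g₀)] [QuasiSeparated (f₀ ≫ g₀)]
    {X Y : Scheme.{u}} (f : X ⟶ Y) (g : Y ⟶ c.pt) (qY : Y ⟶ Y₀) (qX : X ⟶ X₀)
    (hY : IsPullback qY g g₀ (c.π.app i₀)) (hX : IsPullback qX f f₀ qY) [IsSeparated f] :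
    ∃ j : Over i₀, IsSeparated (pbRel D (𝟙 i₀) f₀ g₀ j) := by
  have hf₀qc : QuasiCompact f₀ := QuasiCompact.of_comp f₀ g₀
  have hf₀qs : QuasiSeparated f₀ := QuasiSeparated.of_comp f₀ g₀
  have hfstqc : QuasiCompact (pullback.fst f₀ f₀) :=
    MorphismProperty.pullback_fst (P := @QuasiCompact) _ _ hf₀qc
  have hfstqs : QuasiSeparated (pullback.fst f₀ f₀) :=
    MorphismProperty.pullback_fst (P := @QuasiSeparated) _ _ hf₀qs
  have hWqc : QuasiCompact (hW f₀ g₀) := by rw [hW_def]; infer_instance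
  have hWqs : QuasiSeparated (hW f₀ g₀) := by rw [hW_def]; infer_instance
  have e : pullback.diagonal f₀ ≫ hW f₀ g₀ = f₀ ≫ g₀ := by
    rw [hW_def, pullback.diagonal_fst_assoc]
  have hΔqc : QuasiCompact (pullback.diagonal f₀ ≫ hW f₀ g₀) := by rw [e]; infer_instance
  have hΔqs : QuasiSeparated (pullback.diagonal f₀ ≫ hW f₀ g₀) := by rw [e]; infer_instance
  have h1 : IsClosedImmersion (pullback.diagonal f) := inferInstance
  have h2 : IsClosedImmersion (pullback.snd (pullback.diagonal f₀)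
      (pullback.fst (hW f₀ g₀) (c.π.app i₀))) :=
    (diagonal_baseChange_iff f₀ g₀ (c.π.app i₀) hY hX @IsClosedImmersion).mp h1
  obtain ⟨j, hj⟩ := exists_isClosedImmersion_pbRel D c hc i₀ (pullback.diagonal f₀) (hW f₀ g₀)
    (pullback.snd (pullback.diagonal f₀) (pullback.fst (hW f₀ g₀) (c.π.app i₀)))
    (pullback.snd (hW f₀ g₀) (c.π.app i₀)) (pullback.fst (hW f₀ g₀) (c.π.app i₀))
    (pullback.fst (pullback.diagonal f₀) (pullback.fst (hW f₀ g₀) (c.π.app i₀)))
    (IsPullback.of_hasPullback _ _) (IsPullback.of_hasPullback _ _)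
  have sq := isPullback_pbRel D (𝟙 i₀) (pullback.diagonal f₀) (hW f₀ g₀) j
  have hj' : IsClosedImmersion (pullback.snd (pullback.diagonal f₀)
      (pullback.fst (hW f₀ g₀) (D.map (j.hom ≫ 𝟙 i₀)))) := by
    have e' : pullback.snd (pullback.diagonal f₀)
        (pullback.fst (hW f₀ g₀) (D.map (j.hom ≫ 𝟙 i₀))) =
        sq.isoPullback.inv ≫ pbRel D (𝟙 i₀) (pullback.diagonal f₀) (hW f₀ g₀) j := by
      rw [Iso.eq_inv_comp, sq.isoPullback_hom_snd]
    rw [e']
    infer_instance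
  have h4 : IsClosedImmersion (pullback.diagonal (pbRel D (𝟙 i₀) f₀ g₀ j)) :=
    (diagonal_baseChange_iff f₀ g₀ (D.map (j.hom ≫ 𝟙 i₀)) (IsPullback.of_hasPullback g₀ _)
      (isPullback_pbRel D (𝟙 i₀) f₀ g₀ j) @IsClosedImmersion).mpr hj'
  exact ⟨j, ⟨h4⟩⟩

end descend

end Groth.Agent.H24
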