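import Mathlib
import Groth.Agent.H24.IrredComp

/-!
# Closed immersions into a cofiltered limit are closed immersions into a stage (helper24)
-/

set_option autoImplicit false

open CategoryTheory AlgebraicGeometry Limits TopologicalSpace Topology

universe u

namespace Groth.Agent.H24

/-- Affine case: a closed immersion `k : W ⟶ lim D` with `W` of finite type over an affine `T`
(compatibly with the stages) is a closed immersion into some stage. -/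
theorem exists_isClosedImmersion_stage_affine {J : Type u} [SmallCategory J] [IsCofiltered J]
    (D : J ⥤ Scheme.{u}) (c : Limits.Cone D) (hc : Limits.IsLimit c) [∀ l, IsAffine (D.obj l)]
    [IsAffine c.pt] {W T : Scheme.{u}} [IsAffine W] [IsAffine T] (k : W ⟶ c.pt)
    [IsClosedImmersion k] (τ : W ⟶ T) [LocallyOfFiniteType τ]
    (hσ : ∀ l, ∃ σ : D.obj l ⟶ T, (k ≫ c.π.app l) ≫ σ = τ) (l₀ : J) :
    ∃ (l : J) (_ : l ⟶ l₀), ∀ (l' : J) (_ : l' ⟶ l), IsClosedImmersion (k ≫ c.π.app l') := by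
  classical
  have hft : τ.appTop.hom.FiniteType :=
    HasRingHomProperty.appTop @LocallyOfFiniteType τ inferInstance
  obtain ⟨⟨t, ht⟩⟩ := id hft
  have hk : Function.Surjective k.appTop :=
    (IsClosedImmersion.isAffine_surjective_of_isAffine k).2
  let P : J → Γ(W, ⊤) → Prop := fun l b => b ∈ Set.range (k ≫ c.π.app l).appTop
  have hP : ∀ b ∈ (t : Set Γ(W, ⊤)), ∀ l₁ : J,
      ∃ (l : J) (_ : l ⟶ l₁), ∀ (l' : J) (_ : l' ⟶ l), P l' b := by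
    intro b _ l₁
    obtain ⟨a, ha⟩ := hk b
    obtain ⟨l₂, a', ha'⟩ := exists_appTop_π_eq_of_isAffine_of_isLimit D c hc a
    refine ⟨IsCofiltered.min l₁ l₂, IsCofiltered.minToLeft _ _, fun l' ψ => ?_⟩
    refine ⟨(D.map (ψ ≫ IsCofiltered.minToRight l₁ l₂)).appTop a', ?_⟩
    have e : (k ≫ c.π.app l₂).appTop =
        (D.map (ψ ≫ IsCofiltered.minToRight l₁ l₂)).appTop ≫ (k ≫ c.π.app l').appTop := by
      rw [← Scheme.Hom.comp_appTop, Category.assoc, c.w]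
    have e' : (k ≫ c.π.app l₂).appTop a' = b := by
      rw [Scheme.Hom.comp_appTop]
      change k.appTop ((c.π.app l₂).appTop a') = b
      rw [ha', ha]
    rw [← e', e]
    rfl
  obtain ⟨l, a, hl⟩ :=
    exists_index_forall_finite (I := J) (t : Set Γ(W, ⊤)) t.finite_toSet P hP l₀
  refine ⟨l, a, fun l' ψ => ?_⟩
  obtain ⟨σ, hσ'⟩ := hσ l'
  have eτ : τ.appTop = σ.appTop ≫ (k ≫ c.π.app l').appTop := by
    rw [← hσ', Scheme.Hom.comp_appTop]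
  apply IsClosedImmersion.of_surjective_of_isAffine
  intro b
  let _ := τ.appTop.hom.toAlgebra
  have hb : b ∈ Algebra.adjoin Γ(T, ⊤) (t : Set Γ(W, ⊤)) := by rw [ht]; trivial
  induction hb using Algebra.adjoin_induction with
  | mem x hx => exact hl l' ψ x hx
  | algebraMap r =>
    refine ⟨σ.appTop r, ?_⟩
    change _ = τ.appTop r
    rw [eτ]
    rfl
  | add x y _ _ hx hy =>
    obtain ⟨x', rfl⟩ := hx
    obtain ⟨y', rfl⟩ := hy
    exact ⟨x' + y', map_add _ _ _⟩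
  | mul x y _ _ hx hy =>
    obtain ⟨x', rfl⟩ := hx
    obtain ⟨y', rfl⟩ := hy
    exact ⟨x' * y', map_mul _ _ _⟩

/-- Auxiliary: composition of restrictions. -/
theorem resLE_aux1 {Y X X' S : Scheme.{u}} (h : Y ⟶ X) (π : X ⟶ X') (s : X' ⟶ S) (q : Y ⟶ S)
    (hq : h ≫ π ≫ s = q) (O : X.Opens) (O' : X'.Opens) (V : S.Opens) (e1 : O ≤ π ⁻¹ᵁ O')
    (e2 : O' ≤ s ⁻¹ᵁ V) (e3 : h ⁻¹ᵁ O ≤ q ⁻¹ᵁ V) :
    (h ∣_ O ≫ π.resLE O' O e1) ≫ s.resLE V O' e2 = q.resLE V (h ⁻¹ᵁ O) e3 := by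
  subst hq
  rw [← cancel_mono V.ι]
  simp only [Category.assoc, Scheme.Hom.resLE_comp_ι, Scheme.Hom.resLE_comp_ι_assoc,
    morphismRestrict_ι_assoc]

/-- Auxiliary: composition of restrictions. -/
theorem resLE_aux2 {Y X X' : Scheme.{u}} (h : Y ⟶ X) (π : X ⟶ X') (O : X.Opens)
    (O' : X'.Opens) (e1 : O ≤ π ⁻¹ᵁ O') (e2 : h ⁻¹ᵁ O ≤ (h ≫ π) ⁻¹ᵁ O') :
    h ∣_ O ≫ π.resLE O' O e1 = (h ≫ π).resLE O' (h ⁻¹ᵁ O) e2 := by
  rw [← cancel_mono O'.ι]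
  simp only [Category.assoc, Scheme.Hom.resLE_comp_ι, Scheme.Hom.resLE_comp_ι_assoc,
    morphismRestrict_ι_assoc]

section

variable {I : Type u} [SmallCategory I] [IsCofiltered I]
    (D : I ⥤ Scheme.{u}) (c : Limits.Cone D) (hc : Limits.IsLimit c)
    [∀ {i j : I} (f : i ⟶ j), IsAffineHom (D.map f)]

include hc in
/-- A closed immersion `h : Y ⟶ lim X_i` with `Y` locally of finite type over a base `S` of the
system (the stage `X_{i₀}` being quasi-compact) is a closed immersion into some stage. -/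
theorem exists_isClosedImmersion_stage (S : Scheme.{u}) (i₀ : I) [CompactSpace (D.obj i₀)]
    (s₀ : D.obj i₀ ⟶ S) {Y : Scheme.{u}} (h : Y ⟶ c.pt) [IsClosedImmersion h]
    [LocallyOfFiniteType (h ≫ c.π.app i₀ ≫ s₀)] :
    ∃ l : Over i₀, IsClosedImmersion (h ≫ c.π.app l.left) := by
  classical
  have hπ := isAffineHom_π_app D c hc
  -- a finite affine cover of the stage refining an affine cover of `S`
  let 𝔹 := {U : (D.obj i₀).affineOpens //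
    ∃ V : S.affineOpens, (U : (D.obj i₀).Opens) ≤ s₀ ⁻¹ᵁ V.1}
  have hcov : IsOpenCover (fun U : 𝔹 => (U.1 : (D.obj i₀).Opens)) := by
    refine IsOpenCover.mk (eq_top_iff.mpr fun x _ => ?_)
    obtain ⟨_, ⟨V, hV : IsAffineOpen V, rfl⟩, hxV, -⟩ :=
      S.isBasis_affineOpens.exists_subset_of_mem_open (Set.mem_univ (s₀ x)) isOpen_univ
    obtain ⟨_, ⟨U, hU : IsAffineOpen U, rfl⟩, hxU, hUV⟩ :=
      (D.obj i₀).isBasis_affineOpens.exists_subset_of_mem_open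
        (show x ∈ ((s₀ ⁻¹ᵁ V : (D.obj i₀).Opens) : Set (D.obj i₀)) from hxV) (s₀ ⁻¹ᵁ V).isOpen
    exact Opens.mem_iSup.mpr ⟨⟨⟨U, hU⟩, ⟨V, hV⟩, hUV⟩, hxU⟩
  obtain ⟨t, ht⟩ := hcov.exists_finite_of_compactSpace
  let P : Over i₀ → 𝔹 → Prop := fun l U =>
    IsClosedImmersion ((h ≫ c.π.app l.left) ∣_ (D.map l.hom ⁻¹ᵁ U.1.1))
  have hP : ∀ U ∈ (t : Set 𝔹), ∀ l₁ : Over i₀,
      ∃ (l : Over i₀) (_ : l ⟶ l₁), ∀ (l' : Over i₀) (_ : l' ⟶ l), P l' U := by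
    intro U _ l₁
    obtain ⟨V, hUV⟩ := U.2
    have haff : ∀ l : Over i₀, IsAffine ((opensDiagram D i₀ U.1.1).obj l) := fun l =>
      U.1.2.preimage (D.map l.hom)
    have hptaff : IsAffine (opensCone D c i₀ U.1.1).pt := U.1.2.preimage (c.π.app i₀)
    have hWaff : IsAffine (h ⁻¹ᵁ (c.π.app i₀ ⁻¹ᵁ U.1.1)).toScheme :=
      (U.1.2.preimage (c.π.app i₀)).preimage h
    have hTaff : IsAffine V.1.toScheme := V.2
    let k : (h ⁻¹ᵁ (c.π.app i₀ ⁻¹ᵁ U.1.1)).toScheme ⟶ (opensCone D c i₀ U.1.1).pt :=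
      h ∣_ (c.π.app i₀ ⁻¹ᵁ U.1.1)
    have hk : IsClosedImmersion k :=
      inferInstanceAs (IsClosedImmersion (h ∣_ (c.π.app i₀ ⁻¹ᵁ U.1.1)))
    have eτ : h ⁻¹ᵁ (c.π.app i₀ ⁻¹ᵁ U.1.1) ≤ (h ≫ c.π.app i₀ ≫ s₀) ⁻¹ᵁ V.1 :=
      fun x hx => hUV hx
    let τ := (h ≫ c.π.app i₀ ≫ s₀).resLE V.1 (h ⁻¹ᵁ (c.π.app i₀ ⁻¹ᵁ U.1.1)) eτ
    have hτ : LocallyOfFiniteType τ := by
      have : LocallyOfFiniteType (τ ≫ V.1.ι) := by
        rw [Scheme.Hom.resLE_comp_ι]; infer_instance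
      exact locallyOfFiniteType_of_comp τ V.1.ι
    have hσ : ∀ l : Over i₀, ∃ σ : (opensDiagram D i₀ U.1.1).obj l ⟶ V.1.toScheme,
        (k ≫ (opensCone D c i₀ U.1.1).π.app l) ≫ σ = τ := by
      intro l
      have eσ : D.map l.hom ⁻¹ᵁ U.1.1 ≤ (D.map l.hom ≫ s₀) ⁻¹ᵁ V.1 := fun x hx => hUV hx
      refine ⟨(D.map l.hom ≫ s₀).resLE V.1 (D.map l.hom ⁻¹ᵁ U.1.1) eσ, ?_⟩
      exact resLE_aux1 h (c.π.app l.left) (D.map l.hom ≫ s₀) (h ≫ c.π.app i₀ ≫ s₀)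
        (by rw [c.w_assoc]) (c.π.app i₀ ⁻¹ᵁ U.1.1) (D.map l.hom ⁻¹ᵁ U.1.1) V.1 _ eσ eτ
    obtain ⟨l, a, hl⟩ := exists_isClosedImmersion_stage_affine (opensDiagram D i₀ U.1.1)
      (opensCone D c i₀ U.1.1) (isLimitOpensCone D c hc i₀ U.1.1) k τ hσ l₁
    refine ⟨l, a, fun l' ψ => ?_⟩
    have h1 := hl l' ψ
    have e2 : h ⁻¹ᵁ (c.π.app i₀ ⁻¹ᵁ U.1.1) =
        (h ≫ c.π.app l'.left) ⁻¹ᵁ (D.map l'.hom ⁻¹ᵁ U.1.1) := by
      rw [Scheme.Hom.comp_preimage, ← Scheme.Hom.comp_preimage (c.π.app l'.left), c.w]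
    have e3 : k ≫ (opensCone D c i₀ U.1.1).π.app l' =
        (h ≫ c.π.app l'.left).resLE (D.map l'.hom ⁻¹ᵁ U.1.1)
          (h ⁻¹ᵁ (c.π.app i₀ ⁻¹ᵁ U.1.1)) e2.le :=
      resLE_aux2 h (c.π.app l'.left) (c.π.app i₀ ⁻¹ᵁ U.1.1) (D.map l'.hom ⁻¹ᵁ U.1.1) _ e2.le
    rw [e3] at h1
    change IsClosedImmersion ((h ≫ c.π.app l'.left) ∣_ (D.map l'.hom ⁻¹ᵁ U.1.1))
    rw [← Scheme.Hom.resLE_eq_morphismRestrict]
    exact (Scheme.Hom.resLE_congr (h ≫ c.π.app l'.left) e2.le rfl e2 @IsClosedImmersion).mp h1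
  obtain ⟨l, _, hl⟩ := exists_index_forall_finite (I := Over i₀) (t : Set 𝔹) t.finite_toSet
    P hP (Over.mk (𝟙 i₀))
  refine ⟨l, IsZariskiLocalAtTarget.of_iSup_eq_top (P := @IsClosedImmersion)
    (fun U : t => D.map l.hom ⁻¹ᵁ U.1.1.1) ?_ (fun U => hl l (𝟙 l) U.1 U.2)⟩
  refine eq_top_iff.mpr fun x _ => ?_
  obtain ⟨U, hU⟩ := ht.exists_mem (D.map l.hom x)
  exact Opens.mem_iSup.mpr ⟨U, hU⟩

end

end Groth.Agent.H24
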