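import Mathlib

/-!
# Dominant transition maps and cofiltered limits of schemes (helper24)
-/

set_option autoImplicit false

open CategoryTheory AlgebraicGeometry Limits TopologicalSpace

universe u

namespace Groth.Agent.H24

theorem isDominant_π_app {I : Type u} [SmallCategory I] [IsCofiltered I]
    (D : I ⥤ Scheme.{u}) (c : Cone D) (hc : IsLimit c)
    [∀ {i j : I} (f : i ⟶ j), IsAffineHom (D.map f)]
    (hd : ∀ (i j : I) (φ : i ⟶ j), IsDominant (D.map φ)) (i : I) :
    IsDominant (c.π.app i) := by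
  refine ⟨?_⟩
  rw [DenseRange, dense_iff_inter_open]
  intro W hW hWne
  obtain ⟨y, hy⟩ := hWne
  obtain ⟨_, ⟨V, hV : IsAffineOpen V, rfl⟩, hyV, hVW⟩ :=
    (D.obj i).isBasis_affineOpens.exists_subset_of_mem_open hy hW
  have hlim := isLimitOpensCone D c hc i V
  have hAff : ∀ j, IsAffine ((opensDiagram D i V).obj j) := fun j => hV.preimage _
  have hne : ∀ j, Nonempty ((opensDiagram D i V).obj j) := by
    intro j
    obtain ⟨z, hz⟩ := (hd _ _ j.hom).denseRange.exists_mem_open V.2 ⟨y, hyV⟩
    exact ⟨⟨z, hz⟩⟩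
  have : Nonempty (opensCone D c i V).pt := Scheme.nonempty_of_isLimit _ _ hlim
  obtain ⟨⟨x, hx⟩⟩ := this
  exact ⟨c.π.app i x, hVW hx, x, rfl⟩

/-- If the preimage of an open set under a dominant map is empty, the open set is empty. -/
theorem opens_eq_bot_of_preimage_eq_bot {X Y : Scheme.{u}} (f : X ⟶ Y) [IsDominant f]
    (U : Y.Opens) (h : f ⁻¹ᵁ U = ⊥) : U = ⊥ := by
  by_contra hne
  have hne' : (U : Set Y).Nonempty := by
    rw [Set.nonempty_iff_ne_empty]
    intro h0
    exact hne (Opens.ext (by simpa using h0))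
  obtain ⟨x, hx⟩ := f.denseRange.exists_mem_open U.2 hne'
  have : x ∈ f ⁻¹ᵁ U := hx
  rw [h] at this
  exact this

/-- nonemptiness of the limit when all stages over `i` are nonempty and `D i₀` is compact. -/
theorem nonempty_of_isLimit_over {I : Type u} [SmallCategory I] [IsCofiltered I]
    (D : I ⥤ Scheme.{u}) (c : Cone D) (hc : IsLimit c)
    [∀ {i j : I} (f : i ⟶ j), IsAffineHom (D.map f)] (i : I) [CompactSpace (D.obj i)]
    (hne : ∀ (j : I) (_ : j ⟶ i), Nonempty (D.obj j)) : Nonempty c.pt := by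
  have h1 : ∀ {j k : Over i} (f : j ⟶ k), IsAffineHom ((Over.forget i ⋙ D).map f) := by
    intro j k f; dsimp; infer_instance
  have h2 : ∀ j : Over i, Nonempty ((Over.forget i ⋙ D).obj j) := fun j => hne j.left j.hom
  have h3' : ∀ (j : I) (_ : j ⟶ i), CompactSpace (D.obj j) := fun j f =>
    QuasiCompact.compactSpace_of_compactSpace (D.map f)
  have h3 : ∀ j : Over i, CompactSpace ((Over.forget i ⋙ D).obj j) := fun j => h3' j.left j.hom
  exact Scheme.nonempty_of_isLimit (Over.forget i ⋙ D) _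
    ((Functor.Initial.isLimitWhiskerEquiv (Over.forget i) c).symm hc)

end Groth.Agent.H24
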