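import Mathlib

/-!
# Cofiltered limits of schemes along topological embeddings into a Noetherian stage (helper24)
-/

set_option autoImplicit false

open CategoryTheory AlgebraicGeometry Limits TopologicalSpace

universe u

namespace Groth.Agent.H24

/-- Stabilisation of the closures of the images of the stages in a Noetherian stage. -/
theorem exists_closure_range_stable {I : Type u} [SmallCategory I] [IsCofiltered I]
    (D : I ⥤ Scheme.{u}) (i₀ : I) [NoetherianSpace (D.obj i₀)] :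
    ∃ (j₀ : I) (a : j₀ ⟶ i₀), ∀ (k : I) (b : k ⟶ j₀),
      closure (Set.range ⇑(D.map (b ≫ a))) = closure (Set.range ⇑(D.map a)) := by
  let 𝒯 : Set (Closeds (D.obj i₀)) :=
    {T | ∃ (j : I) (a : j ⟶ i₀), T = ⟨closure (Set.range ⇑(D.map a)), isClosed_closure⟩}
  have hne : 𝒯.Nonempty := ⟨_, i₀, 𝟙 _, rfl⟩
  obtain ⟨T, ⟨j₀, a, rfl⟩, hmin⟩ := WellFounded.has_min (wellFounded_lt (α := Closeds (D.obj i₀)))
    𝒯 hne
  refine ⟨j₀, a, fun k b => ?_⟩
  have hle : closure (Set.range ⇑(D.map (b ≫ a))) ⊆ closure (Set.range ⇑(D.map a)) := by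
    apply closure_mono
    rintro _ ⟨x, rfl⟩
    exact ⟨D.map b x, by rw [D.map_comp, Scheme.Hom.comp_apply]⟩
  by_contra hne'
  have hlt : (⟨closure (Set.range ⇑(D.map (b ≫ a))), isClosed_closure⟩ : Closeds (D.obj i₀)) <
      ⟨closure (Set.range ⇑(D.map a)), isClosed_closure⟩ := by
    refine lt_of_le_of_ne hle ?_
    intro h
    exact hne' (congrArg (fun T : Closeds (D.obj i₀) => (T : Set (D.obj i₀))) h)
  exact hmin _ ⟨k, b ≫ a, rfl⟩ hlt

theorem isDominant_π_app_of_closure_range_stable {I : Type u} [SmallCategory I] [IsCofiltered I]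
    (D : I ⥤ Scheme.{u}) (c : Cone D) (hc : IsLimit c)
    [∀ {i j : I} (f : i ⟶ j), IsAffineHom (D.map f)] (i₀ : I) [NoetherianSpace (D.obj i₀)]
    (he : ∀ (i j : I) (φ : i ⟶ j), Topology.IsEmbedding ⇑(D.map φ))
    (j₀ : I) (a : j₀ ⟶ i₀)
    (hstab : ∀ (k : I) (b : k ⟶ j₀),
      closure (Set.range ⇑(D.map (b ≫ a))) = closure (Set.range ⇑(D.map a)))
    (k : I) (b : k ⟶ j₀) : IsDominant (c.π.app k) := by
  refine ⟨?_⟩
  rw [DenseRange, dense_iff_inter_open]
  intro W hW hWne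
  obtain ⟨W₀, hW₀, rfl⟩ := (he _ _ (b ≫ a)).isInducing.isOpen_iff.mp hW
  obtain ⟨y, hy⟩ := hWne
  have hlim := isLimitOpensCone D c hc k ⟨_, hW⟩
  have hnoeth : ∀ l : Over k, NoetherianSpace (D.obj l.left) := fun l =>
    (he _ _ (l.hom ≫ b ≫ a)).isInducing.noetherianSpace
  have hcomp : ∀ l : Over k, CompactSpace ((opensDiagram D k ⟨_, hW⟩).obj l) := by
    intro l
    have := hnoeth l
    exact isCompact_iff_compactSpace.mp (NoetherianSpace.isCompact _)
  have hne : ∀ l : Over k, Nonempty ((opensDiagram D k ⟨_, hW⟩).obj l) := by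
    intro l
    have h1 : D.map (b ≫ a) y ∈ closure (Set.range ⇑(D.map ((l.hom ≫ b) ≫ a))) := by
      rw [hstab l.left (l.hom ≫ b), ← hstab k b]
      exact subset_closure ⟨y, rfl⟩
    obtain ⟨_, hzW, z, rfl⟩ := mem_closure_iff.mp h1 W₀ hW₀ hy
    refine ⟨⟨z, ?_⟩⟩
    change D.map (b ≫ a) (D.map l.hom z) ∈ W₀
    rw [← Scheme.Hom.comp_apply, ← D.map_comp, ← Category.assoc]
    exact hzW
  have : Nonempty (opensCone D c k ⟨_, hW⟩).pt := Scheme.nonempty_of_isLimit _ _ hlim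
  obtain ⟨⟨x, hx⟩⟩ := this
  exact ⟨c.π.app k x, hx, x, rfl⟩

end Groth.Agent.H24
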