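import Mathlib
import Groth.Agent.H24.LimFlat

open CategoryTheory AlgebraicGeometry Limits TopologicalSpace

universe u

namespace Groth.Agent.H24

/-- If `f = h ≫ k` and the stalk map of `k` is bijective, the range of the stalk map of `f`
contains that of `h`, and injectivity passes from `h` to `f`. -/
theorem range_stalkMap_of_comp {X Y Z : Scheme.{u}} (f : X ⟶ Z) (h : X ⟶ Y) (k : Y ⟶ Z)
    (hf : h ≫ k = f) (x : X) [IsIso (k.stalkMap (h x))] (g : X.presheaf.stalk x)
    (hg : g ∈ Set.range (h.stalkMap x)) : g ∈ Set.range (f.stalkMap x) := by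
  subst hf
  obtain ⟨e, rfl⟩ := hg
  refine ⟨inv (k.stalkMap (h x)) e, ?_⟩
  have e1 : (h ≫ k).stalkMap x = k.stalkMap (h x) ≫ h.stalkMap x :=
    Scheme.Hom.stalkMap_comp h k x
  have e2 := congrArg (fun φ : (Z.presheaf.stalk ((h ≫ k) x) ⟶ X.presheaf.stalk x) =>
    φ.hom (inv (k.stalkMap (h x)) e)) e1
  refine e2.trans ?_
  change h.stalkMap x (k.stalkMap (h x) (inv (k.stalkMap (h x)) e)) = h.stalkMap x e
  congr 1
  exact CategoryTheory.IsIso.inv_hom_id_apply (k.stalkMap (h x)) e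

section

variable {I : Type u} [SmallCategory I] [IsCofiltered I]
    (D : I ⥤ Scheme.{u}) (c : Cone D) (hc : IsLimit c) [∀ i, IsAffine (D.obj i)]

omit [IsCofiltered I] [∀ i, IsAffine (D.obj i)] in
theorem germ_θΓ (j : I) (s : c.pt) (t : Γ(D.obj j, ⊤)) :
    (c.π.app j).stalkMap s ((D.obj j).presheaf.germ ⊤ (c.π.app j s) trivial t) =
      c.pt.presheaf.germ ⊤ s trivial (θΓ D c j t) :=
  Scheme.Hom.germ_stalkMap_apply (c.π.app j) ⊤ s trivial t

omit [IsCofiltered I] [∀ i, IsAffine (D.obj i)] in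
theorem isUnit_germ_of_isUnit_germ_θΓ (j : I) (s : c.pt) (t : Γ(D.obj j, ⊤))
    (h : IsUnit (c.pt.presheaf.germ ⊤ s trivial (θΓ D c j t))) :
    IsUnit ((D.obj j).presheaf.germ ⊤ (c.π.app j s) trivial t) := by
  rw [← germ_θΓ] at h
  exact isUnit_of_map_unit ((c.π.app j).stalkMap s).hom _ h


include hc in
theorem isIso_stalkMap_π_of_isAffine (i₀ : I)
    (hoi : ∀ (j : I) (φ : j ⟶ i₀), IsOpenImmersion (D.map φ)) (s : c.pt) :
    IsIso ((c.π.app i₀).stalkMap s) := by
  have hAffc : IsAffine c.pt := Scheme.isAffine_of_isLimit c hc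
  let alg : Algebra Γ(c.pt, ⊤) (c.pt.presheaf.stalk s) :=
    TopCat.Presheaf.algebra_section_stalk c.pt.presheaf (U := ⊤) ⟨s, trivial⟩
  have hloc : IsLocalization.AtPrime (c.pt.presheaf.stalk s)
      ((isAffineOpen_top c.pt).primeIdealOf ⟨s, trivial⟩).asIdeal :=
    (isAffineOpen_top c.pt).isLocalization_stalk ⟨s, trivial⟩
  rw [ConcreteCategory.isIso_iff_bijective]
  constructor
  · apply (isAffineOpen_top (D.obj i₀)).stalkMap_injective (c.π.app i₀) s trivial
    intro g hg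
    rw [germ_θΓ] at hg
    obtain ⟨⟨w, hw⟩, hwg⟩ := (IsLocalization.map_eq_zero_iff
      ((isAffineOpen_top c.pt).primeIdealOf ⟨s, trivial⟩).asIdeal.primeCompl
      (c.pt.presheaf.stalk s) (θΓ D c i₀ g)).mp hg
    have hwu : IsUnit (c.pt.presheaf.germ ⊤ s trivial w) :=
      IsLocalization.map_units (c.pt.presheaf.stalk s)
        (⟨w, hw⟩ : ((isAffineOpen_top c.pt).primeIdealOf ⟨s, trivial⟩).asIdeal.primeCompl)
    obtain ⟨j, a, w', hw'⟩ := θΓ_surj_fin D c hc i₀ (fun _ : Fin 1 => w)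
    have hw'0 := hw' 0
    have hz : θΓ D c j (w' 0 * (D.map a).appTop g) = 0 := by
      rw [map_mul, hw'0, θΓ_map]
      exact hwg
    obtain ⟨k, b, hk⟩ := θΓ_eq_zero D c hc j _ hz
    rw [map_mul] at hk
    have hu : IsUnit ((D.obj k).presheaf.germ ⊤ (c.π.app k s) trivial
        ((D.map b).appTop (w' 0))) := by
      apply isUnit_germ_of_isUnit_germ_θΓ D c k s
      rw [θΓ_map, hw'0]
      exact hwu
    have h0 : (D.obj k).presheaf.germ ⊤ (c.π.app k s) trivial ((D.map (b ≫ a)).appTop g) = 0 := by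
      have := congrArg ((D.obj k).presheaf.germ ⊤ (c.π.app k s) trivial) hk
      rw [map_mul, map_zero] at this
      rw [D.map_comp, Scheme.Hom.comp_appTop, CommRingCat.comp_apply]
      exact (hu.mul_right_eq_zero).mp this
    have h1 : (D.obj i₀).presheaf.germ ⊤ (D.map (b ≫ a) (c.π.app k s)) trivial g = 0 := by
      have hio := hoi k (b ≫ a)
      have hinj : Function.Injective ((D.map (b ≫ a)).stalkMap (c.π.app k s)) :=
        ((ConcreteCategory.isIso_iff_bijective _).mp inferInstance).1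
      apply hinj
      rw [map_zero]
      exact (Scheme.Hom.germ_stalkMap_apply (D.map (b ≫ a)) ⊤ (c.π.app k s) trivial g).trans h0
    have hpt : D.map (b ≫ a) (c.π.app k s) = c.π.app i₀ s := by
      rw [← Scheme.Hom.comp_apply, c.w]
    have key : ∀ (y : D.obj i₀) (_ : y = c.π.app i₀ s),
        (D.obj i₀).presheaf.germ ⊤ y trivial g = 0 →
        (D.obj i₀).presheaf.germ ⊤ (c.π.app i₀ s) trivial g = 0 := by
      rintro _ rfl h
      exact h
    exact key _ hpt h1
  · intro (g : c.pt.presheaf.stalk s)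
    obtain ⟨⟨b, ⟨u, hu⟩⟩, hbu⟩ := IsLocalization.surj
      ((isAffineOpen_top c.pt).primeIdealOf ⟨s, trivial⟩).asIdeal.primeCompl g
    have hbu' : g * c.pt.presheaf.germ ⊤ s trivial u = c.pt.presheaf.germ ⊤ s trivial b := hbu
    have huu : IsUnit (c.pt.presheaf.germ ⊤ s trivial u) :=
      IsLocalization.map_units (c.pt.presheaf.stalk s)
        (⟨u, hu⟩ : ((isAffineOpen_top c.pt).primeIdealOf ⟨s, trivial⟩).asIdeal.primeCompl)
    obtain ⟨j, a, x', hx'⟩ := θΓ_surj_fin D c hc i₀ ![b, u]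
    have hb' : θΓ D c j (x' 0) = b := hx' 0
    have hu' : θΓ D c j (x' 1) = u := hx' 1
    have huj : IsUnit ((D.obj j).presheaf.germ ⊤ (c.π.app j s) trivial (x' 1)) := by
      apply isUnit_germ_of_isUnit_germ_θΓ D c j s
      rw [hu']
      exact huu
    have he : (c.π.app j).stalkMap s
        ((D.obj j).presheaf.germ ⊤ (c.π.app j s) trivial (x' 0) * ↑(huj.unit⁻¹)) = g := by
      apply huu.mul_left_injective
      simp only
      rw [hbu', ← hu', ← germ_θΓ, ← map_mul, mul_assoc]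
      have : (↑(huj.unit⁻¹) : (D.obj j).presheaf.stalk (c.π.app j s)) *
          (D.obj j).presheaf.germ ⊤ (c.π.app j s) trivial (x' 1) = 1 := by
        exact huj.unit.inv_mul
      rw [this, mul_one, germ_θΓ, hb']
    have hio := hoi j a
    exact range_stalkMap_of_comp (c.π.app i₀) (c.π.app j) (D.map a) (c.w a) s g ⟨_, he⟩

end

end Groth.Agent.H24

namespace Groth.Agent.H24

theorem isOpenImmersion_resLE {X Y : Scheme.{u}} (f : X ⟶ Y) [IsOpenImmersion f]
    (U : Y.Opens) (V : X.Opens) (e : V ≤ f ⁻¹ᵁ U) : IsOpenImmersion (f.resLE U V e) := by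
  have : IsOpenImmersion (f.resLE U V e ≫ U.ι) := by
    rw [Scheme.Hom.resLE_comp_ι]
    infer_instance
  exact IsOpenImmersion.of_comp (f.resLE U V e) U.ι

theorem isIso_stalkMap_π {I : Type u} [SmallCategory I] [IsCofiltered I]
    (D : I ⥤ Scheme.{u}) (c : Cone D) (hc : IsLimit c)
    [∀ (i j : I) (f : i ⟶ j), IsAffineHom (D.map f)] (i : I)
    (hoi : ∀ (j : I) (φ : j ⟶ i), IsOpenImmersion (D.map φ)) (s : c.pt) :
    IsIso ((c.π.app i).stalkMap s) := by
  have hAff : ∀ {i j : I} (f : i ⟶ j), IsAffineHom (D.map f) := fun f => inferInstance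
  obtain ⟨_, ⟨V, hV : IsAffineOpen V, rfl⟩, hsV, -⟩ :=
    (D.obj i).isBasis_affineOpens.exists_subset_of_mem_open
      (Set.mem_univ (c.π.app i s)) isOpen_univ
  have hlim := isLimitOpensCone D c hc i V
  have hAffD : ∀ j, IsAffine ((opensDiagram D i V).obj j) := fun j => hV.preimage _
  have hoiD : ∀ (j : Over i) (φ : j ⟶ Over.mk (𝟙 i)),
      IsOpenImmersion ((opensDiagram D i V).map φ) := by
    intro j φ
    have := hoi j.left φ.left
    change IsOpenImmersion ((D.map φ.left).resLE _ _ _)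
    exact isOpenImmersion_resLE _ _ _ _
  have h3 := isIso_stalkMap_π_of_isAffine (opensDiagram D i V) (opensCone D c i V) hlim
    (Over.mk (𝟙 i)) hoiD ⟨s, hsV⟩
  have e : c.π.app i ⁻¹ᵁ V ≤ c.π.app i ⁻¹ᵁ (D.map (𝟙 i) ⁻¹ᵁ V) := by
    rw [← Scheme.Hom.comp_preimage, c.w]
  exact ((MorphismProperty.isomorphisms CommRingCat).arrow_mk_iso_iff
    (Scheme.Hom.resLEStalkMap (c.π.app i) e ⟨s, hsV⟩)).mp h3

theorem isInducing_of_isBasis {X Y : Type*} [TopologicalSpace X] [TopologicalSpace Y]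
    (f : X → Y) (hf : Continuous f) (B : Set (Set X)) (hB : IsTopologicalBasis B)
    (h : ∀ s ∈ B, ∃ W : Set Y, IsOpen W ∧ f ⁻¹' W = s) : Topology.IsInducing f := by
  rw [Topology.isInducing_iff]
  apply le_antisymm
  · exact continuous_iff_le_induced.mp hf
  · rw [hB.eq_generateFrom]
    apply le_generateFrom
    intro s hs
    obtain ⟨W, hW, rfl⟩ := h s hs
    exact isOpen_induced hW

theorem isEmbedding_π_of_isOpenImmersion {I : Type u} [SmallCategory I] [IsCofiltered I]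
    (D : I ⥤ Scheme.{u}) (c : Cone D) (hc : IsLimit c)
    [∀ (i j : I) (f : i ⟶ j), IsAffineHom (D.map f)]
    (hoi : ∀ (i j : I) (φ : i ⟶ j), IsOpenImmersion (D.map φ)) (i : I) :
    Topology.IsEmbedding ⇑(c.π.app i) := by
  have hAff : ∀ {i j : I} (f : i ⟶ j), IsAffineHom (D.map f) := fun f => inferInstance
  have hind : Topology.IsInducing ⇑(c.π.app i) := by
    refine isInducing_of_isBasis _ (c.π.app i).continuous _
      (isBasis_preimage_isAffineOpen D c hc) ?_
    rintro _ ⟨_, ⟨j, V, hV, rfl⟩, rfl⟩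
    let k := IsCofiltered.min i j
    let a : k ⟶ i := IsCofiltered.minToLeft i j
    let b : k ⟶ j := IsCofiltered.minToRight i j
    have := hoi k i a
    refine ⟨D.map a '' (D.map b ⁻¹' V), ?_, ?_⟩
    · exact (D.map a).isOpenEmbedding.isOpenMap _ ((D.map b ⁻¹ᵁ V).isOpen)
    · have h1 : ⇑(c.π.app i) = ⇑(D.map a) ∘ ⇑(c.π.app k) := by
        rw [← c.w a]; rfl
      have h2 : ⇑(c.π.app j) = ⇑(D.map b) ∘ ⇑(c.π.app k) := by
        rw [← c.w b]; rfl
      rw [h1, Set.preimage_comp, Set.preimage_image_eq _ (D.map a).isOpenEmbedding.injective]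
      change _ = ⇑(c.π.app j) ⁻¹' V
      rw [h2, Set.preimage_comp]
  exact ⟨hind, hind.injective⟩

end Groth.Agent.H24
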