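import Mathlib

/-!
# Reducedness and cofiltered limits of schemes (helper24)
-/

set_option autoImplicit false

open CategoryTheory AlgebraicGeometry Limits TopologicalSpace

universe u

namespace Groth.Agent.H24

theorem isReduced_of_isLimit_of_isAffine {I : Type u} [SmallCategory I] [IsCofiltered I]
    (D : I ⥤ Scheme.{u}) (c : Cone D) (hc : IsLimit c) [∀ i, IsAffine (D.obj i)]
    (H : ∀ i, ∃ (j : I) (_ : j ⟶ i), IsReduced (D.obj j)) : IsReduced c.pt := by
  have : IsAffine c.pt := Scheme.isAffine_of_isLimit c hc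
  have : _root_.IsReduced Γ(c.pt, ⊤) := by
    constructor
    intro s hs
    obtain ⟨n, hn⟩ := hs
    obtain ⟨i, t, rfl⟩ := exists_appTop_π_eq_of_isAffine_of_isLimit D c hc s
    have h0 : (c.π.app i).appTop (t ^ n) = 0 := by rw [map_pow, hn]
    obtain ⟨j, f, hj⟩ := exists_appTop_map_eq_zero_of_isAffine_of_isLimit D c hc i (t ^ n) h0
    obtain ⟨k, g, hk⟩ := H j
    have h1 : ((D.map (g ≫ f)).appTop t) ^ n = 0 := by
      rw [← map_pow, D.map_comp, Scheme.Hom.comp_appTop, CommRingCat.comp_apply, hj, map_zero]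
    have h2 : (D.map (g ≫ f)).appTop t = 0 := IsReduced.eq_zero _ ⟨n, h1⟩
    rw [← c.w (g ≫ f), Scheme.Hom.comp_appTop, CommRingCat.comp_apply, h2, map_zero]
  exact isReduced_of_isAffine_isReduced c.pt

theorem isReduced_of_isLimit {I : Type u} [SmallCategory I] [IsCofiltered I]
    (D : I ⥤ Scheme.{u}) (c : Cone D) (hc : IsLimit c)
    [∀ {i j : I} (f : i ⟶ j), IsAffineHom (D.map f)]
    (H : ∀ i, ∃ (j : I) (_ : j ⟶ i), IsReduced (D.obj j)) : IsReduced c.pt := by
  have hstalk : ∀ x : c.pt, _root_.IsReduced (c.pt.presheaf.stalk x) := by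
    intro x
    obtain ⟨i⟩ := IsCofiltered.nonempty (C := I)
    obtain ⟨_, ⟨V, hV : IsAffineOpen V, rfl⟩, hxV, -⟩ :=
      (D.obj i).isBasis_affineOpens.exists_subset_of_mem_open
        (Set.mem_univ (c.π.app i x)) isOpen_univ
    have hlim := isLimitOpensCone D c hc i V
    have hAff : ∀ j, IsAffine ((opensDiagram D i V).obj j) := fun j => hV.preimage _
    have hred : IsReduced (opensCone D c i V).pt := by
      apply isReduced_of_isLimit_of_isAffine (opensDiagram D i V) _ hlim
      intro j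
      obtain ⟨k, g, hk⟩ := H j.left
      refine ⟨Over.mk (g ≫ j.hom), Over.homMk g, ?_⟩
      change IsReduced (D.map (g ≫ j.hom) ⁻¹ᵁ V).toScheme
      infer_instance
    have hred' : IsReduced (c.π.app i ⁻¹ᵁ V).toScheme := hred
    have hx : x ∈ c.π.app i ⁻¹ᵁ V := hxV
    have e := (c.π.app i ⁻¹ᵁ V).stalkIso ⟨x, hx⟩
    have hst : _root_.IsReduced ((c.π.app i ⁻¹ᵁ V).toScheme.presheaf.stalk ⟨x, hx⟩) :=
      isReduced_stalk_of_isReduced _ _
    exact isReduced_of_injective e.inv.hom e.commRingCatIsoToRingEquiv.symm.injective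
  exact isReduced_of_isReduced_stalk c.pt

end Groth.Agent.H24
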