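import Mathlib
import Groth.Agent.H24.IrredComp
import Groth.Agent.H24.LimReduced

open CategoryTheory AlgebraicGeometry Limits TopologicalSpace

universe u

namespace Groth.Agent.H24

theorem isReduced_of_isLocalization_of_nilradical {R S : Type*} [CommRing R] [CommRing S]
    [Algebra R S] (M : Submonoid R) [IsLocalization M S]
    (h : ∀ n ∈ nilradical R, algebraMap R S n = 0) : IsReduced S := by
  rw [← nilradical_eq_bot_iff]
  have h1 := IsLocalization.map_radical M S (⊥ : Ideal R)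
  rw [Ideal.map_bot] at h1
  change (nilradical R).map (algebraMap R S) = nilradical S at h1
  rw [← h1, Ideal.map_eq_bot_iff_le_ker]
  intro n hn
  exact h n hn

theorem isReduced_stalk_of_germ_nilradical {X : Scheme.{u}} {U : X.Opens} (hU : IsAffineOpen U)
    (y : X) (hy : y ∈ U) (h : ∀ n ∈ nilradical Γ(X, U), X.presheaf.germ U y hy n = 0) :
    _root_.IsReduced (X.presheaf.stalk y) := by
  let alg : Algebra Γ(X, U) (X.presheaf.stalk y) :=
    TopCat.Presheaf.algebra_section_stalk X.presheaf (U := U) ⟨y, hy⟩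
  have hloc : IsLocalization.AtPrime (X.presheaf.stalk y) (hU.primeIdealOf ⟨y, hy⟩).asIdeal :=
    hU.isLocalization_stalk ⟨y, hy⟩
  exact isReduced_of_isLocalization_of_nilradical
    (hU.primeIdealOf ⟨y, hy⟩).asIdeal.primeCompl h

theorem isReduced_stalk_of_isOpenImmersion {X Y : Scheme.{u}} (f : X ⟶ Y) [IsOpenImmersion f]
    (x : X) [_root_.IsReduced (Y.presheaf.stalk (f x))] :
    _root_.IsReduced (X.presheaf.stalk x) :=
  isReduced_of_injective (inv (f.stalkMap x)).hom
    (asIso (f.stalkMap x)).symm.commRingCatIsoToRingEquiv.injective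

/-- finite induction for antitone predicates along a cofiltered category -/
theorem exists_index_forall_finite_of_antitone {I : Type*} [Category I] [IsCofiltered I]
    {α : Type*} (T : Set α) (hT : T.Finite) (P : I → α → Prop)
    (hmono : ∀ {i j : I} (_ : j ⟶ i) (t : α), P i t → P j t)
    (hP : ∀ t ∈ T, ∃ i : I, P i t) (i₀ : I) :
    ∃ (i : I) (_ : i ⟶ i₀), ∀ t ∈ T, P i t := by
  obtain ⟨i, a, h⟩ := exists_index_forall_finite T hT P (fun t ht i₁ => by
    obtain ⟨i, hi⟩ := hP t ht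
    exact ⟨IsCofiltered.min i i₁, IsCofiltered.minToRight i i₁,
      fun j φ => hmono (φ ≫ IsCofiltered.minToLeft i i₁) t hi⟩) i₀
  exact ⟨i, a, fun t ht => h i (𝟙 i) t ht⟩


theorem comp_app_apply_eq_zero {X Y Z : Scheme.{u}} (f : X ⟶ Y) (g : Y ⟶ Z) (U : Z.Opens)
    (n : Γ(Z, U)) (h : g.app U n = 0) : (f ≫ g).app U n = 0 := by
  have h1 : (f ≫ g).app U n = f.app (g ⁻¹ᵁ U) (g.app U n) := by
    rw [Scheme.Hom.comp_app]
    rfl
  rw [h1, h]
  exact map_zero _

theorem exists_isReduced_of_isReduced_limit {I : Type u} [SmallCategory I] [IsCofiltered I]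
    (D : I ⥤ Scheme.{u}) (c : Cone D) (hc : IsLimit c)
    [∀ (i j : I) (f : i ⟶ j), IsAffineHom (D.map f)] (i₀ : I)
    [CompactSpace (D.obj i₀)] (hoi : ∀ (i j : I) (φ : i ⟶ j), IsOpenImmersion (D.map φ))
    (hN : ∀ U : (D.obj i₀).affineOpens, (nilradical Γ(D.obj i₀, U)).FG) [IsReduced c.pt] :
    ∃ (i : I) (_ : i ⟶ i₀), ∀ (j : I) (_ : j ⟶ i), IsReduced (D.obj j) := by
  have hAff : ∀ {i j : I} (f : i ⟶ j), IsAffineHom (D.map f) := fun f => inferInstance
  -- monotonicity
  have mono₀ : ∀ (U : (D.obj i₀).Opens) {j j' : Over i₀} (_ : j' ⟶ j) (n : Γ(D.obj i₀, U)),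
      (D.map j.hom).app U n = 0 → (D.map j'.hom).app U n = 0 := by
    intro U j j' ψ n h
    rw [← Over.w ψ, D.map_comp]
    exact comp_app_apply_eq_zero _ _ U n h
  -- step 1
  have step1 : ∀ U : (D.obj i₀).affineOpens, ∃ j : Over i₀,
      ∀ n ∈ nilradical Γ(D.obj i₀, U), (D.map j.hom).app U n = 0 := by
    intro U
    obtain ⟨T, hT⟩ := hN U
    obtain ⟨i, -, hi⟩ := exists_index_forall_finite_of_antitone (I := Over i₀)
      (T : Set Γ(D.obj i₀, U)) T.finite_toSet (fun j n => (D.map j.hom).app U n = 0)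
      (fun ψ n h => mono₀ U ψ n h) (fun n hn => by
        have hnil : IsNilpotent n := by
          have : n ∈ nilradical Γ(D.obj i₀, U) := hT ▸ Ideal.subset_span hn
          exact this
        have h0 : (c.π.app i₀).app U n = 0 :=
          (inferInstance : _root_.IsReduced Γ(c.pt, c.π.app i₀ ⁻¹ᵁ U)).eq_zero _
            (hnil.map ((c.π.app i₀).app U).hom)
        obtain ⟨j, f, hj⟩ := exists_app_map_eq_zero_of_isLimit D c hc U.2.isCompact n h0
        exact ⟨Over.mk f, hj⟩) (Over.mk (𝟙 i₀))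
    refine ⟨i, ?_⟩
    have : nilradical Γ(D.obj i₀, U) ≤ RingHom.ker ((D.map i.hom).app U).hom := by
      rw [← hT, Ideal.span_le]
      intro n hn
      exact hi n hn
    intro n hn
    exact this hn
  -- finite affine cover
  have hcov : IsOpenCover (fun U : (D.obj i₀).affineOpens => (U : (D.obj i₀).Opens)) :=
    iSup_affineOpens_eq_top _
  obtain ⟨𝒰, h𝒰⟩ := hcov.exists_finite_of_compactSpace
  obtain ⟨i, -, hi⟩ := exists_index_forall_finite_of_antitone (I := Over i₀)
    (𝒰 : Set (D.obj i₀).affineOpens) 𝒰.finite_toSet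
    (fun j U => ∀ n ∈ nilradical Γ(D.obj i₀, U), (D.map j.hom).app U n = 0)
    (fun ψ U h n hn => mono₀ U ψ n (h n hn)) (fun U _ => step1 U) (Over.mk (𝟙 i₀))
  refine ⟨i.left, i.hom, fun j g => ?_⟩
  have hstalk : ∀ x : D.obj j, _root_.IsReduced ((D.obj j).presheaf.stalk x) := by
    intro x
    have := hoi j i₀ (g ≫ i.hom)
    obtain ⟨⟨U, hU𝒰⟩, hyU⟩ := h𝒰.exists_mem (D.map (g ≫ i.hom) x)
    have hred : _root_.IsReduced ((D.obj i₀).presheaf.stalk (D.map (g ≫ i.hom) x)) := by
      apply isReduced_stalk_of_germ_nilradical U.2 _ hyU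
      intro n hn
      have hinj : Function.Injective ((D.map (g ≫ i.hom)).stalkMap x) :=
        ((ConcreteCategory.isIso_iff_bijective _).mp inferInstance).1
      apply hinj
      rw [map_zero]
      refine (Scheme.Hom.germ_stalkMap_apply (D.map (g ≫ i.hom)) U x hyU n).trans ?_
      have h0 : (D.map (g ≫ i.hom)).app U n = 0 :=
        mono₀ U (Over.homMk g rfl : Over.mk (g ≫ i.hom) ⟶ i) n (hi U hU𝒰 n hn)
      rw [h0, map_zero]
    exact isReduced_stalk_of_isOpenImmersion (D.map (g ≫ i.hom)) x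
  exact isReduced_of_isReduced_stalk _

end Groth.Agent.H24
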