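import Mathlib
import Groth.Agent.H24.LimOpenImm
import Groth.Agent.H24.LimOpenImmReduced
import Groth.Agent.S4841

open CategoryTheory AlgebraicGeometry Limits TopologicalSpace

universe u

namespace Groth.Agent.H24

theorem irreducibleSpace_iff_exists_singleton (X : Type*) [TopologicalSpace X] :
    IrreducibleSpace X ↔ ∃ Z, irreducibleComponents X = {Z} := by
  constructor
  · intro h
    exact ⟨Set.univ, irreducibleComponents_eq_singleton⟩
  · rintro ⟨Z, hZ⟩
    have h1 : ⋃₀ irreducibleComponents X = Set.univ := sUnion_irreducibleComponents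
    rw [hZ, Set.sUnion_singleton] at h1
    have h2 : Z ∈ irreducibleComponents X := by rw [hZ]; exact Set.mem_singleton Z
    have h3 : IsIrreducible Z := h2.1
    rw [h1] at h3
    exact (irreducibleSpace_def X).mpr h3

theorem exists_singleton_iff_of_bijOn {α β : Type*} {F : α → β} {A : Set α} {B : Set β}
    (h : Set.BijOn F A B) : (∃ Z, A = {Z}) ↔ (∃ W, B = {W}) := by
  constructor
  · rintro ⟨Z, rfl⟩
    exact ⟨F Z, by rw [← h.image_eq, Set.image_singleton]⟩
  · rintro ⟨W, rfl⟩
    obtain ⟨Z, hZ, hZW⟩ := h.surjOn (Set.mem_singleton W)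
    refine ⟨Z, Set.eq_singleton_iff_unique_mem.mpr ⟨hZ, fun Z' hZ' => ?_⟩⟩
    exact h.injOn hZ' hZ ((h.mapsTo hZ').trans hZW.symm)

theorem irreducibleSpace_iff_of_bijOn {X Y : Type*} [TopologicalSpace X] [TopologicalSpace Y]
    {F : Set X → Set Y} (h : Set.BijOn F (irreducibleComponents X) (irreducibleComponents Y)) :
    IrreducibleSpace X ↔ IrreducibleSpace Y := by
  rw [irreducibleSpace_iff_exists_singleton, irreducibleSpace_iff_exists_singleton]
  exact exists_singleton_iff_of_bijOn h

theorem isIntegral_iff_of_isOpenImmersion {I : Type u} [SmallCategory I] [IsCofiltered I]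
    (D : I ⥤ Scheme.{u}) (c : Limits.Cone D) (hc : Limits.IsLimit c)
    [∀ (i j : I) (f : i ⟶ j), IsAffineHom (D.map f)] (i₀ : I)
    [IsNoetherian (D.obj i₀)] (hoi : ∀ (i j : I) (φ : i ⟶ j), IsOpenImmersion (D.map φ)) :
    IsIntegral c.pt ↔ ∃ (i : I) (_ : i ⟶ i₀), ∀ (j : I) (_ : j ⟶ i), IsIntegral (D.obj j) := by
  have hAff : ∀ {i j : I} (f : i ⟶ j), IsAffineHom (D.map f) := fun f => inferInstance
  have hemb := isEmbedding_π_of_isOpenImmersion D c hc hoi i₀
  have hNS : NoetherianSpace c.pt := hemb.isInducing.noetherianSpace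
  have he : ∀ (i j : I) (φ : i ⟶ j), Topology.IsEmbedding ⇑(D.map φ) := fun i j φ =>
    have := hoi i j φ
    (D.map φ).isOpenEmbedding.isEmbedding
  obtain ⟨i₂, a₂, h₂⟩ := Groth.Agent.S4841.result D c hc i₀ he
  have hN : ∀ U : (D.obj i₀).affineOpens, (nilradical Γ(D.obj i₀, U)).FG := by
    intro U
    have : IsNoetherianRing Γ(D.obj i₀, U) := IsLocallyNoetherian.component_noetherian U
    exact (isNoetherianRing_iff_ideal_fg _).mp this _
  constructor
  · intro hint
    obtain ⟨i₁, a₁, h₁⟩ := exists_isReduced_of_isReduced_limit D c hc i₀ hoi hN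
    refine ⟨IsCofiltered.min i₁ i₂, IsCofiltered.minToLeft i₁ i₂ ≫ a₁, fun j g => ?_⟩
    have hred : IsReduced (D.obj j) := h₁ j (g ≫ IsCofiltered.minToLeft i₁ i₂)
    have hirr : IrreducibleSpace (D.obj j) :=
      (irreducibleSpace_iff_of_bijOn (h₂ j (g ≫ IsCofiltered.minToRight i₁ i₂))).mp inferInstance
    exact isIntegral_of_irreducibleSpace_of_isReduced _
  · rintro ⟨i, -, h⟩
    have hred : IsReduced c.pt := isReduced_of_isLimit D c hc (fun i' =>
      ⟨IsCofiltered.min i' i, IsCofiltered.minToLeft i' i,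
        have := h _ (IsCofiltered.minToRight i' i); inferInstance⟩)
    have hirr : IrreducibleSpace c.pt := by
      have := h _ (IsCofiltered.minToLeft i i₂)
      exact (irreducibleSpace_iff_of_bijOn (h₂ _ (IsCofiltered.minToRight i i₂))).mpr inferInstance
    exact isIntegral_of_irreducibleSpace_of_isReduced _

end Groth.Agent.H24
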