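import Mathlib
import Groth.Agent.H24.LimPullback

open CategoryTheory AlgebraicGeometry Limits

universe u

namespace Groth.Agent.H24

theorem isOpenMap_of_forall_isOpenMap_baseChange {I : Type u} [SmallCategory I] [IsCofiltered I]
    (D : I ⥤ Scheme.{u}) (c : Limits.Cone D) (hc : Limits.IsLimit c)
    [∀ (i j : I) (f : i ⟶ j), IsAffineHom (D.map f)] (i₀ : I)
    {X₀ Y₀ : Scheme.{u}} (f₀ : X₀ ⟶ Y₀) (g₀ : Y₀ ⟶ D.obj i₀)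
    {X Y : Scheme.{u}} (f : X ⟶ Y) (g : Y ⟶ c.pt) (qY : Y ⟶ Y₀) (qX : X ⟶ X₀)
    (hY : IsPullback qY g g₀ (c.π.app i₀)) (hX : IsPullback qX f f₀ qY)
    (h : ∃ (i : I) (φ : i ⟶ i₀), ∀ (j : I) (ψ : j ⟶ i) (Xj Yj : Scheme.{u}) (fj : Xj ⟶ Yj)
      (gj : Yj ⟶ D.obj j) (pY : Yj ⟶ Y₀) (pX : Xj ⟶ X₀),
      IsPullback pY gj g₀ (D.map (ψ ≫ φ)) → IsPullback pX fj f₀ pY → IsOpenMap ⇑fj) :
    IsOpenMap ⇑f := by
  have hAff : ∀ {i j : I} (f : i ⟶ j), IsAffineHom (D.map f) := fun f => inferInstance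
  obtain ⟨i, φ, h⟩ := h
  have hXS := hX.paste_vert hY
  have hlimX := isLimitPbCone D φ (f₀ ≫ g₀) c hc qX (f ≫ g) hXS
  have hB := isBasis_preimage_isAffineOpen (pbDiagram D φ (f₀ ≫ g₀))
    (pbCone D φ (f₀ ≫ g₀) c qX (f ≫ g) hXS.w) hlimX
  rw [TopologicalSpace.Opens.IsBasis] at hB
  refine (TopologicalSpace.IsTopologicalBasis.isOpenMap_iff (α := ↥X) hB).mpr ?_
  rintro _ ⟨_, ⟨j, V, -, rfl⟩, rfl⟩
  have hsq := isPullback_pbLift_pbRel D φ f₀ g₀ c f g qY qX hY hX j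
  have himg := Scheme.image_preimage_eq_of_isPullback hsq
    ((V : Set ((pbDiagram D φ (f₀ ≫ g₀)).obj j)) : Set ↥(pullback (f₀ ≫ g₀) (D.map (j.hom ≫ φ))))
  have hopen : IsOpenMap ⇑(pbRel D φ f₀ g₀ j) :=
    h j.left j.hom _ _ (pbRel D φ f₀ g₀ j) (pullback.snd g₀ (D.map (j.hom ≫ φ)))
      (pullback.fst g₀ (D.map (j.hom ≫ φ))) (pullback.fst (f₀ ≫ g₀) (D.map (j.hom ≫ φ)))
      (IsPullback.of_hasPullback _ _) (isPullback_pbRel D φ f₀ g₀ j)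
  have h2 : IsOpen (⇑(pbLift D φ g₀ c qY g hY.w j) ⁻¹' (⇑(pbRel D φ f₀ g₀ j) ''
      ((V : Set ((pbDiagram D φ (f₀ ≫ g₀)).obj j)) :
        Set ↥(pullback (f₀ ≫ g₀) (D.map (j.hom ≫ φ)))))) :=
    (hopen _ V.isOpen).preimage (pbLift D φ g₀ c qY g hY.w j).continuous
  exact himg ▸ h2

end Groth.Agent.H24
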