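import Mathlib
import Groth.Agent.H24.LimFlat2
import Groth.Agent.H24.IrredComp
import Groth.Agent.H93.QAff

/-!
# Quasi-affine morphisms descend to a finite stage (helper24)
-/

set_option autoImplicit false

open CategoryTheory AlgebraicGeometry Limits TopologicalSpace Topology

universe u

namespace Groth.Agent.H24

section abs

variable {I : Type u} [SmallCategory I] [IsCofiltered I]
    (D : I ⥤ Scheme.{u}) (c : Limits.Cone D) (hc : Limits.IsLimit c)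
    [∀ {i j : I} (f : i ⟶ j), IsAffineHom (D.map f)]
    (i₀ : I) {X₀ : Scheme.{u}} (h₀ : X₀ ⟶ D.obj i₀)

omit [IsCofiltered I] in
theorem pbMap_preimage_fst_preimage {j k : Over i₀} (a : j ⟶ k) (U₀ : X₀.Opens) :
    pbMap D (𝟙 i₀) h₀ a ⁻¹ᵁ (pullback.fst h₀ (D.map (k.hom ≫ 𝟙 i₀)) ⁻¹ᵁ U₀) =
      pullback.fst h₀ (D.map (j.hom ≫ 𝟙 i₀)) ⁻¹ᵁ U₀ := by
  rw [← Scheme.Hom.comp_preimage, pbMap_fst]

omit [IsCofiltered I] in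
/-- quasi-affineness of the preimage of `U₀` passes to later stages -/
theorem isQuasiAffine_preimage_of_hom {j k : Over i₀} (a : j ⟶ k) (U₀ : X₀.Opens)
    (h : Scheme.IsQuasiAffine ((pullback.fst h₀ (D.map (k.hom ≫ 𝟙 i₀)) ⁻¹ᵁ U₀ : Scheme.Opens _) : Scheme.{u})) :
    Scheme.IsQuasiAffine ((pullback.fst h₀ (D.map (j.hom ≫ 𝟙 i₀)) ⁻¹ᵁ U₀ : Scheme.Opens _) : Scheme.{u}) := by
  have haff : IsAffineHom (pbMap D (𝟙 i₀) h₀ a) :=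
    inferInstanceAs (IsAffineHom ((pbDiagram D (𝟙 i₀) h₀).map a))
  have hres : IsAffineHom (pbMap D (𝟙 i₀) h₀ a ∣_
      (pullback.fst h₀ (D.map (k.hom ≫ 𝟙 i₀)) ⁻¹ᵁ U₀)) :=
    IsZariskiLocalAtTarget.restrict (P := @IsAffineHom) haff _
  have := Scheme.IsQuasiAffine.of_isAffineHom (pbMap D (𝟙 i₀) h₀ a ∣_
      (pullback.fst h₀ (D.map (k.hom ≫ 𝟙 i₀)) ⁻¹ᵁ U₀))
  rw [pbMap_preimage_fst_preimage] at this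
  exact this

include hc in
/-- core: if the preimage of a quasi-compact open `U₀ ⊆ X₀` in the limit is quasi-affine, then so
is its preimage in some stage -/
theorem exists_isQuasiAffine_preimage_stage [QuasiSeparatedSpace X₀] (U₀ : X₀.Opens)
    (hU₀ : IsCompact (U₀ : Set X₀)) {X : Scheme.{u}} (qX : X ⟶ X₀) (h : X ⟶ c.pt)
    (hXY : IsPullback qX h h₀ (c.π.app i₀)) (hq : Scheme.IsQuasiAffine ((qX ⁻¹ᵁ U₀ : Scheme.Opens _) : Scheme.{u})) :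
    ∃ l : Over i₀, Scheme.IsQuasiAffine ((pullback.fst h₀ (D.map (l.hom ≫ 𝟙 i₀)) ⁻¹ᵁ U₀ : Scheme.Opens _) : Scheme.{u}) := by
  have hfstaff : ∀ l : Over i₀, IsAffineHom (pullback.fst h₀ (D.map (l.hom ≫ 𝟙 i₀))) := fun l =>
    MorphismProperty.pullback_fst (P := @IsAffineHom) _ _ inferInstance
  have hqsX : ∀ l : Over i₀, QuasiSeparatedSpace ↥(pullback h₀ (D.map (l.hom ≫ 𝟙 i₀))) :=
    fun l => quasiSeparatedSpace_of_quasiSeparated (pullback.fst h₀ (D.map (l.hom ≫ 𝟙 i₀)))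
  have hUc : IsCompact ((pullback.fst h₀ (D.map ((Over.mk (𝟙 i₀)).hom ≫ 𝟙 i₀)) ⁻¹ᵁ U₀ :
      (pullback h₀ (D.map ((Over.mk (𝟙 i₀)).hom ≫ 𝟙 i₀))).Opens) :
      Set ↥(pullback h₀ (D.map ((Over.mk (𝟙 i₀)).hom ≫ 𝟙 i₀)))) :=
    QuasiCompact.isCompact_preimage
      (f := pullback.fst h₀ (D.map ((Over.mk (𝟙 i₀)).hom ≫ 𝟙 i₀))) _ U₀.2 hU₀
  have hcomp : ∀ m : Over (Over.mk (𝟙 i₀) : Over i₀),
      CompactSpace ↥((opensDiagram (pbDiagram D (𝟙 i₀) h₀) (Over.mk (𝟙 i₀))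
        (pullback.fst h₀ (D.map ((Over.mk (𝟙 i₀)).hom ≫ 𝟙 i₀)) ⁻¹ᵁ U₀)).obj m) := fun m =>
    isCompact_iff_compactSpace.mp (QuasiCompact.isCompact_preimage
      (f := (pbDiagram D (𝟙 i₀) h₀).map m.hom) _
      (pullback.fst h₀ (D.map ((Over.mk (𝟙 i₀)).hom ≫ 𝟙 i₀)) ⁻¹ᵁ U₀).2 hUc)
  have hqs : ∀ m : Over (Over.mk (𝟙 i₀) : Over i₀),
      QuasiSeparatedSpace ↥((opensDiagram (pbDiagram D (𝟙 i₀) h₀) (Over.mk (𝟙 i₀))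
        (pullback.fst h₀ (D.map ((Over.mk (𝟙 i₀)).hom ≫ 𝟙 i₀)) ⁻¹ᵁ U₀)).obj m) := fun m => by
    have hm : QuasiSeparatedSpace ↥((pbDiagram D (𝟙 i₀) h₀).obj m.left) := hqsX m.left
    exact (isQuasiSeparated_iff_quasiSeparatedSpace _
      ((pbDiagram D (𝟙 i₀) h₀).map m.hom ⁻¹ᵁ
        (pullback.fst h₀ (D.map ((Over.mk (𝟙 i₀)).hom ≫ 𝟙 i₀)) ⁻¹ᵁ U₀)).2).mp
      (.of_quasiSeparatedSpace _)
  have e : pbLift D (𝟙 i₀) h₀ c qX h hXY.w (Over.mk (𝟙 i₀)) ⁻¹ᵁ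
      (pullback.fst h₀ (D.map ((Over.mk (𝟙 i₀)).hom ≫ 𝟙 i₀)) ⁻¹ᵁ U₀) = qX ⁻¹ᵁ U₀ := by
    rw [← Scheme.Hom.comp_preimage, pbLift_fst]
  have hpt0 : Scheme.IsQuasiAffine ((pbLift D (𝟙 i₀) h₀ c qX h hXY.w (Over.mk (𝟙 i₀)) ⁻¹ᵁ
      (pullback.fst h₀ (D.map ((Over.mk (𝟙 i₀)).hom ≫ 𝟙 i₀)) ⁻¹ᵁ U₀) : Scheme.Opens _) : Scheme.{u}) := by
    rw [e]
    exact hq
  have hpt : Scheme.IsQuasiAffine (opensCone (pbDiagram D (𝟙 i₀) h₀)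
      (pbCone D (𝟙 i₀) h₀ c qX h hXY.w) (Over.mk (𝟙 i₀))
      (pullback.fst h₀ (D.map ((Over.mk (𝟙 i₀)).hom ≫ 𝟙 i₀)) ⁻¹ᵁ U₀)).pt := hpt0
  obtain ⟨m, hm⟩ := Scheme.exists_isQuasiAffine_of_isLimit
    (opensDiagram (pbDiagram D (𝟙 i₀) h₀) (Over.mk (𝟙 i₀))
      (pullback.fst h₀ (D.map ((Over.mk (𝟙 i₀)).hom ≫ 𝟙 i₀)) ⁻¹ᵁ U₀))
    (opensCone (pbDiagram D (𝟙 i₀) h₀) (pbCone D (𝟙 i₀) h₀ c qX h hXY.w) (Over.mk (𝟙 i₀))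
      (pullback.fst h₀ (D.map ((Over.mk (𝟙 i₀)).hom ≫ 𝟙 i₀)) ⁻¹ᵁ U₀))
    (isLimitOpensCone (pbDiagram D (𝟙 i₀) h₀) (pbCone D (𝟙 i₀) h₀ c qX h hXY.w)
      (isLimitPbCone D (𝟙 i₀) h₀ c hc qX h hXY) (Over.mk (𝟙 i₀))
      (pullback.fst h₀ (D.map ((Over.mk (𝟙 i₀)).hom ≫ 𝟙 i₀)) ⁻¹ᵁ U₀))
  have hm' : Scheme.IsQuasiAffine ((pbMap D (𝟙 i₀) h₀ m.hom ⁻¹ᵁ
      (pullback.fst h₀ (D.map ((Over.mk (𝟙 i₀)).hom ≫ 𝟙 i₀)) ⁻¹ᵁ U₀) : Scheme.Opens _) : Scheme.{u}) := hm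
  rw [pbMap_preimage_fst_preimage] at hm'
  exact ⟨m.left, hm'⟩

end abs

section descend

variable {I : Type u} [SmallCategory I] [IsCofiltered I]
    (D : I ⥤ Scheme.{u}) (c : Limits.Cone D) (hc : Limits.IsLimit c)
    [∀ {i j : I} (f : i ⟶ j), IsAffineHom (D.map f)]
    (i₀ : I) {X₀ Y₀ : Scheme.{u}} (f₀ : X₀ ⟶ Y₀) (g₀ : Y₀ ⟶ D.obj i₀)

omit [IsCofiltered I] in
theorem pbRel_preimage_fst_preimage (l : Over i₀) (V₀ : Y₀.Opens) :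
    pbRel D (𝟙 i₀) f₀ g₀ l ⁻¹ᵁ (pullback.fst g₀ (D.map (l.hom ≫ 𝟙 i₀)) ⁻¹ᵁ V₀) =
      pullback.fst (f₀ ≫ g₀) (D.map (l.hom ≫ 𝟙 i₀)) ⁻¹ᵁ (f₀ ⁻¹ᵁ V₀) := by
  have e1 : pbRel D (𝟙 i₀) f₀ g₀ l ⁻¹ᵁ (pullback.fst g₀ (D.map (l.hom ≫ 𝟙 i₀)) ⁻¹ᵁ V₀) =
      (pbRel D (𝟙 i₀) f₀ g₀ l ≫ pullback.fst g₀ (D.map (l.hom ≫ 𝟙 i₀))) ⁻¹ᵁ V₀ := by
    rw [Scheme.Hom.comp_preimage]
  rw [e1, pbRel_fst, Scheme.Hom.comp_preimage]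

include hc in
/-- **Quasi-affine morphisms descend to a finite stage.** -/
theorem exists_qaHom_pbRel [QuasiSeparatedSpace X₀] [CompactSpace Y₀] [QuasiCompact f₀]
    {X Y : Scheme.{u}} (f : X ⟶ Y) (g : Y ⟶ c.pt) (qY : Y ⟶ Y₀) (qX : X ⟶ X₀)
    (hY : IsPullback qY g g₀ (c.π.app i₀)) (hX : IsPullback qX f f₀ qY)
    (hf : H93.QAff.QAHom f) :
    ∃ j : Over i₀, H93.QAff.QAHom (pbRel D (𝟙 i₀) f₀ g₀ j) := by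
  classical
  have hXY := hX.paste_vert hY
  have hπ : IsAffineHom (c.π.app i₀) := isAffineHom_π_app D c hc i₀
  have hqY : IsAffineHom qY := MorphismProperty.of_isPullback (P := @IsAffineHom) hY.flip hπ
  obtain ⟨s, hs⟩ := (IsOpenCover.mk (iSup_affineOpens_eq_top Y₀)).exists_finite_of_compactSpace
  let P : Over i₀ → Y₀.affineOpens → Prop := fun l W =>
    Scheme.IsQuasiAffine ((pullback.fst (f₀ ≫ g₀) (D.map (l.hom ≫ 𝟙 i₀)) ⁻¹ᵁ (f₀ ⁻¹ᵁ W.1) : Scheme.Opens _) : Scheme.{u})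
  have hP : ∀ W ∈ (s : Set Y₀.affineOpens), ∀ l₂ : Over i₀,
      ∃ (l : Over i₀) (_ : l ⟶ l₂), ∀ (l' : Over i₀) (_ : l' ⟶ l), P l' W := by
    intro W _ l₂
    have hUc : IsCompact ((f₀ ⁻¹ᵁ W.1 : X₀.Opens) : Set X₀) :=
      QuasiCompact.isCompact_preimage (f := f₀) _ W.1.2 W.2.isCompact
    have hq0 : Scheme.IsQuasiAffine ((f ⁻¹ᵁ (qY ⁻¹ᵁ W.1) : Scheme.Opens _) : Scheme.{u}) := hf.2 _ (W.2.preimage qY)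
    have e : qX ⁻¹ᵁ (f₀ ⁻¹ᵁ W.1) = f ⁻¹ᵁ (qY ⁻¹ᵁ W.1) := by
      rw [← Scheme.Hom.comp_preimage, ← Scheme.Hom.comp_preimage, hX.w]
    have hq : Scheme.IsQuasiAffine ((qX ⁻¹ᵁ (f₀ ⁻¹ᵁ W.1) : Scheme.Opens _) : Scheme.{u}) := by
      rw [e]
      exact hq0
    obtain ⟨l₀, hl₀⟩ := exists_isQuasiAffine_preimage_stage D c hc i₀ (f₀ ≫ g₀) (f₀ ⁻¹ᵁ W.1)
      hUc qX (f ≫ g) hXY hq
    refine ⟨IsCofiltered.min l₂ l₀, IsCofiltered.minToLeft _ _, fun l' ψ => ?_⟩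
    exact isQuasiAffine_preimage_of_hom D i₀ (f₀ ≫ g₀) (ψ ≫ IsCofiltered.minToRight l₂ l₀) _ hl₀
  obtain ⟨l, _, hl⟩ := exists_index_forall_finite (I := Over i₀)
    (s : Set Y₀.affineOpens) s.finite_toSet P hP (Over.mk (𝟙 i₀))
  refine ⟨l, ?_⟩
  have hfstaff : IsAffineHom (pullback.fst g₀ (D.map (l.hom ≫ 𝟙 i₀))) :=
    MorphismProperty.pullback_fst (P := @IsAffineHom) _ _ inferInstance
  refine H93.QAff.qaHom_of_cover (pbRel D (𝟙 i₀) f₀ g₀ l) (ι := ↥s)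
    (fun W => pullback.fst g₀ (D.map (l.hom ≫ 𝟙 i₀)) ⁻¹ᵁ W.1.1) ?_
    (fun W => W.1.2.preimage (pullback.fst g₀ (D.map (l.hom ≫ 𝟙 i₀)))) (fun W => ?_)
  · rw [← Scheme.Hom.preimage_iSup, hs.iSup_eq_top]
    rfl
  · rw [pbRel_preimage_fst_preimage]
    exact hl l (𝟙 l) W.1 W.2

end descend

end Groth.Agent.H24
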