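import Mathlib

/-!
# Image of the projection from a cofiltered limit of schemes (helper24)
-/

set_option autoImplicit false

open CategoryTheory AlgebraicGeometry Limits TopologicalSpace

universe u

namespace Groth.Agent.H24

attribute [local instance] IsCofiltered.isConnected

set_option backward.isDefEq.respectTransparency.types false in
theorem range_π_app {I : Type u} [SmallCategory I] [IsCofiltered I]
    (D : I ⥤ Scheme.{u}) (c : Limits.Cone D) (hc : Limits.IsLimit c)
    [∀ {i j : I} (f : i ⟶ j), IsAffineHom (D.map f)] (i : I) :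
    Set.range ⇑(c.π.app i) = ⋂ (j : I) (φ : j ⟶ i), Set.range ⇑(D.map φ) := by
  apply subset_antisymm
  · rintro _ ⟨x, rfl⟩
    simp only [Set.mem_iInter]
    intro j φ
    exact ⟨c.π.app j x, by rw [← Scheme.Hom.comp_apply, c.w]⟩
  · intro s hs
    simp only [Set.mem_iInter] at hs
    let g := (D.obj i).fromSpecResidueField s
    let F : Over i ⥤ Scheme := Over.post D ⋙ Over.pullback g ⋙ Over.forget _
    let cF : Cone F := (Over.pullback g ⋙ Over.forget _).mapCone ((Over.conePost _ _).obj c)
    have hcF : IsLimit cF :=
      isLimitOfPreserves (Over.pullback g ⋙ Over.forget _) (Over.isLimitConePost _ hc)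
    have hsnd : ∀ j : Over i, IsAffineHom (pullback.snd (D.map j.hom) g) := fun j =>
      MorphismProperty.pullback_snd _ _ inferInstance
    have hAff : ∀ j, IsAffine (F.obj j) := fun j =>
      @isAffine_of_isAffineHom _ _ (pullback.snd (D.map j.hom) g) (hsnd j) _
    have hne : ∀ j, Nonempty (F.obj j) := by
      intro j
      obtain ⟨y, hy⟩ := hs j.left j.hom
      obtain ⟨z, -, -⟩ := Scheme.Pullback.exists_preimage_pullback (f := D.map j.hom) (g := g) y
        (Classical.arbitrary _) (by rw [hy, Scheme.fromSpecResidueField_apply])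
      exact ⟨z⟩
    have hmap : ∀ {j k : Over i} (f : j ⟶ k), IsAffineHom (F.map f) := by
      intro j k f
      have h1 : F.map f ≫ pullback.snd (D.map k.hom) g = pullback.snd (D.map j.hom) g := by
        exact pullback.lift_snd _ _ _
      have : IsAffineHom (F.map f ≫ pullback.snd (D.map k.hom) g) := by
        rw [h1]; exact hsnd j
      have := hsnd k
      exact IsAffineHom.of_comp (F.map f) (pullback.snd (D.map k.hom) g)
    have : Nonempty cF.pt := Scheme.nonempty_of_isLimit F cF hcF
    obtain ⟨z⟩ := this
    change ↥(pullback (c.π.app i) g) at z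
    refine ⟨(pullback.fst (c.π.app i) g) z, ?_⟩
    rw [← Scheme.Hom.comp_apply, pullback.condition, Scheme.Hom.comp_apply,
      Scheme.fromSpecResidueField_apply]

end Groth.Agent.H24
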