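import Mathlib
import Groth.Agent.H24.LimBCClosed
import Groth.Agent.H24.LimClosedImm

/-!
# A limit of qcqs schemes is separated over `S` iff eventually the stages are (helper24)
-/

set_option autoImplicit false

open CategoryTheory AlgebraicGeometry Limits TopologicalSpace Topology

universe u

namespace Groth.Agent.H24

/-- Step C: from a closed immersion of a base change of the diagonal to separatedness of a
composite with a separated morphism. -/
theorem isSeparated_comp_of_isClosedImmersion_snd {X' X₁ S : Scheme.{u}} (φ : X' ⟶ X₁)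
    (h₁ : X₁ ⟶ S) [IsSeparated φ] {T : Scheme.{u}} (w : T ⟶ pullback h₁ h₁)
    (hw : IsClosedImmersion (pullback.snd (pullback.diagonal h₁) w))
    (r : pullback (φ ≫ h₁) (φ ≫ h₁) ⟶ T)
    (hr : r ≫ w = pullback.map (φ ≫ h₁) (φ ≫ h₁) h₁ h₁ φ φ (𝟙 S) (Category.comp_id _)
      (Category.comp_id _)) :
    IsSeparated (φ ≫ h₁) := by
  have h1 : IsClosedImmersion (pullback.snd (pullback.diagonal h₁) (r ≫ w)) :=
    isClosedImmersion_snd_comp _ _ _ hw
  rw [snd_iff_of_eq (pullback.diagonal h₁) @IsClosedImmersion hr] at h1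
  refine ⟨?_⟩
  rw [pullback.diagonal_comp]
  infer_instance

section

variable {I : Type u} [SmallCategory I] [IsCofiltered I]
    (D : I ⥤ Scheme.{u}) (c : Limits.Cone D) (hc : Limits.IsLimit c)
    [∀ {i j : I} (f : i ⟶ j), IsAffineHom (D.map f)]

include hc in
/-- Step A: the graph of `lim ⟶ X_i` is a closed immersion for some `i`. -/
theorem exists_isClosedImmersion_graph_stage {S : Scheme.{u}} (hX : c.pt ⟶ S) [IsSeparated hX]
    (i₀ : I) [CompactSpace (D.obj i₀)] (h₀ : D.obj i₀ ⟶ S) [QuasiCompact h₀]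
    (hh : c.π.app i₀ ≫ h₀ = hX) :
    ∃ (k₁ : Over i₀) (Γ : c.pt ⟶ pullback (pullback.snd hX h₀) (D.map (k₁.hom ≫ 𝟙 i₀))),
      IsClosedImmersion Γ ∧
      Γ ≫ pullback.fst (pullback.snd hX h₀) (D.map (k₁.hom ≫ 𝟙 i₀)) ≫ pullback.fst hX h₀ =
        𝟙 c.pt ∧
      Γ ≫ pullback.snd (pullback.snd hX h₀) (D.map (k₁.hom ≫ 𝟙 i₀)) = c.π.app k₁.left := by
  have hπ := isAffineHom_π_app D c hc
  haveI : CompactSpace c.pt := QuasiCompact.compactSpace_of_compactSpace (c.π.app i₀)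
  have e1 : pullback.fst hX hX ≫ hX = (pullback.snd hX hX ≫ c.π.app i₀) ≫ h₀ := by
    rw [Category.assoc, hh, pullback.condition]
  obtain ⟨qY, hqY1, hqY2⟩ : ∃ qY : pullback hX hX ⟶ pullback hX h₀,
      qY ≫ pullback.fst hX h₀ = pullback.fst hX hX ∧
      qY ≫ pullback.snd hX h₀ = pullback.snd hX hX ≫ c.π.app i₀ :=
    ⟨pullback.lift _ _ e1, pullback.lift_fst _ _ _, pullback.lift_snd _ _ _⟩
  have hY : IsPullback qY (pullback.snd hX hX) (pullback.snd hX h₀) (c.π.app i₀) := by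
    have big : IsPullback (qY ≫ pullback.fst hX h₀) (pullback.snd hX hX) hX
        (c.π.app i₀ ≫ h₀) := by
      rw [hqY1, hh]
      exact IsPullback.of_hasPullback hX hX
    exact IsPullback.of_right big hqY2 (IsPullback.of_hasPullback hX h₀)
  have hc1 : CompactSpace ↥(pullback hX h₀) := by
    have : QuasiCompact (pullback.fst hX h₀) :=
      MorphismProperty.pullback_fst (P := @QuasiCompact) _ _ inferInstance
    exact QuasiCompact.compactSpace_of_compactSpace (pullback.fst hX h₀)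
  have hcomp : CompactSpace
      ↥((pbDiagram D (𝟙 i₀) (pullback.snd hX h₀)).obj (Over.mk (𝟙 i₀))) := by
    have : IsAffineHom (pullback.fst (pullback.snd hX h₀)
        (D.map ((Over.mk (𝟙 i₀)).hom ≫ 𝟙 i₀))) :=
      MorphismProperty.pullback_fst (P := @IsAffineHom) _ _ inferInstance
    have h : CompactSpace ↥(pullback (pullback.snd hX h₀)
        (D.map ((Over.mk (𝟙 i₀)).hom ≫ 𝟙 i₀))) :=
      QuasiCompact.compactSpace_of_compactSpace (pullback.fst (pullback.snd hX h₀)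
        (D.map ((Over.mk (𝟙 i₀)).hom ≫ 𝟙 i₀)))
    exact h
  have e2 : ∀ l : Over i₀, pbLift D (𝟙 i₀) (pullback.snd hX h₀) c qY (pullback.snd hX hX) hY.w l ≫
      pullback.fst (pullback.snd hX h₀) (D.map (l.hom ≫ 𝟙 i₀)) ≫
      pullback.fst hX h₀ = pullback.fst hX hX := by
    intro l
    rw [← Category.assoc, pbLift_fst, hqY1]
  have eid : pullback.diagonal hX ≫
      (pbCone D (𝟙 i₀) (pullback.snd hX h₀) c qY (pullback.snd hX hX) hY.w).π.app
        (Over.mk (𝟙 i₀)) ≫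
      pullback.fst (pullback.snd hX h₀) (D.map ((Over.mk (𝟙 i₀)).hom ≫ 𝟙 i₀)) ≫
      pullback.fst hX h₀ = 𝟙 c.pt := by
    change pullback.diagonal hX ≫
      pbLift D (𝟙 i₀) (pullback.snd hX h₀) c qY (pullback.snd hX hX) hY.w (Over.mk (𝟙 i₀)) ≫
      _ ≫ _ = _
    rw [e2, pullback.diagonal_fst]
  have hlft : LocallyOfFiniteType (pullback.diagonal hX ≫
      (pbCone D (𝟙 i₀) (pullback.snd hX h₀) c qY (pullback.snd hX hX) hY.w).π.app
        (Over.mk (𝟙 i₀)) ≫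
      pullback.fst (pullback.snd hX h₀) (D.map ((Over.mk (𝟙 i₀)).hom ≫ 𝟙 i₀)) ≫
      pullback.fst hX h₀) := by
    rw [eid]
    infer_instance
  have hdiag : IsClosedImmersion (pullback.diagonal hX) := inferInstance
  obtain ⟨l, hl⟩ := @exists_isClosedImmersion_stage (Over i₀) _ _
    (pbDiagram D (𝟙 i₀) (pullback.snd hX h₀))
    (pbCone D (𝟙 i₀) (pullback.snd hX h₀) c qY (pullback.snd hX hX) hY.w)
    (isLimitPbCone D (𝟙 i₀) (pullback.snd hX h₀) c hc qY (pullback.snd hX hX) hY) _ c.pt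
    (Over.mk (𝟙 i₀)) hcomp
    (pullback.fst (pullback.snd hX h₀) (D.map ((Over.mk (𝟙 i₀)).hom ≫ 𝟙 i₀)) ≫
      pullback.fst hX h₀) _ (pullback.diagonal hX) hdiag hlft
  have hl' : IsClosedImmersion (pullback.diagonal hX ≫
      pbLift D (𝟙 i₀) (pullback.snd hX h₀) c qY (pullback.snd hX hX) hY.w l.left) := hl
  refine ⟨l.left, _, hl', ?_, ?_⟩
  · rw [Category.assoc, e2, pullback.diagonal_fst]
  · rw [Category.assoc, pbLift_snd, ← Category.assoc, pullback.diagonal_snd, Category.id_comp]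

include hc in
/-- Step B: closed immersion of the base change of the diagonal at some stage. -/
theorem exists_isClosedImmersion_snd_diagonal_stage {S : Scheme.{u}} [QuasiSeparatedSpace S]
    (i₁ : I) [CompactSpace (D.obj i₁)] [QuasiSeparatedSpace (D.obj i₁)] (h₁ : D.obj i₁ ⟶ S)
    {T : Scheme.{u}} (Γ : c.pt ⟶ T) [IsClosedImmersion Γ] (g : T ⟶ c.pt) (p : T ⟶ D.obj i₁)
    (hΓ1 : Γ ≫ g = 𝟙 _) (hΓ2 : Γ ≫ p = c.π.app i₁)
    (hT : IsPullback p g h₁ (c.π.app i₁ ≫ h₁)) :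
    ∃ j : Over i₁, IsClosedImmersion (pullback.snd (pullback.diagonal h₁)
      (pullback.fst (pullback.fst h₁ h₁) (D.map (j.hom ≫ 𝟙 i₁)))) := by
  have e1 : (g ≫ c.π.app i₁) ≫ h₁ = p ≫ h₁ := by rw [Category.assoc, ← hT.w]
  obtain ⟨qY, hqY1, hqY2⟩ : ∃ qY : T ⟶ pullback h₁ h₁,
      qY ≫ pullback.fst h₁ h₁ = g ≫ c.π.app i₁ ∧ qY ≫ pullback.snd h₁ h₁ = p :=
    ⟨pullback.lift _ _ e1, pullback.lift_fst _ _ _, pullback.lift_snd _ _ _⟩
  have hY : IsPullback qY g (pullback.fst h₁ h₁) (c.π.app i₁) := by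
    have big : IsPullback (qY ≫ pullback.snd h₁ h₁) g h₁ (c.π.app i₁ ≫ h₁) := by
      rw [hqY2]
      exact hT
    exact IsPullback.of_right big hqY1 (IsPullback.of_hasPullback h₁ h₁).flip
  have hX : IsPullback (c.π.app i₁) Γ (pullback.diagonal h₁) qY := by
    have big : IsPullback (c.π.app i₁) (Γ ≫ g) (pullback.diagonal h₁ ≫ pullback.fst h₁ h₁)
        (c.π.app i₁) := by
      rw [hΓ1, pullback.diagonal_fst]
      exact IsPullback.id_vert _
    refine IsPullback.of_bot big ?_ hY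
    apply pullback.hom_ext
    · rw [Category.assoc, pullback.diagonal_fst, Category.comp_id, Category.assoc, hqY1,
        ← Category.assoc, hΓ1]
      exact (Category.id_comp _).symm
    · rw [Category.assoc, pullback.diagonal_snd, Category.comp_id, Category.assoc, hqY2, hΓ2]
  have hqc : QuasiCompact (pullback.fst h₁ h₁) :=
    MorphismProperty.pullback_fst (P := @QuasiCompact) _ _ inferInstance
  have hqs : QuasiSeparated (pullback.fst h₁ h₁) :=
    MorphismProperty.pullback_fst (P := @QuasiSeparated) _ _ inferInstance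
  have e : pullback.diagonal h₁ ≫ pullback.fst h₁ h₁ = 𝟙 _ := pullback.diagonal_fst _
  have hqc' : QuasiCompact (pullback.diagonal h₁ ≫ pullback.fst h₁ h₁) := by
    rw [e]; infer_instance
  have hqs' : QuasiSeparated (pullback.diagonal h₁ ≫ pullback.fst h₁ h₁) := by
    rw [e]; infer_instance
  obtain ⟨j, hj⟩ := exists_isClosedImmersion_pbRel D c hc i₁ (pullback.diagonal h₁)
    (pullback.fst h₁ h₁) Γ g qY (c.π.app i₁) hY hX
  refine ⟨j, ?_⟩
  have sq := isPullback_pbRel D (𝟙 i₁) (pullback.diagonal h₁) (pullback.fst h₁ h₁) j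
  have e' : pullback.snd (pullback.diagonal h₁)
      (pullback.fst (pullback.fst h₁ h₁) (D.map (j.hom ≫ 𝟙 i₁))) =
      sq.isoPullback.inv ≫ pbRel D (𝟙 i₁) (pullback.diagonal h₁) (pullback.fst h₁ h₁) j := by
    rw [Iso.eq_inv_comp, sq.isoPullback_hom_snd]
  rw [e']
  infer_instance

include hc in
/-- **If the limit is separated over `S`, so are all sufficiently late stages.** -/
theorem eventually_isSeparated_of_isSeparated_limit (S : Scheme.{u}) [QuasiSeparatedSpace S]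
    [∀ i, CompactSpace (D.obj i)] [∀ i, QuasiSeparatedSpace (D.obj i)]
    (h : ∀ i, D.obj i ⟶ S) (hcompat : ∀ {i j : I} (a : i ⟶ j), D.map a ≫ h j = h i)
    (i₀ : I) [IsSeparated (c.π.app i₀ ≫ h i₀)] :
    ∃ i₁ : I, ∀ (i : I) (_ : i ⟶ i₁), IsSeparated (h i) := by
  obtain ⟨k₁, Γ, hΓ, hΓ1, hΓ2⟩ := exists_isClosedImmersion_graph_stage D c hc
    (c.π.app i₀ ≫ h i₀) i₀ (h i₀) rfl
  have hXi : c.π.app k₁.left ≫ h k₁.left = c.π.app i₀ ≫ h i₀ := by
    rw [← hcompat (k₁.hom ≫ 𝟙 i₀), c.w_assoc]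
  have hT : IsPullback (pullback.snd (pullback.snd (c.π.app i₀ ≫ h i₀) (h i₀))
        (D.map (k₁.hom ≫ 𝟙 i₀)))
      (pullback.fst (pullback.snd (c.π.app i₀ ≫ h i₀) (h i₀)) (D.map (k₁.hom ≫ 𝟙 i₀)) ≫
        pullback.fst (c.π.app i₀ ≫ h i₀) (h i₀))
      (h k₁.left) (c.π.app k₁.left ≫ h k₁.left) := by
    have := (IsPullback.of_hasPullback (pullback.snd (c.π.app i₀ ≫ h i₀) (h i₀))
      (D.map (k₁.hom ≫ 𝟙 i₀))).flip.paste_vert
      (IsPullback.of_hasPullback (c.π.app i₀ ≫ h i₀) (h i₀)).flip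
    rw [hcompat (k₁.hom ≫ 𝟙 i₀)] at this
    rw [hXi]
    exact this
  obtain ⟨j, hj⟩ := exists_isClosedImmersion_snd_diagonal_stage D c hc k₁.left (h k₁.left) Γ
    (pullback.fst (pullback.snd (c.π.app i₀ ≫ h i₀) (h i₀)) (D.map (k₁.hom ≫ 𝟙 i₀)) ≫
      pullback.fst (c.π.app i₀ ≫ h i₀) (h i₀))
    (pullback.snd (pullback.snd (c.π.app i₀ ≫ h i₀) (h i₀)) (D.map (k₁.hom ≫ 𝟙 i₀)))
    hΓ1 hΓ2 hT
  refine ⟨j.left, fun i a => ?_⟩
  rw [← hcompat (a ≫ j.hom ≫ 𝟙 k₁.left)]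
  have cond : pullback.map (D.map (a ≫ j.hom ≫ 𝟙 k₁.left) ≫ h k₁.left)
      (D.map (a ≫ j.hom ≫ 𝟙 k₁.left) ≫ h k₁.left) (h k₁.left) (h k₁.left)
      (D.map (a ≫ j.hom ≫ 𝟙 k₁.left)) (D.map (a ≫ j.hom ≫ 𝟙 k₁.left)) (𝟙 S)
      (Category.comp_id _) (Category.comp_id _) ≫ pullback.fst (h k₁.left) (h k₁.left) =
      (pullback.fst (D.map (a ≫ j.hom ≫ 𝟙 k₁.left) ≫ h k₁.left)
        (D.map (a ≫ j.hom ≫ 𝟙 k₁.left) ≫ h k₁.left) ≫ D.map a) ≫
        D.map (j.hom ≫ 𝟙 k₁.left) := by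
    rw [pullback.lift_fst, Category.assoc, ← D.map_comp]
  exact isSeparated_comp_of_isClosedImmersion_snd (D.map (a ≫ j.hom ≫ 𝟙 k₁.left)) (h k₁.left)
    (pullback.fst (pullback.fst (h k₁.left) (h k₁.left)) (D.map (j.hom ≫ 𝟙 k₁.left))) hj
    (pullback.lift _ _ cond) (pullback.lift_fst _ _ _)

end

end Groth.Agent.H24
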