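import Mathlib
import Groth.Agent.H24.LimDescend2

/-!
# Unramified morphisms descend to a finite stage of a cofiltered limit (helper24)
-/

set_option autoImplicit false

open CategoryTheory AlgebraicGeometry Limits TopologicalSpace Topology

universe u

namespace Groth.Agent.H24

variable {I : Type u} [SmallCategory I] [IsCofiltered I]
    (D : I ⥤ Scheme.{u}) (c : Limits.Cone D) (hc : Limits.IsLimit c)
    [∀ {i j : I} (f : i ⟶ j), IsAffineHom (D.map f)]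
    (i₀ : I) {X₀ Y₀ : Scheme.{u}} (f₀ : X₀ ⟶ Y₀) (g₀ : Y₀ ⟶ D.obj i₀)

include hc in
/-- **Unramified morphisms descend to a finite stage.** -/
theorem exists_formallyUnramified_pbRel [CompactSpace Y₀]
    [LocallyOfFiniteType f₀] [QuasiCompact f₀] [QuasiSeparated f₀]
    {X Y : Scheme.{u}} (f : X ⟶ Y) (g : Y ⟶ c.pt) (qY : Y ⟶ Y₀) (qX : X ⟶ X₀)
    (hY : IsPullback qY g g₀ (c.π.app i₀)) (hX : IsPullback qX f f₀ qY)
    [FormallyUnramified f] :
    ∃ j : Over i₀, FormallyUnramified (pbRel D (𝟙 i₀) f₀ g₀ j) := by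
  have hX₀ : CompactSpace X₀ := QuasiCompact.compactSpace_of_compactSpace f₀
  have hW₀ : CompactSpace ↥(pullback f₀ f₀) :=
    QuasiCompact.compactSpace_of_compactSpace (pullback.fst f₀ f₀)
  have hΔ : LocallyOfFinitePresentation (pullback.diagonal f₀) :=
    locallyOfFinitePresentation_diagonal f₀
  have hfLFT : LocallyOfFiniteType f :=
    MorphismProperty.of_isPullback (P := @LocallyOfFiniteType) hX inferInstance
  have h1 : IsOpenImmersion (pullback.diagonal f) := inferInstance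
  have h2 : IsOpenImmersion (pullback.snd (pullback.diagonal f₀)
      (pullback.fst (hW f₀ g₀) (c.π.app i₀))) :=
    (diagonal_baseChange_iff f₀ g₀ (c.π.app i₀) hY hX @IsOpenImmersion).mp h1
  have hP : IsPullback (pullback.fst (hW f₀ g₀) (c.π.app i₀))
      (pullback.snd (hW f₀ g₀) (c.π.app i₀)) (hW f₀ g₀) (c.π.app i₀) :=
    IsPullback.of_hasPullback _ _
  have hcomp : CompactSpace ↥((pbDiagram D (𝟙 i₀) (hW f₀ g₀)).obj (Over.mk (𝟙 i₀))) := by
    have : IsAffineHom (pullback.fst (hW f₀ g₀) (D.map ((Over.mk (𝟙 i₀)).hom ≫ 𝟙 i₀))) :=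
      MorphismProperty.pullback_fst (P := @IsAffineHom) _ _ inferInstance
    have h : CompactSpace ↥(pullback (hW f₀ g₀) (D.map ((Over.mk (𝟙 i₀)).hom ≫ 𝟙 i₀))) :=
      QuasiCompact.compactSpace_of_compactSpace
        (pullback.fst (hW f₀ g₀) (D.map ((Over.mk (𝟙 i₀)).hom ≫ 𝟙 i₀)))
    exact h
  have hi1 : Mono (pullback.snd (pullback.diagonal f₀)
      (pullback.fst (hW f₀ g₀) (D.map ((Over.mk (𝟙 i₀)).hom ≫ 𝟙 i₀)))) := inferInstance
  have hi2 : LocallyOfFinitePresentation (pullback.snd (pullback.diagonal f₀)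
      (pullback.fst (hW f₀ g₀) (D.map ((Over.mk (𝟙 i₀)).hom ≫ 𝟙 i₀)))) :=
    MorphismProperty.pullback_snd (P := @LocallyOfFinitePresentation) _ _ hΔ
  have hi3 : QuasiCompact (pullback.snd (pullback.diagonal f₀)
      (pullback.fst (hW f₀ g₀) (D.map ((Over.mk (𝟙 i₀)).hom ≫ 𝟙 i₀)))) :=
    MorphismProperty.pullback_snd (P := @QuasiCompact) _ _ inferInstance
  have h3 : IsOpenImmersion (pullback.snd (pullback.snd (pullback.diagonal f₀)
      (pullback.fst (hW f₀ g₀) (D.map ((Over.mk (𝟙 i₀)).hom ≫ 𝟙 i₀))))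
      (pbLift D (𝟙 i₀) (hW f₀ g₀) c _ _ hP.w (Over.mk (𝟙 i₀)))) := by
    rw [snd_snd_iff (pullback.diagonal f₀) @IsOpenImmersion,
      snd_iff_of_eq (pullback.diagonal f₀) @IsOpenImmersion
        (pbLift_fst D (𝟙 i₀) (hW f₀ g₀) c _ _ hP.w (Over.mk (𝟙 i₀)))]
    exact h2
  obtain ⟨j, φ, hj⟩ := @exists_isOpenImmersion_stage_of_mono (Over i₀) _ _
    (pbDiagram D (𝟙 i₀) (hW f₀ g₀)) (pbCone D (𝟙 i₀) (hW f₀ g₀) c _ _ hP.w)
    (isLimitPbCone D (𝟙 i₀) (hW f₀ g₀) c hc _ _ hP) _ (Over.mk (𝟙 i₀)) hcomp _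
    (pullback.snd (pullback.diagonal f₀)
      (pullback.fst (hW f₀ g₀) (D.map ((Over.mk (𝟙 i₀)).hom ≫ 𝟙 i₀)))) hi1 hi2 hi3 h3
  have hj' : IsOpenImmersion (pullback.snd (pullback.snd (pullback.diagonal f₀)
      (pullback.fst (hW f₀ g₀) (D.map ((Over.mk (𝟙 i₀)).hom ≫ 𝟙 i₀))))
      (pbMap D (𝟙 i₀) (hW f₀ g₀) φ)) := hj
  rw [snd_snd_iff (pullback.diagonal f₀) @IsOpenImmersion,
    snd_iff_of_eq (pullback.diagonal f₀) @IsOpenImmersion
      (pbMap_fst D (𝟙 i₀) (hW f₀ g₀) φ)] at hj'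
  have h4 : IsOpenImmersion (pullback.diagonal (pbRel D (𝟙 i₀) f₀ g₀ j)) :=
    (diagonal_baseChange_iff f₀ g₀ (D.map (j.hom ≫ 𝟙 i₀)) (IsPullback.of_hasPullback g₀ _)
      (isPullback_pbRel D (𝟙 i₀) f₀ g₀ j) @IsOpenImmersion).mpr hj'
  exact ⟨j, inferInstance⟩

end Groth.Agent.H24
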