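import Mathlib
import Groth.Agent.H24.LimPoints

/-!
# Maximal points (points without proper generizations) and limits (helper24)
-/

set_option autoImplicit false

open CategoryTheory AlgebraicGeometry Limits TopologicalSpace Topology Opposite

universe u

namespace Groth.Agent.H24

section Top

variable {X : Type*} [TopologicalSpace X] [QuasiSober X] [T0Space X]

/-- Every point has a generization which is a maximal point. -/
theorem exists_maximal_generization (x : X) :
    ∃ m : X, (∀ z : X, z ⤳ m → z = m) ∧ m ⤳ x := by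
  have hirr : IsIrreducible (irreducibleComponent x) := isIrreducible_irreducibleComponent
  have hcl : IsClosed (irreducibleComponent x) := isClosed_irreducibleComponent
  have hg := hirr.isGenericPoint_genericPoint hcl
  refine ⟨hirr.genericPoint, ?_, ?_⟩
  · intro z hz
    have h1 : irreducibleComponent x ⊆ closure {z} := by
      have := specializes_iff_closure_subset.mp hz
      rwa [hg.def] at this
    have h2 : closure {z} = irreducibleComponent x :=
      eq_irreducibleComponent isIrreducible_singleton.closure.isPreirreducible h1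
    have h3 : hirr.genericPoint ⤳ z := by
      rw [specializes_iff_mem_closure, hg.def, ← h2]
      exact subset_closure rfl
    exact (hz.antisymm h3).eq
  · rw [specializes_iff_mem_closure, hg.def]
    exact mem_irreducibleComponent

/-- An open set containing all maximal points is dense. -/
theorem dense_of_maximal_mem (V : Set X) (hV : IsOpen V)
    (h : ∀ m : X, (∀ z : X, z ⤳ m → z = m) → m ∈ V) : Dense V := by
  rw [dense_iff_inter_open]
  rintro W hW ⟨x, hx⟩
  obtain ⟨m, hm, hmx⟩ := exists_maximal_generization x
  exact ⟨m, hmx.mem_open hW hx, h m hm⟩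

/-- If there are finitely many maximal points, a dense open contains all of them. -/
theorem maximal_mem_of_dense (hfin : {s : X | ∀ z : X, z ⤳ s → z = s}.Finite)
    (V : Set X) (hV : IsOpen V) (hd : Dense V) (m : X) (hm : ∀ z : X, z ⤳ m → z = m) :
    m ∈ V := by
  have hfin' : {s : X | (∀ z : X, z ⤳ s → z = s) ∧ s ≠ m}.Finite :=
    hfin.subset (fun s hs => hs.1)
  have hC : IsClosed (⋃ m' ∈ {s : X | (∀ z : X, z ⤳ s → z = s) ∧ s ≠ m}, closure {m'}) :=
    hfin'.isClosed_biUnion (fun _ _ => isClosed_closure)
  have hmC : m ∉ (⋃ m' ∈ {s : X | (∀ z : X, z ⤳ s → z = s) ∧ s ≠ m}, closure {m'}) := by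
    intro hmem
    rw [Set.mem_iUnion₂] at hmem
    obtain ⟨m', ⟨-, hne⟩, hmem⟩ := hmem
    exact hne (hm m' (specializes_iff_mem_closure.mpr hmem))
  obtain ⟨y, hyC, hyV⟩ := hd.inter_open_nonempty _ hC.isOpen_compl ⟨m, hmC⟩
  obtain ⟨m'', hm'', hmy⟩ := exists_maximal_generization y
  have : m'' = m := by
    by_contra hne
    exact hyC (Set.mem_biUnion (show m'' ∈ {s : X | (∀ z : X, z ⤳ s → z = s) ∧ s ≠ m} from
      ⟨hm'', hne⟩) (specializes_iff_mem_closure.mp hmy))
  subst this
  exact hmy.mem_open hV hyV

end Top

section Lim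

variable {I : Type u} [SmallCategory I] [IsCofiltered I] (D : I ⥤ Scheme.{u}) (c : Cone D)
  (hc : IsLimit c) [∀ {i j : I} (f : i ⟶ j), IsAffineHom (D.map f)]

include hc in
/-- Specialization in the limit is detected stagewise. -/
theorem specializes_of_forall_specializes (z s : c.pt)
    (h : ∀ i, c.π.app i z ⤳ c.π.app i s) : z ⤳ s := by
  rw [specializes_iff_forall_open]
  intro U hU hsU
  obtain ⟨_, ⟨i, V, -, rfl⟩, hsV, hVU⟩ :=
    Opens.isBasis_iff_nbhd.mp (isBasis_preimage_isAffineOpen D c hc) (U := ⟨U, hU⟩) hsU
  apply hVU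
  exact (h i).mem_open V.2 hsV

include hc in
/-- A compatible system of finite nonempty sets of points has a point of the limit in it. -/
theorem exists_point_mem_of_finite_system (G : ∀ i, Set (D.obj i)) (hfin : ∀ i, (G i).Finite)
    (hne : ∀ i, (G i).Nonempty)
    (hmap : ∀ {i j : I} (g : i ⟶ j) (x : D.obj i), x ∈ G i → D.map g x ∈ G j) :
    ∃ x : c.pt, ∀ i, c.π.app i x ∈ G i := by
  let F : I ⥤ Type u :=
    { obj := fun i => G i
      map := fun {i j} g => TypeCat.ofHom (fun x : G i => (⟨D.map g x.1, hmap g x.1 x.2⟩ : G j))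
      map_id := fun i => by
        ext x
        change (D.map (𝟙 i)) x.1 = x.1
        rw [D.map_id]
        rfl
      map_comp := fun f g => by
        ext x
        change (D.map (f ≫ g)) x.1 = D.map g (D.map f x.1)
        rw [D.map_comp]
        rfl }
  have : ∀ i, Finite (F.obj i) := fun i => (hfin i).to_subtype
  have : ∀ i, Nonempty (F.obj i) := fun i => (hne i).to_subtype
  obtain ⟨t, ht⟩ := nonempty_sections_of_finite_cofiltered_system F
  obtain ⟨x, hx⟩ := exists_point_of_compatible D (fun i => ((t i : G i) : D.obj i))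
    (fun {i j} φ => congrArg (Subtype.val : G j → D.obj j) (ht φ)) c hc
  exact ⟨x, fun i => (hx i) ▸ (t i : G i).2⟩

end Lim

end Groth.Agent.H24
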