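import Mathlib

/-!
# Milnor squares of rings (helper24)

`MilnorSq fst snd q p`: `C = B ×_A A'` with `p : A' → A` surjective, in elementwise form.
Stable under localization at an element of `C`.
-/

set_option autoImplicit false

universe u

namespace Groth.Agent.H24

variable {A A' B C : Type u} [CommRing A] [CommRing A'] [CommRing B] [CommRing C]

/-- `C` is the fibre product `B ×_A A'` and `p : A' → A` is surjective. -/
structure MilnorSq (fst : C →+* B) (snd : C →+* A') (q : B →+* A) (p : A' →+* A) : Prop where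
  comm : ∀ c, q (fst c) = p (snd c)
  surj : Function.Surjective p
  ex : ∀ b a', q b = p a' → ∃ c, fst c = b ∧ snd c = a'
  inj : ∀ c c', fst c = fst c' → snd c = snd c' → c = c'

namespace MilnorSq

variable {fst : C →+* B} {snd : C →+* A'} {q : B →+* A} {p : A' →+* A}

theorem fst_surjective (h : MilnorSq fst snd q p) : Function.Surjective fst := by
  intro b
  obtain ⟨a', ha'⟩ := h.surj (q b)
  obtain ⟨c, hc, -⟩ := h.ex b a' ha'.symm
  exact ⟨c, hc⟩

theorem eq_zero (h : MilnorSq fst snd q p) {c : C} (h1 : fst c = 0) (h2 : snd c = 0) : c = 0 :=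
  h.inj c 0 (by rw [h1, map_zero]) (by rw [h2, map_zero])

/-- Lifting ring homomorphisms into the fibre product. -/
theorem exists_lift (h : MilnorSq fst snd q p) {R : Type u} [CommRing R] (u : R →+* B)
    (v : R →+* A') (huv : q.comp u = p.comp v) :
    ∃ w : R →+* C, fst.comp w = u ∧ snd.comp w = v := by
  let φ : C →+* RingHom.eqLocus (q.comp (RingHom.fst B A')) (p.comp (RingHom.snd B A')) :=
    (fst.prod snd).codRestrict _ (fun c => h.comm c)
  have hφ : Function.Bijective φ := by
    constructor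
    · intro c c' hcc
      have h1 := congrArg (fun x : RingHom.eqLocus (q.comp (RingHom.fst B A'))
        (p.comp (RingHom.snd B A')) => (x : B × A').1) hcc
      have h2 := congrArg (fun x : RingHom.eqLocus (q.comp (RingHom.fst B A'))
        (p.comp (RingHom.snd B A')) => (x : B × A').2) hcc
      exact h.inj c c' h1 h2
    · rintro ⟨⟨b, a'⟩, hba⟩
      obtain ⟨c, hc1, hc2⟩ := h.ex b a' hba
      exact ⟨c, Subtype.ext (Prod.ext hc1 hc2)⟩
  let ψ : R →+* RingHom.eqLocus (q.comp (RingHom.fst B A')) (p.comp (RingHom.snd B A')) :=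
    (u.prod v).codRestrict _ (fun r => congrArg (fun f : R →+* A => f r) huv)
  refine ⟨(RingEquiv.ofBijective φ hφ).symm.toRingHom.comp ψ, ?_, ?_⟩
  · ext r
    have := (RingEquiv.ofBijective φ hφ).apply_symm_apply (ψ r)
    exact congrArg (fun x : RingHom.eqLocus (q.comp (RingHom.fst B A'))
      (p.comp (RingHom.snd B A')) => (x : B × A').1) this
  · ext r
    have := (RingEquiv.ofBijective φ hφ).apply_symm_apply (ψ r)
    exact congrArg (fun x : RingHom.eqLocus (q.comp (RingHom.fst B A'))
      (p.comp (RingHom.snd B A')) => (x : B × A').2) this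

/-- A Milnor square stays a Milnor square after localizing at an element of `C`. -/
theorem localization (h : MilnorSq fst snd q p) (r : C)
    {Cr Br Ar' Ar : Type u} [CommRing Cr] [CommRing Br] [CommRing Ar'] [CommRing Ar]
    [Algebra C Cr] [Algebra B Br] [Algebra A' Ar'] [Algebra A Ar]
    [IsLocalization.Away r Cr] [IsLocalization.Away (fst r) Br]
    [IsLocalization.Away (snd r) Ar'] [IsLocalization.Away (q (fst r)) Ar]
    (fst' : Cr →+* Br) (snd' : Cr →+* Ar') (q' : Br →+* Ar) (p' : Ar' →+* Ar)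
    (hfst : fst'.comp (algebraMap C Cr) = (algebraMap B Br).comp fst)
    (hsnd : snd'.comp (algebraMap C Cr) = (algebraMap A' Ar').comp snd)
    (hq : q'.comp (algebraMap B Br) = (algebraMap A Ar).comp q)
    (hp : p'.comp (algebraMap A' Ar') = (algebraMap A Ar).comp p) :
    MilnorSq fst' snd' q' p' := by
  have hfst' : ∀ c, fst' (algebraMap C Cr c) = algebraMap B Br (fst c) :=
    fun c => congrArg (fun f : C →+* Br => f c) hfst
  have hsnd' : ∀ c, snd' (algebraMap C Cr c) = algebraMap A' Ar' (snd c) :=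
    fun c => congrArg (fun f : C →+* Ar' => f c) hsnd
  have hq' : ∀ b, q' (algebraMap B Br b) = algebraMap A Ar (q b) :=
    fun b => congrArg (fun f : B →+* Ar => f b) hq
  have hp' : ∀ a, p' (algebraMap A' Ar' a) = algebraMap A Ar (p a) :=
    fun a => congrArg (fun f : A' →+* Ar => f a) hp
  have uC : IsUnit (algebraMap C Cr r) := IsLocalization.Away.algebraMap_isUnit r
  have uB : IsUnit (algebraMap B Br (fst r)) := IsLocalization.Away.algebraMap_isUnit (fst r)
  have uA' : IsUnit (algebraMap A' Ar' (snd r)) := IsLocalization.Away.algebraMap_isUnit (snd r)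
  have uA : IsUnit (algebraMap A Ar (q (fst r))) :=
    IsLocalization.Away.algebraMap_isUnit (q (fst r))
  refine ⟨?_, ?_, ?_, ?_⟩
  · -- comm
    have : q'.comp fst' = p'.comp snd' := by
      apply IsLocalization.ringHom_ext (Submonoid.powers r)
      ext c
      simp only [RingHom.comp_apply]
      rw [hfst', hq', hsnd', hp', h.comm]
    exact fun c => congrArg (fun f : Cr →+* Ar => f c) this
  · -- surj
    intro y
    obtain ⟨n, a, hna⟩ := IsLocalization.Away.surj (q (fst r)) y
    obtain ⟨a₀, rfl⟩ := h.surj a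
    refine ⟨IsLocalization.mk' Ar' a₀ (⟨(snd r) ^ n, n, rfl⟩ : Submonoid.powers (snd r)), ?_⟩
    apply (uA.pow n).mul_left_injective
    change p' _ * algebraMap A Ar (q (fst r)) ^ n = y * algebraMap A Ar (q (fst r)) ^ n
    rw [hna]
    have e : algebraMap A Ar (q (fst r)) ^ n = p' (algebraMap A' Ar' ((snd r) ^ n)) := by
      rw [hp', map_pow, ← h.comm r, map_pow]
    rw [e, ← map_mul]
    have := IsLocalization.mk'_spec Ar' a₀ (⟨(snd r) ^ n, n, rfl⟩ : Submonoid.powers (snd r))
    rw [this, hp']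
  · -- ex
    intro b' a'' hba
    obtain ⟨n₁, b₀, hb₀⟩ := IsLocalization.Away.surj (fst r) b'
    obtain ⟨n₂, a₀, ha₀⟩ := IsLocalization.Away.surj (snd r) a''
    have hb₁ : b' * algebraMap B Br (fst r) ^ (n₁ + n₂) =
        algebraMap B Br (b₀ * (fst r) ^ n₂) := by
      rw [pow_add, ← mul_assoc, hb₀, map_mul, map_pow]
    have ha₁ : a'' * algebraMap A' Ar' (snd r) ^ (n₁ + n₂) =
        algebraMap A' Ar' (a₀ * (snd r) ^ n₁) := by
      rw [add_comm, pow_add, ← mul_assoc, ha₀, map_mul, map_pow]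
    have hAr : algebraMap A Ar (q (b₀ * (fst r) ^ n₂)) =
        algebraMap A Ar (p (a₀ * (snd r) ^ n₁)) := by
      rw [← hq', ← hb₁, ← hp', ← ha₁, map_mul, map_mul, hba, map_pow, map_pow, hq', hp',
        h.comm r]
    obtain ⟨⟨_, m, rfl⟩, hm⟩ :=
      (IsLocalization.eq_iff_exists (Submonoid.powers (q (fst r))) Ar).mp hAr
    have hm' : q ((fst r) ^ m * (b₀ * (fst r) ^ n₂)) = p ((snd r) ^ m * (a₀ * (snd r) ^ n₁)) := by
      rw [map_mul, map_mul p, map_pow, map_pow p, ← h.comm r]
      exact hm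
    obtain ⟨c₀, hc1, hc2⟩ := h.ex _ _ hm'
    refine ⟨IsLocalization.mk' Cr c₀ (⟨r ^ (m + (n₁ + n₂)), _, rfl⟩ : Submonoid.powers r),
      ?_, ?_⟩
    · apply (uB.pow (m + (n₁ + n₂))).mul_left_injective
      change fst' _ * algebraMap B Br (fst r) ^ (m + (n₁ + n₂)) =
        b' * algebraMap B Br (fst r) ^ (m + (n₁ + n₂))
      have e : algebraMap B Br (fst r) ^ (m + (n₁ + n₂)) =
          fst' (algebraMap C Cr (r ^ (m + (n₁ + n₂)))) := by
        rw [hfst', map_pow, map_pow]
      rw [e, ← map_mul]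
      have := IsLocalization.mk'_spec Cr c₀
        (⟨r ^ (m + (n₁ + n₂)), _, rfl⟩ : Submonoid.powers r)
      rw [this, hfst', hc1, ← e, map_mul, map_pow, ← hb₁, pow_add]
      ring
    · apply (uA'.pow (m + (n₁ + n₂))).mul_left_injective
      change snd' _ * algebraMap A' Ar' (snd r) ^ (m + (n₁ + n₂)) =
        a'' * algebraMap A' Ar' (snd r) ^ (m + (n₁ + n₂))
      have e : algebraMap A' Ar' (snd r) ^ (m + (n₁ + n₂)) =
          snd' (algebraMap C Cr (r ^ (m + (n₁ + n₂)))) := by
        rw [hsnd', map_pow, map_pow]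
      rw [e, ← map_mul]
      have := IsLocalization.mk'_spec Cr c₀
        (⟨r ^ (m + (n₁ + n₂)), _, rfl⟩ : Submonoid.powers r)
      rw [this, hsnd', hc2, ← e, map_mul, map_pow, ← ha₁, pow_add]
      ring
  · -- inj
    intro c c' h1 h2
    suffices hz : ∀ d : Cr, fst' d = 0 → snd' d = 0 → d = 0 by
      have := hz (c - c') (by rw [map_sub, h1, sub_self]) (by rw [map_sub, h2, sub_self])
      exact sub_eq_zero.mp this
    intro d hd1 hd2
    obtain ⟨n, c₀, hc₀⟩ := IsLocalization.Away.surj r d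
    have e1 : algebraMap B Br (fst c₀) = 0 := by
      rw [← hfst', ← hc₀, map_mul, hd1, zero_mul]
    have e2 : algebraMap A' Ar' (snd c₀) = 0 := by
      rw [← hsnd', ← hc₀, map_mul, hd2, zero_mul]
    obtain ⟨⟨_, m₁, rfl⟩, hm₁⟩ :=
      (IsLocalization.map_eq_zero_iff (Submonoid.powers (fst r)) Br _).mp e1
    obtain ⟨⟨_, m₂, rfl⟩, hm₂⟩ :=
      (IsLocalization.map_eq_zero_iff (Submonoid.powers (snd r)) Ar' _).mp e2
    have hm₁' : (fst r) ^ m₁ * fst c₀ = 0 := hm₁
    have hm₂' : (snd r) ^ m₂ * snd c₀ = 0 := hm₂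
    have hzero : r ^ (m₁ + m₂) * c₀ = 0 := by
      apply h.eq_zero
      · rw [map_mul, map_pow, pow_add, mul_comm ((fst r) ^ m₁), mul_assoc, hm₁', mul_zero]
      · rw [map_mul, map_pow, pow_add, mul_assoc, hm₂', mul_zero]
    have hc₀z : algebraMap C Cr c₀ = 0 := by
      have := congrArg (algebraMap C Cr) hzero
      rw [map_mul, map_pow, map_zero] at this
      exact (uC.pow (m₁ + m₂)).mul_right_eq_zero.mp this
    rw [hc₀z] at hc₀
    exact (uC.pow n).mul_left_eq_zero.mp hc₀

end MilnorSq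

end Groth.Agent.H24
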