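import Mathlib
import Groth.Agent.H24.MilnorRing

/-!
# The spectrum of a Milnor square is a pushout of schemes (helper24)
-/

set_option autoImplicit false

open CategoryTheory Limits AlgebraicGeometry TopologicalSpace

universe u

namespace Groth.Agent.H24

variable {A A' B C : CommRingCat.{u}} {fst : C ⟶ B} {snd : C ⟶ A'} {q : B ⟶ A} {p : A' ⟶ A}

/-- A pullback square of commutative rings with `p` surjective is a Milnor square. -/
theorem MilnorSq.of_isPullback (h : IsPullback fst snd q p) (hp : Function.Surjective p.hom) :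
    MilnorSq fst.hom snd.hom q.hom p.hom := by
  have e1 : (h.isLimit.conePointUniqueUpToIso (CommRingCat.pullbackConeIsLimit q p)).hom ≫
      (CommRingCat.pullbackCone q p).fst = fst :=
    IsLimit.conePointUniqueUpToIso_hom_comp _ _ WalkingCospan.left
  have e2 : (h.isLimit.conePointUniqueUpToIso (CommRingCat.pullbackConeIsLimit q p)).hom ≫
      (CommRingCat.pullbackCone q p).snd = snd :=
    IsLimit.conePointUniqueUpToIso_hom_comp _ _ WalkingCospan.right
  have e3 : (h.isLimit.conePointUniqueUpToIso (CommRingCat.pullbackConeIsLimit q p)).inv ≫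
      fst = (CommRingCat.pullbackCone q p).fst :=
    IsLimit.conePointUniqueUpToIso_inv_comp _ _ WalkingCospan.left
  have e4 : (h.isLimit.conePointUniqueUpToIso (CommRingCat.pullbackConeIsLimit q p)).inv ≫
      snd = (CommRingCat.pullbackCone q p).snd :=
    IsLimit.conePointUniqueUpToIso_inv_comp _ _ WalkingCospan.right
  refine ⟨fun c => ?_, hp, fun b a' hba => ?_, fun c c' h1 h2 => ?_⟩
  · exact congrArg (fun f : C ⟶ A => f.hom c) h.w
  · refine ⟨(h.isLimit.conePointUniqueUpToIso (CommRingCat.pullbackConeIsLimit q p)).inv.hom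
      ⟨(b, a'), hba⟩, ?_, ?_⟩
    · exact congrArg (fun f : (CommRingCat.pullbackCone q p).pt ⟶ B => f.hom ⟨(b, a'), hba⟩) e3
    · exact congrArg (fun f : (CommRingCat.pullbackCone q p).pt ⟶ A' => f.hom ⟨(b, a'), hba⟩) e4
  · have hh : (h.isLimit.conePointUniqueUpToIso (CommRingCat.pullbackConeIsLimit q p)).hom.hom c =
        (h.isLimit.conePointUniqueUpToIso (CommRingCat.pullbackConeIsLimit q p)).hom.hom c' := by
      apply Subtype.ext
      apply Prod.ext
      · have k := congrArg (fun f : C ⟶ B => f.hom c) e1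
        have k' := congrArg (fun f : C ⟶ B => f.hom c') e1
        exact k.trans (h1.trans k'.symm)
      · have k := congrArg (fun f : C ⟶ A' => f.hom c) e2
        have k' := congrArg (fun f : C ⟶ A' => f.hom c') e2
        exact k.trans (h2.trans k'.symm)
    have k1 := congrArg (fun f : C ⟶ C => f.hom c)
      (h.isLimit.conePointUniqueUpToIso (CommRingCat.pullbackConeIsLimit q p)).hom_inv_id
    have k2 := congrArg (fun f : C ⟶ C => f.hom c')
      (h.isLimit.conePointUniqueUpToIso (CommRingCat.pullbackConeIsLimit q p)).hom_inv_id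
    have k3 := congrArg
      (h.isLimit.conePointUniqueUpToIso (CommRingCat.pullbackConeIsLimit q p)).inv.hom hh
    exact k1.symm.trans (k3.trans k2)

theorem awayMap_comp_algebraMap {R P : Type u} [CommRing R] [CommRing P] (f : R →+* P) (r : R) :
    (Localization.awayMap f r).comp (algebraMap R (Localization.Away r)) =
      (algebraMap P (Localization.Away (f r))).comp f :=
  IsLocalization.map_comp _

section

variable (hM : MilnorSq fst.hom snd.hom q.hom p.hom)

/-- the localized map `A'_r → A_r` -/
noncomputable def pL (r : C) :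
    Localization.Away (snd.hom r) →+* Localization.Away (q.hom (fst.hom r)) :=
  IsLocalization.Away.lift (snd.hom r)
    (g := (algebraMap A (Localization.Away (q.hom (fst.hom r)))).comp p.hom)
    (by
      rw [RingHom.comp_apply, ← hM.comm r]
      exact IsLocalization.Away.algebraMap_isUnit _)

theorem locSq (r : C) : MilnorSq (Localization.awayMap fst.hom r) (Localization.awayMap snd.hom r)
    (Localization.awayMap q.hom (fst.hom r)) (pL hM r) :=
  hM.localization r _ _ _ _ (IsLocalization.map_comp _) (IsLocalization.map_comp _)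
    (IsLocalization.map_comp _) (IsLocalization.Away.lift_comp _ _)

omit hM in
theorem sF_jC (r : C) :
    Spec.map (CommRingCat.ofHom (Localization.awayMap fst.hom r)) ≫
      Spec.map (CommRingCat.ofHom (algebraMap C (Localization.Away r))) =
    Spec.map (CommRingCat.ofHom (algebraMap B (Localization.Away (fst.hom r)))) ≫
      Spec.map fst := by
  rw [← Spec.map_comp, ← Spec.map_comp]
  congr 1
  apply CommRingCat.hom_ext
  exact awayMap_comp_algebraMap fst.hom r

omit hM in
theorem sS_jC (r : C) :
    Spec.map (CommRingCat.ofHom (Localization.awayMap snd.hom r)) ≫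
      Spec.map (CommRingCat.ofHom (algebraMap C (Localization.Away r))) =
    Spec.map (CommRingCat.ofHom (algebraMap A' (Localization.Away (snd.hom r)))) ≫
      Spec.map snd := by
  rw [← Spec.map_comp, ← Spec.map_comp]
  congr 1
  apply CommRingCat.hom_ext
  exact awayMap_comp_algebraMap snd.hom r

omit hM in
theorem sQ_jB (r : C) :
    Spec.map (CommRingCat.ofHom (Localization.awayMap q.hom (fst.hom r))) ≫
      Spec.map (CommRingCat.ofHom (algebraMap B (Localization.Away (fst.hom r)))) =
    Spec.map (CommRingCat.ofHom (algebraMap A (Localization.Away (q.hom (fst.hom r))))) ≫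
      Spec.map q := by
  rw [← Spec.map_comp, ← Spec.map_comp]
  congr 1
  apply CommRingCat.hom_ext
  exact awayMap_comp_algebraMap q.hom (fst.hom r)

theorem sP_jA' (r : C) :
    Spec.map (CommRingCat.ofHom (pL hM r)) ≫
      Spec.map (CommRingCat.ofHom (algebraMap A' (Localization.Away (snd.hom r)))) =
    Spec.map (CommRingCat.ofHom (algebraMap A (Localization.Away (q.hom (fst.hom r))))) ≫
      Spec.map p := by
  have e : (pL hM r).comp (algebraMap A' (Localization.Away (snd.hom r))) =
      (algebraMap A (Localization.Away (q.hom (fst.hom r)))).comp p.hom :=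
    IsLocalization.Away.lift_comp _ _
  rw [← Spec.map_comp, ← Spec.map_comp]
  congr 1
  apply CommRingCat.hom_ext
  exact e

omit hM in
theorem asIdeal_SpecMap {R S : CommRingCat.{u}} (f : R ⟶ S) (x : Spec S) :
    (Spec.map f x).asIdeal = Ideal.comap f.hom x.asIdeal := rfl

omit hM in
theorem range_jC {R : CommRingCat.{u}} (r : R) :
    Set.range (Spec.map (CommRingCat.ofHom (algebraMap R (Localization.Away r)))) =
      (PrimeSpectrum.basicOpen r : Set (PrimeSpectrum R)) :=
  PrimeSpectrum.localization_away_comap_range (Localization.Away r) r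

include hM in
/-- `Spec B` and `Spec A'` jointly cover `Spec C`. -/
theorem milnor_jointly_surjective (x : Spec C) :
    (∃ z : Spec B, Spec.map fst z = x) ∨ (∃ y : Spec A', Spec.map snd y = x) := by
  by_cases hk : RingHom.ker fst.hom ≤ x.asIdeal
  · left
    have hx : x ∈ Set.range (PrimeSpectrum.comap fst.hom) := by
      rw [range_comap_of_surjective _ _ hM.fst_surjective]
      exact hk
    obtain ⟨z, hz⟩ := hx
    exact ⟨z, hz⟩
  · right
    obtain ⟨k, hk1, hk2⟩ := Set.not_subset.mp hk
    have hk1' : fst.hom k = 0 := hk1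
    have hL := locSq hM k
    have hsubB : Subsingleton (Localization.Away (fst.hom k)) := by
      apply IsLocalization.subsingleton (M := Submonoid.powers (fst.hom k))
      exact ⟨1, by simp only [pow_one]; exact hk1'⟩
    have hsubA : Subsingleton (Localization.Away (q.hom (fst.hom k))) := by
      apply IsLocalization.subsingleton (M := Submonoid.powers (q.hom (fst.hom k)))
      exact ⟨1, by simp only [pow_one]; rw [hk1', map_zero]⟩
    have hbij : Function.Bijective (Localization.awayMap snd.hom k) := by
      constructor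
      · intro c c' hcc
        exact hL.inj c c' (Subsingleton.elim _ _) hcc
      · intro a''
        obtain ⟨c, -, hc⟩ := hL.ex 0 a'' (Subsingleton.elim _ _)
        exact ⟨c, hc⟩
    have hxk : x ∈ Set.range (Spec.map (CommRingCat.ofHom (algebraMap C (Localization.Away k)))) := by
      rw [range_jC]
      exact hk2
    obtain ⟨x₁, hx₁⟩ := hxk
    obtain ⟨y₁, hy₁⟩ : ∃ y₁ : Spec (.of (Localization.Away (snd.hom k))),
        Spec.map (CommRingCat.ofHom (Localization.awayMap snd.hom k)) y₁ = x₁ :=
      ⟨PrimeSpectrum.comap (RingEquiv.ofBijective _ hbij).symm.toRingHom x₁, by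
        apply PrimeSpectrum.ext
        change Ideal.comap (Localization.awayMap snd.hom k)
          (Ideal.comap (RingEquiv.ofBijective _ hbij).symm.toRingHom x₁.asIdeal) = x₁.asIdeal
        rw [Ideal.comap_comap]
        have : (RingEquiv.ofBijective _ hbij).symm.toRingHom.comp
            (Localization.awayMap snd.hom k) = RingHom.id _ := by
          ext c
          exact (RingEquiv.ofBijective _ hbij).symm_apply_apply c
        rw [this, Ideal.comap_id]⟩
    refine ⟨Spec.map (CommRingCat.ofHom (algebraMap A' (Localization.Away (snd.hom k)))) y₁, ?_⟩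
    have := congrArg (fun f : Spec (.of (Localization.Away (snd.hom k))) ⟶ Spec C => f y₁)
      (sS_jC (snd := snd) k)
    change Spec.map snd (Spec.map _ y₁) = x
    rw [← hx₁, ← hy₁]
    exact this.symm

omit hM in
theorem exists_affine_nhd {T : Scheme.{u}} (t : T) : ∃ W : T.Opens, IsAffineOpen W ∧ t ∈ W := by
  obtain ⟨_, ⟨V, hV, rfl⟩, htV, -⟩ := T.isBasis_affineOpens.exists_subset_of_mem_open
    (Set.mem_univ t) isOpen_univ
  exact ⟨V, hV, htV⟩

omit hM in
theorem exists_basicOpen_le {R : CommRingCat.{u}} (U : (Spec R).Opens) (x : Spec R) (hx : x ∈ U) :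
    ∃ r : R, r ∉ x.asIdeal ∧
      ∀ y : Spec R, r ∉ y.asIdeal → y ∈ U := by
  obtain ⟨_, ⟨r, rfl⟩, hxr, hrU⟩ :=
    Opens.isBasis_iff_nbhd.mp (PrimeSpectrum.isBasis_basic_opens (R := R)) (U := U) (x := x) hx
  exact ⟨r, hxr, fun y hy => hrU hy⟩

omit hM in
theorem mem_range_jC {R : CommRingCat.{u}} (r : R) (y : Spec R) (hy : r ∉ y.asIdeal) :
    y ∈ Set.range (Spec.map (CommRingCat.ofHom (algebraMap R (Localization.Away r)))) := by
  rw [range_jC]
  exact hy

omit hM in
theorem not_mem_of_jC {R : CommRingCat.{u}} (r : R) (y : Spec (.of (Localization.Away r))) :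
    r ∉ (Spec.map (CommRingCat.ofHom (algebraMap R (Localization.Away r))) y).asIdeal := by
  have : Spec.map (CommRingCat.ofHom (algebraMap R (Localization.Away r))) y ∈
      Set.range (Spec.map (CommRingCat.ofHom (algebraMap R (Localization.Away r)))) := ⟨y, rfl⟩
  rw [range_jC] at this
  exact this

include hM in
/-- `Spec B` and `Spec A'` are jointly epimorphic onto `Spec C`. -/
theorem milnor_hom_ext {T : Scheme.{u}} (γ₁ γ₂ : Spec C ⟶ T)
    (h1 : Spec.map snd ≫ γ₁ = Spec.map snd ≫ γ₂) (h2 : Spec.map fst ≫ γ₁ = Spec.map fst ≫ γ₂) :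
    γ₁ = γ₂ := by
  have hpt : ∀ x : Spec C, γ₁ x = γ₂ x := by
    intro x
    rcases milnor_jointly_surjective hM x with ⟨z, rfl⟩ | ⟨y, rfl⟩
    · exact congrArg (fun f : Spec B ⟶ T => f z) h2
    · exact congrArg (fun f : Spec A' ⟶ T => f y) h1
  have hspan : Ideal.span {r : C | ∃ W : T.Opens, IsAffineOpen W ∧
      ∀ x : Spec C, r ∉ x.asIdeal → γ₁ x ∈ W} = ⊤ := by
    by_contra hne
    obtain ⟨m, hm, hle⟩ := Ideal.exists_le_maximal _ hne
    obtain ⟨W, hW, hxW⟩ := exists_affine_nhd (γ₁ (⟨m, hm.isPrime⟩ : Spec C))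
    obtain ⟨r, hr1, hr2⟩ := exists_basicOpen_le (γ₁ ⁻¹ᵁ W) (⟨m, hm.isPrime⟩ : Spec C) hxW
    exact hr1 (hle (Ideal.subset_span ⟨W, hW, fun y hy => hr2 y hy⟩))
  apply Scheme.Cover.hom_ext (Scheme.affineOpenCoverOfSpanRangeEqTop
    (fun r : {r : C | ∃ W : T.Opens, IsAffineOpen W ∧
      ∀ x : Spec C, r ∉ x.asIdeal → γ₁ x ∈ W} => (r : C))
    (by rw [Subtype.range_coe]; exact hspan)).openCover
  rintro ⟨r, W, hW, hrW⟩
  change Spec.map (CommRingCat.ofHom (algebraMap C (Localization.Away r))) ≫ γ₁ =
    Spec.map (CommRingCat.ofHom (algebraMap C (Localization.Away r))) ≫ γ₂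
  have hr1 : Set.range (Spec.map (CommRingCat.ofHom (algebraMap C (Localization.Away r))) ≫ γ₁) ⊆
      Set.range hW.fromSpec := by
    rw [hW.range_fromSpec]
    rintro _ ⟨y, rfl⟩
    exact hrW _ (not_mem_of_jC r y)
  have hr2 : Set.range (Spec.map (CommRingCat.ofHom (algebraMap C (Localization.Away r))) ≫ γ₂) ⊆
      Set.range hW.fromSpec := by
    rw [hW.range_fromSpec]
    rintro _ ⟨y, rfl⟩
    change γ₂ _ ∈ W
    rw [← hpt]
    exact hrW _ (not_mem_of_jC r y)
  obtain ⟨w₁, hw₁⟩ := Spec.map_surjective (IsOpenImmersion.lift hW.fromSpec _ hr1)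
  obtain ⟨w₂, hw₂⟩ := Spec.map_surjective (IsOpenImmersion.lift hW.fromSpec _ hr2)
  have f1 : Spec.map w₁ ≫ hW.fromSpec =
      Spec.map (CommRingCat.ofHom (algebraMap C (Localization.Away r))) ≫ γ₁ := by
    rw [hw₁, IsOpenImmersion.lift_fac]
  have f2 : Spec.map w₂ ≫ hW.fromSpec =
      Spec.map (CommRingCat.ofHom (algebraMap C (Localization.Away r))) ≫ γ₂ := by
    rw [hw₂, IsOpenImmersion.lift_fac]
  have hww : w₁ = w₂ := by
    have hA : w₁ ≫ CommRingCat.ofHom (Localization.awayMap snd.hom r) =
        w₂ ≫ CommRingCat.ofHom (Localization.awayMap snd.hom r) := by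
      apply Spec.map_injective
      rw [← cancel_mono hW.fromSpec, Spec.map_comp, Spec.map_comp, Category.assoc, Category.assoc,
        f1, f2, ← Category.assoc, ← Category.assoc, sS_jC, Category.assoc, Category.assoc, h1]
    have hB : w₁ ≫ CommRingCat.ofHom (Localization.awayMap fst.hom r) =
        w₂ ≫ CommRingCat.ofHom (Localization.awayMap fst.hom r) := by
      apply Spec.map_injective
      rw [← cancel_mono hW.fromSpec, Spec.map_comp, Spec.map_comp, Category.assoc, Category.assoc,
        f1, f2, ← Category.assoc, ← Category.assoc, sF_jC, Category.assoc, Category.assoc, h2]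
    apply CommRingCat.hom_ext
    apply RingHom.ext
    intro t
    exact (locSq hM r).inj _ _ (congrArg (fun f : Γ(T, W) ⟶ _ => f.hom t) hB)
      (congrArg (fun f : Γ(T, W) ⟶ _ => f.hom t) hA)
  rw [← f1, ← f2, hww]

/-- The set of elements `r` of `C` such that `α` and `β` map `D(snd r)`, `D(fst r)` into a
common affine open. -/
def goodSet {T : Scheme.{u}} (α : Spec A' ⟶ T) (β : Spec B ⟶ T) : Set C :=
  {r : C | ∃ W : T.Opens, IsAffineOpen W ∧
    (∀ y : Spec A', snd.hom r ∉ y.asIdeal → α y ∈ W) ∧
    (∀ z : Spec B, fst.hom r ∉ z.asIdeal → β z ∈ W)}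

include hM in
theorem span_goodSet {T : Scheme.{u}} (α : Spec A' ⟶ T) (β : Spec B ⟶ T)
    (hαβ : Spec.map p ≫ α = Spec.map q ≫ β) :
    Ideal.span (goodSet (fst := fst) (snd := snd) α β) = ⊤ := by
  by_contra hne
  obtain ⟨m, hm, hle⟩ := Ideal.exists_le_maximal _ hne
  have hmem : ∀ r ∈ goodSet (fst := fst) (snd := snd) α β, r ∈ m :=
    fun r hr => hle (Ideal.subset_span hr)
  have hmP : m.IsPrime := hm.isPrime
  -- first case: the point comes from `Spec B`
  have case1 : ∀ z : Spec B, Ideal.comap fst.hom z.asIdeal = m → False := by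
    intro z hz
    obtain ⟨W, hW, hzW⟩ := exists_affine_nhd (β z)
    obtain ⟨b₁, hb1, hb2⟩ := exists_basicOpen_le (β ⁻¹ᵁ W) z hzW
    obtain ⟨h₁, rfl⟩ := hM.fst_surjective b₁
    have hrad : snd.hom h₁ ∈ (PrimeSpectrum.vanishingIdeal
        ((α ⁻¹ᵁ W : Set (Spec A'))ᶜ : Set (PrimeSpectrum A')) ⊔ RingHom.ker p.hom).radical := by
      rw [← PrimeSpectrum.vanishingIdeal_zeroLocus_eq_radical, PrimeSpectrum.mem_vanishingIdeal]
      intro y' hy'
      rw [PrimeSpectrum.mem_zeroLocus, SetLike.coe_subset_coe, sup_le_iff] at hy'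
      obtain ⟨hy1, hy2⟩ := hy'
      have hyr : y' ∈ Set.range (PrimeSpectrum.comap p.hom) := by
        rw [range_comap_of_surjective _ _ hM.surj]
        exact hy2
      obtain ⟨y₀, rfl⟩ := hyr
      have hyF : PrimeSpectrum.comap p.hom y₀ ∈
          ((α ⁻¹ᵁ W : Set (Spec A'))ᶜ : Set (PrimeSpectrum A')) := by
        have hcl : IsClosed ((α ⁻¹ᵁ W : Set (Spec A'))ᶜ : Set (PrimeSpectrum A')) :=
          (α ⁻¹ᵁ W).2.isClosed_compl
        rw [← hcl.closure_eq, ← PrimeSpectrum.zeroLocus_vanishingIdeal_eq_closure,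
          PrimeSpectrum.mem_zeroLocus]
        exact hy1
      have hαy : α (Spec.map p y₀) = β (Spec.map q y₀) :=
        congrArg (fun f : Spec A ⟶ T => f y₀) hαβ
      change snd.hom h₁ ∈ Ideal.comap p.hom y₀.asIdeal
      rw [Ideal.mem_comap, ← hM.comm h₁]
      by_contra hcon
      have h3 : Spec.map q y₀ ∈ β ⁻¹ᵁ W := hb2 _ hcon
      have h4 : β (Spec.map q y₀) ∈ W := h3
      rw [← hαy] at h4
      exact hyF h4
    obtain ⟨n, hn⟩ := hrad
    have hn1 : snd.hom h₁ ^ (n + 1) ∈ PrimeSpectrum.vanishingIdeal
        ((α ⁻¹ᵁ W : Set (Spec A'))ᶜ : Set (PrimeSpectrum A')) ⊔ RingHom.ker p.hom := by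
      rw [pow_succ]
      exact Ideal.mul_mem_right _ _ hn
    obtain ⟨i', hi', k, hk, hik⟩ := Submodule.mem_sup.mp hn1
    obtain ⟨ck, hck1, hck2⟩ := hM.ex 0 k (by rw [map_zero]; exact (RingHom.mem_ker.mp hk).symm)
    have hfr : fst.hom (h₁ ^ (n + 1) - ck) = fst.hom h₁ ^ (n + 1) := by
      rw [map_sub, map_pow, hck1, sub_zero]
    have hsr : snd.hom (h₁ ^ (n + 1) - ck) = i' := by
      rw [map_sub, map_pow, hck2, ← hik, add_sub_cancel_right]
    have hgood : h₁ ^ (n + 1) - ck ∈ goodSet (fst := fst) (snd := snd) α β := by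
      refine ⟨W, hW, fun y hy => ?_, fun z' hz' => ?_⟩
      · rw [hsr] at hy
        by_contra hαy
        exact hy ((PrimeSpectrum.mem_vanishingIdeal _ _).mp hi' y hαy)
      · rw [hfr] at hz'
        apply hb2
        intro hcon
        exact hz' (Ideal.pow_mem_of_mem _ hcon _ (Nat.succ_pos n))
    have h5 := hmem _ hgood
    rw [← hz, Ideal.mem_comap, hfr] at h5
    exact hb1 (z.isPrime.mem_of_pow_mem _ h5)
  by_cases hk : RingHom.ker fst.hom ≤ m
  · have hx : (⟨m, hmP⟩ : PrimeSpectrum C) ∈ Set.range (PrimeSpectrum.comap fst.hom) := by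
      rw [range_comap_of_surjective _ _ hM.fst_surjective]
      exact hk
    obtain ⟨z, hz⟩ := hx
    exact case1 z (congrArg PrimeSpectrum.asIdeal hz)
  · obtain ⟨k₀, hk1, hk2⟩ := Set.not_subset.mp hk
    have hk1' : fst.hom k₀ = 0 := hk1
    rcases milnor_jointly_surjective hM (⟨m, hmP⟩ : Spec C) with ⟨z, hz⟩ | ⟨y, hy⟩
    · exact case1 z (congrArg PrimeSpectrum.asIdeal hz)
    · have hym : Ideal.comap snd.hom y.asIdeal = m := congrArg PrimeSpectrum.asIdeal hy
      obtain ⟨W, hW, hyW⟩ := exists_affine_nhd (α y)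
      obtain ⟨j₁, hj1, hj2⟩ := exists_basicOpen_le (α ⁻¹ᵁ W) y hyW
      have hpj : p.hom (j₁ * snd.hom k₀) = 0 := by
        rw [map_mul, ← hM.comm k₀, hk1', map_zero, mul_zero]
      obtain ⟨r, hr1, hr2⟩ := hM.ex 0 (j₁ * snd.hom k₀) (by rw [map_zero, hpj])
      have hgood : r ∈ goodSet (fst := fst) (snd := snd) α β := by
        refine ⟨W, hW, fun y' hy' => ?_, fun z' hz' => ?_⟩
        · rw [hr2] at hy'
          apply hj2
          intro hcon
          exact hy' (Ideal.mul_mem_right _ _ hcon)
        · rw [hr1] at hz'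
          exact absurd (Ideal.zero_mem _) hz'
      have h5 := hmem _ hgood
      rw [← hym, Ideal.mem_comap, hr2] at h5
      rcases y.isPrime.mem_or_mem h5 with h6 | h6
      · exact hj1 h6
      · apply hk2
        rw [← hym]
        exact h6

include hM in
/-- local solutions over `D(r)`, `r` in the good set -/
theorem exists_local_desc {T : Scheme.{u}} (α : Spec A' ⟶ T) (β : Spec B ⟶ T)
    (hαβ : Spec.map p ≫ α = Spec.map q ≫ β) (r : C)
    (hr : r ∈ goodSet (fst := fst) (snd := snd) α β) :
    ∃ γr : Spec (.of (Localization.Away r)) ⟶ T,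
      Spec.map (CommRingCat.ofHom (Localization.awayMap snd.hom r)) ≫ γr =
        Spec.map (CommRingCat.ofHom (algebraMap A' (Localization.Away (snd.hom r)))) ≫ α ∧
      Spec.map (CommRingCat.ofHom (Localization.awayMap fst.hom r)) ≫ γr =
        Spec.map (CommRingCat.ofHom (algebraMap B (Localization.Away (fst.hom r)))) ≫ β := by
  obtain ⟨W, hW, hWα, hWβ⟩ := hr
  have hrα : Set.range (Spec.map (CommRingCat.ofHom
      (algebraMap A' (Localization.Away (snd.hom r)))) ≫ α) ⊆ Set.range hW.fromSpec := by
    rw [hW.range_fromSpec]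
    rintro _ ⟨y, rfl⟩
    exact hWα _ (not_mem_of_jC (snd.hom r) y)
  have hrβ : Set.range (Spec.map (CommRingCat.ofHom
      (algebraMap B (Localization.Away (fst.hom r)))) ≫ β) ⊆ Set.range hW.fromSpec := by
    rw [hW.range_fromSpec]
    rintro _ ⟨y, rfl⟩
    exact hWβ _ (not_mem_of_jC (fst.hom r) y)
  obtain ⟨uα, huα⟩ := Spec.map_surjective (IsOpenImmersion.lift hW.fromSpec _ hrα)
  obtain ⟨uβ, huβ⟩ := Spec.map_surjective (IsOpenImmersion.lift hW.fromSpec _ hrβ)
  have fα : Spec.map uα ≫ hW.fromSpec =
      Spec.map (CommRingCat.ofHom (algebraMap A' (Localization.Away (snd.hom r)))) ≫ α := by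
    rw [huα, IsOpenImmersion.lift_fac]
  have fβ : Spec.map uβ ≫ hW.fromSpec =
      Spec.map (CommRingCat.ofHom (algebraMap B (Localization.Away (fst.hom r)))) ≫ β := by
    rw [huβ, IsOpenImmersion.lift_fac]
  have hcompat : uβ ≫ CommRingCat.ofHom (Localization.awayMap q.hom (fst.hom r)) =
      uα ≫ CommRingCat.ofHom (pL hM r) := by
    apply Spec.map_injective
    rw [← cancel_mono hW.fromSpec, Spec.map_comp, Spec.map_comp, Category.assoc, Category.assoc,
      fα, fβ, ← Category.assoc, ← Category.assoc, sQ_jB, sP_jA', Category.assoc, Category.assoc,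
      hαβ]
  obtain ⟨w, hw1, hw2⟩ := (locSq hM r).exists_lift uβ.hom uα.hom
    (congrArg CommRingCat.Hom.hom hcompat)
  refine ⟨Spec.map (CommRingCat.ofHom w) ≫ hW.fromSpec, ?_, ?_⟩
  · rw [← Category.assoc, ← Spec.map_comp, ← fα]
    congr 2
    apply CommRingCat.hom_ext
    exact hw2
  · rw [← Category.assoc, ← Spec.map_comp, ← fβ]
    congr 2
    apply CommRingCat.hom_ext
    exact hw1

omit hM in
/-- transporting a local solution along `D(s) ⊆ D(r)` -/
theorem local_desc_restrict {T : Scheme.{u}} (α : Spec A' ⟶ T) (β : Spec B ⟶ T) (r s : C)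
    (γr : Spec (.of (Localization.Away r)) ⟶ T)
    (h1 : Spec.map (CommRingCat.ofHom (Localization.awayMap snd.hom r)) ≫ γr =
        Spec.map (CommRingCat.ofHom (algebraMap A' (Localization.Away (snd.hom r)))) ≫ α)
    (h2 : Spec.map (CommRingCat.ofHom (Localization.awayMap fst.hom r)) ≫ γr =
        Spec.map (CommRingCat.ofHom (algebraMap B (Localization.Away (fst.hom r)))) ≫ β)
    (κ : Spec (.of (Localization.Away s)) ⟶ Spec (.of (Localization.Away r)))
    (hκ : κ ≫ Spec.map (CommRingCat.ofHom (algebraMap C (Localization.Away r))) =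
      Spec.map (CommRingCat.ofHom (algebraMap C (Localization.Away s)))) :
    Spec.map (CommRingCat.ofHom (Localization.awayMap snd.hom s)) ≫ κ ≫ γr =
        Spec.map (CommRingCat.ofHom (algebraMap A' (Localization.Away (snd.hom s)))) ≫ α ∧
      Spec.map (CommRingCat.ofHom (Localization.awayMap fst.hom s)) ≫ κ ≫ γr =
        Spec.map (CommRingCat.ofHom (algebraMap B (Localization.Away (fst.hom s)))) ≫ β := by
  constructor
  · have hrange : Set.range (Spec.map (CommRingCat.ofHom
        (algebraMap A' (Localization.Away (snd.hom s))))) ⊆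
        Set.range (Spec.map (CommRingCat.ofHom
          (algebraMap A' (Localization.Away (snd.hom r))))) := by
      rintro _ ⟨y, rfl⟩
      apply mem_range_jC
      have e := congrArg (fun f : Spec (.of (Localization.Away (snd.hom s))) ⟶ Spec C => f y)
        (sS_jC (snd := snd) s)
      have e' : Spec.map snd (Spec.map (CommRingCat.ofHom
          (algebraMap A' (Localization.Away (snd.hom s)))) y) =
          Spec.map (CommRingCat.ofHom (algebraMap C (Localization.Away r)))
            (κ (Spec.map (CommRingCat.ofHom (Localization.awayMap snd.hom s)) y)) := by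
        rw [← hκ] at e
        exact e.symm
      have h3 := not_mem_of_jC r (κ (Spec.map (CommRingCat.ofHom
        (Localization.awayMap snd.hom s)) y))
      rw [← e'] at h3
      exact h3
    have hκA : IsOpenImmersion.lift (Spec.map (CommRingCat.ofHom
        (algebraMap A' (Localization.Away (snd.hom r))))) _ hrange ≫
        Spec.map (CommRingCat.ofHom (Localization.awayMap snd.hom r)) =
        Spec.map (CommRingCat.ofHom (Localization.awayMap snd.hom s)) ≫ κ := by
      rw [← cancel_mono (Spec.map (CommRingCat.ofHom (algebraMap C (Localization.Away r)))),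
        Category.assoc, Category.assoc, sS_jC, hκ, sS_jC, ← Category.assoc,
        IsOpenImmersion.lift_fac]
    rw [← Category.assoc, ← hκA, Category.assoc, h1, ← Category.assoc, IsOpenImmersion.lift_fac]
  · have hrange : Set.range (Spec.map (CommRingCat.ofHom
        (algebraMap B (Localization.Away (fst.hom s))))) ⊆
        Set.range (Spec.map (CommRingCat.ofHom
          (algebraMap B (Localization.Away (fst.hom r))))) := by
      rintro _ ⟨y, rfl⟩
      apply mem_range_jC
      have e := congrArg (fun f : Spec (.of (Localization.Away (fst.hom s))) ⟶ Spec C => f y)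
        (sF_jC (fst := fst) s)
      have e' : Spec.map fst (Spec.map (CommRingCat.ofHom
          (algebraMap B (Localization.Away (fst.hom s)))) y) =
          Spec.map (CommRingCat.ofHom (algebraMap C (Localization.Away r)))
            (κ (Spec.map (CommRingCat.ofHom (Localization.awayMap fst.hom s)) y)) := by
        rw [← hκ] at e
        exact e.symm
      have h3 := not_mem_of_jC r (κ (Spec.map (CommRingCat.ofHom
        (Localization.awayMap fst.hom s)) y))
      rw [← e'] at h3
      exact h3
    have hκB : IsOpenImmersion.lift (Spec.map (CommRingCat.ofHom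
        (algebraMap B (Localization.Away (fst.hom r))))) _ hrange ≫
        Spec.map (CommRingCat.ofHom (Localization.awayMap fst.hom r)) =
        Spec.map (CommRingCat.ofHom (Localization.awayMap fst.hom s)) ≫ κ := by
      rw [← cancel_mono (Spec.map (CommRingCat.ofHom (algebraMap C (Localization.Away r)))),
        Category.assoc, Category.assoc, sF_jC, hκ, sF_jC, ← Category.assoc,
        IsOpenImmersion.lift_fac]
    rw [← Category.assoc, ← hκB, Category.assoc, h2, ← Category.assoc, IsOpenImmersion.lift_fac]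

include hM in
/-- **Existence of the induced morphism out of `Spec C`.** -/
theorem milnor_exists_desc {T : Scheme.{u}} (α : Spec A' ⟶ T) (β : Spec B ⟶ T)
    (hαβ : Spec.map p ≫ α = Spec.map q ≫ β) :
    ∃ γ : Spec C ⟶ T, Spec.map snd ≫ γ = α ∧ Spec.map fst ≫ γ = β := by
  have hspan := span_goodSet hM α β hαβ
  have hloc := fun r : goodSet (fst := fst) (snd := snd) α β =>
    exists_local_desc hM α β hαβ r.1 r.2
  choose γr hγ1 hγ2 using hloc
  have hspanC : Ideal.span (Set.range
      (fun r : goodSet (fst := fst) (snd := snd) α β => (r : C))) = ⊤ := by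
    rw [Subtype.range_coe]; exact hspan
  have hcompat : ∀ r r' : goodSet (fst := fst) (snd := snd) α β,
      pullback.fst ((Scheme.affineOpenCoverOfSpanRangeEqTop _ hspanC).openCover.f r)
        ((Scheme.affineOpenCoverOfSpanRangeEqTop _ hspanC).openCover.f r') ≫ γr r =
      pullback.snd ((Scheme.affineOpenCoverOfSpanRangeEqTop _ hspanC).openCover.f r)
        ((Scheme.affineOpenCoverOfSpanRangeEqTop _ hspanC).openCover.f r') ≫ γr r' := by
    intro r r'
    change pullback.fst (Spec.map (CommRingCat.ofHom (algebraMap C (Localization.Away r.1))))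
        (Spec.map (CommRingCat.ofHom (algebraMap C (Localization.Away r'.1)))) ≫ γr r =
      pullback.snd (Spec.map (CommRingCat.ofHom (algebraMap C (Localization.Away r.1))))
        (Spec.map (CommRingCat.ofHom (algebraMap C (Localization.Away r'.1)))) ≫ γr r'
    have hrange : Set.range (Spec.map (CommRingCat.ofHom
        (algebraMap C (Localization.Away (r.1 * r'.1))))) =
        Set.range (pullback.fst (Spec.map (CommRingCat.ofHom (algebraMap C (Localization.Away r.1))))
        (Spec.map (CommRingCat.ofHom (algebraMap C (Localization.Away r'.1)))) ≫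
          Spec.map (CommRingCat.ofHom (algebraMap C (Localization.Away r.1)))) := by
      rw [Scheme.Pullback.range_fst_comp, range_jC, range_jC, range_jC,
        PrimeSpectrum.basicOpen_mul]
      rfl
    have e := IsOpenImmersion.isoOfRangeEq_hom_fac (Spec.map (CommRingCat.ofHom
        (algebraMap C (Localization.Away (r.1 * r'.1)))))
        (pullback.fst (Spec.map (CommRingCat.ofHom (algebraMap C (Localization.Away r.1))))
        (Spec.map (CommRingCat.ofHom (algebraMap C (Localization.Away r'.1)))) ≫
          Spec.map (CommRingCat.ofHom (algebraMap C (Localization.Away r.1)))) hrange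
    rw [← cancel_epi (IsOpenImmersion.isoOfRangeEq _ _ hrange).hom]
    have hκ1 : ((IsOpenImmersion.isoOfRangeEq _ _ hrange).hom ≫
        pullback.fst (Spec.map (CommRingCat.ofHom (algebraMap C (Localization.Away r.1))))
        (Spec.map (CommRingCat.ofHom (algebraMap C (Localization.Away r'.1))))) ≫
        Spec.map (CommRingCat.ofHom (algebraMap C (Localization.Away r.1))) =
        Spec.map (CommRingCat.ofHom (algebraMap C (Localization.Away (r.1 * r'.1)))) := by
      rw [Category.assoc]; exact e
    have hκ2 : ((IsOpenImmersion.isoOfRangeEq _ _ hrange).hom ≫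
        pullback.snd (Spec.map (CommRingCat.ofHom (algebraMap C (Localization.Away r.1))))
        (Spec.map (CommRingCat.ofHom (algebraMap C (Localization.Away r'.1))))) ≫
        Spec.map (CommRingCat.ofHom (algebraMap C (Localization.Away r'.1))) =
        Spec.map (CommRingCat.ofHom (algebraMap C (Localization.Away (r.1 * r'.1)))) := by
      rw [Category.assoc, ← pullback.condition]; exact e
    obtain ⟨k1, k2⟩ := local_desc_restrict α β r.1 (r.1 * r'.1) (γr r) (hγ1 r) (hγ2 r) _ hκ1
    obtain ⟨k3, k4⟩ := local_desc_restrict α β r'.1 (r.1 * r'.1) (γr r') (hγ1 r') (hγ2 r') _ hκ2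
    apply milnor_hom_ext (A := .of (Localization.Away (q.hom (fst.hom (r.1 * r'.1)))))
      (A' := .of (Localization.Away (snd.hom (r.1 * r'.1))))
      (B := .of (Localization.Away (fst.hom (r.1 * r'.1))))
      (C := .of (Localization.Away (r.1 * r'.1)))
      (fst := CommRingCat.ofHom (Localization.awayMap fst.hom (r.1 * r'.1)))
      (snd := CommRingCat.ofHom (Localization.awayMap snd.hom (r.1 * r'.1)))
      (q := CommRingCat.ofHom (Localization.awayMap q.hom (fst.hom (r.1 * r'.1))))
      (p := CommRingCat.ofHom (pL hM (r.1 * r'.1))) (locSq hM (r.1 * r'.1))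
    · rw [← Category.assoc] at k1 k3
      rw [Category.assoc, Category.assoc] at k1 k3
      exact k1.trans k3.symm
    · rw [← Category.assoc] at k2 k4
      rw [Category.assoc, Category.assoc] at k2 k4
      exact k2.trans k4.symm
  have hglue := (Scheme.affineOpenCoverOfSpanRangeEqTop _ hspanC).openCover.ι_glueMorphisms
    γr hcompat
  refine ⟨(Scheme.affineOpenCoverOfSpanRangeEqTop _ hspanC).openCover.glueMorphisms γr hcompat,
    ?_, ?_⟩
  · have hspanA : Ideal.span (Set.range
        (fun r : goodSet (fst := fst) (snd := snd) α β => snd.hom (r : C))) = ⊤ := by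
      have := congrArg (Ideal.map snd.hom) hspan
      rw [Ideal.map_span, Ideal.map_top] at this
      rw [← this]
      congr 1
      ext a
      simp only [Set.mem_range, Set.mem_image, Subtype.exists, exists_prop]
    apply Scheme.Cover.hom_ext (Scheme.affineOpenCoverOfSpanRangeEqTop _ hspanA).openCover
    intro r
    change Spec.map (CommRingCat.ofHom (algebraMap A' (Localization.Away (snd.hom r.1)))) ≫
      Spec.map snd ≫ _ =
      Spec.map (CommRingCat.ofHom (algebraMap A' (Localization.Away (snd.hom r.1)))) ≫ α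
    rw [← Category.assoc, ← sS_jC, Category.assoc, ← hγ1 r]
    congr 1
    exact hglue r
  · have hspanB : Ideal.span (Set.range
        (fun r : goodSet (fst := fst) (snd := snd) α β => fst.hom (r : C))) = ⊤ := by
      have := congrArg (Ideal.map fst.hom) hspan
      rw [Ideal.map_span, Ideal.map_top] at this
      rw [← this]
      congr 1
      ext a
      simp only [Set.mem_range, Set.mem_image, Subtype.exists, exists_prop]
    apply Scheme.Cover.hom_ext (Scheme.affineOpenCoverOfSpanRangeEqTop _ hspanB).openCover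
    intro r
    change Spec.map (CommRingCat.ofHom (algebraMap B (Localization.Away (fst.hom r.1)))) ≫
      Spec.map fst ≫ _ =
      Spec.map (CommRingCat.ofHom (algebraMap B (Localization.Away (fst.hom r.1)))) ≫ β
    rw [← Category.assoc, ← sF_jC, Category.assoc, ← hγ2 r]
    congr 1
    exact hglue r

include hM in
/-- **The spectrum of a Milnor square is a pushout in the category of schemes.** -/
theorem isPushout_Spec_of_milnorSq (hw : snd ≫ p = fst ≫ q) :
    IsPushout (Spec.map p) (Spec.map q) (Spec.map snd) (Spec.map fst) := by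
  refine ⟨⟨by rw [← Spec.map_comp, ← Spec.map_comp, hw]⟩, ⟨PushoutCocone.IsColimit.mk _
    (fun s => (milnor_exists_desc hM s.inl s.inr s.condition).choose)
    (fun s => (milnor_exists_desc hM s.inl s.inr s.condition).choose_spec.1)
    (fun s => (milnor_exists_desc hM s.inl s.inr s.condition).choose_spec.2)
    (fun s m h1 h2 => ?_)⟩⟩
  apply milnor_hom_ext hM
  · rw [h1, (milnor_exists_desc hM s.inl s.inr s.condition).choose_spec.1]
  · rw [h2, (milnor_exists_desc hM s.inl s.inr s.condition).choose_spec.2]

end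

end Groth.Agent.H24
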