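import Groth.Agent.H24.PullSections
import Groth.Agent.H24.ModStage2
import Groth.Agent.H24.FPLift
import Groth.Agent.H8.QCohPush

/-!
# Sections of the pullbacks of a quasi-coherent module to the stages of a limit form a filtered
system with colimit the sections of the pullback to the limit (helper24)
-/

set_option autoImplicit false
set_option linter.style.haveILetI false

open CategoryTheory CategoryTheory.Limits AlgebraicGeometry Opposite TopologicalSpace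

universe u

namespace Groth.Agent.H24.ModColim

open Groth.Agent.H39.PullTrack PullSections ModStage TensorStage

section General

variable {X Y Z Z' : Scheme.{u}}

theorem appLE_app (f : Z ⟶ Y) (g : Y ⟶ X) (k : Z ⟶ X) (hk : f ≫ g = k) (W : X.Opens)
    (r : Γ(X, W)) :
    f.appLE (g ⁻¹ᵁ W) (k ⁻¹ᵁ W) (preimage_le_of_comp f g k hk W) (g.app W r) = k.app W r := by
  subst hk
  have := ConcreteCategory.congr_hom (Scheme.Hom.appLE_eq_app f (U := g ⁻¹ᵁ W)) (g.app W r)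
  exact this

theorem appLE_appLE (e : Z' ⟶ Z) (f : Z ⟶ Y) (m : Z' ⟶ Y) (hm : e ≫ f = m) (U : Y.Opens)
    (V : Z.Opens) (V' : Z'.Opens) (h1 : V ≤ f ⁻¹ᵁ U) (h2 : V' ≤ e ⁻¹ᵁ V) (h3 : V' ≤ m ⁻¹ᵁ U)
    (s : Γ(Y, U)) :
    e.appLE V V' h2 (f.appLE U V h1 s) = m.appLE U V' h3 s := by
  subst hm
  exact ConcreteCategory.congr_hom (Scheme.Hom.appLE_comp_appLE e f U V V' h1 h2) s

/-- Transition maps compose. -/
theorem Tr_Tr (e : Z' ⟶ Z) (f : Z ⟶ Y) (g : Y ⟶ X) (k : Z ⟶ X) (hk : f ≫ g = k) (k' : Z' ⟶ X)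
    (hk' : e ≫ k = k') (m : Z' ⟶ Y) (hm : e ≫ f = m) (hmk : m ≫ g = k') (M : X.Modules)
    [M.IsQuasicoherent] {W : X.Opens} (hW : IsAffineOpen W) (hW' : IsAffineOpen (g ⁻¹ᵁ W))
    (y : Γ((Scheme.Modules.pullback g).obj M, g ⁻¹ᵁ W)) :
    Tr e k k' hk' M W (Tr f g k hk M W y) = Tr m g k' hmk M W y := by
  refine semi_ext g M hW hW' le_rfl
    (m.appLE (g ⁻¹ᵁ W) (k' ⁻¹ᵁ W) (preimage_le_of_comp m g k' hmk W)).hom
    ((Tr e k k' hk' M W).comp (Tr f g k hk M W)) (Tr m g k' hmk M W) ?_ ?_ ?_ y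
  · intro s y
    show Tr e k k' hk' M W (Tr f g k hk M W (s • y)) = _
    rw [Tr_smul, Tr_smul, appLE_appLE e f m hm (g ⁻¹ᵁ W) (k ⁻¹ᵁ W) (k' ⁻¹ᵁ W)
      (preimage_le_of_comp f g k hk W) (preimage_le_of_comp e k k' hk' W)
      (preimage_le_of_comp m g k' hmk W)]
    rfl
  · intro s y
    exact Tr_smul m g k' hmk M W s y
  · intro x
    show Tr e k k' hk' M W (Tr f g k hk M W (pullSectLE g M W (g ⁻¹ᵁ W) le_rfl x)) = _
    rw [Tr_pullSect, Tr_pullSect, Tr_pullSect]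

end General

section Stage

variable {I : Type u} [SmallCategory I] [IsCofiltered I] (D : I ⥤ Scheme.{u}) (c : Cone D)
  (i₀ : I) (G₀ : (D.obj i₀).Modules) (W : (D.obj i₀).Opens)

/-- The module `(φ_j)_* φ_j^* G₀` on the base stage. -/
noncomputable abbrev PS (j : Over i₀) : (D.obj i₀).Modules :=
  (Scheme.Modules.pushforward (D.map j.hom)).obj ((Scheme.Modules.pullback (D.map j.hom)).obj G₀)

/-- The module `π_* π^* G₀` on the base stage. -/
noncomputable abbrev PL : (D.obj i₀).Modules :=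
  (Scheme.Modules.pushforward (c.π.app i₀)).obj ((Scheme.Modules.pullback (c.π.app i₀)).obj G₀)

omit [IsCofiltered I] in
theorem wS {j j' : Over i₀} (t : j' ⟶ j) : D.map t.left ≫ D.map j.hom = D.map j'.hom := by
  rw [← D.map_comp, Over.w]

/-- The transition map on sections over `W`. -/
noncomputable def TW {j j' : Over i₀} (t : j' ⟶ j) :
    Γ(PS D i₀ G₀ j, W) →ₗ[Γ(D.obj i₀, W)] Γ(PS D i₀ G₀ j', W) where
  toFun y := Tr (D.map t.left) (D.map j.hom) (D.map j'.hom) (wS D i₀ t) G₀ W y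
  map_add' y y' := map_add _ y y'
  map_smul' r y := by
    show Tr (D.map t.left) (D.map j.hom) (D.map j'.hom) (wS D i₀ t) G₀ W
      ((D.map j.hom).app W r • (show Γ((Scheme.Modules.pullback (D.map j.hom)).obj G₀,
        D.map j.hom ⁻¹ᵁ W) from y)) = (D.map j'.hom).app W r •
      Tr (D.map t.left) (D.map j.hom) (D.map j'.hom) (wS D i₀ t) G₀ W y
    rw [Tr_smul, appLE_app _ _ _ (wS D i₀ t)]

/-- The map to the sections of the limit module over `W`. -/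
noncomputable def LW (j : Over i₀) :
    Γ(PS D i₀ G₀ j, W) →ₗ[Γ(D.obj i₀, W)] Γ(PL D c i₀ G₀, W) where
  toFun y := Tr (c.π.app j.left) (D.map j.hom) (c.π.app i₀) (c.w j.hom) G₀ W y
  map_add' y y' := map_add _ y y'
  map_smul' r y := by
    show Tr (c.π.app j.left) (D.map j.hom) (c.π.app i₀) (c.w j.hom) G₀ W
      ((D.map j.hom).app W r • (show Γ((Scheme.Modules.pullback (D.map j.hom)).obj G₀,
        D.map j.hom ⁻¹ᵁ W) from y)) = (c.π.app i₀).app W r •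
      Tr (c.π.app j.left) (D.map j.hom) (c.π.app i₀) (c.w j.hom) G₀ W y
    rw [Tr_smul, appLE_app _ _ _ (c.w j.hom)]

omit [IsCofiltered I] in
theorem TW_apply {j j' : Over i₀} (t : j' ⟶ j) (y : Γ(PS D i₀ G₀ j, W)) :
    TW D i₀ G₀ W t y = Tr (D.map t.left) (D.map j.hom) (D.map j'.hom) (wS D i₀ t) G₀ W y := rfl

omit [IsCofiltered I] in
theorem LW_apply (j : Over i₀) (y : Γ(PS D i₀ G₀ j, W)) :
    LW D c i₀ G₀ W j y = Tr (c.π.app j.left) (D.map j.hom) (c.π.app i₀) (c.w j.hom) G₀ W y := rfl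

variable [∀ (i j : I) (f : i ⟶ j), IsAffineHom (D.map f)] [G₀.IsQuasicoherent]

omit [IsCofiltered I] in
theorem LW_TW (hW : IsAffineOpen W) {j j' : Over i₀} (t : j' ⟶ j) (y : Γ(PS D i₀ G₀ j, W)) :
    LW D c i₀ G₀ W j' (TW D i₀ G₀ W t y) = LW D c i₀ G₀ W j y :=
  Tr_Tr (c.π.app j'.left) (D.map t.left) (D.map j.hom) (D.map j'.hom) (wS D i₀ t) (c.π.app i₀)
    (c.w j'.hom) (c.π.app j.left) (c.w t.left) (c.w j.hom) G₀ hW (hW.preimage (D.map j.hom)) y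

omit [IsCofiltered I] in
theorem TW_TW (hW : IsAffineOpen W) {j j' j'' : Over i₀} (t : j' ⟶ j) (s : j'' ⟶ j')
    (y : Γ(PS D i₀ G₀ j, W)) :
    TW D i₀ G₀ W s (TW D i₀ G₀ W t y) = TW D i₀ G₀ W (s ≫ t) y :=
  Tr_Tr (D.map s.left) (D.map t.left) (D.map j.hom) (D.map j'.hom) (wS D i₀ t) (D.map j''.hom)
    (wS D i₀ s) (D.map (s ≫ t).left) (by rw [← D.map_comp]; rfl) (wS D i₀ (s ≫ t)) G₀ hW
    (hW.preimage (D.map j.hom)) y

variable (hc : IsLimit c)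

include hc in
theorem SF1 (hW : IsAffineOpen W) (z : Γ(PL D c i₀ G₀, W)) :
    ∃ (j : Over i₀) (y : Γ(PS D i₀ G₀ j, W)), LW D c i₀ G₀ W j y = z := by
  haveI : IsAffineHom (c.π.app i₀) := isAffineHom_π_app D c hc i₀
  obtain ⟨l, b, n, hz⟩ := exists_sum_pullSectLE (c.π.app i₀) G₀ hW (hW.preimage (c.π.app i₀))
    le_rfl (show Γ((Scheme.Modules.pullback (c.π.app i₀)).obj G₀, c.π.app i₀ ⁻¹ᵁ W) from z)
  letI : Algebra Γ(D.obj i₀, W) (BL D c i₀ W) := (σL D c i₀ W).toAlgebra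
  obtain ⟨j₁, τ₁, -, -, d, hd⟩ := TensorStage.exists_lifts (CS D i₀ W) (σS D i₀ W) (gS D c i₀ W)
    (hdirS D c i₀ W) (H1S D c i₀ W hc hW) (Over.mk (𝟙 i₀)) b
  refine ⟨j₁, (show Γ((Scheme.Modules.pullback (D.map j₁.hom)).obj G₀, D.map j₁.hom ⁻¹ᵁ W) from
    ∑ i, d i • pullSectLE (D.map j₁.hom) G₀ W (D.map j₁.hom ⁻¹ᵁ W) le_rfl (n i)), ?_⟩
  show Tr (c.π.app j₁.left) (D.map j₁.hom) (c.π.app i₀) (c.w j₁.hom) G₀ W
    (∑ i, d i • pullSectLE (D.map j₁.hom) G₀ W (D.map j₁.hom ⁻¹ᵁ W) le_rfl (n i)) = z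
  rw [map_sum]
  refine Eq.trans ?_ hz.symm
  refine Finset.sum_congr rfl fun i _ => ?_
  rw [Tr_smul, Tr_pullSect, ← gS_eq_appLE, hd]

include hc in
theorem SF2 (hW : IsAffineOpen W) (j : Over i₀) (y : Γ(PS D i₀ G₀ j, W))
    (hy : LW D c i₀ G₀ W j y = 0) : ∃ (j' : Over i₀) (t : j' ⟶ j), TW D i₀ G₀ W t y = 0 := by
  haveI : IsAffineHom (c.π.app i₀) := isAffineHom_π_app D c hc i₀
  obtain ⟨l, cc, n, hyy⟩ := exists_sum_pullSectLE (D.map j.hom) G₀ hW (hW.preimage (D.map j.hom))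
    le_rfl (show Γ((Scheme.Modules.pullback (D.map j.hom)).obj G₀, D.map j.hom ⁻¹ᵁ W) from y)
  have h1 : ∑ i, gS D c i₀ W j (cc i) •
      pullSectLE (c.π.app i₀) G₀ W (c.π.app i₀ ⁻¹ᵁ W) le_rfl (n i) = 0 := by
    have h0 : Tr (c.π.app j.left) (D.map j.hom) (c.π.app i₀) (c.w j.hom) G₀ W
        (∑ i, cc i • pullSectLE (D.map j.hom) G₀ W (D.map j.hom ⁻¹ᵁ W) le_rfl (n i)) = 0 := by
      rw [← hyy]
      exact hy
    rw [map_sum] at h0
    rw [← h0]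
    refine Finset.sum_congr rfl fun i _ => ?_
    rw [Tr_smul, Tr_pullSect, gS_eq_appLE]
  have h2 : SumZero (σL D c i₀ W) (fun i => gS D c i₀ W j (cc i)) n :=
    (sum_smul_pullSectLE_eq_zero_iff (c.π.app i₀) G₀ hW (hW.preimage (c.π.app i₀)) le_rfl
      (fun i => gS D c i₀ W j (cc i)) n).mp h1
  obtain ⟨j', a, h3⟩ := exists_hom_sumZero D c i₀ W hc hW j cc n h2
  refine ⟨j', a, ?_⟩
  show Tr (D.map a.left) (D.map j.hom) (D.map j'.hom) (wS D i₀ a) G₀ W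
    (show Γ((Scheme.Modules.pullback (D.map j.hom)).obj G₀, D.map j.hom ⁻¹ᵁ W) from y) = 0
  rw [hyy, map_sum]
  have h4 : ∀ i, Tr (D.map a.left) (D.map j.hom) (D.map j'.hom) (wS D i₀ a) G₀ W
      (cc i • pullSectLE (D.map j.hom) G₀ W (D.map j.hom ⁻¹ᵁ W) le_rfl (n i)) =
      τS D i₀ W a (cc i) • pullSectLE (D.map j'.hom) G₀ W (D.map j'.hom ⁻¹ᵁ W) le_rfl (n i) :=
    fun i => by rw [Tr_smul, Tr_pullSect, τS_eq_appLE]
  rw [Finset.sum_congr rfl fun i _ => h4 i]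
  exact (sum_smul_pullSectLE_eq_zero_iff (D.map j'.hom) G₀ hW (hW.preimage (D.map j'.hom)) le_rfl
    (fun i => τS D i₀ W a (cc i)) n).mpr h3

include hc in
/-- **A linear map from a finitely presented module to the sections of the limit module lifts to a
stage.** -/
theorem exists_stage_lift (hW : IsAffineOpen W) {M : Type u} [AddCommGroup M]
    [Module Γ(D.obj i₀, W) M] [Module.FinitePresentation Γ(D.obj i₀, W) M]
    (θ : M →ₗ[Γ(D.obj i₀, W)] Γ(PL D c i₀ G₀, W)) :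
    ∃ (j : Over i₀) (θj : M →ₗ[Γ(D.obj i₀, W)] Γ(PS D i₀ G₀ j, W)),
      ∀ m, LW D c i₀ G₀ W j (θj m) = θ m :=
  FPLift.exists_lift (fun j : Over i₀ => Γ(PS D i₀ G₀ j, W))
    (fun t => TW D i₀ G₀ W t) (fun j => LW D c i₀ G₀ W j)
    (fun t y => LW_TW D c i₀ G₀ W hW t y) (fun t s y => TW_TW D i₀ G₀ W hW t s y)
    (SF1 D c i₀ G₀ W hc hW) (SF2 D c i₀ G₀ W hc hW) θ

end Stage

end Groth.Agent.H24.ModColim
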