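import Groth.Agent.H24.ModLimPres
import Groth.Agent.H8.CohKerCoker

/-!
# Surjectivity of a pulled-back homomorphism is detected at a finite stage (helper24)
-/

set_option autoImplicit false
set_option linter.style.haveILetI false

open CategoryTheory CategoryTheory.Limits AlgebraicGeometry Opposite TopologicalSpace

universe u

namespace Groth.Agent.H24.ModLimEpi

open ModLimPres

/-- For a functor preserving cokernels between abelian categories, `Φ u` is an epimorphism iff
`Φ` kills the cokernel projection of `u`. -/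
theorem epi_map_iff {𝒜 ℬ : Type*} [Category 𝒜] [Category ℬ] [Abelian 𝒜] [Abelian ℬ]
    (Φ : 𝒜 ⥤ ℬ) [Φ.PreservesZeroMorphisms] {A B : 𝒜} (u : A ⟶ B)
    [PreservesColimit (parallelPair u 0) Φ] :
    Epi (Φ.map u) ↔ Φ.map (cokernel.π u) = 0 := by
  have h1 := PreservesCokernel.π_iso_hom Φ u
  constructor
  · intro h
    have h2 : cokernel.π (Φ.map u) = 0 := cokernel.π_of_epi _
    rw [h2] at h1
    rw [← cancel_mono (PreservesCokernel.iso Φ u).hom, h1, zero_comp]
  · intro h
    rw [h, zero_comp] at h1
    exact Abelian.epi_of_cokernel_π_eq_zero _ h1.symm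

/-- The property "is an epimorphism". -/
noncomputable def epiProp : ModProp.{u} where
  Q β := Epi β
  H _ B := SheafOfModules.IsFiniteType (R := _) B
  iso := by
    intro Y A B A' B' β eA eB h
    haveI := h
    infer_instance
  pull := by
    intro Z Y f A B β h
    haveI := h
    infer_instance
  pullH := by
    intro Z Y f A B _ _ h
    haveI := h
    exact Groth.Agent.H8.isFiniteType_pullback f B
  lim := by
    intro I _ _ D c hc _ i₀ _ F₀ G₀ _ _ hG u₀ h
    haveI := hG
    haveI : (cokernel u₀).IsQuasicoherent := Groth.Agent.H8.isQuasicoherent_cokernel u₀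
    have h0 : (Scheme.Modules.pullback (c.π.app i₀)).map (cokernel.π u₀) = 0 :=
      (epi_map_iff _ u₀).mp h
    obtain ⟨j, hj⟩ := zeroProp.lim D c hc i₀ (F₀ := G₀) (G₀ := cokernel u₀) hG (cokernel.π u₀) h0
    exact ⟨j, (epi_map_iff _ u₀).mpr hj⟩

end Groth.Agent.H24.ModLimEpi
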