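import Groth.Agent.H24.ModLimPres
import Groth.Agent.S6514
import Groth.Agent.S4764
import Groth.Agent.H22.QCohAbelian
import Groth.Agent.H22.QCohLimits

/-!
# Injectivity and exactness of pulled-back homomorphisms over a limit with flat affine transition
maps (helper24)
-/

set_option autoImplicit false
set_option linter.style.haveILetI false

open CategoryTheory CategoryTheory.Limits AlgebraicGeometry Opposite TopologicalSpace

universe u

namespace Groth.Agent.H24.ModLimExact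

open ModLimPres

section Abstract

variable {C D : Type*} [Category C] [Category D] [Abelian C] [Abelian D] (Φ : C ⥤ D)
  [Φ.PreservesZeroMorphisms]

theorem map_kernel_ι_eq_zero_of_mono {A B : C} (f : A ⟶ B) [Mono (Φ.map f)] :
    Φ.map (kernel.ι f) = 0 := by
  rw [← cancel_mono (Φ.map f), ← Φ.map_comp, kernel.condition, Φ.map_zero, zero_comp]

theorem mono_map_of_map_kernel_ι_eq_zero [PreservesFiniteLimits Φ] {A B : C} (f : A ⟶ B)
    (h : Φ.map (kernel.ι f) = 0) : Mono (Φ.map f) := by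
  have h1 : kernelComparison f Φ ≫ kernel.ι (Φ.map f) = Φ.map (kernel.ι f) :=
    kernelComparison_comp_ι f Φ
  have h2 : kernel.ι (Φ.map f) = 0 := by
    rw [← cancel_epi (kernelComparison f Φ), h1, h, comp_zero]
  exact Preadditive.mono_of_kernel_zero h2

theorem exact_map_iff [PreservesFiniteLimits Φ] [PreservesFiniteColimits Φ] {A B E : C}
    (f : A ⟶ B) (g : B ⟶ E) :
    (∃ w : Φ.map f ≫ Φ.map g = 0, (ShortComplex.mk (Φ.map f) (Φ.map g) w).Exact) ↔
      Φ.map (image.ι f ≫ g) = 0 ∧ Φ.map (kernel.ι g ≫ cokernel.π f) = 0 := by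
  have hepi : Epi (Φ.map (factorThruImage f)) := inferInstance
  have e1 : Φ.map f ≫ Φ.map g = Φ.map (factorThruImage f) ≫ Φ.map (image.ι f ≫ g) := by
    rw [← Φ.map_comp, ← Φ.map_comp, image.fac_assoc]
  have e2 : Φ.map (kernel.ι g ≫ cokernel.π f) =
      kernelComparison g Φ ≫ (kernel.ι (Φ.map g) ≫ cokernel.π (Φ.map f)) ≫
        cokernelComparison f Φ := by
    rw [Φ.map_comp, ← kernelComparison_comp_ι g Φ, ← π_comp_cokernelComparison f Φ]
    simp only [Category.assoc]
  constructor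
  · rintro ⟨w, hex⟩
    refine ⟨?_, ?_⟩
    · rw [← cancel_epi (Φ.map (factorThruImage f)), ← e1, w, comp_zero]
    · have h0 : kernel.ι (Φ.map g) ≫ cokernel.π (Φ.map f) = 0 :=
        (ShortComplex.exact_iff_kernel_ι_comp_cokernel_π_zero _).mp hex
      rw [e2, h0, zero_comp, comp_zero]
  · rintro ⟨h1, h2⟩
    have w : Φ.map f ≫ Φ.map g = 0 := by rw [e1, h1, comp_zero]
    refine ⟨w, (ShortComplex.exact_iff_kernel_ι_comp_cokernel_π_zero _).mpr ?_⟩
    show kernel.ι (Φ.map g) ≫ cokernel.π (Φ.map f) = 0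
    rw [e2] at h2
    have h3 : (kernel.ι (Φ.map g) ≫ cokernel.π (Φ.map f)) ≫ cokernelComparison f Φ = 0 := by
      rw [← cancel_epi (kernelComparison g Φ), h2, comp_zero]
    rw [← cancel_mono (cokernelComparison f Φ), h3, zero_comp]

end Abstract

section Lim

variable {I : Type u} [SmallCategory I] [IsCofiltered I] (D : I ⥤ Scheme.{u}) (c : Cone D)
  (hc : IsLimit c) [∀ (i j : I) (f : i ⟶ j), IsAffineHom (D.map f)] (i₀ : I)
  [CompactSpace (D.obj i₀)] (hfl : ∀ (i j : I) (φ : i ⟶ j), Flat (D.map φ))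

include hc hfl in
/-- **Injectivity of a pulled-back homomorphism over a limit with flat affine transition maps is
detected at a stage.** -/
theorem mono_pullback_map_iff {F₀ G₀ : (D.obj i₀).Modules} [F₀.IsQuasicoherent]
    [G₀.IsQuasicoherent] (f₀ : F₀ ⟶ G₀)
    (hker : SheafOfModules.IsFiniteType (R := (D.obj i₀).ringCatSheaf)
      (kernel f₀ : (D.obj i₀).Modules)) :
    Mono ((Scheme.Modules.pullback (c.π.app i₀)).map f₀) ↔
      ∃ (j : I) (φ : j ⟶ i₀), Mono ((Scheme.Modules.pullback (D.map φ)).map f₀) := by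
  haveI : Flat (c.π.app i₀) := Groth.Agent.S4764.result D c hc i₀ (fun j φ => hfl j i₀ φ)
  haveI : (kernel f₀ : (D.obj i₀).Modules).IsQuasicoherent :=
    H22.QCohLimits.isQuasicoherent_kernel f₀
  constructor
  · intro hm
    haveI := hm
    have h0 : (Scheme.Modules.pullback (c.π.app i₀)).map (kernel.ι f₀) = 0 :=
      map_kernel_ι_eq_zero_of_mono _ f₀
    obtain ⟨j, hj⟩ := zeroProp.lim D c hc i₀ (F₀ := kernel f₀) (G₀ := F₀) hker (kernel.ι f₀) h0
    haveI : Flat (D.map j.hom) := hfl _ _ _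
    haveI := Groth.Agent.S6514.preservesFiniteLimits_pullback (D.map j.hom)
    exact ⟨j.left, j.hom, mono_map_of_map_kernel_ι_eq_zero _ f₀ hj⟩
  · rintro ⟨j, φ, hm⟩
    haveI := hm
    have h0 : (Scheme.Modules.pullback (D.map φ)).map (kernel.ι f₀) = 0 :=
      map_kernel_ι_eq_zero_of_mono _ f₀
    have h1 : (Scheme.Modules.pullback (c.π.app i₀)).map (kernel.ι f₀) = 0 :=
      zeroProp.of_comp (c.π.app j) (D.map φ) (c.π.app i₀) (c.w φ) _ h0
    haveI := Groth.Agent.S6514.preservesFiniteLimits_pullback (c.π.app i₀)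
    exact mono_map_of_map_kernel_ι_eq_zero _ f₀ h1

include hc hfl in
/-- **Exactness of a pulled-back sequence over a limit with flat affine transition maps is
detected at a stage.** -/
theorem exact_pullback_iff {F₀ G₀ H₀ : (D.obj i₀).Modules} [F₀.IsQuasicoherent]
    [G₀.IsQuasicoherent] [H₀.IsQuasicoherent] (f₀ : F₀ ⟶ G₀) (g₀ : G₀ ⟶ H₀)
    (hIm : SheafOfModules.IsFiniteType (R := (D.obj i₀).ringCatSheaf)
      (image f₀ : (D.obj i₀).Modules))
    (hKer : SheafOfModules.IsFiniteType (R := (D.obj i₀).ringCatSheaf)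
      (kernel g₀ : (D.obj i₀).Modules)) :
    (∃ w : (Scheme.Modules.pullback (c.π.app i₀)).map f₀ ≫
        (Scheme.Modules.pullback (c.π.app i₀)).map g₀ = 0, (ShortComplex.mk _ _ w).Exact) ↔
      ∃ (j : I) (φ : j ⟶ i₀) (w : (Scheme.Modules.pullback (D.map φ)).map f₀ ≫
        (Scheme.Modules.pullback (D.map φ)).map g₀ = 0), (ShortComplex.mk _ _ w).Exact := by
  haveI : Flat (c.π.app i₀) := Groth.Agent.S4764.result D c hc i₀ (fun j φ => hfl j i₀ φ)
  haveI : (kernel g₀ : (D.obj i₀).Modules).IsQuasicoherent :=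
    H22.QCohLimits.isQuasicoherent_kernel g₀
  haveI : (cokernel f₀ : (D.obj i₀).Modules).IsQuasicoherent :=
    H22.QCohAbelian.isQuasicoherent_cokernel f₀
  haveI : (Abelian.image f₀ : (D.obj i₀).Modules).IsQuasicoherent :=
    H22.QCohAbelian.isQuasicoherent_image f₀
  haveI : (image f₀ : (D.obj i₀).Modules).IsQuasicoherent :=
    H22.QCohLimits.isQuasicoherent_of_iso (Abelian.imageIsoImage f₀)
  have key : ∀ {Y : Scheme.{u}} (q : Y ⟶ D.obj i₀) [Flat q],
      (∃ w : (Scheme.Modules.pullback q).map f₀ ≫ (Scheme.Modules.pullback q).map g₀ = 0,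
        (ShortComplex.mk _ _ w).Exact) ↔
      (Scheme.Modules.pullback q).map (image.ι f₀ ≫ g₀) = 0 ∧
        (Scheme.Modules.pullback q).map (kernel.ι g₀ ≫ cokernel.π f₀) = 0 := by
    intro Y q _
    haveI := Groth.Agent.S6514.preservesFiniteLimits_pullback q
    haveI := Groth.Agent.S6514.preservesFiniteColimits_pullback q
    exact exact_map_iff (Scheme.Modules.pullback q) f₀ g₀
  constructor
  · intro h
    obtain ⟨h1, h2⟩ := (key (c.π.app i₀)).mp h
    obtain ⟨j₁, hj₁⟩ := zeroProp.lim D c hc i₀ (F₀ := image f₀) (G₀ := H₀) hIm _ h1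
    obtain ⟨j₂, hj₂⟩ := zeroProp.lim D c hc i₀ (F₀ := kernel g₀) (G₀ := cokernel f₀) hKer _ h2
    let j : Over i₀ := IsCofiltered.min j₁ j₂
    let a₁ : j ⟶ j₁ := IsCofiltered.minToLeft j₁ j₂
    let a₂ : j ⟶ j₂ := IsCofiltered.minToRight j₁ j₂
    have w₁ : D.map a₁.left ≫ D.map j₁.hom = D.map j.hom := by rw [← D.map_comp, Over.w]
    have w₂ : D.map a₂.left ≫ D.map j₂.hom = D.map j.hom := by rw [← D.map_comp, Over.w]
    haveI : Flat (D.map j.hom) := hfl _ _ _
    refine ⟨j.left, j.hom, (key (D.map j.hom)).mpr ⟨?_, ?_⟩⟩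
    · exact zeroProp.of_comp (D.map a₁.left) (D.map j₁.hom) (D.map j.hom) w₁ _ hj₁
    · exact zeroProp.of_comp (D.map a₂.left) (D.map j₂.hom) (D.map j.hom) w₂ _ hj₂
  · rintro ⟨j, φ, h⟩
    haveI : Flat (D.map φ) := hfl _ _ _
    obtain ⟨h1, h2⟩ := (key (D.map φ)).mp h
    exact (key (c.π.app i₀)).mpr
      ⟨zeroProp.of_comp (c.π.app j) (D.map φ) (c.π.app i₀) (c.w φ) _ h1,
        zeroProp.of_comp (c.π.app j) (D.map φ) (c.π.app i₀) (c.w φ) _ h2⟩

end Lim

end Groth.Agent.H24.ModLimExact
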