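import Mathlib
import Groth.Agent.H24.ModStage
import Groth.Agent.H39.PullTrack5
import Groth.Agent.H41.ModGlue
import Groth.Agent.H8.PullbackFinType

/-!
# Equality of homomorphisms of modules over a cofiltered limit is detected at a finite stage
(helper24)
-/

set_option autoImplicit false
set_option linter.style.haveILetI false

open CategoryTheory AlgebraicGeometry Limits TopologicalSpace TensorProduct

universe u

namespace Groth.Agent.H24.ModLimHom

open TensorStage ModStage Groth.Agent.H39.PullTrack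

section General

variable {R C N : Type*} [CommRing R] [CommRing C] [AddCommGroup N] [Module R N]

/-- The submodule of `n` with `1 ⊗ n = 0` in `C ⊗[R] N`. -/
def oneKer (ρ : R →+* C) : Submodule R N :=
  letI := ρ.toAlgebra
  LinearMap.ker (TensorProduct.mk R C N 1)

theorem mem_oneKer (ρ : R →+* C) (n : N) : n ∈ oneKer ρ ↔ OneZero ρ n := Iff.rfl

end General

section Track

variable {X' X : Scheme.{u}} (h : X' ⟶ X)

theorem pullSectLE_eq_zero_iff (G : X.Modules) [G.IsQuasicoherent] {U : X.Opens}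
    (hU : IsAffineOpen U) {U' : X'.Opens} (hU' : IsAffineOpen U') (e : U' ≤ h ⁻¹ᵁ U)
    (n : Γ(G, U)) :
    pullSectLE h G U U' e n = 0 ↔ OneZero (h.appLE U U' e).hom n := by
  obtain ⟨E, hE⟩ := exists_sectionsPullbackEquiv h G hU hU' e
  constructor
  · intro h0
    have := hE n
    rw [h0, map_zero] at this
    exact this.symm
  · intro h0
    apply E.injective
    rw [hE n, map_zero]
    exact h0

/-- Two morphisms out of a pullback which agree on pulled-back sections agree on all sections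
over an affine open mapping into an affine open. -/
theorem app_eq_of_forall_pullSectLE (F : X.Modules) [F.IsQuasicoherent] {H : X'.Modules}
    {U : X.Opens} (hU : IsAffineOpen U) {U' : X'.Opens} (hU' : IsAffineOpen U')
    (e : U' ≤ h ⁻¹ᵁ U) (α β : (Scheme.Modules.pullback h).obj F ⟶ H)
    (hαβ : ∀ x : Γ(F, U), α.app U' (pullSectLE h F U U' e x) = β.app U' (pullSectLE h F U U' e x))
    (z : Γ((Scheme.Modules.pullback h).obj F, U')) : α.app U' z = β.app U' z := by
  obtain ⟨E, hE⟩ := exists_sectionsPullbackEquiv h F hU hU' e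
  letI := (h.appLE U U' e).hom.toAlgebra
  have key : ∀ t : TensorProduct Γ(X, U) Γ(X', U') Γ(F, U),
      α.app U' (E.symm t) = β.app U' (E.symm t) := by
    intro t
    induction t using TensorProduct.induction_on with
    | zero => simp
    | tmul a x =>
      have h1 : a ⊗ₜ[Γ(X, U)] x = a • ((1 : Γ(X', U')) ⊗ₜ[Γ(X, U)] x) := by
        rw [TensorProduct.smul_tmul', smul_eq_mul, mul_one]
      rw [h1, map_smul, ← hE x, E.symm_apply_apply, Scheme.Modules.Hom.app_smul,
        Scheme.Modules.Hom.app_smul, hαβ]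
    | add a b ha hb => rw [map_add, map_add, map_add, ha, hb]
  simpa using key (E z)

/-- If the pulled-back section vanishes for `g`, it vanishes for `f ≫ g`. -/
theorem pullSectLE_comp_eq_zero {Z Y : Scheme.{u}} (f : Z ⟶ Y) (g : Y ⟶ X) (k : Z ⟶ X)
    (hk : f ≫ g = k) (M : X.Modules) (W : X.Opens) (n : Γ(M, W))
    (h0 : pullSectLE g M W (g ⁻¹ᵁ W) le_rfl n = 0) :
    pullSectLE k M W (k ⁻¹ᵁ W) le_rfl n = 0 := by
  subst hk
  have := pullbackComp_hom_pullSectLE f g M W (g ⁻¹ᵁ W) ((f ≫ g) ⁻¹ᵁ W) le_rfl le_rfl n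
  rw [h0, map_zero, map_zero] at this
  exact this.symm

/-- Pulling back further preserves equality of pulled-back homomorphisms. -/
theorem pullback_map_eq_of_comp {Z Y : Scheme.{u}} (f : Z ⟶ Y) (g : Y ⟶ X) (k : Z ⟶ X)
    (hk : f ≫ g = k) {F G : X.Modules} (α β : F ⟶ G)
    (h0 : (Scheme.Modules.pullback g).map α = (Scheme.Modules.pullback g).map β) :
    (Scheme.Modules.pullback k).map α = (Scheme.Modules.pullback k).map β := by
  subst hk
  have key : ∀ γ : F ⟶ G, (Scheme.Modules.pullback (f ≫ g)).map γ =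
      (Scheme.Modules.pullbackComp f g).inv.app F ≫
        (Scheme.Modules.pullback f).map ((Scheme.Modules.pullback g).map γ) ≫
          (Scheme.Modules.pullbackComp f g).hom.app G := by
    intro γ
    have := (Scheme.Modules.pullbackComp f g).hom.naturality γ
    simp only [Functor.comp_map] at this
    rw [this, Iso.inv_hom_id_app_assoc]
  rw [key α, key β, h0]

end Track

section Limit

variable {I : Type u} [SmallCategory I] [IsCofiltered I] (D : I ⥤ Scheme.{u}) (c : Cone D)
  (hc : IsLimit c) [∀ (i j : I) (f : i ⟶ j), IsAffineHom (D.map f)] (i₀ : I)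

include hc in
/-- Local statement: over an affine open of the stage `i₀`, the difference of two homomorphisms
which agree after pullback to the limit is killed by `1 ⊗ -` at a finite stage. -/
theorem exists_stage_forall_oneZero {F₀ G₀ : (D.obj i₀).Modules} [F₀.IsQuasicoherent]
    [SheafOfModules.IsFiniteType (R := (D.obj i₀).ringCatSheaf) F₀] [G₀.IsQuasicoherent]
    (φ₀ ψ₀ : F₀ ⟶ G₀)
    (h : (Scheme.Modules.pullback (c.π.app i₀)).map φ₀ =
      (Scheme.Modules.pullback (c.π.app i₀)).map ψ₀)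
    {U : (D.obj i₀).Opens} (hU : IsAffineOpen U) :
    ∃ j : Over i₀, ∀ x : Γ(F₀, U), OneZero (σS D i₀ U j) (φ₀.app U x - ψ₀.app U x) := by
  classical
  haveI : IsAffineHom (c.π.app i₀) := isAffineHom_π_app D c hc i₀
  haveI : Module.Finite Γ(D.obj i₀, U) Γ(F₀, U) :=
    Groth.Agent.H8.finite_sections_of_isAffineOpen F₀ hU
  obtain ⟨m, s, hs⟩ := Submodule.fg_iff_exists_fin_generating_family.mp
    (Module.Finite.fg_top (R := Γ(D.obj i₀, U)) (M := Γ(F₀, U)))
  let δ : Γ(F₀, U) →ₗ[Γ(D.obj i₀, U)] Γ(G₀, U) :=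
    { toFun := fun x => φ₀.app U x - ψ₀.app U x
      map_add' := fun x y => by simp only [map_add]; abel
      map_smul' := fun r x => by
        simp only [Scheme.Modules.Hom.app_smul, RingHom.id_apply, smul_sub] }
  have hinf : ∀ x, OneZero (σL D c i₀ U) (δ x) := by
    intro x
    have h0 : pullSectLE (c.π.app i₀) G₀ U (c.π.app i₀ ⁻¹ᵁ U) le_rfl
        (φ₀.app U x - ψ₀.app U x) = 0 := by
      rw [map_sub, ← map_pullSectLE, ← map_pullSectLE, h, sub_self]
    exact (pullSectLE_eq_zero_iff (c.π.app i₀) G₀ hU (hU.preimage _) le_rfl _).mp h0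
  choose jj hjj using fun a : Fin m => exists_stage_oneZero D c i₀ U hc hU (δ (s a)) (hinf (s a))
  obtain ⟨j, hj⟩ := IsCofiltered.inf_objs_exists (Finset.univ.image jj)
  refine ⟨j, fun x => ?_⟩
  have hgen : ∀ a, OneZero (σS D i₀ U j) (δ (s a)) := fun a =>
    oneZero_of_hom D i₀ U _ (hj (Finset.mem_image_of_mem _ (Finset.mem_univ a))).some (hjj a)
  have hle : Submodule.map δ ⊤ ≤ oneKer (σS D i₀ U j) := by
    rw [← hs, Submodule.map_span, Submodule.span_le]
    rintro _ ⟨_, ⟨a, rfl⟩, rfl⟩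
    exact hgen a
  exact hle ⟨x, trivial, rfl⟩

include hc in
/-- **Injectivity of `colim Hom(F_j, G_j) → Hom(F, G)`.** -/
theorem exists_stage_pullback_map_eq [CompactSpace (D.obj i₀)]
    {F₀ G₀ : (D.obj i₀).Modules} [F₀.IsQuasicoherent]
    [SheafOfModules.IsFiniteType (R := (D.obj i₀).ringCatSheaf) F₀] [G₀.IsQuasicoherent]
    (φ₀ ψ₀ : F₀ ⟶ G₀)
    (h : (Scheme.Modules.pullback (c.π.app i₀)).map φ₀ =
      (Scheme.Modules.pullback (c.π.app i₀)).map ψ₀) :
    ∃ j : Over i₀, (Scheme.Modules.pullback (D.map j.hom)).map φ₀ =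
      (Scheme.Modules.pullback (D.map j.hom)).map ψ₀ := by
  classical
  obtain ⟨t, ht⟩ := isCompact_univ.elim_finite_subcover
    (fun V : (D.obj i₀).affineOpens => ((V : (D.obj i₀).Opens) : Set (D.obj i₀)))
    (fun V => V.1.2) (by
      intro x _
      obtain ⟨V, hV, hxV, -⟩ := exists_isAffineOpen_mem_and_subset (x := x)
        (U := (⊤ : (D.obj i₀).Opens)) trivial
      exact Set.mem_iUnion.mpr ⟨⟨V, hV⟩, hxV⟩)
  choose jV hjV using fun V : (D.obj i₀).affineOpens =>
    exists_stage_forall_oneZero D c hc i₀ φ₀ ψ₀ h V.2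
  obtain ⟨j, hj⟩ := IsCofiltered.inf_objs_exists (t.image jV)
  refine ⟨j, ?_⟩
  haveI := Groth.Agent.H8.isQuasicoherent_pullback (D.map j.hom) F₀
  have hcov : IsOpenCover (fun V : ↥t => D.map j.hom ⁻¹ᵁ (V.1 : (D.obj i₀).Opens)) := by
    apply le_antisymm le_top
    intro x _
    have hx := ht (Set.mem_univ ((D.map j.hom) x))
    obtain ⟨V, hV, hxV⟩ := Set.mem_iUnion₂.mp hx
    exact Opens.mem_iSup.mpr ⟨⟨V, hV⟩, hxV⟩
  refine Groth.Agent.H41.ModGlue.hom_ext_of_affine_cover _ _
    (fun V : ↥t => D.map j.hom ⁻¹ᵁ (V.1 : (D.obj i₀).Opens)) hcov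
    (fun V => V.1.2.preimage (D.map j.hom)) (fun V z => ?_)
  refine app_eq_of_forall_pullSectLE (D.map j.hom) F₀ V.1.2 (V.1.2.preimage (D.map j.hom)) le_rfl
    _ _ (fun x => ?_) z
  rw [map_pullSectLE, map_pullSectLE, ← sub_eq_zero, ← map_sub]
  refine (pullSectLE_eq_zero_iff (D.map j.hom) G₀ V.1.2 (V.1.2.preimage (D.map j.hom)) le_rfl
    _).mpr ?_
  exact oneZero_of_hom D i₀ V.1.1 _ (hj (Finset.mem_image_of_mem _ V.2)).some (hjV V.1 x)

end Limit

end Groth.Agent.H24.ModLimHom
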