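import Groth.Statements.S9019
import Groth.Agent.H24.ModLimHom
import Groth.Agent.H24.LimPullback

/-!
# Limit preservation of the functors `F_zero`, `F_surj`, `F_iso`, ... (helper24)

Generic reduction: a property `Q` of homomorphisms of modules which is invariant under
conjugation by isomorphisms, stable under pullback and "descends to a finite stage" in cofiltered
limits gives a limit preserving functor `genPSp S (fun T => Q (u_T))`.
-/

set_option autoImplicit false
set_option linter.style.haveILetI false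

open CategoryTheory CategoryTheory.Limits AlgebraicGeometry Opposite TopologicalSpace

universe u

namespace Groth.Agent.H24.ModLimPres

/-- A subsingleton-valued presheaf generated by a condition which is stable under morphisms and
descends to a finite stage along cofiltered affine limits is limit preserving. -/
theorem isLimitPreserving_genPSp {S : Scheme.{u}} (P : Over S → Prop)
    (hP : ∀ ⦃T T₀ : Over S⦄ (_ : T ⟶ T₀), P T₀ → P T)
    (hlim : ∀ ⦃I : Type u⦄ [SmallCategory I] [IsCofiltered I] (D : I ⥤ Over S) (c : Cone D),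
      IsLimit ((Over.forget S).mapCone c) → (∀ i, IsAffine (D.obj i).left) →
        IsAffine c.pt.left → P c.pt → ∃ i, P (D.obj i)) :
    AlgSp.IsLimitPreserving (FlatFun.genPSp S P) := by
  intro I _ _ D c hc hD hT
  refine ⟨Types.FilteredColimit.isColimitOf _ _ ?_ ?_⟩
  · intro x
    have hx : P c.pt := (FlatFun.genPSp_nonempty_iff_of_stable P hP c.pt).mp ⟨x⟩
    obtain ⟨i, hi⟩ := hlim D c hc hD hT hx
    obtain ⟨xi⟩ := FlatFun.genPSp_nonempty_of P hi
    exact ⟨op i, xi, @Subsingleton.elim _ (FlatFun.genPSp_subsingleton S P _) _ _⟩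
  · intro i j xi xj _
    exact ⟨IsFiltered.max i j, IsFiltered.leftToMax i j, IsFiltered.rightToMax i j,
      @Subsingleton.elim _ (FlatFun.genPSp_subsingleton S P _) _ _⟩

section Key

variable {X Y Z : Scheme.{u}}

theorem key_comp (f : Z ⟶ Y) (g : Y ⟶ X) {F G : X.Modules} (γ : F ⟶ G) :
    (Scheme.Modules.pullback (f ≫ g)).map γ =
      (Scheme.Modules.pullbackComp f g).inv.app F ≫
        (Scheme.Modules.pullback f).map ((Scheme.Modules.pullback g).map γ) ≫
          (Scheme.Modules.pullbackComp f g).hom.app G := by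
  have := (Scheme.Modules.pullbackComp f g).hom.naturality γ
  simp only [Functor.comp_map] at this
  rw [this, Iso.inv_hom_id_app_assoc]

theorem key_comp' (f : Z ⟶ Y) (g : Y ⟶ X) {F G : X.Modules} (γ : F ⟶ G) :
    (Scheme.Modules.pullback f).map ((Scheme.Modules.pullback g).map γ) =
      (Scheme.Modules.pullbackComp f g).hom.app F ≫
        (Scheme.Modules.pullback (f ≫ g)).map γ ≫
          (Scheme.Modules.pullbackComp f g).inv.app G := by
  rw [key_comp]
  simp

end Key

/-- The data of a property of homomorphisms of modules to which the reduction applies. -/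
structure ModProp where
  /-- the property of homomorphisms -/
  Q : ∀ {Y : Scheme.{u}} {A B : Y.Modules}, (A ⟶ B) → Prop
  /-- the finiteness hypothesis on source and target -/
  H : ∀ {Y : Scheme.{u}}, Y.Modules → Y.Modules → Prop
  iso : ∀ {Y : Scheme.{u}} {A B A' B' : Y.Modules} (β : A ⟶ B) (eA : A' ≅ A) (eB : B ≅ B'),
    Q β → Q (eA.hom ≫ β ≫ eB.hom)
  pull : ∀ {Z Y : Scheme.{u}} (f : Z ⟶ Y) {A B : Y.Modules} (β : A ⟶ B),
    Q β → Q ((Scheme.Modules.pullback f).map β)
  pullH : ∀ {Z Y : Scheme.{u}} (f : Z ⟶ Y) {A B : Y.Modules} [A.IsQuasicoherent]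
    [B.IsQuasicoherent], H A B →
      H ((Scheme.Modules.pullback f).obj A) ((Scheme.Modules.pullback f).obj B)
  lim : ∀ {I : Type u} [SmallCategory I] [IsCofiltered I] (D : I ⥤ Scheme.{u}) (c : Cone D)
    (_ : IsLimit c) [∀ (i j : I) (f : i ⟶ j), IsAffineHom (D.map f)] (i₀ : I)
    [CompactSpace (D.obj i₀)] {F₀ G₀ : (D.obj i₀).Modules} [F₀.IsQuasicoherent]
    [G₀.IsQuasicoherent] (_ : H F₀ G₀) (u₀ : F₀ ⟶ G₀),
    Q ((Scheme.Modules.pullback (c.π.app i₀)).map u₀) →
      ∃ j : Over i₀, Q ((Scheme.Modules.pullback (D.map j.hom)).map u₀)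

namespace ModProp

variable (P : ModProp.{u}) {X Y Z : Scheme.{u}}

theorem of_comp (f : Z ⟶ Y) (g : Y ⟶ X) (k : Z ⟶ X) (hk : f ≫ g = k) {F G : X.Modules}
    (γ : F ⟶ G) (h : P.Q ((Scheme.Modules.pullback g).map γ)) :
    P.Q ((Scheme.Modules.pullback k).map γ) := by
  subst hk
  rw [key_comp]
  exact P.iso _ ((Scheme.Modules.pullbackComp f g).app F).symm
    ((Scheme.Modules.pullbackComp f g).app G) (P.pull f _ h)

theorem comp_of (f : Z ⟶ Y) (g : Y ⟶ X) (k : Z ⟶ X) (hk : f ≫ g = k) {F G : X.Modules}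
    (γ : F ⟶ G) (h : P.Q ((Scheme.Modules.pullback k).map γ)) :
    P.Q ((Scheme.Modules.pullback f).map ((Scheme.Modules.pullback g).map γ)) := by
  subst hk
  rw [key_comp']
  exact P.iso _ ((Scheme.Modules.pullbackComp f g).app F)
    ((Scheme.Modules.pullbackComp f g).app G).symm h

theorem of_comp' (f : Z ⟶ Y) (g : Y ⟶ X) {F G : X.Modules}
    (γ : F ⟶ G) (h : P.Q ((Scheme.Modules.pullback f).map ((Scheme.Modules.pullback g).map γ))) :
    P.Q ((Scheme.Modules.pullback (f ≫ g)).map γ) := by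
  rw [key_comp]
  exact P.iso _ ((Scheme.Modules.pullbackComp f g).app F).symm
    ((Scheme.Modules.pullbackComp f g).app G) h

/-- **The functor generated by `Q (u_T)` is limit preserving.** -/
theorem isLimitPreserving {X S : Scheme.{u}} (f : X ⟶ S) [QuasiCompact f] {F G : X.Modules}
    [F.IsQuasicoherent] [G.IsQuasicoherent] (hFG : P.H F G) (u : F ⟶ G) :
    AlgSp.IsLimitPreserving (FlatFun.genPSp S
      (fun T => P.Q ((Scheme.Modules.pullback (pullback.fst f T.hom)).map u))) := by
  apply isLimitPreserving_genPSp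
  · intro T T₀ k hP
    let m : pullback f T.hom ⟶ pullback f T₀.hom :=
      pullback.lift (pullback.fst f T.hom) (pullback.snd f T.hom ≫ k.left)
        (by rw [Category.assoc, Over.w, pullback.condition])
    have hm : m ≫ pullback.fst f T₀.hom = pullback.fst f T.hom := pullback.lift_fst _ _ _
    exact P.of_comp m _ _ hm u hP
  · intro I _ _ D c hc hD hT hP
    obtain ⟨i₀⟩ := IsCofiltered.nonempty (C := I)
    let DS : I ⥤ Scheme.{u} := D ⋙ Over.forget S
    haveI : ∀ i, IsAffine (DS.obj i) := hD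
    haveI haffT : ∀ {a b : I} (φ : a ⟶ b), IsAffineHom (DS.map φ) := fun {a b} φ =>
      isAffineHom_of_isAffine _
    let X₀ : Scheme.{u} := pullback f (D.obj i₀).hom
    let h₀ : X₀ ⟶ DS.obj i₀ := pullback.snd f (D.obj i₀).hom
    let c' : Cone DS := (Over.forget S).mapCone c
    let qY : pullback f c.pt.hom ⟶ X₀ :=
      pullback.lift (pullback.fst f c.pt.hom) (pullback.snd f c.pt.hom ≫ (c.π.app i₀).left)
        (by rw [Category.assoc, Over.w, pullback.condition]; rfl)
    let g : pullback f c.pt.hom ⟶ c'.pt := pullback.snd f c.pt.hom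
    have hY : IsPullback qY g h₀ (c'.π.app i₀) := by
      have big : IsPullback (qY ≫ pullback.fst f (D.obj i₀).hom) g f
          (c'.π.app i₀ ≫ (D.obj i₀).hom) := by
        have e1 : qY ≫ pullback.fst f (D.obj i₀).hom = pullback.fst f c.pt.hom :=
          pullback.lift_fst _ _ _
        have e2 : c'.π.app i₀ ≫ (D.obj i₀).hom = c.pt.hom := Over.w (c.π.app i₀)
        rw [e1, e2]
        exact IsPullback.of_hasPullback _ _
      exact IsPullback.of_right big (pullback.lift_snd _ _ _) (IsPullback.of_hasPullback _ _)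
    let D' : Over i₀ ⥤ Scheme.{u} := pbDiagram DS (𝟙 i₀) h₀
    let c'' : Cone D' := pbCone DS (𝟙 i₀) h₀ c' qY g hY.w
    have hc'' : IsLimit c'' := isLimitPbCone DS (𝟙 i₀) h₀ c' hc qY g hY
    let ι₀ : Over i₀ := Over.mk (𝟙 i₀)
    let p₀ : D'.obj ι₀ ⟶ X := pullback.fst h₀ (DS.map (ι₀.hom ≫ 𝟙 i₀)) ≫
      pullback.fst f (D.obj i₀).hom
    haveI : CompactSpace (D'.obj ι₀) := by
      haveI : IsAffine (D.obj ι₀.left).left := hD ι₀.left
      have : CompactSpace ↥(pullback (pullback.snd f (D.obj i₀).hom)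
          ((D.map (ι₀.hom ≫ 𝟙 i₀)).left)) := inferInstance
      exact this
    haveI : ((Scheme.Modules.pullback p₀).obj F).IsQuasicoherent :=
      Groth.Agent.H8.isQuasicoherent_pullback p₀ F
    haveI : ((Scheme.Modules.pullback p₀).obj G).IsQuasicoherent :=
      Groth.Agent.H8.isQuasicoherent_pullback p₀ G
    have hπ : c''.π.app ι₀ ≫ p₀ = pullback.fst f c.pt.hom := by
      show pbLift DS (𝟙 i₀) h₀ c' qY g hY.w ι₀ ≫
        (pullback.fst h₀ (DS.map (ι₀.hom ≫ 𝟙 i₀)) ≫ pullback.fst f (D.obj i₀).hom) = _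
      rw [← Category.assoc, pbLift_fst]
      exact pullback.lift_fst _ _ _
    haveI : ∀ (a b : Over i₀) (φ : a ⟶ b), IsAffineHom (D'.map φ) := fun a b φ =>
      inferInstanceAs (IsAffineHom ((pbDiagram DS (𝟙 i₀) h₀).map φ))
    obtain ⟨j, hj⟩ := P.lim D' c'' hc'' ι₀ (P.pullH p₀ hFG) ((Scheme.Modules.pullback p₀).map u)
      (P.comp_of (c''.π.app ι₀) p₀ _ hπ u hP)
    refine ⟨j.left.left, ?_⟩
    let q : pullback f (D.obj j.left.left).hom ⟶ X₀ :=
      pullback.lift (pullback.fst f (D.obj j.left.left).hom)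
        (pullback.snd f (D.obj j.left.left).hom ≫ (D.map j.left.hom).left)
        (by rw [Category.assoc, Over.w, pullback.condition])
    let m : pullback f (D.obj j.left.left).hom ⟶ pullback h₀ (DS.map (j.left.hom ≫ 𝟙 i₀)) :=
      pullback.lift q (pullback.snd f (D.obj j.left.left).hom)
        (by
          rw [Category.comp_id]
          exact pullback.lift_snd _ _ _)
    have e1 : pbMap DS (𝟙 i₀) h₀ j.hom ≫ pullback.fst h₀ (DS.map (ι₀.hom ≫ 𝟙 i₀)) =
        pullback.fst h₀ (DS.map (j.left.hom ≫ 𝟙 i₀)) := pbMap_fst DS (𝟙 i₀) h₀ j.hom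
    have e2 : m ≫ pullback.fst h₀ (DS.map (j.left.hom ≫ 𝟙 i₀)) = q := pullback.lift_fst _ _ _
    have e3 : q ≫ pullback.fst f (D.obj i₀).hom = pullback.fst f (D.obj j.left.left).hom :=
      pullback.lift_fst _ _ _
    have step1 : pbMap DS (𝟙 i₀) h₀ j.hom ≫ (pullback.fst h₀ (DS.map (ι₀.hom ≫ 𝟙 i₀)) ≫
        pullback.fst f (D.obj i₀).hom) =
        pullback.fst h₀ (DS.map (j.left.hom ≫ 𝟙 i₀)) ≫ pullback.fst f (D.obj i₀).hom := by
      rw [← Category.assoc, e1]
    have step2 : m ≫ (pullback.fst h₀ (DS.map (j.left.hom ≫ 𝟙 i₀)) ≫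
        pullback.fst f (D.obj i₀).hom) = q ≫ pullback.fst f (D.obj i₀).hom := by
      rw [← Category.assoc, e2]
    have hm : m ≫ (D'.map j.hom ≫ p₀) = pullback.fst f (D.obj j.left.left).hom :=
      (congrArg (fun t => m ≫ t) step1).trans (step2.trans e3)
    exact P.of_comp m _ _ hm u (P.of_comp' _ _ u hj)

end ModProp

/-- The property "is zero". -/
noncomputable def zeroProp : ModProp.{u} where
  Q β := β = 0
  H A _ := SheafOfModules.IsFiniteType (R := _) A
  iso := by
    intro Y A B A' B' β eA eB h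
    rw [h]; simp
  pull := by
    intro Z Y f A B β h
    rw [h, Functor.map_zero]
  pullH := by
    intro Z Y f A B _ _ h
    haveI := h
    exact Groth.Agent.H8.isFiniteType_pullback f A
  lim := by
    intro I _ _ D c hc _ i₀ _ F₀ G₀ _ _ hF u₀ h
    haveI := hF
    obtain ⟨j, hj⟩ := ModLimHom.exists_stage_pullback_map_eq D c hc i₀ u₀ 0
      (by rw [h, Functor.map_zero])
    exact ⟨j, by rw [hj, Functor.map_zero]⟩

end Groth.Agent.H24.ModLimPres
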