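import Mathlib
import Groth.Prelude.Def_CInt
import Groth.Prelude.Def_ProCons
import Groth.Agent.H24.FlatClosure
import Groth.Agent.H54.GermInjective

/-!
# A pseudo-morphism is defined at `x` iff it extends to `Spec 𝒪_{X,x}` (helper24)
-/

set_option autoImplicit false

open CategoryTheory AlgebraicGeometry Limits TopologicalSpace Opposite Topology

universe u

namespace Groth.Agent.H24

/-- An open subspace meeting only finitely many irreducible components has finitely many
irreducible components. -/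
theorem finite_irreducibleComponents_of_isOpenEmbedding' {Z X : Type*} [TopologicalSpace Z]
    [TopologicalSpace X] (j : Z → X) (hj : Topology.IsOpenEmbedding j)
    (h : {C : Set X | C ∈ irreducibleComponents X ∧ (C ∩ Set.range j).Nonempty}.Finite) :
    (irreducibleComponents Z).Finite := by
  classical
  have key : ∀ C : Set Z, C ∈ irreducibleComponents Z →
      ∃ u : Set X, u ∈ irreducibleComponents X ∧ j '' C ⊆ u := by
    intro C hC
    exact exists_mem_irreducibleComponents_subset_of_isIrreducible (j '' C)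
      (hC.1.image j hj.continuous.continuousOn)
  choose! T hT using key
  have hmaps : Set.MapsTo T (irreducibleComponents Z)
      {C : Set X | C ∈ irreducibleComponents X ∧ (C ∩ Set.range j).Nonempty} := by
    intro C hC
    obtain ⟨z, hz⟩ := hC.1.nonempty
    exact ⟨(hT C hC).1, ⟨j z, (hT C hC).2 ⟨z, hz, rfl⟩, z, rfl⟩⟩
  refine Set.Finite.of_injOn hmaps ?_ h
  · have hmax : ∀ C : Set Z, C ∈ irreducibleComponents Z → C = j ⁻¹' (T C) := by
      intro C hC
      have hsub : C ⊆ j ⁻¹' (T C) := fun z hz => (hT C hC).2 ⟨z, hz, rfl⟩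
      have hirr : IsIrreducible (j ⁻¹' (T C)) :=
        ⟨hC.1.nonempty.mono hsub, (hT C hC).1.1.isPreirreducible.preimage hj⟩
      exact hC.eq_of_le hirr hsub
    intro C hC C' hC' hCC'
    rw [hmax C hC, hmax C' hC', hCC']

/-- Germ-injectivity under the hypothesis of EGA IV 20.3: locally Noetherian, or reduced with a
locally finite set of irreducible components. -/
theorem isGermInjectiveAt_of_locallyNoetherian_or_reduced {X : Scheme.{u}}
    (hX : IsLocallyNoetherian X ∨ (IsReduced X ∧ ∀ x : ↥X, ∃ W : X.Opens, x ∈ W ∧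
      {Z : Set ↥X | Z ∈ irreducibleComponents ↥X ∧ (Z ∩ (W : Set ↥X)).Nonempty}.Finite))
    (x : X) : X.IsGermInjectiveAt x := by
  rcases hX with hN | ⟨hR, hfin⟩
  · infer_instance
  · obtain ⟨W, hxW, hW⟩ := hfin x
    have hr : Set.range (fun z : ↥(W : Scheme.{u}) => W.ι z) = (W : Set X) :=
      Scheme.Opens.range_ι W
    have h1 : (irreducibleComponents ↥(W : Scheme.{u})).Finite := by
      apply finite_irreducibleComponents_of_isOpenEmbedding' (fun z : ↥(W : Scheme.{u}) => W.ι z)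
        W.ι.isOpenEmbedding
      rw [hr]
      exact hW
    have h2 : (W : Scheme.{u}).IsGermInjectiveAt ⟨x, hxW⟩ :=
      H54.isGermInjectiveAt_of_isReduced _ h1 _
    have h3 : X.IsGermInjectiveAt (W.ι ⟨x, hxW⟩) :=
      (isGermInjectiveAt_iff_of_isOpenImmersion (f := W.ι)).mpr h2
    exact h3

/-- Locally closed subsets of a locally Noetherian scheme are pro-constructible. -/
theorem isProConstructible_inter_of_isLocallyNoetherian {X : Scheme.{u}} [IsLocallyNoetherian X]
    (A B : Set X) (hA : IsOpen A) (hB : IsClosed B) : ProCons.IsProConstructible (A ∩ B) := by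
  intro x
  obtain ⟨_, ⟨U', hU', rfl⟩, hxU', -⟩ :=
    X.isBasis_affineOpens.exists_subset_of_mem_open (Set.mem_univ x) isOpen_univ
  have hU'' : IsAffineOpen U' := hU'
  haveI : IsNoetherianRing Γ(X, U') := IsLocallyNoetherian.component_noetherian ⟨U', hU''⟩
  haveI : NoetherianSpace ↥(U' : Set X) := noetherianSpace_of_isAffineOpen U' hU''
  refine ⟨(U' : Set X), U'.isOpen, hxU', {Subtype.val ⁻¹' (A ∩ B)}, ?_, by simp⟩
  intro T hT
  rw [Set.mem_singleton_iff] at hT
  subst hT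
  apply IsConstructible.isLocallyConstructible
  rw [Set.preimage_inter]
  refine IsConstructible.inter ?_ ?_
  · exact (NoetherianSpace.isCompact _).isConstructible (hA.preimage continuous_subtype_val)
  · rw [← isConstructible_compl, ← Set.preimage_compl]
    exact (NoetherianSpace.isCompact _).isConstructible
      (hB.isOpen_compl.preimage continuous_subtype_val)

/-- **EGA IV 20.3.?**: a pseudo-morphism into a separated, locally finitely presented `S`-scheme
is defined at `x` iff its restriction to `Spec 𝒪_{X,x}` is everywhere defined. -/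
theorem extends_nhd_iff_extends_to_specStalk {X Y S : Scheme.{u}} (pX : X ⟶ S) (pY : Y ⟶ S)
    [IsSeparated pY] [LocallyOfFinitePresentation pY]
    (hX : IsLocallyNoetherian X ∨ (IsReduced X ∧ ∀ x : ↥X, ∃ W : X.Opens, x ∈ W ∧
      {Z : Set ↥X | Z ∈ irreducibleComponents ↥X ∧ (Z ∩ (W : Set ↥X)).Nonempty}.Finite))
    (U : X.Opens) (h : (U : Scheme.{u}) ⟶ Y)
    (hh : h ≫ pY = U.ι ≫ pX) (x : ↥X) :
    (∃ (V : X.Opens) (v : (V : Scheme.{u}) ⟶ Y), x ∈ V ∧ v ≫ pY = V.ι ≫ pX ∧
        X.homOfLE (inf_le_right : U ⊓ V ≤ V) ≫ v = X.homOfLE (inf_le_left : U ⊓ V ≤ U) ≫ h) ↔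
      ∃ w : Spec (X.presheaf.stalk x) ⟶ Y, w ≫ pY = X.fromSpecStalk x ≫ pX ∧
        pullback.fst (X.fromSpecStalk x) U.ι ≫ w = pullback.snd (X.fromSpecStalk x) U.ι ≫ h := by
  constructor
  · rintro ⟨V, v, hxV, hvS, hv⟩
    refine ⟨V.fromSpecStalkOfMem x hxV ≫ v, ?_, ?_⟩
    · rw [Category.assoc, hvS, ← Category.assoc, Scheme.Opens.fromSpecStalkOfMem_ι]
    · have hrange : Set.range (pullback.snd (X.fromSpecStalk x) U.ι ≫ U.ι) ⊆
          Set.range (U ⊓ V).ι := by
        rintro _ ⟨z, rfl⟩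
        rw [Scheme.Opens.range_ι]
        have hz1 : (pullback.snd (X.fromSpecStalk x) U.ι ≫ U.ι) z ∈ (U : Set X) :=
          (pullback.snd (X.fromSpecStalk x) U.ι z).2
        have hz2 : (pullback.snd (X.fromSpecStalk x) U.ι ≫ U.ι) z ∈ (V : Set X) := by
          have e : pullback.snd (X.fromSpecStalk x) U.ι ≫ U.ι =
              (pullback.fst (X.fromSpecStalk x) U.ι ≫ V.fromSpecStalkOfMem x hxV) ≫ V.ι := by
            rw [Category.assoc, Scheme.Opens.fromSpecStalkOfMem_ι, pullback.condition]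
          rw [e]
          exact ((pullback.fst (X.fromSpecStalk x) U.ι ≫ V.fromSpecStalkOfMem x hxV) z).2
        exact ⟨hz1, hz2⟩
      let t := IsOpenImmersion.lift (U ⊓ V).ι (pullback.snd (X.fromSpecStalk x) U.ι ≫ U.ι) hrange
      have ht : t ≫ (U ⊓ V).ι = pullback.snd (X.fromSpecStalk x) U.ι ≫ U.ι :=
        IsOpenImmersion.lift_fac _ _ _
      have e1 : pullback.fst (X.fromSpecStalk x) U.ι ≫ V.fromSpecStalkOfMem x hxV =
          t ≫ X.homOfLE (inf_le_right : U ⊓ V ≤ V) := by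
        rw [← cancel_mono V.ι, Category.assoc, Category.assoc,
          Scheme.Opens.fromSpecStalkOfMem_ι, Scheme.homOfLE_ι, ht, pullback.condition]
      have e2 : pullback.snd (X.fromSpecStalk x) U.ι =
          t ≫ X.homOfLE (inf_le_left : U ⊓ V ≤ U) := by
        rw [← cancel_mono U.ι, Category.assoc, Scheme.homOfLE_ι, ht]
      calc pullback.fst (X.fromSpecStalk x) U.ι ≫ V.fromSpecStalkOfMem x hxV ≫ v
          = (pullback.fst (X.fromSpecStalk x) U.ι ≫ V.fromSpecStalkOfMem x hxV) ≫ v :=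
            (Category.assoc _ _ _).symm
        _ = (t ≫ X.homOfLE (inf_le_right : U ⊓ V ≤ V)) ≫ v := by rw [e1]
        _ = t ≫ X.homOfLE (inf_le_right : U ⊓ V ≤ V) ≫ v := Category.assoc _ _ _
        _ = t ≫ X.homOfLE (inf_le_left : U ⊓ V ≤ U) ≫ h := by rw [hv]
        _ = (t ≫ X.homOfLE (inf_le_left : U ⊓ V ≤ U)) ≫ h := (Category.assoc _ _ _).symm
        _ = pullback.snd (X.fromSpecStalk x) U.ι ≫ h := by rw [← e2]
  · rintro ⟨w, hwS, hw⟩
    haveI hgi : X.IsGermInjectiveAt x := isGermInjectiveAt_of_locallyNoetherian_or_reduced hX x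
    haveI : LocallyOfFiniteType pY := inferInstance
    obtain ⟨V₀, hxV₀, v₀, hw₀, hv₀S⟩ := spread_out_of_isGermInjective' pX pY w hwS
    -- stalkwise agreement at generizations of `x`
    have claimA : ∀ (N : X.Opens) (hNU : N ≤ U) (hNV : N ≤ V₀) (t' : ↥(N : Scheme.{u}))
        (hsp : (N.ι t') ⤳ x),
        (N : Scheme.{u}).fromSpecStalk t' ≫ X.homOfLE hNV ≫ v₀ =
          (N : Scheme.{u}).fromSpecStalk t' ≫ X.homOfLE hNU ≫ h := by
      intro N hNU hNV t' hsp
      obtain ⟨ρ, hρdef⟩ : ∃ ρ : Spec ((N : Scheme.{u}).presheaf.stalk t') ⟶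
          Spec (X.presheaf.stalk x), ρ =
            Spec.map (N.ι.stalkMap t') ≫ Spec.map (X.presheaf.stalkSpecializes hsp) := ⟨_, rfl⟩
      have hρ : ρ ≫ X.fromSpecStalk x = (N : Scheme.{u}).fromSpecStalk t' ≫ N.ι := by
        rw [hρdef, Category.assoc, Scheme.SpecMap_stalkSpecializes_fromSpecStalk,
          Scheme.SpecMap_stalkMap_fromSpecStalk]
      have hm : ρ ≫ X.fromSpecStalk x =
          ((N : Scheme.{u}).fromSpecStalk t' ≫ X.homOfLE hNU) ≫ U.ι := by
        rw [hρ, Category.assoc, Scheme.homOfLE_ι]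
      have e1 : (N : Scheme.{u}).fromSpecStalk t' ≫ X.homOfLE hNV =
          ρ ≫ V₀.fromSpecStalkOfMem x hxV₀ := by
        rw [← cancel_mono V₀.ι, Category.assoc, Category.assoc, Scheme.homOfLE_ι,
          Scheme.Opens.fromSpecStalkOfMem_ι, hρ]
      calc (N : Scheme.{u}).fromSpecStalk t' ≫ X.homOfLE hNV ≫ v₀
          = ((N : Scheme.{u}).fromSpecStalk t' ≫ X.homOfLE hNV) ≫ v₀ :=
            (Category.assoc _ _ _).symm
        _ = (ρ ≫ V₀.fromSpecStalkOfMem x hxV₀) ≫ v₀ := by rw [e1]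
        _ = ρ ≫ w := by rw [Category.assoc, ← hw₀]
        _ = (pullback.lift ρ ((N : Scheme.{u}).fromSpecStalk t' ≫ X.homOfLE hNU) hm ≫
              pullback.fst (X.fromSpecStalk x) U.ι) ≫ w := by rw [pullback.lift_fst]
        _ = pullback.lift ρ ((N : Scheme.{u}).fromSpecStalk t' ≫ X.homOfLE hNU) hm ≫
              pullback.snd (X.fromSpecStalk x) U.ι ≫ h := by rw [Category.assoc, hw]
        _ = (N : Scheme.{u}).fromSpecStalk t' ≫ X.homOfLE hNU ≫ h := by
            rw [← Category.assoc, pullback.lift_snd, Category.assoc]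
    -- monotonicity and locality of agreement
    have mono : ∀ (N N' : X.Opens) (hNU : N ≤ U) (hNV : N ≤ V₀) (hN' : N' ≤ N),
        X.homOfLE hNV ≫ v₀ = X.homOfLE hNU ≫ h →
        X.homOfLE (hN'.trans hNV) ≫ v₀ = X.homOfLE (hN'.trans hNU) ≫ h := by
      intro N N' hNU hNV hN' hag
      rw [← Scheme.homOfLE_homOfLE X hN' hNV, Category.assoc, hag, ← Category.assoc,
        Scheme.homOfLE_homOfLE]
    have glue : ∀ (N : X.Opens) (hNU : N ≤ U) (hNV : N ≤ V₀),
        (∀ t ∈ N, ∃ (N' : X.Opens) (hN'U : N' ≤ U) (hN'V : N' ≤ V₀), t ∈ N' ∧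
          X.homOfLE hN'V ≫ v₀ = X.homOfLE hN'U ≫ h) →
        X.homOfLE hNV ≫ v₀ = X.homOfLE hNU ≫ h := by
      intro N hNU hNV hloc
      choose! N' hN'U hN'V htN' hag using hloc
      let 𝒰 : (N : Scheme.{u}).OpenCover :=
        Scheme.Cover.mkOfCovers (↥(N : Scheme.{u}))
          (fun z => ((N' z.1 ⊓ N : X.Opens) : Scheme.{u}))
          (fun z => X.homOfLE (inf_le_right : N' z.1 ⊓ N ≤ N))
          (fun z => ⟨z, ⟨z.1, htN' z.1 z.2, z.2⟩, Subtype.ext (Scheme.homOfLE_apply _ _)⟩)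
          (fun z => inferInstance)
      apply 𝒰.hom_ext
      intro z
      show X.homOfLE (inf_le_right : N' z.1 ⊓ N ≤ N) ≫ X.homOfLE hNV ≫ v₀ =
        X.homOfLE (inf_le_right : N' z.1 ⊓ N ≤ N) ≫ X.homOfLE hNU ≫ h
      rw [← Category.assoc, ← Category.assoc, Scheme.homOfLE_homOfLE, Scheme.homOfLE_homOfLE]
      exact mono (N' z.1) (N' z.1 ⊓ N) (hN'U z.1 z.2) (hN'V z.1 z.2) inf_le_left (hag z.1 z.2)
    rcases hX with hN | ⟨hR, hfin⟩
    · -- the locally Noetherian case
      haveI := hN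
      let G : Set X := {t | ∃ (N' : X.Opens) (hN'U : N' ≤ U) (hN'V : N' ≤ V₀), t ∈ N' ∧
        X.homOfLE hN'V ≫ v₀ = X.homOfLE hN'U ≫ h}
      have hGopen : IsOpen G := by
        rw [isOpen_iff_forall_mem_open]
        rintro t ⟨N', hN'U, hN'V, htN', hag⟩
        exact ⟨N', fun s hs => ⟨N', hN'U, hN'V, hs, hag⟩, N'.isOpen, htN'⟩
      have hgood : ∀ t : X, t ∈ U → t ∈ V₀ → t ⤳ x → t ∈ G := by
        intro t htU htV hsp
        obtain ⟨N₀, hN₀⟩ : ∃ N₀ : X.Opens, N₀ = U ⊓ V₀ := ⟨_, rfl⟩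
        have hN₀U : N₀ ≤ U := hN₀ ▸ inf_le_left
        have hN₀V : N₀ ≤ V₀ := hN₀ ▸ inf_le_right
        have htN₀ : t ∈ N₀ := hN₀ ▸ ⟨htU, htV⟩
        have hNoeth : IsLocallyNoetherian (N₀ : Scheme.{u}) := inferInstance
        have hgi' : (N₀ : Scheme.{u}).IsGermInjectiveAt ⟨t, htN₀⟩ :=
          (inferInstance : (N₀ : Scheme.{u}).IsGermInjective) _
        obtain ⟨W, htW, hW⟩ := spread_out_unique_of_isGermInjective'
          (X := (N₀ : Scheme.{u})) (Y := Y)
          (x := (⟨t, htN₀⟩ : ↥(N₀ : Scheme.{u}))) (X.homOfLE hN₀V ≫ v₀) (X.homOfLE hN₀U ≫ h)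
          (claimA N₀ hN₀U hN₀V ⟨t, htN₀⟩ hsp)
        have hle : N₀.ι ''ᵁ W ≤ N₀ := N₀.ι_image_le W
        refine ⟨N₀.ι ''ᵁ W, hle.trans hN₀U, hle.trans hN₀V, ⟨⟨t, htN₀⟩, htW, rfl⟩, ?_⟩
        have e : (N₀.ι.isoImage W).hom ≫ X.homOfLE hle = W.ι := by
          rw [← cancel_mono N₀.ι, Category.assoc, Scheme.homOfLE_ι, Scheme.Hom.isoImage_hom_ι]
        rw [← cancel_epi (N₀.ι.isoImage W).hom]
        calc (N₀.ι.isoImage W).hom ≫ X.homOfLE (hle.trans hN₀V) ≫ v₀
            = ((N₀.ι.isoImage W).hom ≫ X.homOfLE hle) ≫ X.homOfLE hN₀V ≫ v₀ := by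
              rw [Category.assoc, ← Category.assoc (X.homOfLE hle), Scheme.homOfLE_homOfLE]
          _ = W.ι ≫ X.homOfLE hN₀V ≫ v₀ := by rw [e]
          _ = W.ι ≫ X.homOfLE hN₀U ≫ h := hW
          _ = ((N₀.ι.isoImage W).hom ≫ X.homOfLE hle) ≫ X.homOfLE hN₀U ≫ h := by rw [e]
          _ = (N₀.ι.isoImage W).hom ≫ X.homOfLE (hle.trans hN₀U) ≫ h := by
              rw [Category.assoc, ← Category.assoc (X.homOfLE hle), Scheme.homOfLE_homOfLE]
      obtain ⟨T, hTdef⟩ : ∃ T : Set X, T = ((U : Set X) ∩ (V₀ : Set X)) ∩ Gᶜ := ⟨_, rfl⟩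
      have hxT : x ∉ closure T := by
        intro hx
        have hTpro : ProCons.IsProConstructible T := by
          rw [hTdef]
          exact isProConstructible_inter_of_isLocallyNoetherian _ _
            (U.isOpen.inter V₀.isOpen) hGopen.isClosed_compl
        obtain ⟨t, htT, hsp⟩ := exists_specializes_of_mem_closure_proCons T hTpro x hx
        rw [hTdef] at htT
        exact htT.2 (hgood t htT.1.1 htT.1.2 hsp)
      let V₁ : X.Opens := V₀ ⊓ ⟨(closure T)ᶜ, isClosed_closure.isOpen_compl⟩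
      have hxV₁ : x ∈ V₁ := ⟨hxV₀, hxT⟩
      have hV₁ : V₁ ≤ V₀ := inf_le_left
      refine ⟨V₁, X.homOfLE hV₁ ≫ v₀, hxV₁, ?_, ?_⟩
      · rw [Category.assoc, hv₀S, ← Category.assoc, Scheme.homOfLE_ι]
      · rw [← Category.assoc, Scheme.homOfLE_homOfLE]
        apply glue (U ⊓ V₁) inf_le_left (inf_le_right.trans hV₁)
        intro t ht
        have htU : t ∈ U := ht.1
        have htV₀ : t ∈ V₀ := ht.2.1
        have htc : t ∉ closure T := ht.2.2
        have : t ∈ G := by
          by_contra hG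
          apply htc
          apply subset_closure
          rw [hTdef]
          exact ⟨⟨htU, htV₀⟩, hG⟩
        exact this
    · -- the reduced case
      haveI := hR
      obtain ⟨W₀, hxW₀, hW₀fin⟩ := hfin x
      obtain ⟨B, hBdef⟩ : ∃ B : Set X, B = ⋃ Z ∈ {Z : Set X | (Z ∈ irreducibleComponents X ∧
          (Z ∩ (W₀ : Set X)).Nonempty) ∧ x ∉ Z}, Z := ⟨_, rfl⟩
      have hBclosed : IsClosed B := by
        rw [hBdef]
        apply Set.Finite.isClosed_biUnion (hW₀fin.subset (fun Z hZ => hZ.1))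
        intro Z hZ
        exact isClosed_of_mem_irreducibleComponents Z hZ.1.1
      have hxB : x ∉ B := by
        rw [hBdef]
        intro hx
        obtain ⟨Z, hZ, hxZ⟩ := Set.mem_iUnion₂.mp hx
        exact hZ.2 hxZ
      let V₁ : X.Opens := (V₀ ⊓ W₀) ⊓ ⟨Bᶜ, hBclosed.isOpen_compl⟩
      have hxV₁ : x ∈ V₁ := ⟨⟨hxV₀, hxW₀⟩, hxB⟩
      have hV₁ : V₁ ≤ V₀ := inf_le_left.trans inf_le_left
      refine ⟨V₁, X.homOfLE hV₁ ≫ v₀, hxV₁, ?_, ?_⟩
      · rw [Category.assoc, hv₀S, ← Category.assoc, Scheme.homOfLE_ι]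
      · rw [← Category.assoc, Scheme.homOfLE_homOfLE]
        obtain ⟨N, hNdef⟩ : ∃ N : X.Opens, N = U ⊓ V₁ := ⟨_, rfl⟩
        have hNU : N ≤ U := hNdef ▸ inf_le_left
        have hNV₁ : N ≤ V₁ := hNdef ▸ inf_le_right
        have hNV : N ≤ V₀ := hNV₁.trans hV₁
        suffices hsuff : X.homOfLE hNV ≫ v₀ = X.homOfLE hNU ≫ h by
          subst hNdef
          exact hsuff
        haveI : IsReduced (N : Scheme.{u}) := inferInstance
        refine ext_of_fromSpecResidueField_eq _ _ pY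
          {t' : ↥(N : Scheme.{u}) | (N.ι t') ⤳ x} ?_ ?_ ?_
        · rw [dense_iff_inter_open]
          intro O hO hOne
          obtain ⟨o, ho⟩ := hOne
          have hoN : N.ι o ∈ N := o.2
          have hoV₁ : N.ι o ∈ V₁ := hNV₁ hoN
          have hoW₀ : N.ι o ∈ W₀ := hoV₁.1.2
          have hoB : N.ι o ∉ B := hoV₁.2
          have hZmem : irreducibleComponent (N.ι o) ∈ irreducibleComponents X :=
            irreducibleComponent_mem_irreducibleComponents _
          have hoZ : N.ι o ∈ irreducibleComponent (N.ι o) := mem_irreducibleComponent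
          have hxZ : x ∈ irreducibleComponent (N.ι o) := by
            by_contra hxZ
            apply hoB
            rw [hBdef]
            exact Set.mem_iUnion₂.mpr ⟨irreducibleComponent (N.ι o),
              ⟨⟨hZmem, ⟨N.ι o, hoZ, hoW₀⟩⟩, hxZ⟩, hoZ⟩
          obtain ⟨η, hη⟩ := QuasiSober.sober hZmem.1
            (isClosed_of_mem_irreducibleComponents _ hZmem)
          have hηo : η ⤳ N.ι o := hη.specializes hoZ
          have hηx : η ⤳ x := hη.specializes hxZ
          have hηO : η ∈ N.ι ''ᵁ (⟨O, hO⟩ : (N : Scheme.{u}).Opens) :=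
            hηo.mem_open (N.ι ''ᵁ (⟨O, hO⟩ : (N : Scheme.{u}).Opens)).isOpen ⟨o, ho, rfl⟩
          obtain ⟨η', hη'O, hη'⟩ := hηO
          refine ⟨η', hη'O, ?_⟩
          have e : N.ι η' = η := hη'
          show (N.ι η') ⤳ x
          rw [e]
          exact hηx
        · intro t' ht'
          rw [Scheme.fromSpecResidueField, Category.assoc, Category.assoc,
            claimA N hNU hNV t' ht']
        · rw [Category.assoc, hv₀S, Category.assoc, hh, Scheme.homOfLE_ι_assoc,
            Scheme.homOfLE_ι_assoc]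

end Groth.Agent.H24
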