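import Groth.Agent.H24.ModLimHom

/-!
# Sections of pulled-back modules over affine opens: semilinearity, spanning, transition maps
(helper24)
-/

set_option autoImplicit false
set_option linter.style.haveILetI false

open CategoryTheory CategoryTheory.Limits AlgebraicGeometry Opposite TopologicalSpace

universe u

namespace Groth.Agent.H24.PullSections

open Groth.Agent.H39.PullTrack OmegaSh

variable {X Y Z : Scheme.{u}}

/-- `pullSectLE` is semilinear. -/
theorem pullSectLE_smul (h : Y ⟶ X) (M : X.Modules) (W : X.Opens) (W' : Y.Opens)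
    (hle : W' ≤ h ⁻¹ᵁ W) (r : Γ(X, W)) (x : Γ(M, W)) :
    pullSectLE h M W W' hle (r • x) = (h.appLE W W' hle r) • pullSectLE h M W W' hle x := by
  have h1 : pullSect h M W (r • x) = h.app W r • pullSect h M W x :=
    Scheme.Modules.Hom.app_smul _ r x
  rw [pullSectLE_apply, pullSectLE_apply, h1, Groth.Agent.H8.res_smul]
  rfl

section Span

variable (h : Y ⟶ X) (F : X.Modules) [F.IsQuasicoherent] {U : X.Opens} (hU : IsAffineOpen U)
  {U' : Y.Opens} (hU' : IsAffineOpen U') (e : U' ≤ h ⁻¹ᵁ U)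

include hU hU' in
/-- Sections of a pullback over an affine open are combinations of pulled-back sections. -/
theorem exists_sum_pullSectLE (z : Γ((Scheme.Modules.pullback h).obj F, U')) :
    ∃ (l : ℕ) (c : Fin l → Γ(Y, U')) (x : Fin l → Γ(F, U)),
      z = ∑ i, c i • pullSectLE h F U U' e (x i) := by
  obtain ⟨E, hE⟩ := Groth.Agent.H39.PullTrack.exists_sectionsPullbackEquiv h F hU hU' e
  letI := (h.appLE U U' e).hom.toAlgebra
  have key : ∀ t : TensorProduct Γ(X, U) Γ(Y, U') Γ(F, U),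
      ∃ (l : ℕ) (c : Fin l → Γ(Y, U')) (x : Fin l → Γ(F, U)),
        E.symm t = ∑ i, c i • pullSectLE h F U U' e (x i) := by
    intro t
    induction t using TensorProduct.induction_on with
    | zero => exact ⟨0, Fin.elim0, Fin.elim0, by simp⟩
    | tmul a x =>
      refine ⟨1, fun _ => a, fun _ => x, ?_⟩
      have h1 : a ⊗ₜ[Γ(X, U)] x = a • ((1 : Γ(Y, U')) ⊗ₜ[Γ(X, U)] x) := by
        rw [TensorProduct.smul_tmul', smul_eq_mul, mul_one]
      rw [h1, map_smul, ← hE x, E.symm_apply_apply]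
      simp
    | add a b ha hb =>
      obtain ⟨l₁, c₁, x₁, h₁⟩ := ha
      obtain ⟨l₂, c₂, x₂, h₂⟩ := hb
      refine ⟨l₁ + l₂, Fin.append c₁ c₂, Fin.append x₁ x₂, ?_⟩
      rw [map_add, h₁, h₂, Fin.sum_univ_add]
      simp only [Fin.append_left, Fin.append_right]
  obtain ⟨l, c, x, hx⟩ := key (E z)
  exact ⟨l, c, x, by rw [← hx, E.symm_apply_apply]⟩

include hU hU' in
/-- Vanishing of a combination of pulled-back sections is vanishing of the corresponding tensor. -/
theorem sum_smul_pullSectLE_eq_zero_iff {l : ℕ} (c : Fin l → Γ(Y, U')) (x : Fin l → Γ(F, U)) :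
    ∑ i, c i • pullSectLE h F U U' e (x i) = 0 ↔
      TensorStage.SumZero (h.appLE U U' e).hom c x := by
  obtain ⟨E, hE⟩ := Groth.Agent.H39.PullTrack.exists_sectionsPullbackEquiv h F hU hU' e
  letI := (h.appLE U U' e).hom.toAlgebra
  have key : E (∑ i, c i • pullSectLE h F U U' e (x i)) = ∑ i, c i ⊗ₜ[Γ(X, U)] x i := by
    rw [map_sum]
    refine Finset.sum_congr rfl fun i _ => ?_
    rw [map_smul, hE, TensorProduct.smul_tmul', smul_eq_mul, mul_one]
  constructor
  · intro h0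
    rw [h0, map_zero] at key
    exact key.symm
  · intro h0
    apply E.injective
    rw [key, map_zero]
    exact h0

include hU hU' in
/-- Two additive maps out of the sections of a pullback over an affine open which are semilinear
along the same ring map and agree on pulled-back sections are equal. -/
theorem semi_ext {R Q : Type*} [CommRing R] [AddCommGroup Q] [Module R Q]
    (ρ : Γ(Y, U') →+* R) (A B : Γ((Scheme.Modules.pullback h).obj F, U') →+ Q)
    (hA : ∀ c y, A (c • y) = ρ c • A y) (hB : ∀ c y, B (c • y) = ρ c • B y)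
    (hAB : ∀ x : Γ(F, U), A (pullSectLE h F U U' e x) = B (pullSectLE h F U U' e x))
    (z : Γ((Scheme.Modules.pullback h).obj F, U')) : A z = B z := by
  obtain ⟨l, c, x, rfl⟩ := exists_sum_pullSectLE h F hU hU' e z
  rw [map_sum, map_sum]
  refine Finset.sum_congr rfl fun i _ => ?_
  rw [hA, hB, hAB]

end Span

section Tr

variable (f : Z ⟶ Y) (g : Y ⟶ X) (k : Z ⟶ X) (hk : f ≫ g = k) (M : X.Modules)

include hk in
theorem preimage_le_of_comp (W : X.Opens) : k ⁻¹ᵁ W ≤ f ⁻¹ᵁ (g ⁻¹ᵁ W) := by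
  rw [← hk, Scheme.Hom.comp_preimage]

/-- The transition map `Γ(g^* M, g⁻¹ W) → Γ(k^* M, k⁻¹ W)` for `k = f ≫ g`. -/
noncomputable def Tr (W : X.Opens) :
    Γ((Scheme.Modules.pullback g).obj M, g ⁻¹ᵁ W) →+
      Γ((Scheme.Modules.pullback k).obj M, k ⁻¹ᵁ W) :=
  ((((Scheme.Modules.pullbackComp f g ≪≫ Scheme.Modules.pullbackCongr hk).app M).hom).app
    (k ⁻¹ᵁ W)).hom.comp
    (pullSectLE f ((Scheme.Modules.pullback g).obj M) (g ⁻¹ᵁ W) (k ⁻¹ᵁ W)
      (preimage_le_of_comp f g k hk W))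

theorem Tr_apply (W : X.Opens) (y : Γ((Scheme.Modules.pullback g).obj M, g ⁻¹ᵁ W)) :
    Tr f g k hk M W y =
      (((Scheme.Modules.pullbackComp f g ≪≫ Scheme.Modules.pullbackCongr hk).app M).hom).app
        (k ⁻¹ᵁ W) (pullSectLE f ((Scheme.Modules.pullback g).obj M) (g ⁻¹ᵁ W) (k ⁻¹ᵁ W)
          (preimage_le_of_comp f g k hk W) y) := rfl

theorem iso_hom_pullSectLE (W : X.Opens) (V' : Y.Opens) (V'' : Z.Opens) (h1 : V' ≤ g ⁻¹ᵁ W)
    (h2 : V'' ≤ f ⁻¹ᵁ V') (h3 : V'' ≤ k ⁻¹ᵁ W) (x : Γ(M, W)) :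
    (((Scheme.Modules.pullbackComp f g ≪≫ Scheme.Modules.pullbackCongr hk).app M).hom).app V''
      (pullSectLE f ((Scheme.Modules.pullback g).obj M) V' V'' h2 (pullSectLE g M W V' h1 x)) =
      pullSectLE k M W V'' h3 x := by
  subst hk
  show ((Scheme.Modules.pullbackCongr (rfl : f ≫ g = f ≫ g)).hom.app M).app V''
    (((Scheme.Modules.pullbackComp f g).hom.app M).app V''
      (pullSectLE f ((Scheme.Modules.pullback g).obj M) V' V'' h2 (pullSectLE g M W V' h1 x))) = _
  rw [pullbackComp_hom_pullSectLE, pullbackCongr_hom_pullSectLE]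

theorem Tr_pullSect (W : X.Opens) (x : Γ(M, W)) :
    Tr f g k hk M W (pullSectLE g M W (g ⁻¹ᵁ W) le_rfl x) = pullSectLE k M W (k ⁻¹ᵁ W) le_rfl x :=
  iso_hom_pullSectLE f g k hk M W _ _ le_rfl _ le_rfl x

theorem Tr_smul (W : X.Opens) (s : Γ(Y, g ⁻¹ᵁ W))
    (y : Γ((Scheme.Modules.pullback g).obj M, g ⁻¹ᵁ W)) :
    Tr f g k hk M W (s • y) =
      (f.appLE (g ⁻¹ᵁ W) (k ⁻¹ᵁ W) (preimage_le_of_comp f g k hk W) s) • Tr f g k hk M W y := by
  rw [Tr_apply, Tr_apply, pullSectLE_smul, Scheme.Modules.Hom.app_smul]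

theorem Tr_res {W W' : X.Opens} (hW : W' ≤ W)
    (y : Γ((Scheme.Modules.pullback g).obj M, g ⁻¹ᵁ W)) :
    ((Scheme.Modules.pullback k).obj M).presheaf.map (homOfLE (k.preimage_mono hW)).op
        (Tr f g k hk M W y) =
      Tr f g k hk M W' (((Scheme.Modules.pullback g).obj M).presheaf.map
        (homOfLE (g.preimage_mono hW)).op y) := by
  rw [Tr_apply, Tr_apply, ← app_res]
  refine congrArg _ ?_
  exact (pullSectLE_res_target f ((Scheme.Modules.pullback g).obj M) (g ⁻¹ᵁ W)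
    (preimage_le_of_comp f g k hk W) (k.preimage_mono hW) y).trans
    (pullSectLE_res_source f ((Scheme.Modules.pullback g).obj M) (g.preimage_mono hW)
      (k ⁻¹ᵁ W') (preimage_le_of_comp f g k hk W') y).symm

end Tr

end Groth.Agent.H24.PullSections
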