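import Mathlib
import Groth.Agent.H24.RelAmpleLim
import Groth.Agent.H24.ConsLocusLim
import Groth.Agent.H22.AmpleDescentRel

/-!
# Relative ampleness and pullback squares (helper24)
-/

set_option autoImplicit false

open CategoryTheory AlgebraicGeometry Limits TopologicalSpace
open Groth.Agent.H22.PullGen Groth.Agent.H22.PullAmple

universe u

namespace Groth.Agent.H24.RelAmpleSquares

variable {X Y X' Y' : Scheme.{u}}

/-- Relative ampleness for a base change given by an arbitrary pullback square is the same as for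
the canonical pullback. -/
theorem isRelAmple_iff_of_isPullback {f : X ⟶ Y} {f' : X' ⟶ Y'} {u : X' ⟶ X} {v : Y' ⟶ Y}
    (sq : IsPullback u f' f v) (L : X.Modules) :
    RelAmple.IsRelAmple f' ((Scheme.Modules.pullback u).obj L) ↔
      RelAmple.IsRelAmple (pullback.snd f v)
        ((Scheme.Modules.pullback (pullback.fst f v)).obj L) := by
  constructor
  · intro h1
    haveI : QuasiCompact f' := h1.1
    have h2 := H22.PullRelAmple.isRelAmple_pullback_of_isAffineHom f' sq.isoPullback.inv h1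
    rw [sq.isoPullback_inv_snd] at h2
    refine H22.PullRelAmple.isRelAmple_of_iso _ ?_ h2
    exact (Scheme.Modules.pullbackComp _ _).app _ ≪≫
      (Scheme.Modules.pullbackCongr sq.isoPullback_inv_fst).app _
  · intro h1
    haveI : QuasiCompact (pullback.snd f v) := h1.1
    have h2 := H22.PullRelAmple.isRelAmple_pullback_of_isAffineHom (pullback.snd f v)
      sq.isoPullback.hom h1
    rw [sq.isoPullback_hom_snd] at h2
    refine H22.PullRelAmple.isRelAmple_of_iso _ ?_ h2
    exact (Scheme.Modules.pullbackComp _ _).app _ ≪≫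
      (Scheme.Modules.pullbackCongr sq.isoPullback_hom_fst).app _

/-- Base change of relative ampleness along an arbitrary pullback square. -/
theorem isRelAmple_of_isPullback {f : X ⟶ Y} {f' : X' ⟶ Y'} {u : X' ⟶ X} {v : Y' ⟶ Y}
    (sq : IsPullback u f' f v) {L : X.Modules} (h : RelAmple.IsRelAmple f L) :
    RelAmple.IsRelAmple f' ((Scheme.Modules.pullback u).obj L) := by
  haveI : QuasiCompact f := h.1
  exact (isRelAmple_iff_of_isPullback sq L).mpr (H22.PullBC.isRelAmple_baseChange f v h)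

variable {X₀ S₀ S₁ S₂ X₁ X₂ : Scheme.{u}}

/-- Two base changes of `u₀` (along `a` and along `b = h ≫ a`): relative ampleness passes from the
first to the second. -/
theorem isRelAmple_of_squares {u₀ : X₀ ⟶ S₀} {a : S₁ ⟶ S₀} {h : S₂ ⟶ S₁} {b : S₂ ⟶ S₀}
    (hb : h ≫ a = b) {u₁ : X₁ ⟶ S₁} {p₁ : X₁ ⟶ X₀} (s₁ : IsPullback p₁ u₁ u₀ a)
    {u₂ : X₂ ⟶ S₂} {p₂ : X₂ ⟶ X₀} (s₂ : IsPullback p₂ u₂ u₀ b) (L : X₀.Modules)
    (hA : RelAmple.IsRelAmple u₁ ((Scheme.Modules.pullback p₁).obj L)) :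
    RelAmple.IsRelAmple u₂ ((Scheme.Modules.pullback p₂).obj L) := by
  obtain ⟨e, he, sq⟩ := exists_isPullback_of_isPullback hb s₁ s₂
  refine H22.PullRelAmple.isRelAmple_of_iso _ ?_ (isRelAmple_of_isPullback sq hA)
  exact (Scheme.Modules.pullbackComp _ _).app _ ≪≫ (Scheme.Modules.pullbackCongr he).app _

/-- fpqc descent of relative ampleness, for arbitrary pullback squares. -/
theorem isRelAmple_of_squares_fpqc {u₀ : X₀ ⟶ S₀} {a : S₁ ⟶ S₀} {h : S₂ ⟶ S₁} {b : S₂ ⟶ S₀}
    (hb : h ≫ a = b) [QuasiCompact h] [Flat h] [Surjective h]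
    {u₁ : X₁ ⟶ S₁} {p₁ : X₁ ⟶ X₀} (s₁ : IsPullback p₁ u₁ u₀ a)
    {u₂ : X₂ ⟶ S₂} {p₂ : X₂ ⟶ X₀} (s₂ : IsPullback p₂ u₂ u₀ b) (L : X₀.Modules)
    (hL : PicF.IsInvertible L)
    (hA : RelAmple.IsRelAmple u₂ ((Scheme.Modules.pullback p₂).obj L)) :
    RelAmple.IsRelAmple u₁ ((Scheme.Modules.pullback p₁).obj L) := by
  obtain ⟨e, he, sq⟩ := exists_isPullback_of_isPullback hb s₁ s₂
  have h1 : RelAmple.IsRelAmple u₂
      ((Scheme.Modules.pullback e).obj ((Scheme.Modules.pullback p₁).obj L)) := by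
    refine H22.PullRelAmple.isRelAmple_of_iso _ ?_ hA
    exact ((Scheme.Modules.pullbackComp _ _).app _ ≪≫
      (Scheme.Modules.pullbackCongr he).app _).symm
  have h2 := (isRelAmple_iff_of_isPullback sq _).mp h1
  exact H22.AmpleDescentRel.isRelAmple_of_isRelAmple_pullback u₁ _
    (isInvertible_pullback p₁ hL) h h2

end Groth.Agent.H24.RelAmpleSquares
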