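import Mathlib
import Groth.Agent.H24.RelAmpleSquares
import Groth.Agent.H24.IndConsAbs

/-!
# The relatively ample locus on the base is ind-constructible (helper24)
-/

set_option autoImplicit false

open CategoryTheory AlgebraicGeometry Limits TopologicalSpace
open Groth.Agent.H22.PullGen Groth.Agent.H22.PullAmple Groth.Agent.H24.RelAmpleSquares

universe u

namespace Groth.Agent.H24.RelAmpleCons

variable {X Y S : Scheme.{u}} (f : X ⟶ Y) (g : Y ⟶ S) (L : X.Modules)

/-- `L` pulled back to `X ×_S W` is ample relative to `X ×_S W ⟶ Y ×_S W`. -/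
def RA ⦃W : Scheme.{u}⦄ (w : W ⟶ S) : Prop :=
  RelAmple.IsRelAmple (bcHom f g w) ((Scheme.Modules.pullback (pullback.fst (f ≫ g) w)).obj L)

/-- the comparison `Y ×_S W' ⟶ Y ×_S W` -/
noncomputable def cmp {W W' : Scheme.{u}} (w : W ⟶ S) (k : W' ⟶ W) :
    pullback g (k ≫ w) ⟶ pullback g w :=
  pullback.lift (pullback.fst g (k ≫ w)) (pullback.snd g (k ≫ w) ≫ k)
    (by rw [Category.assoc, pullback.condition])

theorem cmp_fst {W W' : Scheme.{u}} (w : W ⟶ S) (k : W' ⟶ W) :
    cmp g w k ≫ pullback.fst g w = pullback.fst g (k ≫ w) := pullback.lift_fst _ _ _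

theorem isPullback_cmp {W W' : Scheme.{u}} (w : W ⟶ S) (k : W' ⟶ W) :
    IsPullback (cmp g w k) (pullback.snd g (k ≫ w)) (pullback.snd g w) k := by
  refine IsPullback.of_right ?_ (pullback.lift_snd _ _ _) (IsPullback.of_hasPullback g w)
  rw [cmp_fst]
  exact IsPullback.of_hasPullback g (k ≫ w)

theorem RA_baseChange ⦃W W' : Scheme.{u}⦄ (w : W ⟶ S) (k : W' ⟶ W) (h : RA f g L w) :
    RA f g L (k ≫ w) :=
  isRelAmple_of_squares (cmp_fst g w k) (isPullback_bcHom f g w) (isPullback_bcHom f g (k ≫ w)) L h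

theorem RA_field (hL : PicF.IsInvertible L) ⦃T T' : Scheme.{u}⦄ [IsIntegral T] [Subsingleton T]
    [IsIntegral T'] [Subsingleton T'] (k : T' ⟶ T) (m : T ⟶ S) (h : RA f g L (k ≫ m)) :
    RA f g L m := by
  have hfpqc := fpqc_of_isPullback (isPullback_cmp g m k)
  haveI : Surjective (cmp g m k) := hfpqc.1.1
  haveI : Flat (cmp g m k) := hfpqc.1.2
  haveI : QuasiCompact (cmp g m k) := hfpqc.2
  exact isRelAmple_of_squares_fpqc (cmp_fst g m k) (isPullback_bcHom f g m)
    (isPullback_bcHom f g (k ≫ m)) L hL h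

set_option backward.isDefEq.respectTransparency.types false in
theorem RA_limit (hL : PicF.IsInvertible L)
    [QuasiCompact g] [QuasiSeparated g] [QuasiCompact (f ≫ g)] [QuasiSeparated (f ≫ g)]
    {I : Type u} [SmallCategory I] [IsCofiltered I] (D : I ⥤ Scheme.{u}) (c : Cone D)
    (hc : IsLimit c) [∀ (i j : I) (a : i ⟶ j), IsAffineHom (D.map a)]
    [∀ i, CompactSpace (D.obj i)] [∀ i, QuasiSeparatedSpace (D.obj i)]
    (β : D ⟶ (Functor.const I).obj S) (t : c.pt ⟶ S) (ht : ∀ i, c.π.app i ≫ β.app i = t)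
    (hA : RA f g L t) : ∃ i, RA f g L (β.app i) := by
  obtain ⟨i₀⟩ : Nonempty I := IsCofiltered.nonempty
  have e₀ : bcHom f g (β.app i₀) ≫ pullback.snd g (β.app i₀) =
      pullback.snd (f ≫ g) (β.app i₀) := bcHom_snd _ _ _
  have i2 : QuasiCompact (bcHom f g (β.app i₀) ≫ pullback.snd g (β.app i₀)) := by
    rw [e₀]; infer_instance
  have i3 : QuasiSeparated (bcHom f g (β.app i₀) ≫ pullback.snd g (β.app i₀)) := by
    rw [e₀]; infer_instance
  have wY : pullback.fst g t ≫ g = (pullback.snd g t ≫ c.π.app i₀) ≫ β.app i₀ := by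
    rw [Category.assoc, ht, pullback.condition]
  have wX : pullback.fst (f ≫ g) t ≫ (f ≫ g) =
      (pullback.snd (f ≫ g) t ≫ c.π.app i₀) ≫ β.app i₀ := by
    rw [Category.assoc, ht, pullback.condition]
  have hY : IsPullback (pullback.lift _ _ wY) (pullback.snd g t) (pullback.snd g (β.app i₀))
      (c.π.app i₀) := by
    refine IsPullback.of_right ?_ (pullback.lift_snd _ _ _)
      (IsPullback.of_hasPullback g (β.app i₀))
    rw [pullback.lift_fst, ht]
    exact IsPullback.of_hasPullback g t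
  have hX : IsPullback (pullback.lift _ _ wX) (bcHom f g t) (bcHom f g (β.app i₀))
      (pullback.lift _ _ wY) := by
    refine IsPullback.of_right ?_ ?_ (isPullback_bcHom f g (β.app i₀))
    · rw [pullback.lift_fst, pullback.lift_fst]
      exact isPullback_bcHom f g t
    · apply pullback.hom_ext
      · simp only [Category.assoc, bcHom_fst, pullback.lift_fst, pullback.lift_fst_assoc]
      · simp only [Category.assoc, bcHom_snd, pullback.lift_snd, pullback.lift_snd_assoc,
          bcHom_snd_assoc']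
  have hL₀ : PicF.IsInvertible
      ((Scheme.Modules.pullback (pullback.fst (f ≫ g) (β.app i₀))).obj L) :=
    isInvertible_pullback _ hL
  have hA' : RelAmple.IsRelAmple (bcHom f g t)
      ((Scheme.Modules.pullback (pullback.lift _ _ wX)).obj
        ((Scheme.Modules.pullback (pullback.fst (f ≫ g) (β.app i₀))).obj L)) := by
    refine H22.PullRelAmple.isRelAmple_of_iso _ ?_ hA
    exact ((Scheme.Modules.pullbackComp _ _).app _ ≪≫
      (Scheme.Modules.pullbackCongr (pullback.lift_fst _ _ wX)).app _).symm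
  obtain ⟨j, hj⟩ := RelAmpleLim.exists_stage_isRelAmple D c hc i₀ (bcHom f g (β.app i₀))
    (pullback.snd g (β.app i₀)) _ hL₀ (bcHom f g t) (pullback.snd g t) _ _ hY hX hA'
  refine ⟨j.left, ?_⟩
  have nat : D.map (j.hom ≫ 𝟙 i₀) ≫ β.app i₀ = β.app j.left := by
    have := β.naturality (j.hom ≫ 𝟙 i₀)
    simpa using this
  -- the composite square for the stage
  have s₁ := (isPullback_pbRel D (𝟙 i₀) (bcHom f g (β.app i₀)) (pullback.snd g (β.app i₀))
    j).paste_horiz (isPullback_bcHom f g (β.app i₀))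
  have hj' : RelAmple.IsRelAmple (pbRel D (𝟙 i₀) (bcHom f g (β.app i₀))
      (pullback.snd g (β.app i₀)) j)
      ((Scheme.Modules.pullback (pullback.fst (bcHom f g (β.app i₀) ≫ pullback.snd g (β.app i₀))
        (D.map (j.hom ≫ 𝟙 i₀)) ≫ pullback.fst (f ≫ g) (β.app i₀))).obj L) := by
    refine H22.PullRelAmple.isRelAmple_of_iso _ ?_ hj
    exact (Scheme.Modules.pullbackComp _ _).app _
  have wa : pullback.fst g (β.app j.left) ≫ g =
      (pullback.snd g (β.app j.left) ≫ D.map (j.hom ≫ 𝟙 i₀)) ≫ β.app i₀ := by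
    rw [Category.assoc, nat, pullback.condition]
  have wb : pullback.lift (pullback.fst g (β.app j.left))
      (pullback.snd g (β.app j.left) ≫ D.map (j.hom ≫ 𝟙 i₀)) wa ≫
      pullback.snd g (β.app i₀) = pullback.snd g (β.app j.left) ≫ D.map (j.hom ≫ 𝟙 i₀) :=
    pullback.lift_snd _ _ _
  refine isRelAmple_of_squares (h := pullback.lift _ _ wb) ?_ s₁
    (isPullback_bcHom f g (β.app j.left)) L hj'
  rw [pullback.lift_fst_assoc, pullback.lift_fst]

/-- **The relatively ample locus is ind-constructible.** -/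
theorem isIndConstructible_setOf_RA (hL : PicF.IsInvertible L)
    [QuasiCompact g] [QuasiSeparated g] [QuasiCompact (f ≫ g)] [QuasiSeparated (f ≫ g)] :
    ProCons.IsIndConstructible {s : S | RA f g L (S.fromSpecResidueField s)} :=
  IndConsAbs.isIndConstructible_setOf (RA f g L) (RA_baseChange f g L) (RA_field f g L hL)
    (fun D c hc _ _ _ β t ht hA => RA_limit f g L hL D c hc β t ht hA)

end Groth.Agent.H24.RelAmpleCons
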