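import Mathlib
import Groth.Agent.H24.GGLim
import Groth.Agent.H24.LimPullback
import Groth.Agent.H22.RelTwistGG

/-!
# Relative generation by sections descends to a stage (helper24)
-/

set_option autoImplicit false

open CategoryTheory AlgebraicGeometry Limits TopologicalSpace
open Groth.Agent.H22.PullGen Groth.Agent.H22.PullAmple Groth.Agent.H24.GGLim

universe u

namespace Groth.Agent.H24.RelGGLim

section Main

variable {I : Type u} [SmallCategory I] [IsCofiltered I]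
    (D : I ⥤ Scheme.{u}) (c : Cone D) (hc : IsLimit c)
    [∀ (i j : I) (f : i ⟶ j), IsAffineHom (D.map f)] (i₀ : I) [CompactSpace (D.obj i₀)]
    {X₀ Y₀ : Scheme.{u}} (f₀ : X₀ ⟶ Y₀) (g₀ : Y₀ ⟶ D.obj i₀)
    [QuasiCompact g₀] [QuasiSeparated g₀]
    [QuasiCompact (f₀ ≫ g₀)] [QuasiSeparated (f₀ ≫ g₀)]
    (L₀ : X₀.Modules) (hL₀ : PicF.IsInvertible L₀)
    {X Y : Scheme.{u}} (f : X ⟶ Y) (g : Y ⟶ c.pt) (qY : Y ⟶ Y₀) (qX : X ⟶ X₀)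
    (hY : IsPullback qY g g₀ (c.π.app i₀)) (hX : IsPullback qX f f₀ qY)

include hc hL₀ hY hX in
set_option backward.isDefEq.respectTransparency.types false in
theorem exists_stage_epi_counit
    (hgen : Epi ((Scheme.Modules.pullbackPushforwardAdjunction f).counit.app
      ((Scheme.Modules.pullback qX).obj L₀))) :
    ∃ j : Over i₀, ∀ (k : I) (ψ : k ⟶ j.left) (Xk Yk : Scheme.{u}) (fk : Xk ⟶ Yk)
      (gk : Yk ⟶ D.obj k) (pY : Yk ⟶ Y₀) (pX : Xk ⟶ X₀),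
      IsPullback pY gk g₀ (D.map (ψ ≫ j.hom ≫ 𝟙 i₀)) → IsPullback pX fk f₀ pY →
        Epi ((Scheme.Modules.pullbackPushforwardAdjunction fk).counit.app
          ((Scheme.Modules.pullback pX).obj L₀)) := by
  classical
  have hAff : ∀ {i j : I} (f : i ⟶ j), IsAffineHom (D.map f) := fun f => inferInstance
  haveI : QuasiCompact f₀ := QuasiCompact.of_comp f₀ g₀
  haveI : QuasiSeparated f₀ := QuasiSeparated.of_comp f₀ g₀
  haveI : CompactSpace Y₀ := QuasiCompact.compactSpace_of_compactSpace g₀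
  haveI : IsAffineHom (c.π.app i₀) := isAffineHom_π_app D c hc i₀
  haveI : IsAffineHom qY := MorphismProperty.of_isPullback (P := @IsAffineHom) hY.flip inferInstance
  haveI : QuasiCompact f := MorphismProperty.of_isPullback (P := @QuasiCompact) hX inferInstance
  haveI : QuasiSeparated f :=
    MorphismProperty.of_isPullback (P := @QuasiSeparated) hX inferInstance
  have hM : PicF.IsInvertible ((Scheme.Modules.pullback qX).obj L₀) := isInvertible_pullback qX hL₀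
  haveI : ((Scheme.Modules.pullback qX).obj L₀).IsQuasicoherent :=
    H18.AmpleBasis.isQuasicoherent_of_isInvertible hM
  -- finite affine cover of Y₀
  obtain ⟨t, ht⟩ := isCompact_univ.elim_finite_subcover
    (fun V : Y₀.affineOpens => ((V : Y₀.Opens) : Set Y₀)) (fun V => V.1.2) (by
      intro x _
      obtain ⟨V, hV, hxV, -⟩ := exists_isAffineOpen_mem_and_subset (x := x)
        (U := (⊤ : Y₀.Opens)) trivial
      exact Set.mem_iUnion.mpr ⟨⟨V, hV⟩, hxV⟩)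
  -- the limit system
  have hcX : IsLimit (pbCone D (𝟙 i₀) (f₀ ≫ g₀) c qX (f ≫ g) (hX.paste_vert hY).w) :=
    isLimitPbCone D (𝟙 i₀) (f₀ ≫ g₀) c hc qX (f ≫ g) (hX.paste_vert hY)
  obtain ⟨j₀, hj₀⟩ : ∃ j₀ : Over i₀, j₀ = Over.mk (𝟙 i₀) := ⟨_, rfl⟩
  obtain ⟨p, hp⟩ : ∃ p : (pbDiagram D (𝟙 i₀) (f₀ ≫ g₀)).obj j₀ ⟶ X₀,
      p = pullback.fst (f₀ ≫ g₀) (D.map (j₀.hom ≫ 𝟙 i₀)) := ⟨_, rfl⟩
  haveI : IsAffineHom p := by
    rw [hp]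
    exact MorphismProperty.pullback_fst (P := @IsAffineHom) _ _ inferInstance
  have e1 : (pbCone D (𝟙 i₀) (f₀ ≫ g₀) c qX (f ≫ g) (hX.paste_vert hY).w).π.app j₀ ≫ p = qX := by
    rw [hp]
    exact pbLift_fst D (𝟙 i₀) (f₀ ≫ g₀) c qX (f ≫ g) (hX.paste_vert hY).w j₀
  obtain ⟨K, hK⟩ := exists_stage_forall_pgAlong (pbDiagram D (𝟙 i₀) (f₀ ≫ g₀))
    (pbCone D (𝟙 i₀) (f₀ ≫ g₀) c qX (f ≫ g) (hX.paste_vert hY).w) hcX j₀
    p (p ≫ f₀) L₀ hL₀ t (by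
      intro V hV
      have h1 : PG (((Scheme.Modules.pullback qX).obj L₀).restrict (f ⁻¹ᵁ qY ⁻¹ᵁ V.1).ι) :=
        pg_restrict_of_genAt _ _ fun x hx =>
          H22.CounitEpi.exists_genAt_of_epi_affine f _ hM hgen (qY ⁻¹ᵁ V.1) (V.2.preimage qY) x hx
      have h2 := (pgAlong_pullback_iff _ _ _).mp ((pgAlong_ι_iff _ _).mpr h1)
      refine h2.congr_opens ?_ e1.symm
      calc f ⁻¹ᵁ qY ⁻¹ᵁ V.1 = (f ≫ qY) ⁻¹ᵁ V.1 := rfl
        _ = (qX ≫ f₀) ⁻¹ᵁ V.1 := by rw [hX.w]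
        _ = (((pbCone D (𝟙 i₀) (f₀ ≫ g₀) c qX (f ≫ g) (hX.paste_vert hY).w).π.app j₀ ≫
            p) ≫ f₀) ⁻¹ᵁ V.1 :=
          congrArg (fun m => (m ≫ f₀) ⁻¹ᵁ V.1) e1.symm
        _ = _ := by rw [Category.assoc]; rfl)
  refine ⟨K.left, ?_⟩
  have e2 : (pbDiagram D (𝟙 i₀) (f₀ ≫ g₀)).map K.hom ≫ p =
      pullback.fst (f₀ ≫ g₀) (D.map (K.left.hom ≫ 𝟙 i₀)) := by
    rw [hp]
    exact pbMap_fst D (𝟙 i₀) (f₀ ≫ g₀) K.hom
  intro k ψ Xk Yk fk gk pY pX hYk hXk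
  -- the comparison map to the canonical base change
  have hw : pX ≫ f₀ ≫ g₀ = (fk ≫ gk ≫ D.map ψ) ≫ D.map (K.left.hom ≫ 𝟙 i₀) := by
    rw [← Category.assoc, hXk.w, Category.assoc, hYk.w, D.map_comp]
    simp only [Category.assoc]
  obtain ⟨u, hu⟩ : ∃ u : Xk ⟶ (pbDiagram D (𝟙 i₀) (f₀ ≫ g₀)).obj K.left,
      u ≫ pullback.fst (f₀ ≫ g₀) (D.map (K.left.hom ≫ 𝟙 i₀)) = pX :=
    ⟨pullback.lift pX (fk ≫ gk ≫ D.map ψ) hw, pullback.lift_fst _ _ _⟩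
  apply H22.RelTwistGG.epi_counit_of_cover
  intro x
  obtain ⟨V, hV, hxV⟩ := Set.mem_iUnion₂.mp (ht (Set.mem_univ (pY (fk x))))
  refine ⟨pY ⁻¹ᵁ V.1, hxV, ?_⟩
  apply PG.isGloballyGenerated
  refine (pgAlong_ι_iff _ _).mp ((pgAlong_pullback_iff _ _ _).mpr ?_)
  have hKV := hK V hV
  have eU : fk ⁻¹ᵁ pY ⁻¹ᵁ V.1 =
      u ⁻¹ᵁ ((pbDiagram D (𝟙 i₀) (f₀ ≫ g₀)).map K.hom ⁻¹ᵁ (p ≫ f₀) ⁻¹ᵁ V.1) := by
    calc fk ⁻¹ᵁ pY ⁻¹ᵁ V.1 = (fk ≫ pY) ⁻¹ᵁ V.1 := rfl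
      _ = (pX ≫ f₀) ⁻¹ᵁ V.1 := by rw [hXk.w]
      _ = ((u ≫ (pbDiagram D (𝟙 i₀) (f₀ ≫ g₀)).map K.hom ≫ p) ≫ f₀) ⁻¹ᵁ V.1 :=
        congrArg (fun m => (m ≫ f₀) ⁻¹ᵁ V.1) (by rw [e2, hu])
      _ = _ := by simp only [Category.assoc]; rfl
  have h3 := hKV.precomp (u.resLE _ _ (le_of_eq eU)) hL₀
  refine h3.of_eq ?_
  rw [Scheme.Hom.resLE_comp_ι_assoc, e2, hu]

end Main

end Groth.Agent.H24.RelGGLim
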