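import Mathlib
import Groth.Prelude.Def_CInt
import Groth.Agent.S4875

/-!
# Extending morphisms along schematically dense opens after fppf localization (helper24)
-/

set_option autoImplicit false

open CategoryTheory AlgebraicGeometry Limits TopologicalSpace Opposite

universe u

namespace Groth.Agent.H24

/-- Two `S`-morphisms to a separated `S`-scheme which agree after a schematically dominant
morphism are equal. -/
theorem hom_ext_of_schematicallyDominant {W P Y S : Scheme.{u}} (pY : Y ⟶ S) [IsSeparated pY]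
    (j : W ⟶ P) (hj : ∀ (V : P.Opens) (t : Γ(P, V)), j.app V t = 0 → t = 0)
    (a b : P ⟶ Y) (hab : a ≫ pY = b ≫ pY) (h : j ≫ a = j ≫ b) : a = b := by
  let X' : Over S := Over.mk (a ≫ pY)
  let Y' : Over S := Over.mk pY
  let fa : X' ⟶ Y' := Over.homMk a rfl
  let fb : X' ⟶ Y' := Over.homMk b hab.symm
  have hsep : IsSeparated Y'.hom := ‹IsSeparated pY›
  have hci : IsClosedImmersion (equalizer.ι fa fb).left := inferInstance
  let W' : Over S := Over.mk (j ≫ a ≫ pY)
  let w : W' ⟶ X' := Over.homMk j rfl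
  have hw : w ≫ fa = w ≫ fb := by
    ext
    exact h
  have hl : (equalizer.lift w hw).left ≫ (equalizer.ι fa fb).left = j := by
    have := equalizer.lift_ι w hw
    exact congrArg CommaMorphism.left this
  have hker : j.ker = ⊥ := by
    rw [eq_bot_iff]
    intro V
    refine (Scheme.Hom.ideal_ker_le j V).trans ?_
    intro t ht
    rw [RingHom.mem_ker] at ht
    have := hj V.1 t ht
    rw [this]
    exact Submodule.zero_mem _
  have h1 := Scheme.Hom.le_ker_comp (equalizer.lift w hw).left (equalizer.ι fa fb).left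
  rw [hl, hker] at h1
  have hiso : IsIso (equalizer.ι fa fb).left :=
    IsClosedImmersion.isIso_iff_ker_eq_bot.mpr (le_bot_iff.mp h1)
  have hiso' : IsIso (equalizer.ι fa fb) := by
    have : IsIso ((Over.forget S).map (equalizer.ι fa fb)) := hiso
    exact isIso_of_reflects_iso _ (Over.forget S)
  have := (cancel_epi (equalizer.ι fa fb)).mp (equalizer.condition fa fb)
  exact congrArg CommaMorphism.left this

/-- A schematically dense open gives a schematically dominant family (of one morphism). -/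
theorem app_ι_eq_zero_of_isSchematicallyDense {X : Scheme.{u}} (U : X.Opens)
    (hU : CInt.IsSchematicallyDense U) (V : X.Opens) (t : Γ(X, V)) (ht : U.ι.app V t = 0) :
    t = 0 := by
  have key : ∀ (W₁ W₂ : X.Opens) (_ : W₁ = W₂) (h₁ : W₁ ≤ V) (h₂ : W₂ ≤ V),
      Function.Injective (X.presheaf.map (homOfLE h₁).op) →
      Function.Injective (X.presheaf.map (homOfLE h₂).op) := by
    rintro W₁ _ rfl h₁ h₂ h
    exact h
  have hopen : U.ι ''ᵁ U.ι ⁻¹ᵁ V = V ⊓ U := by
    rw [Scheme.Hom.image_preimage_eq_opensRange_inf, Scheme.Opens.opensRange_ι, inf_comm]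
  have hinj : Function.Injective (U.ι.app V) := key _ _ hopen.symm inf_le_left _ (hU V)
  exact hinj (ht.trans (map_zero _).symm)

/-- fppf morphisms are epimorphisms. -/
theorem epi_of_flat_surjective {X Y : Scheme.{u}} (f : X ⟶ Y) [Flat f] [Surjective f] : Epi f :=
  Flat.epi_of_flat_of_surjective f

/-- **EGA IV 20.3.?**: a pseudo-morphism to a separated scheme which is defined at a point after
a flat, locally finitely presented localization is defined at the image point. -/
theorem extends_nhd_of_extends_nhd_after_flat_lfp {X X' Y S : Scheme.{u}} (pX : X ⟶ S)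
    (pY : Y ⟶ S) [IsSeparated pY] (U : X.Opens) (hU : CInt.IsSchematicallyDense U)
    (h : (U : Scheme.{u}) ⟶ Y) (hh : h ≫ pY = U.ι ≫ pX) (f : X' ⟶ X) [Flat f]
    [LocallyOfFinitePresentation f] (x' : ↥X') (V' : X'.Opens) (hx' : x' ∈ V')
    (v' : (V' : Scheme.{u}) ⟶ Y) (hv'S : v' ≫ pY = V'.ι ≫ f ≫ pX)
    (hv' : X'.homOfLE (inf_le_right : f ⁻¹ᵁ U ⊓ V' ≤ V') ≫ v' =
      X'.homOfLE (inf_le_left : f ⁻¹ᵁ U ⊓ V' ≤ f ⁻¹ᵁ U) ≫ (f ∣_ U) ≫ h) :
    ∃ (V : X.Opens) (v : (V : Scheme.{u}) ⟶ Y), f x' ∈ V ∧ v ≫ pY = V.ι ≫ pX ∧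
      X.homOfLE (inf_le_right : U ⊓ V ≤ V) ≫ v = X.homOfLE (inf_le_left : U ⊓ V ≤ U) ≫ h := by
  -- the key auxiliary: any `T → V'` landing in `U` after `f` is computed by `h`
  have aux : ∀ {T : Scheme.{u}} (r : T ⟶ V') (tU : T ⟶ U), r ≫ V'.ι ≫ f = tU ≫ U.ι →
      r ≫ v' = tU ≫ h := by
    intro T r tU hr
    have hrange : Set.range r ⊆ Set.range (X'.homOfLE (inf_le_right : f ⁻¹ᵁ U ⊓ V' ≤ V')) := by
      rintro _ ⟨z, rfl⟩
      have hz : f (V'.ι (r z)) ∈ U := by
        have e := congrArg (fun φ : T ⟶ X => φ z) hr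
        have e' : f (V'.ι (r z)) = U.ι (tU z) := e
        rw [e']
        exact (tU z).2
      have hmem : r z ∈ (X'.homOfLE (inf_le_right : f ⁻¹ᵁ U ⊓ V' ≤ V')).opensRange := by
        rw [Scheme.opensRange_homOfLE]
        exact ⟨hz, (r z).2⟩
      exact hmem
    let r₁ := IsOpenImmersion.lift (X'.homOfLE (inf_le_right : f ⁻¹ᵁ U ⊓ V' ≤ V')) r hrange
    have hr₁ : r₁ ≫ X'.homOfLE (inf_le_right : f ⁻¹ᵁ U ⊓ V' ≤ V') = r :=
      IsOpenImmersion.lift_fac _ _ _
    have e1 : r₁ ≫ X'.homOfLE (inf_le_left : f ⁻¹ᵁ U ⊓ V' ≤ f ⁻¹ᵁ U) ≫ (f ∣_ U) = tU := by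
      rw [← cancel_mono U.ι, Category.assoc, Category.assoc, morphismRestrict_ι,
        Scheme.homOfLE_ι_assoc, ← hr, ← hr₁, Category.assoc, Scheme.homOfLE_ι_assoc]
    rw [← hr₁, Category.assoc, hv', ← Category.assoc, ← Category.assoc, Category.assoc r₁, e1]
  -- the open image
  let V : X.Opens := ⟨f '' (V' : Set X'), f.isOpenMap _ V'.isOpen⟩
  have hrangeg : Set.range (V'.ι ≫ f) ⊆ Set.range V.ι := by
    rintro _ ⟨z, rfl⟩
    rw [Scheme.Opens.range_ι]
    exact ⟨z.1, z.2, rfl⟩
  let f' : (V' : Scheme.{u}) ⟶ V := IsOpenImmersion.lift V.ι (V'.ι ≫ f) hrangeg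
  have hf' : f' ≫ V.ι = V'.ι ≫ f := IsOpenImmersion.lift_fac _ _ _
  have hsq : IsPullback (𝟙 (V' : Scheme.{u})) f' (V'.ι ≫ f) V.ι :=
    IsPullback.of_horiz_isIso_mono ⟨by rw [Category.id_comp, hf']⟩
  have hflat : Flat f' :=
    MorphismProperty.of_isPullback (P := @Flat) hsq inferInstance
  have hlfp : LocallyOfFinitePresentation f' :=
    MorphismProperty.of_isPullback (P := @LocallyOfFinitePresentation) hsq inferInstance
  have hsurj : Surjective f' := by
    constructor
    rintro ⟨y, z, hz, rfl⟩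
    refine ⟨⟨z, hz⟩, ?_⟩
    apply V.ι.injective
    exact congrArg (fun φ : (V' : Scheme.{u}) ⟶ X => φ ⟨z, hz⟩) hf'
  -- descent
  have hee : EffectiveEpi f' := inferInstance
  have hsheaf : Presieve.IsSheafFor (yoneda.obj Y) (Presieve.singleton f') := by
    have h0 := (Sieve.effectiveEpimorphic_singleton f').mpr hee
    rw [Presieve.EffectiveEpimorphic.iff_forall_isSheafFor_yoneda] at h0
    exact h0 Y
  rw [Presieve.isSheafFor_singleton] at hsheaf
  -- the cocycle condition on `V' ×_V V'`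
  have hcocycle : pullback.fst f' f' ≫ v' = pullback.snd f' f' ≫ v' := by
    obtain ⟨q, hq⟩ : ∃ q : pullback f' f' ⟶ X, q = pullback.fst f' f' ≫ V'.ι ≫ f := ⟨_, rfl⟩
    have hqf : Flat q := by rw [hq]; infer_instance
    have hqp : LocallyOfFinitePresentation q := by rw [hq]; infer_instance
    have hdom := Groth.Agent.S4875.result (ι := PUnit.{u + 1}) (fun _ => (U : Scheme.{u}))
      (fun _ => U.ι) q
      (fun V t ht => app_ι_eq_zero_of_isSchematicallyDense U hU V t (ht PUnit.unit))
    have hcond : pullback.snd f' f' ≫ V'.ι ≫ f = q := by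
      rw [hq, ← hf', ← Category.assoc, ← pullback.condition, Category.assoc]
    apply hom_ext_of_schematicallyDominant pY (pullback.snd U.ι q)
      (fun V t ht => hdom V t (fun _ => ht))
    · rw [Category.assoc, Category.assoc, hv'S]
      have h1 : (pullback.fst f' f' ≫ V'.ι ≫ f) ≫ pX = (pullback.snd f' f' ≫ V'.ι ≫ f) ≫ pX := by
        rw [hcond, hq]
      simpa only [Category.assoc] using h1
    · have a1 := aux (pullback.snd U.ι q ≫ pullback.fst f' f') (pullback.fst U.ι q)
        (by rw [Category.assoc, ← hq]; exact pullback.condition.symm)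
      have a2 := aux (pullback.snd U.ι q ≫ pullback.snd f' f') (pullback.fst U.ι q)
        (by rw [Category.assoc, hcond]; exact pullback.condition.symm)
      calc pullback.snd U.ι q ≫ pullback.fst f' f' ≫ v'
          = (pullback.snd U.ι q ≫ pullback.fst f' f') ≫ v' := (Category.assoc _ _ _).symm
        _ = pullback.fst U.ι q ≫ h := a1
        _ = (pullback.snd U.ι q ≫ pullback.snd f' f') ≫ v' := a2.symm
        _ = pullback.snd U.ι q ≫ pullback.snd f' f' ≫ v' := Category.assoc _ _ _
  obtain ⟨v, hv, -⟩ := hsheaf v' (by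
    intro Z p₁ p₂ hp
    change p₁ ≫ v' = p₂ ≫ v'
    rw [← pullback.lift_fst p₁ p₂ hp, Category.assoc, hcocycle, ← Category.assoc,
      pullback.lift_snd])
  have hv : f' ≫ v = v' := hv
  have hepi : Epi f' := epi_of_flat_surjective f'
  refine ⟨V, v, ⟨x', hx', rfl⟩, ?_, ?_⟩
  · rw [← cancel_epi f', ← Category.assoc, hv, hv'S, ← Category.assoc, ← hf', Category.assoc]
  · have hepi2 : Epi (pullback.snd f' (X.homOfLE (inf_le_right : U ⊓ V ≤ V))) :=
      epi_of_flat_surjective _
    rw [← cancel_epi (pullback.snd f' (X.homOfLE (inf_le_right : U ⊓ V ≤ V))),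
      ← Category.assoc, ← pullback.condition, Category.assoc, hv]
    rw [← Category.assoc]
    apply aux
    rw [← hf', ← Category.assoc, pullback.condition, Category.assoc, Category.assoc,
      Scheme.homOfLE_ι, Scheme.homOfLE_ι]

end Groth.Agent.H24
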