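import Mathlib
import Groth.Prelude.Def_CInt
import Groth.Agent.S4805
import Groth.Agent.S4764
import Groth.Agent.H24.IdealDescend

/-!
# Schematically dense opens in limits (helper24)
-/

set_option autoImplicit false

open CategoryTheory AlgebraicGeometry Limits TopologicalSpace Opposite

universe u

namespace Groth.Agent.H24

/-- For a quasi-compact open immersion `U ⊆ X`, schematic density in the sense of sections is the
same as `U.ι` being scheme-theoretically dominant. -/
theorem isSchematicallyDense_iff {X : Scheme.{u}} (U : X.Opens) [QuasiCompact U.ι] :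
    CInt.IsSchematicallyDense U ↔ IsSchemeTheoreticallyDominant U.ι := by
  have key : ∀ (V W₁ W₂ : X.Opens) (_ : W₁ = W₂) (h₁ : W₁ ≤ V) (h₂ : W₂ ≤ V),
      Function.Injective (X.presheaf.map (homOfLE h₁).op) →
      Function.Injective (X.presheaf.map (homOfLE h₂).op) := by
    rintro V W₁ _ rfl h₁ h₂ h
    exact h
  have hopen : ∀ V : X.Opens, U.ι ''ᵁ U.ι ⁻¹ᵁ V = V ⊓ U := by
    intro V
    rw [Scheme.Hom.image_preimage_eq_opensRange_inf, Scheme.Opens.opensRange_ι, inf_comm]
  constructor
  · intro h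
    rw [isSchemeTheoreticallyDominant_iff]
    ext V : 2
    rw [Scheme.Hom.ker_apply]
    have hinj : Function.Injective (U.ι.app V.1) :=
      key V.1 _ _ (hopen V.1).symm inf_le_left _ (h V.1)
    simp only [Scheme.IdealSheafData.ideal_bot, Pi.bot_apply]
    exact (RingHom.injective_iff_ker_eq_bot _).mp hinj
  · intro h V
    exact key V _ _ (hopen V) _ inf_le_left (U.ι.app_injective V)

/-- Flat pullback of a schematically dense quasi-compact open is schematically dense. -/
theorem isSchematicallyDense_preimage_of_flat {X Y : Scheme.{u}} (g : Y ⟶ X) [Flat g]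
    (U : X.Opens) [QuasiCompact U.ι] (hU : CInt.IsSchematicallyDense U) :
    CInt.IsSchematicallyDense (g ⁻¹ᵁ U) := by
  have : QuasiCompact (g ⁻¹ᵁ U).ι :=
    MorphismProperty.of_isPullback (P := @QuasiCompact) (isPullback_morphismRestrict g U)
      inferInstance
  rw [isSchematicallyDense_iff] at hU ⊢
  exact IsSchemeTheoreticallyDominant.of_isPullback (isPullback_morphismRestrict g U)

/-- The map to the scheme-theoretic image is scheme-theoretically dominant. -/
theorem isSchemeTheoreticallyDominant_toImage {X Y : Scheme.{u}} (f : X ⟶ Y) [QuasiCompact f] :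
    IsSchemeTheoreticallyDominant f.toImage := by
  rw [isSchemeTheoreticallyDominant_iff]
  refine Scheme.IdealSheafData.ext_of_iSup_eq_top
    (fun V : Y.affineOpens => ⟨f.imageι ⁻¹ᵁ V.1, V.2.preimage f.imageι⟩) ?_ ?_
  · change ⨆ V : Y.affineOpens, f.imageι ⁻¹ᵁ V.1 = ⊤
    rw [← Scheme.Hom.preimage_iSup, iSup_affineOpens_eq_top]
    rfl
  · intro V
    rw [Scheme.Hom.ker_apply]
    simp only [Scheme.IdealSheafData.ideal_bot, Pi.bot_apply]
    exact (RingHom.injective_iff_ker_eq_bot _).mp (f.toImage_app_injective V)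

section

variable {I : Type u} [SmallCategory I] [IsCofiltered I] (D : I ⥤ Scheme.{u}) (c : Cone D)
  (hc : IsLimit c) [∀ (i j : I) (g : i ⟶ j), IsAffineHom (D.map g)]
  [∀ (i j : I) (g : i ⟶ j), Flat (D.map g)] [∀ i : I, IsNoetherian (D.obj i)]

include hc in
theorem isSchematicallyDense_preimage_limit_iff (i₀ : I) (U₀ : (D.obj i₀).Opens) :
    CInt.IsSchematicallyDense ((c.π.app i₀) ⁻¹ᵁ U₀) ↔
      ∃ (i : I) (g : i ⟶ i₀), CInt.IsSchematicallyDense ((D.map g) ⁻¹ᵁ U₀) := by
  constructor
  · intro hU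
    have hqc : QuasiCompact ((c.π.app i₀) ⁻¹ᵁ U₀).ι :=
      MorphismProperty.of_isPullback (P := @QuasiCompact)
        (isPullback_morphismRestrict (c.π.app i₀) U₀) inferInstance
    have hUd : IsSchemeTheoreticallyDominant ((c.π.app i₀) ⁻¹ᵁ U₀).ι :=
      (isSchematicallyDense_iff _).mp hU
    have ht : IsSchemeTheoreticallyDominant U₀.ι.toImage :=
      isSchemeTheoreticallyDominant_toImage U₀.ι
    have hw : (((c.π.app i₀) ∣_ U₀) ≫ U₀.ι.toImage) ≫ U₀.ι.imageι =
        ((c.π.app i₀) ⁻¹ᵁ U₀).ι ≫ c.π.app i₀ := by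
      rw [Category.assoc, Scheme.Hom.toImage_imageι, morphismRestrict_ι]
    have hiso : IsIso (pullback.snd U₀.ι.imageι (c.π.app i₀)) := by
      rw [IsClosedImmersion.isIso_iff_ker_eq_bot]
      have h1 := Scheme.Hom.le_ker_comp
        (pullback.lift (((c.π.app i₀) ∣_ U₀) ≫ U₀.ι.toImage) ((c.π.app i₀) ⁻¹ᵁ U₀).ι hw)
        (pullback.snd U₀.ι.imageι (c.π.app i₀))
      rw [pullback.lift_snd, hUd.ker_eq_bot] at h1
      exact le_bot_iff.mp h1
    have hfg : ∀ V : (D.obj i₀).affineOpens, (U₀.ι.ker.ideal V).FG := by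
      intro V
      have : IsNoetherianRing Γ(D.obj i₀, V.1) := IsLocallyNoetherian.component_noetherian V
      exact (isNoetherianRing_iff_ideal_fg _).mp this _
    have hlfp : LocallyOfFinitePresentation U₀.ι.imageι :=
      locallyOfFinitePresentation_subschemeι_of_fg _ hfg
    obtain ⟨j, φ, Xj, Yj, fj, gj, pY, pX, h1, h2, hfj⟩ :=
      Groth.Agent.S4805.result D c hc i₀ U₀.ι.imageι (𝟙 (D.obj i₀))
        (pullback.snd U₀.ι.imageι (c.π.app i₀)) (𝟙 c.pt) (c.π.app i₀)
        (pullback.fst U₀.ι.imageι (c.π.app i₀)) (IsPullback.of_id_snd)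
        (IsPullback.of_hasPullback _ _)
    have hgj : IsIso gj := h1.isIso_snd_of_isIso
    have hpaste : IsPullback pX (fj ≫ gj) (U₀.ι.imageι ≫ 𝟙 _) (D.map φ) := h2.paste_vert h1
    have hflat : Flat pX :=
      MorphismProperty.of_isPullback (P := @Flat) hpaste.flip inferInstance
    have sqW := (IsPullback.of_hasPullback U₀.ι.toImage pX).paste_vert hpaste
    have e1 : U₀.ι.toImage ≫ U₀.ι.imageι ≫ 𝟙 _ = U₀.ι := by
      rw [Category.comp_id, Scheme.Hom.toImage_imageι]
    rw [e1] at sqW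
    have e2 := IsPullback.isoIsPullback_hom_snd _ _
      (isPullback_morphismRestrict (D.map φ) U₀) sqW
    refine ⟨j, φ, ?_⟩
    rw [isSchematicallyDense_iff, ← e2]
    infer_instance
  · rintro ⟨i, g, hi⟩
    have hflat : Flat (c.π.app i) :=
      Groth.Agent.S4764.result D c hc i (fun j φ => inferInstance)
    have h := isSchematicallyDense_preimage_of_flat (c.π.app i) _ hi
    have e : (c.π.app i₀) ⁻¹ᵁ U₀ = (c.π.app i) ⁻¹ᵁ ((D.map g) ⁻¹ᵁ U₀) := by
      rw [← Scheme.Hom.comp_preimage, c.w g]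
    rw [e]
    exact h

end

end Groth.Agent.H24
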