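import Mathlib
import Groth.Agent.S4366

/-!
# The fpqc cover `{X ∖ {x}, Spec 𝒪_{X,x}}` of a scheme at a closed point

If `U = X ∖ {x}` is (retro)compact in `X`, then `{U.ι, X.fromSpecStalk x}` is an fpqc covering,
so morphisms out of `X` glue uniquely from compatible morphisms out of `U` and `Spec 𝒪_{X,x}`.
-/

set_option autoImplicit false
universe u
open CategoryTheory AlgebraicGeometry Limits Opposite TopologicalSpace

namespace Groth.Agent.H24

/-- The members of the two-element family `{U, Spec 𝒪_{X,x}}`. -/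
noncomputable def stalkCoverObj {X : Scheme.{u}} (x : X) (U : X.Opens) : Bool → Scheme.{u}
  | true => U
  | false => Spec (X.presheaf.stalk x)

/-- The maps of the two-element family `{U.ι, X.fromSpecStalk x}`. -/
noncomputable def stalkCoverMap {X : Scheme.{u}} (x : X) (U : X.Opens) :
    ∀ b, stalkCoverObj x U b ⟶ X
  | true => U.ι
  | false => X.fromSpecStalk x

/-- `{U.ι, X.fromSpecStalk x}` as a flat cover when `U = X ∖ {x}`. -/
noncomputable def stalkCover {X : Scheme.{u}} (x : X) (U : X.Opens)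
    (hU : (U : Set X) = {x}ᶜ) : X.Cover (Scheme.precoverage @Flat) :=
  Scheme.Cover.mkOfCovers Bool (stalkCoverObj x U) (stalkCoverMap x U)
    (by
      intro y
      by_cases hy : y = x
      · subst hy
        exact ⟨false, IsLocalRing.closedPoint _, X.fromSpecStalk_closedPoint⟩
      · exact ⟨true, ⟨y, by rw [← SetLike.mem_coe, hU]; exact hy⟩, rfl⟩)
    (by
      rintro (_ | _)
      · exact S4366.flat_fromSpecStalk X x
      · show Flat U.ι
        infer_instance)

instance quasiCompactCover_stalkCover {X : Scheme.{u}} (x : X) (U : X.Opens)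
    (hU : (U : Set X) = {x}ᶜ) [QuasiCompact U.ι] :
    QuasiCompactCover (stalkCover x U hU).toPreZeroHypercover where
  isCompactOpenCovered_of_isAffineOpen {W} hW := by
    have hcomp : IsCompact ((U.ι ⁻¹ᵁ W : (U : Scheme.{u}).Opens) : Set (U : Scheme.{u})) :=
      QuasiCompact.isCompact_preimage (f := U.ι) _ W.2 hW.isCompact
    have himg : U.ι '' ((U.ι ⁻¹ᵁ W : (U : Scheme.{u}).Opens) : Set (U : Scheme.{u})) =
        (W : Set X) ∩ (U : Set X) := by
      ext y
      constructor
      · rintro ⟨z, hz, rfl⟩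
        exact ⟨hz, z.2⟩
      · rintro ⟨hyW, hyU⟩
        exact ⟨⟨y, hyU⟩, hyW, rfl⟩
    have h1 : IsCompactOpenCovered (fun i => ⇑((stalkCover x U hU).f i))
        (U.ι '' ((U.ι ⁻¹ᵁ W : (U : Scheme.{u}).Opens) : Set (U : Scheme.{u}))) :=
      IsCompactOpenCovered.image (f := fun i => ⇑((stalkCover x U hU).f i)) (i := true)
        (U.ι ⁻¹ᵁ W) hcomp
    by_cases hx : x ∈ W
    · have h2 : IsCompactOpenCovered (fun i => ⇑((stalkCover x U hU).f i))
          (Set.range (X.fromSpecStalk x)) := by
        have := IsCompactOpenCovered.image (f := fun i => ⇑((stalkCover x U hU).f i)) (i := false)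
          (⊤ : (Spec (X.presheaf.stalk x)).Opens)
          (isCompact_univ (X := Spec (X.presheaf.stalk x)))
        rw [← Set.image_univ]
        exact this
      refine IsCompactOpenCovered.of_iUnion_eq_of_finite (κ := Bool)
        (fun k => bif k then
          (U.ι '' ((U.ι ⁻¹ᵁ W : (U : Scheme.{u}).Opens) : Set (U : Scheme.{u})))
          else Set.range (X.fromSpecStalk x)) ?_ ?_
      · ext y
        simp only [Set.mem_iUnion, Bool.exists_bool, cond_false, cond_true]
        constructor
        · rintro (hy | hy)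
          · rw [Scheme.range_fromSpecStalk] at hy
            exact hy.mem_open W.2 hx
          · rw [himg] at hy
            exact hy.1
        · intro hy
          by_cases hyx : y = x
          · left
            rw [Scheme.range_fromSpecStalk, hyx]
            exact specializes_rfl
          · right
            rw [himg]
            exact ⟨hy, by rw [hU]; exact hyx⟩
      · rintro (_ | _)
        · exact h2
        · exact h1
    · have : (W : Set X) ∩ (U : Set X) = (W : Set X) := by
        apply Set.inter_eq_left.mpr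
        intro y hy
        rw [hU]
        rintro rfl
        exact hx hy
      rw [himg, this] at h1
      exact h1

theorem stalkCover_mem_fpqcTopology {X : Scheme.{u}} (x : X) (U : X.Opens)
    (hU : (U : Set X) = {x}ᶜ) [QuasiCompact U.ι] :
    Sieve.generate (Presieve.ofArrows (stalkCoverObj x U) (stalkCoverMap x U)) ∈
      Scheme.fpqcTopology X := by
  apply Precoverage.generate_mem_toGrothendieck
  rw [Scheme.fpqcPrecoverage]
  exact ⟨Scheme.presieve₀_mem_qcPrecoverage_iff.mpr (quasiCompactCover_stalkCover x U hU),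
    (stalkCover x U hU).mem₀⟩

theorem isSheafFor_stalkCover (Y : Scheme.{u}) {X : Scheme.{u}} (x : X) (U : X.Opens)
    (hU : (U : Set X) = {x}ᶜ) [QuasiCompact U.ι] :
    Presieve.IsSheafFor (yoneda.obj Y)
      (Presieve.ofArrows (stalkCoverObj x U) (stalkCoverMap x U)) :=
  (GrothendieckTopology.Subcanonical.isSheaf_of_isRepresentable
    (J := Scheme.fpqcTopology) (yoneda.obj Y)).isSheafFor _ (stalkCover_mem_fpqcTopology x U hU)

/-- Uniqueness: a morphism out of `X` is determined by its restrictions to `X ∖ {x}` and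
`Spec 𝒪_{X,x}`. -/
theorem hom_ext_stalkCover {X Z : Scheme.{u}} (x : X) (U : X.Opens)
    (hU : (U : Set X) = {x}ᶜ) [QuasiCompact U.ι] (g₁ g₂ : X ⟶ Z)
    (h1 : U.ι ≫ g₁ = U.ι ≫ g₂)
    (h2 : X.fromSpecStalk x ≫ g₁ = X.fromSpecStalk x ≫ g₂) : g₁ = g₂ := by
  have hs := (Presieve.isSheafFor_arrows_iff (yoneda.obj Z) (stalkCoverMap x U)).mp
    (isSheafFor_stalkCover Z x U hU)
  obtain ⟨t, -, huniq⟩ := hs (fun b => stalkCoverMap x U b ≫ g₂) (by
    intro i j T gi gj h
    show gi ≫ stalkCoverMap x U i ≫ g₂ = gj ≫ stalkCoverMap x U j ≫ g₂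
    rw [← Category.assoc, ← Category.assoc, h])
  rw [huniq g₁ (by
    rintro (_ | _)
    · exact h2
    · exact h1), huniq g₂ (fun _ => rfl)]

/-- Existence: compatible morphisms out of `X ∖ {x}` and `Spec 𝒪_{X,x}` glue. -/
theorem exists_glue_stalkCover {X Y : Scheme.{u}} (x : X) (U : X.Opens)
    (hU : (U : Set X) = {x}ᶜ) [QuasiCompact U.ι]
    (a : (U : Scheme.{u}) ⟶ Y) (b : Spec (X.presheaf.stalk x) ⟶ Y)
    (hab : ((X.fromSpecStalk x) ⁻¹ᵁ U).ι ≫ b = ((X.fromSpecStalk x) ∣_ U) ≫ a) :
    ∃ g : X ⟶ Y, U.ι ≫ g = a ∧ X.fromSpecStalk x ≫ g = b := by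
  have hs := (Presieve.isSheafFor_arrows_iff (yoneda.obj Y) (stalkCoverMap x U)).mp
    (isSheafFor_stalkCover Y x U hU)
  have hmixed : ∀ (T : Scheme.{u}) (gU : T ⟶ U) (gs : T ⟶ Spec (X.presheaf.stalk x)),
      gU ≫ U.ι = gs ≫ X.fromSpecStalk x → gU ≫ a = gs ≫ b := by
    intro T gU gs h
    have hpb := isPullback_morphismRestrict (X.fromSpecStalk x) U
    obtain ⟨l, hl1, hl2⟩ := hpb.exists_lift gU gs h
    rw [← hl1, ← hl2, Category.assoc, Category.assoc, hab]
  have hm1 : ∀ (T : Scheme.{u}) (gi gj : T ⟶ Spec (X.presheaf.stalk x)),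
      gi ≫ X.fromSpecStalk x = gj ≫ X.fromSpecStalk x → gi = gj :=
    fun T gi gj h => (cancel_mono (X.fromSpecStalk x)).mp h
  have hm2 : ∀ (T : Scheme.{u}) (gi gj : T ⟶ (U : Scheme.{u})),
      gi ≫ U.ι = gj ≫ U.ι → gi = gj :=
    fun T gi gj h => (cancel_mono U.ι).mp h
  obtain ⟨t, ht, -⟩ := hs (fun i => match i with
      | true => a
      | false => b) (by
    rintro (_ | _) (_ | _) T gi gj h
    · have : gi = gj := hm1 T gi gj h
      rw [this]
    · exact (hmixed T gj gi h.symm).symm
    · exact hmixed T gi gj h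
    · have : gi = gj := hm2 T gi gj h
      rw [this])
  exact ⟨t, ht true, ht false⟩

end Groth.Agent.H24
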