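import Groth.Agent.H67.SubDefs2
import Groth.Agent.H64.Sub_K

/-!
# (REP) for helper67's S0947/S0884 squad (helper24)

Over a pro-quasi-compact-open subset `W = ⋂ Q` of a spectral space, a global section `t` of `P`
which is locally (at the points of `W`) in the image of `η : F ⟶ P`, with `η` injective on germs
at the points of `W`, is represented by a section of `F` over some member of `Q`.
-/

set_option autoImplicit false
universe u
open CategoryTheory CategoryTheory.Limits TopologicalSpace Opposite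
open Groth.Agent.H42.CohTopLib Groth.Agent.H45.CohTopPush Groth.Agent.H67.Sub
  Groth.Agent.H67.SpecClosedAb

namespace Groth.Agent.H24.Sub_REP

section

variable {X : TopCat.{u}} {F P : TopCat.Sheaf AddCommGrpCat.{u} X} {η : F ⟶ P}

/-- the zero section over `⊥` represents everything -/
lemma rep_bot (t : P.1.obj (op ⊤)) : Rep η t ⊥ 0 :=
  P.eq_of_locally_eq' (ι := PEmpty.{1}) (fun e => e.elim) ⊥ (fun e => e.elim) bot_le _ _
    (fun e => e.elim)

/-- two representatives agreeing germwise on the overlap glue -/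
lemma rep_glue_of_agree {t : P.1.obj (op ⊤)} {V₁ V₂ : Opens X} {s₁ : F.1.obj (op V₁)}
    {s₂ : F.1.obj (op V₂)} (h₁ : Rep η t V₁ s₁) (h₂ : Rep η t V₂ s₂)
    (hag : ((V₁ ⊓ V₂ : Opens X) : Set X) ⊆ agree s₁ s₂) : ∃ s, Rep η t (V₁ ⊔ V₂) s := by
  apply Rep.glue h₁ h₂
  apply TopCat.Presheaf.section_ext F
  intro x hx
  obtain ⟨_, _, e⟩ := hag hx
  rw [TopCat.Presheaf.germ_res_apply, TopCat.Presheaf.germ_res_apply]
  exact e

end

/-- (REP) -/
theorem exists_rep_spectral {X : TopCat.{u}} [SpectralSpace X] {W : Set X} {Q : Opens X → Prop}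
    (h : QFam W Q) {F P : TopCat.Sheaf AddCommGrpCat.{u} X} (η : F ⟶ P) (hA : HA η W)
    (hB : HB η W) (t : P.1.obj (op ⊤)) : ∃ U : Opens X, Q U ∧ ∃ s, Rep η t U s := by
  -- step 1: local representatives on quasi-compact opens
  have h1 : ∀ z : W, ∃ O : Opens X, IsCompact (O : Set X) ∧ z.1 ∈ O ∧
      ∃ s : F.1.obj (op O), Rep η t O s := by
    intro z
    obtain ⟨U, _, hzU, s, hs⟩ := hB z.1 z.2 ⊤ trivial t
    obtain ⟨K, hKc, hKo, hzK, hKU⟩ := PrespectralSpace.exists_isCompact_and_isOpen_between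
      (isCompact_singleton (x := z.1)) U.2 (Set.singleton_subset_iff.2 hzU)
    have hs' : Rep η t U s := by
      show η.hom.app (op U) s = _
      rw [hs]
    exact ⟨⟨K, hKo⟩, hKc, hzK rfl, _, Rep.restrict hs' (U' := ⟨K, hKo⟩) hKU⟩
  choose O hOc hzO s hs using h1
  -- step 2: a member of `Q` covered by finitely many of them
  obtain ⟨U₀, hU₀, hU₀sub⟩ := Groth.Agent.H64.Sub_K.exists_inter_subset h Set.univ
    (⋃ z, (O z : Set X)) isOpen_univ isCompact_univ (isOpen_iUnion fun z => (O z).2)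
    (by rintro x ⟨hx, -⟩; exact Set.mem_iUnion.2 ⟨⟨x, hx⟩, hzO _⟩)
  obtain ⟨J, hJ⟩ := (h.cpt U₀ hU₀).elim_finite_subcover (fun z => (O z : Set X))
    (fun z => (O z).2) (fun x hx => hU₀sub ⟨hx, trivial⟩)
  -- step 3: induction on the finite set
  have key : ∀ J' : Finset W, ∃ U, Q U ∧ ∃ V : Opens X, IsCompact (V : Set X) ∧
      (∀ j ∈ J', U ⊓ O j ≤ V) ∧ ∃ s : F.1.obj (op V), Rep η t V s := by
    classical
    intro J'
    induction J' using Finset.induction_on with
    | empty =>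
      obtain ⟨U, hU⟩ := h.ne
      exact ⟨U, hU, ⊥, by simp, by simp, 0, rep_bot t⟩
    | insert k J'' hk ih =>
      obtain ⟨U, hU, V, hVc, hV, sV, hsV⟩ := ih
      have hBc : IsCompact ((V : Set X) ∩ (O k : Set X)) :=
        QuasiSeparatedSpace.inter_isCompact _ _ V.2 hVc (O k).2 (hOc k)
      obtain ⟨U', hU', hU'sub⟩ := Groth.Agent.H64.Sub_K.exists_inter_subset h
        ((V : Set X) ∩ (O k : Set X)) (agree sV (s k)) (V.2.inter (O k).2) hBc
        (isOpen_agree _ _)
        (by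
          rintro x ⟨hxW, hxV, hxO⟩
          exact ⟨hxV, hxO, germ_eq_of_rep hA hsV (hs k) hxW hxV hxO⟩)
      obtain ⟨U'', hU'', hU''U, hU''U'⟩ := h.dir U U' hU hU'
      have hc1 : IsCompact ((U'' ⊓ V : Opens X) : Set X) :=
        QuasiSeparatedSpace.inter_isCompact _ _ U''.2 (h.cpt U'' hU'') V.2 hVc
      have hc2 : IsCompact ((U'' ⊓ O k : Opens X) : Set X) :=
        QuasiSeparatedSpace.inter_isCompact _ _ U''.2 (h.cpt U'' hU'') (O k).2 (hOc k)
      obtain ⟨s', hs'⟩ := rep_glue_of_agree (V₁ := U'' ⊓ V) (V₂ := U'' ⊓ O k)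
        (hsV.restrict inf_le_right) ((hs k).restrict inf_le_right)
        (by
          rintro x ⟨⟨hx1, hxV⟩, ⟨-, hxO⟩⟩
          obtain ⟨_, _, e⟩ := hU'sub ⟨hU''U' hx1, hxV, hxO⟩
          have m1 : x ∈ U'' ⊓ V := ⟨hx1, hxV⟩
          have m2 : x ∈ U'' ⊓ O k := ⟨hx1, hxO⟩
          refine ⟨m1, m2, ?_⟩
          rw [TopCat.Presheaf.germ_res_apply, TopCat.Presheaf.germ_res_apply]
          exact e)
      refine ⟨U'', hU'', (U'' ⊓ V) ⊔ (U'' ⊓ O k), ?_, ?_, s', hs'⟩
      · rw [Opens.coe_sup]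
        exact hc1.union hc2
      · intro j hj
        rcases Finset.mem_insert.1 hj with rfl | hj
        · exact le_sup_right
        · exact le_trans (le_inf inf_le_left
            ((inf_le_inf_right _ hU''U).trans (hV j hj))) le_sup_left
  obtain ⟨U, hU, V, -, hV, sV, hsV⟩ := key J
  obtain ⟨Uf, hUf, hUfU, hUfU₀⟩ := h.dir U U₀ hU hU₀
  have hle : Uf ≤ V := by
    intro x hx
    obtain ⟨j, hj, hxj⟩ : ∃ j ∈ J, x ∈ (O j : Set X) := by
      simpa using hJ (hUfU₀ hx)
    exact hV j hj ⟨hUfU hx, hxj⟩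
  exact ⟨Uf, hUf, _, hsV.restrict hle⟩

end Groth.Agent.H24.Sub_REP
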