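import Mathlib
import Groth.Agent.H24.MilnorPushout

/-!
# Scheme-theoretic union is a pushout (helper24)

For ideal sheaves `I`, `J` on `S`, the square of closed subschemes
`V(I ⊔ J) → V(I), V(J) → V(I ⊓ J)` is a pushout in the category of schemes.
-/

set_option autoImplicit false

universe u

open AlgebraicGeometry CategoryTheory Limits

namespace Groth.Agent.H24

open Scheme IdealSheafData

/-- The Milnor square `R/(I ∩ J) → R/I, R/J → R/(I + J)`. -/
theorem milnorSq_quot {R : Type u} [CommRing R] (I J : Ideal R) :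
    MilnorSq (Ideal.Quotient.factor (inf_le_right : I ⊓ J ≤ J))
      (Ideal.Quotient.factor (inf_le_left : I ⊓ J ≤ I))
      (Ideal.Quotient.factor (le_sup_right : J ≤ I ⊔ J))
      (Ideal.Quotient.factor (le_sup_left : I ≤ I ⊔ J)) := by
  refine ⟨fun c => ?_, Ideal.Quotient.factor_surjective _, fun b a' h => ?_, fun c c' h1 h2 => ?_⟩
  · obtain ⟨r, rfl⟩ := Ideal.Quotient.mk_surjective c
    simp only [Ideal.Quotient.factor_mk]
  · obtain ⟨r₁, rfl⟩ := Ideal.Quotient.mk_surjective b
    obtain ⟨r₂, rfl⟩ := Ideal.Quotient.mk_surjective a'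
    simp only [Ideal.Quotient.factor_mk] at h
    rw [Ideal.Quotient.eq, Submodule.mem_sup] at h
    obtain ⟨i, hi, j, hj, hij⟩ := h
    refine ⟨Ideal.Quotient.mk _ (r₁ - j), ?_, ?_⟩
    · simp only [Ideal.Quotient.factor_mk]
      rw [Ideal.Quotient.eq]
      have : r₁ - j - r₁ = -j := by ring
      rw [this]
      exact J.neg_mem hj
    · simp only [Ideal.Quotient.factor_mk]
      rw [Ideal.Quotient.eq]
      have : r₁ - j - r₂ = i := by
        have : r₁ - r₂ = i + j := hij.symm
        linear_combination this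
      rw [this]
      exact hi
  · obtain ⟨r, rfl⟩ := Ideal.Quotient.mk_surjective c
    obtain ⟨r', rfl⟩ := Ideal.Quotient.mk_surjective c'
    simp only [Ideal.Quotient.factor_mk] at h1 h2
    rw [Ideal.Quotient.eq] at h1 h2 ⊢
    exact ⟨h2, h1⟩

variable {S : Scheme.{u}}

set_option backward.isDefEq.respectTransparency false

theorem glueDataObjMap_subschemeCover (K : S.IdealSheafData) {U V : S.affineOpens} (h : U ≤ V) :
    K.glueDataObjMap h ≫ K.subschemeCover.f V = K.subschemeCover.f U := by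
  rw [← cancel_mono K.subschemeι, Category.assoc, subschemeCover_map_subschemeι,
    subschemeCover_map_subschemeι, glueDataObjMap_glueDataObjι_assoc, Scheme.homOfLE_ι]

theorem glueDataObjHom_map {I J : S.IdealSheafData} (h : I ≤ J) {U V : S.affineOpens}
    (hUV : U ≤ V) :
    glueDataObjHom h U ≫ I.glueDataObjMap hUV = J.glueDataObjMap hUV ≫ glueDataObjHom h V := by
  rw [← cancel_mono (I.glueDataObjι V)]
  simp

noncomputable instance (K : S.IdealSheafData) : Preorder K.subschemeCover.openCover.I₀ :=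
  inferInstanceAs <| Preorder S.affineOpens

/-- The cover of a closed subscheme by the `Spec (Γ(S, U) / K(U))` is locally directed. -/
noncomputable instance locallyDirectedSubschemeCover (K : S.IdealSheafData) :
    Scheme.Cover.LocallyDirected K.subschemeCover.openCover where
  trans {U V} hUV := K.glueDataObjMap (leOfHom hUV)
  trans_id U := by
    rw [← cancel_mono (K.glueDataObjι U)]
    simp
    exact (Category.id_comp (K.glueDataObjι U)).symm
  trans_comp {U V W} hUV hVW := by
    rw [← cancel_mono (K.glueDataObjι W)]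
    simp
  w {U V} hUV := glueDataObjMap_subschemeCover K (leOfHom hUV)
  directed {U V} x := by
    have hwU : (pullback.fst (K.subschemeCover.openCover.f U) (K.subschemeCover.openCover.f V) ≫
        K.subschemeCover.openCover.f U) x ∈ K.subschemeι ⁻¹ᵁ U.1 := by
      rw [← opensRange_subschemeCover_map]
      exact ⟨(pullback.fst (K.subschemeCover.openCover.f U) (K.subschemeCover.openCover.f V)) x, rfl⟩
    have hwV : (pullback.fst (K.subschemeCover.openCover.f U) (K.subschemeCover.openCover.f V) ≫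
        K.subschemeCover.openCover.f U) x ∈ K.subschemeι ⁻¹ᵁ V.1 := by
      rw [← opensRange_subschemeCover_map, pullback.condition]
      exact ⟨(pullback.snd (K.subschemeCover.openCover.f U) (K.subschemeCover.openCover.f V)) x, rfl⟩
    obtain ⟨W, hW, hsW, hWle⟩ := TopologicalSpace.Opens.isBasis_iff_nbhd.mp S.isBasis_affineOpens
      (show K.subschemeι ((pullback.fst (K.subschemeCover.openCover.f U)
        (K.subschemeCover.openCover.f V) ≫ K.subschemeCover.openCover.f U) x) ∈ U.1 ⊓ V.1 from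
        ⟨hwU, hwV⟩)
    have hwW : (pullback.fst (K.subschemeCover.openCover.f U) (K.subschemeCover.openCover.f V) ≫
        K.subschemeCover.openCover.f U) x ∈ (K.subschemeCover.f ⟨W, hW⟩).opensRange := by
      rw [opensRange_subschemeCover_map]
      exact hsW
    obtain ⟨y, hy⟩ := hwW
    refine ⟨⟨W, hW⟩, homOfLE (hWle.trans inf_le_left), homOfLE (hWle.trans inf_le_right), y, ?_⟩
    apply (pullback.fst (K.subschemeCover.openCover.f U) (K.subschemeCover.openCover.f V) ≫
      K.subschemeCover.openCover.f U).isOpenEmbedding.injective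
    rw [← Scheme.Hom.comp_apply, pullback.lift_fst_assoc]
    rw [← hy]
    exact congrArg (fun f : Spec _ ⟶ K.subscheme => f y)
      (glueDataObjMap_subschemeCover K (hWle.trans inf_le_left))
  property_trans {U V} hUV := by
    have : IsOpenImmersion (K.glueDataObjMap (leOfHom hUV) ≫ K.subschemeCover.f V) := by
      rw [glueDataObjMap_subschemeCover]
      infer_instance
    exact IsOpenImmersion.of_comp _ (K.subschemeCover.f V)

theorem hom_cover_inclusion {I J : S.IdealSheafData} (h : I ≤ J) (U : S.affineOpens)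
    {T : Scheme.{u}} (γ : I.subscheme ⟶ T) :
    glueDataObjHom h U ≫ I.subschemeCover.f U ≫ γ = J.subschemeCover.f U ≫ inclusion h ≫ γ :=
  (subSchemeCover_map_inclusion_assoc h U γ).symm

theorem subscheme_local_hom_ext (I J : S.IdealSheafData) (U : S.affineOpens) {T : Scheme.{u}}
    (γ₁ γ₂ : (I ⊓ J).glueDataObj U ⟶ T)
    (h1 : glueDataObjHom (inf_le_left : I ⊓ J ≤ I) U ≫ γ₁ =
      glueDataObjHom (inf_le_left : I ⊓ J ≤ I) U ≫ γ₂)
    (h2 : glueDataObjHom (inf_le_right : I ⊓ J ≤ J) U ≫ γ₁ =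
      glueDataObjHom (inf_le_right : I ⊓ J ≤ J) U ≫ γ₂) : γ₁ = γ₂ :=
  milnor_hom_ext (A := .of (Γ(S, U) ⧸ (I ⊔ J).ideal U)) (A' := .of (Γ(S, U) ⧸ I.ideal U))
    (B := .of (Γ(S, U) ⧸ J.ideal U)) (C := .of (Γ(S, U) ⧸ (I ⊓ J).ideal U))
    (fst := CommRingCat.ofHom (Ideal.Quotient.factor ((inf_le_right : I ⊓ J ≤ J) U)))
    (snd := CommRingCat.ofHom (Ideal.Quotient.factor ((inf_le_left : I ⊓ J ≤ I) U)))
    (q := CommRingCat.ofHom (Ideal.Quotient.factor ((le_sup_right : J ≤ I ⊔ J) U)))
    (p := CommRingCat.ofHom (Ideal.Quotient.factor ((le_sup_left : I ≤ I ⊔ J) U)))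
    (milnorSq_quot (I.ideal U) (J.ideal U)) γ₁ γ₂ h1 h2

theorem subscheme_local_exists_desc (I J : S.IdealSheafData) (U : S.affineOpens) {T : Scheme.{u}}
    (α : I.glueDataObj U ⟶ T) (β : J.glueDataObj U ⟶ T)
    (hαβ : glueDataObjHom (le_sup_left : I ≤ I ⊔ J) U ≫ α =
      glueDataObjHom (le_sup_right : J ≤ I ⊔ J) U ≫ β) :
    ∃ γ : (I ⊓ J).glueDataObj U ⟶ T,
      glueDataObjHom (inf_le_left : I ⊓ J ≤ I) U ≫ γ = α ∧
      glueDataObjHom (inf_le_right : I ⊓ J ≤ J) U ≫ γ = β :=
  milnor_exists_desc (A := .of (Γ(S, U) ⧸ (I ⊔ J).ideal U)) (A' := .of (Γ(S, U) ⧸ I.ideal U))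
    (B := .of (Γ(S, U) ⧸ J.ideal U)) (C := .of (Γ(S, U) ⧸ (I ⊓ J).ideal U))
    (fst := CommRingCat.ofHom (Ideal.Quotient.factor ((inf_le_right : I ⊓ J ≤ J) U)))
    (snd := CommRingCat.ofHom (Ideal.Quotient.factor ((inf_le_left : I ⊓ J ≤ I) U)))
    (q := CommRingCat.ofHom (Ideal.Quotient.factor ((le_sup_right : J ≤ I ⊔ J) U)))
    (p := CommRingCat.ofHom (Ideal.Quotient.factor ((le_sup_left : I ≤ I ⊔ J) U)))
    (milnorSq_quot (I.ideal U) (J.ideal U)) α β hαβ

theorem subscheme_hom_ext (I J : S.IdealSheafData) {T : Scheme.{u}}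
    (γ₁ γ₂ : (I ⊓ J).subscheme ⟶ T)
    (h1 : inclusion (inf_le_left : I ⊓ J ≤ I) ≫ γ₁ = inclusion (inf_le_left : I ⊓ J ≤ I) ≫ γ₂)
    (h2 : inclusion (inf_le_right : I ⊓ J ≤ J) ≫ γ₁ =
      inclusion (inf_le_right : I ⊓ J ≤ J) ≫ γ₂) : γ₁ = γ₂ := by
  apply (I ⊓ J).subschemeCover.openCover.hom_ext
  intro (U : S.affineOpens)
  apply subscheme_local_hom_ext I J U
  · exact (hom_cover_inclusion (inf_le_left : I ⊓ J ≤ I) U γ₁).trans
      ((congrArg (I.subschemeCover.f U ≫ ·) h1).trans
        (hom_cover_inclusion (inf_le_left : I ⊓ J ≤ I) U γ₂).symm)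
  · exact (hom_cover_inclusion (inf_le_right : I ⊓ J ≤ J) U γ₁).trans
      ((congrArg (J.subschemeCover.f U ≫ ·) h2).trans
        (hom_cover_inclusion (inf_le_right : I ⊓ J ≤ J) U γ₂).symm)

theorem subscheme_exists_desc (I J : S.IdealSheafData) {T : Scheme.{u}}
    (α : I.subscheme ⟶ T) (β : J.subscheme ⟶ T)
    (hαβ : inclusion (le_sup_left : I ≤ I ⊔ J) ≫ α = inclusion (le_sup_right : J ≤ I ⊔ J) ≫ β) :
    ∃ γ : (I ⊓ J).subscheme ⟶ T, inclusion (inf_le_left : I ⊓ J ≤ I) ≫ γ = α ∧
      inclusion (inf_le_right : I ⊓ J ≤ J) ≫ γ = β := by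
  have hloc : ∀ U : S.affineOpens, ∃ γ : (I ⊓ J).glueDataObj U ⟶ T,
      glueDataObjHom (inf_le_left : I ⊓ J ≤ I) U ≫ γ = I.subschemeCover.f U ≫ α ∧
      glueDataObjHom (inf_le_right : I ⊓ J ≤ J) U ≫ γ = J.subschemeCover.f U ≫ β := by
    intro U
    apply subscheme_local_exists_desc I J U
    exact (hom_cover_inclusion (le_sup_left : I ≤ I ⊔ J) U α).trans
      ((congrArg ((I ⊔ J).subschemeCover.f U ≫ ·) hαβ).trans
        (hom_cover_inclusion (le_sup_right : J ≤ I ⊔ J) U β).symm)
  choose γU h1 h2 using hloc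
  have hcompat : ∀ {U V : (I ⊓ J).subschemeCover.openCover.I₀} (hUV : U ⟶ V),
      (I ⊓ J).subschemeCover.openCover.trans hUV ≫ γU V = γU U := by
    intro U V hUV
    apply subscheme_local_hom_ext I J U
    · change glueDataObjHom (inf_le_left : I ⊓ J ≤ I) U ≫
        (I ⊓ J).glueDataObjMap (leOfHom hUV) ≫ γU V = _
      rw [h1 U, ← Category.assoc, glueDataObjHom_map, Category.assoc, h1 V, ← Category.assoc,
        glueDataObjMap_subschemeCover]
    · change glueDataObjHom (inf_le_right : I ⊓ J ≤ J) U ≫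
        (I ⊓ J).glueDataObjMap (leOfHom hUV) ≫ γU V = _
      rw [h2 U, ← Category.assoc, glueDataObjHom_map, Category.assoc, h2 V, ← Category.assoc,
        glueDataObjMap_subschemeCover]
  refine ⟨(I ⊓ J).subschemeCover.openCover.glueMorphismsOfLocallyDirected γU hcompat, ?_, ?_⟩
  · apply I.subschemeCover.openCover.hom_ext
    intro (U : S.affineOpens)
    change I.subschemeCover.f U ≫ inclusion (inf_le_left : I ⊓ J ≤ I) ≫ _ =
      I.subschemeCover.f U ≫ α
    rw [subSchemeCover_map_inclusion_assoc, ← h1 U]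
    exact congrArg (glueDataObjHom (inf_le_left : I ⊓ J ≤ I) U ≫ ·)
      ((I ⊓ J).subschemeCover.openCover.map_glueMorphismsOfLocallyDirected γU hcompat U)
  · apply J.subschemeCover.openCover.hom_ext
    intro (U : S.affineOpens)
    change J.subschemeCover.f U ≫ inclusion (inf_le_right : I ⊓ J ≤ J) ≫ _ =
      J.subschemeCover.f U ≫ β
    rw [subSchemeCover_map_inclusion_assoc, ← h2 U]
    exact congrArg (glueDataObjHom (inf_le_right : I ⊓ J ≤ J) U ≫ ·)
      ((I ⊓ J).subschemeCover.openCover.map_glueMorphismsOfLocallyDirected γU hcompat U)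

/-- **The scheme-theoretic union is the pushout along the scheme-theoretic intersection.** -/
theorem isPushout_subscheme_sup_inf (I J : S.IdealSheafData) :
    IsPushout (inclusion (le_sup_left : I ≤ I ⊔ J)) (inclusion (le_sup_right : J ≤ I ⊔ J))
      (inclusion (inf_le_left : I ⊓ J ≤ I)) (inclusion (inf_le_right : I ⊓ J ≤ J)) := by
  refine ⟨⟨by rw [inclusion_comp, inclusion_comp]⟩, ⟨PushoutCocone.IsColimit.mk _
    (fun s => (subscheme_exists_desc I J s.inl s.inr s.condition).choose)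
    (fun s => (subscheme_exists_desc I J s.inl s.inr s.condition).choose_spec.1)
    (fun s => (subscheme_exists_desc I J s.inl s.inr s.condition).choose_spec.2)
    (fun s m h1 h2 => ?_)⟩⟩
  apply subscheme_hom_ext I J
  · rw [h1, (subscheme_exists_desc I J s.inl s.inr s.condition).choose_spec.1]
  · rw [h2, (subscheme_exists_desc I J s.inl s.inr s.condition).choose_spec.2]

end Groth.Agent.H24
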