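import Mathlib
import Groth.Prelude.Def_W4c2submetdescSubtr
import Groth.Agent.H24.ProConsLim
import Groth.Agent.H24.ProConsPoint
import Groth.Agent.H24.LimPoints
import Groth.Agent.H24.LimDescend2

/-!
# S-subtrusive morphisms and cofiltered limits (helper24)
-/

set_option autoImplicit false

open CategoryTheory AlgebraicGeometry Limits TopologicalSpace Topology

universe u

namespace Groth.Agent.H24

/-- Zariski-open sets are open for the constructible topology of a prespectral space. -/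
theorem isOpen_constructibleTopology_of_isOpen {X : Type*} [TopologicalSpace X]
    [PrespectralSpace X] {s : Set X} (hs : IsOpen s) : IsOpen[constructibleTopology X] s := by
  have hb := PrespectralSpace.isTopologicalBasis (X := X)
  rw [hb.open_eq_sUnion' hs]
  apply @isOpen_sUnion _ (constructibleTopology X)
  rintro t ⟨⟨hto, htc⟩, -⟩
  exact htc.isOpen_constructibleTopology_of_isOpen hto

theorem isClosed_constructibleTopology_of_isClosed {X : Type*} [TopologicalSpace X]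
    [PrespectralSpace X] {s : Set X} (hs : IsClosed s) : IsClosed[constructibleTopology X] s := by
  refine @IsClosed.mk _ (constructibleTopology X) _ ?_
  exact isOpen_constructibleTopology_of_isOpen hs.isOpen_compl

/-- Compactness of the constructible topology, affine-local form: a compatible family of subsets
`Z j ⊆ D j` (for `j` over `i₀`), closed for the constructible topology on the affine pieces
over an affine open `W ⊆ D i₀`, each meeting the preimage of `W`, has a common point in the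
limit lying over `W`. -/
theorem exists_point_of_nonempty_affine {I : Type u} [SmallCategory I] [IsCofiltered I]
    (D : I ⥤ Scheme.{u}) (c : Cone D) (hc : IsLimit c)
    [∀ {i j : I} (f : i ⟶ j), IsAffineHom (D.map f)] (i₀ : I) (W : (D.obj i₀).Opens)
    (hW : IsAffineOpen W) (Z : ∀ j : Over i₀, Set (D.obj j.left))
    (hZ : ∀ j : Over i₀, IsClosed[constructibleTopology ↥((opensDiagram D i₀ W).obj j)]
      ((D.map j.hom ⁻¹ᵁ W).ι ⁻¹' Z j))
    (hmaps : ∀ {j k : Over i₀} (a : j ⟶ k), Set.MapsTo (D.map a.left) (Z j) (Z k))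
    (hne : ∀ j : Over i₀, ∃ z ∈ Z j, D.map j.hom z ∈ W) :
    ∃ x : c.pt, c.π.app i₀ x ∈ W ∧ ∀ j : Over i₀, c.π.app j.left x ∈ Z j := by
  by_contra hcon
  push Not at hcon
  have hAffW : ∀ j : Over i₀, IsAffine ((opensDiagram D i₀ W).obj j) := fun j =>
    hW.preimage (D.map j.hom)
  let ι' : ∀ j : Over i₀, (opensDiagram D i₀ W).obj j ⟶ D.obj j.left := fun j =>
    (D.map j.hom ⁻¹ᵁ W).ι
  let Z' : ∀ j : Over i₀, Set ((opensDiagram D i₀ W).obj j) := fun j => (ι' j) ⁻¹' Z j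
  have hZ' : ∀ j, IsClosed[constructibleTopology _] (Z' j) := hZ
  have hι : ∀ {j k : Over i₀} (f : j ⟶ k),
      (opensDiagram D i₀ W).map f ≫ ι' k = ι' j ≫ D.map f.left := fun f =>
    Scheme.Hom.resLE_comp_ι _ _
  have hmaps' : ∀ {j k : Over i₀} (f : j ⟶ k),
      Set.MapsTo ((opensDiagram D i₀ W).map f) (Z' j) (Z' k) := by
    intro j k f x hx
    have e : (ι' k) (((opensDiagram D i₀ W).map f) x) = (D.map f.left) ((ι' j) x) := by
      rw [← Scheme.Hom.comp_apply, ← Scheme.Hom.comp_apply, hι f]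
    change (ι' k) (((opensDiagram D i₀ W).map f) x) ∈ Z k
    rw [e]
    exact hmaps f hx
  have hπ : ∀ j : Over i₀, (opensCone D c i₀ W).π.app j ≫ ι' j =
      (c.π.app i₀ ⁻¹ᵁ W).ι ≫ c.π.app j.left := fun j => Scheme.Hom.resLE_comp_ι _ _
  have hx : ∀ x : (opensCone D c i₀ W).pt, ∃ j, ((opensCone D c i₀ W).π.app j) x ∉ Z' j := by
    intro x
    let s : c.pt := (c.π.app i₀ ⁻¹ᵁ W).ι x
    have key : ∀ (j : Over i₀),
        (ι' j) (((opensCone D c i₀ W).π.app j) x) = (c.π.app j.left) s := by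
      intro j
      rw [← Scheme.Hom.comp_apply, hπ j]
      rfl
    have hsW : c.π.app i₀ s ∈ W := x.2
    obtain ⟨j, hj⟩ := hcon s hsW
    refine ⟨j, fun hz => hj ?_⟩
    have hz' : (ι' j) (((opensCone D c i₀ W).π.app j) x) ∈ Z j := hz
    rwa [key] at hz'
  obtain ⟨j, hj⟩ := exists_eq_empty_of_isClosed_constructibleTopology (opensDiagram D i₀ W)
    (opensCone D c i₀ W) (isLimitOpensCone D c hc i₀ W) Z' hZ' hmaps' hx
  obtain ⟨z, hzZ, hzW⟩ := hne j
  have hmem : (⟨z, hzW⟩ : ↥((opensDiagram D i₀ W).obj j)) ∈ Z' j := hzZ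
  rw [hj] at hmem
  exact hmem

/-- S-subtrusiveness is invariant under isomorphisms of the source. -/
theorem isSSubtrusive_iso_comp {X X' Y : Scheme.{u}} (e : X' ≅ X) (f : X ⟶ Y)
    (hf : Subtr.IsSSubtrusive f) : Subtr.IsSSubtrusive (e.hom ≫ f) := by
  intro y y' hyy
  obtain ⟨x, x', hxx, hx, hx'⟩ := hf hyy
  refine ⟨e.inv x, e.inv x', hxx.map e.inv.continuous, ?_, ?_⟩
  · rw [← Scheme.Hom.comp_apply, Iso.inv_hom_id_assoc]
    exact hx
  · rw [← Scheme.Hom.comp_apply, Iso.inv_hom_id_assoc]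
    exact hx'

section General

variable {J : Type u} [SmallCategory J] [IsCofiltered J]
  (𝒳 𝒴 : J ⥤ Scheme.{u}) (α : 𝒳 ⟶ 𝒴) (cX : Cone 𝒳) (cY : Cone 𝒴)
  (hcX : IsLimit cX) (hcY : IsLimit cY)
  [∀ {i j : J} (a : i ⟶ j), IsAffineHom (𝒳.map a)]
  [∀ {i j : J} (a : i ⟶ j), IsAffineHom (𝒴.map a)]

include hcX hcY in
/-- A cofiltered limit (with affine transition maps) of quasi-compact S-subtrusive morphisms is
S-subtrusive. -/
theorem isSSubtrusive_of_isLimit (f : cX.pt ⟶ cY.pt)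
    (hf : ∀ j, f ≫ cY.π.app j = cX.π.app j ≫ α.app j)
    (hqc : ∀ j, QuasiCompact (α.app j)) (hss : ∀ j, Subtr.IsSSubtrusive (α.app j)) :
    Subtr.IsSSubtrusive f := by
  intro y y' hyy
  -- notation
  have hfpt : ∀ (j : J) (x : cX.pt), cY.π.app j (f x) = α.app j (cX.π.app j x) := by
    intro j x
    rw [← Scheme.Hom.comp_apply, hf j, Scheme.Hom.comp_apply]
  have hnat : ∀ {j k : J} (a : j ⟶ k) (z : 𝒳.obj j),
      α.app k (𝒳.map a z) = 𝒴.map a (α.app j z) := by
    intro j k a z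
    rw [← Scheme.Hom.comp_apply, ← Scheme.Hom.comp_apply, α.naturality]
  have hcYw : ∀ {j k : J} (a : j ⟶ k) (t : cY.pt), 𝒴.map a (cY.π.app j t) = cY.π.app k t := by
    intro j k a t
    rw [← Scheme.Hom.comp_apply, cY.w]
  have hcXw : ∀ {j k : J} (a : j ⟶ k) (t : cX.pt), 𝒳.map a (cX.π.app j t) = cX.π.app k t := by
    intro j k a t
    rw [← Scheme.Hom.comp_apply, cX.w]
  have hsp : ∀ j, cY.π.app j y' ⤳ cY.π.app j y := fun j => hyy.map (cY.π.app j).continuous
  -- the fibres over the images of `y'` and `y`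
  have hBpro : ∀ (j : J) (t : 𝒴.obj j), ProCons.IsProConstructible ((α.app j) ⁻¹' {t}) :=
    fun j t => Groth.Agent.S15542.result (α.app j) {t} (isProConstructible_singleton t)
  have hBnat : ∀ {j k : J} (a : j ⟶ k) (t : cY.pt),
      Set.MapsTo (𝒳.map a) ((α.app j) ⁻¹' {cY.π.app j t}) ((α.app k) ⁻¹' {cY.π.app k t}) := by
    intro j k a t z hz
    have hz' : α.app j z = cY.π.app j t := hz
    show α.app k (𝒳.map a z) = cY.π.app k t
    rw [hnat, hz', hcYw]
  -- closedness for the constructible topology on affine pieces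
  have hBclosed : ∀ (i₀ : J) (W : (𝒳.obj i₀).Opens) (hW : IsAffineOpen W) (j : Over i₀)
      (t : 𝒴.obj j.left),
      IsClosed[constructibleTopology ↥((opensDiagram 𝒳 i₀ W).obj j)]
        ((𝒳.map j.hom ⁻¹ᵁ W).ι ⁻¹' ((α.app j.left) ⁻¹' {t})) := by
    intro i₀ W hW j t
    have : IsAffine (𝒳.map j.hom ⁻¹ᵁ W).toScheme := hW.preimage (𝒳.map j.hom)
    have : IsAffine ((opensDiagram 𝒳 i₀ W).obj j) := hW.preimage (𝒳.map j.hom)
    exact H17.isClosed_constructibleTopology_of_isProConstructible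
      (H17.isProConstructible_preimage (hBpro j.left t) (𝒳.map j.hom ⁻¹ᵁ W).ι.isOpenEmbedding)
  -- Part A: the sets `E j`
  obtain ⟨E, hEdef⟩ : ∃ E : ∀ j : J, Set (𝒳.obj j), ∀ j, E j =
      closure ((α.app j) ⁻¹' {cY.π.app j y'}) ∩ (α.app j) ⁻¹' {cY.π.app j y} := ⟨_, fun _ => rfl⟩
  have hEne : ∀ j, (E j).Nonempty := by
    intro j
    obtain ⟨x, x', hxx, hx, hx'⟩ := hss j (hsp j)
    refine ⟨x, ?_⟩
    rw [hEdef]
    refine ⟨?_, hx⟩
    have h1 : x ∈ closure ({x'} : Set (𝒳.obj j)) := specializes_iff_mem_closure.mp hxx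
    refine closure_mono ?_ h1
    intro w hw
    rw [Set.mem_singleton_iff.mp hw]
    exact hx'
  have hEnat : ∀ {j k : J} (a : j ⟶ k), Set.MapsTo (𝒳.map a) (E j) (E k) := by
    intro j k a z hz
    rw [hEdef] at hz ⊢
    exact ⟨map_mem_closure (𝒳.map a).continuous hz.1 (hBnat a y'), hBnat a y hz.2⟩
  have hEclosed : ∀ (i₀ : J) (W : (𝒳.obj i₀).Opens) (hW : IsAffineOpen W) (j : Over i₀),
      IsClosed[constructibleTopology ↥((opensDiagram 𝒳 i₀ W).obj j)]
        ((𝒳.map j.hom ⁻¹ᵁ W).ι ⁻¹' E j.left) := by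
    intro i₀ W hW j
    have : IsAffine (𝒳.map j.hom ⁻¹ᵁ W).toScheme := hW.preimage (𝒳.map j.hom)
    have : IsAffine ((opensDiagram 𝒳 i₀ W).obj j) := hW.preimage (𝒳.map j.hom)
    rw [hEdef]
    have h1 : IsClosed[constructibleTopology ↥((opensDiagram 𝒳 i₀ W).obj j)]
        ((𝒳.map j.hom ⁻¹ᵁ W).ι ⁻¹' closure ((α.app j.left) ⁻¹' {cY.π.app j.left y'})) :=
      isClosed_constructibleTopology_of_isClosed
        (isClosed_closure.preimage (𝒳.map j.hom ⁻¹ᵁ W).ι.continuous)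
    exact @IsClosed.inter _ _ _ (constructibleTopology _) h1 (hBclosed i₀ W hW j _)
  -- A point of the limit in all `E j`
  have hexX : ∃ x : cX.pt, ∀ j, cX.π.app j x ∈ E j := by
    classical
    obtain ⟨j₀⟩ := IsCofiltered.nonempty (C := J)
    obtain ⟨_, ⟨V, hV, rfl⟩, hyV, -⟩ := (𝒴.obj j₀).isBasis_affineOpens.exists_subset_of_mem_open
      (Set.mem_univ (cY.π.app j₀ y)) isOpen_univ
    have hV' : IsAffineOpen V := hV
    haveI := hqc j₀
    have hcomp : IsCompact ((α.app j₀) ⁻¹' (V : Set (𝒴.obj j₀))) :=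
      QuasiCompact.isCompact_preimage (f := α.app j₀) _ V.isOpen hV'.isCompact
    obtain ⟨s, hsfin, hs⟩ := isCompact_and_isOpen_iff_finite_and_eq_biUnion_affineOpens.mp
      ⟨hcomp, V.isOpen.preimage (α.app j₀).continuous⟩
    by_contra hno
    push Not at hno
    -- for each member of the cover a stage where `E` misses its preimage
    have hstage : ∀ W : (𝒳.obj j₀).affineOpens, ∃ j : Over j₀,
        ∀ z ∈ E j.left, 𝒳.map j.hom z ∉ W.1 := by
      intro W
      by_contra hW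
      push Not at hW
      obtain ⟨x, -, hx⟩ := exists_point_of_nonempty_affine 𝒳 cX hcX j₀ W.1 W.2
        (fun j => E j.left) (hEclosed j₀ W.1 W.2) (fun a => hEnat a.left) hW
      obtain ⟨j, hj⟩ := hno x
      apply hj
      have h1 : cX.π.app (IsCofiltered.min j j₀) x ∈ E (IsCofiltered.min j j₀) :=
        hx (Over.mk (IsCofiltered.minToRight j j₀))
      have h2 := hEnat (IsCofiltered.minToLeft j j₀) h1
      rwa [hcXw] at h2
    choose jW hjW using hstage
    obtain ⟨m, hm⟩ := IsCofiltered.inf_objs_exists (hsfin.toFinset.image jW)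
    obtain ⟨z, hz⟩ := hEne m.left
    have hzfib : α.app m.left z = cY.π.app m.left y := by
      have := hz
      rw [hEdef] at this
      exact this.2
    have hzV : 𝒳.map m.hom z ∈ (α.app j₀) ⁻¹' (V : Set (𝒴.obj j₀)) := by
      show α.app j₀ (𝒳.map m.hom z) ∈ V
      rw [hnat, hzfib, hcYw]
      exact hyV
    rw [hs] at hzV
    obtain ⟨W, hWs, hzW⟩ := Set.mem_iUnion₂.mp hzV
    have hWmem : jW W ∈ hsfin.toFinset.image jW :=
      Finset.mem_image.mpr ⟨W, hsfin.mem_toFinset.mpr hWs, rfl⟩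
    obtain ⟨b⟩ := hm hWmem
    have hb : b.left ≫ (jW W).hom = m.hom := Over.w b
    apply hjW W (𝒳.map b.left z) (hEnat b.left hz)
    rw [← Scheme.Hom.comp_apply, ← 𝒳.map_comp, hb]
    exact hzW
  obtain ⟨x, hx⟩ := hexX
  have hfx : f x = y := by
    apply point_ext 𝒴 cY hcY
    intro j
    rw [hfpt]
    have := hx j
    rw [hEdef] at this
    exact this.2
  -- `x` lies in the closure of the fibre over `y'`
  have hxcl : x ∈ closure (f ⁻¹' {y'}) := by
    rw [mem_closure_iff]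
    intro O hO hxO
    obtain ⟨_, ⟨k, Ok, hOk, rfl⟩, hxOk, hOkO⟩ :=
      Opens.isBasis_iff_nbhd.mp (isBasis_preimage_isAffineOpen 𝒳 cX hcX) (U := ⟨O, hO⟩) hxO
    have hne : ∀ j : Over k, ∃ z ∈ (α.app j.left) ⁻¹' {cY.π.app j.left y'},
        𝒳.map j.hom z ∈ Ok := by
      intro j
      have h1 := hx j.left
      rw [hEdef] at h1
      have hopen : IsOpen ((𝒳.map j.hom) ⁻¹' (Ok : Set (𝒳.obj k))) :=
        Ok.isOpen.preimage (𝒳.map j.hom).continuous
      have hmem : cX.π.app j.left x ∈ (𝒳.map j.hom) ⁻¹' (Ok : Set (𝒳.obj k)) := by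
        show 𝒳.map j.hom (cX.π.app j.left x) ∈ Ok
        rw [hcXw]
        exact hxOk
      obtain ⟨z, hz1, hz2⟩ := mem_closure_iff.mp h1.1 _ hopen hmem
      exact ⟨z, hz2, hz1⟩
    obtain ⟨x', hx'O, hx'⟩ := exists_point_of_nonempty_affine 𝒳 cX hcX k Ok hOk
      (fun j => (α.app j.left) ⁻¹' {cY.π.app j.left y'})
      (fun j => hBclosed k Ok hOk j _) (fun a => hBnat a.left y') hne
    refine ⟨x', hOkO hx'O, ?_⟩
    show f x' = y'
    apply point_ext 𝒴 cY hcY
    intro j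
    have h1 : α.app (IsCofiltered.min j k) (cX.π.app (IsCofiltered.min j k) x') =
        cY.π.app (IsCofiltered.min j k) y' := hx' (Over.mk (IsCofiltered.minToRight j k))
    rw [← hcYw (IsCofiltered.minToLeft j k) (f x'), ← hcYw (IsCofiltered.minToLeft j k) y',
      hfpt, h1]
  obtain ⟨x', hx', hxx⟩ := exists_specializes_of_mem_closure_proCons _
    (Groth.Agent.S15542.result f {y'} (isProConstructible_singleton y')) x hxcl
  exact ⟨x, x', hxx, hfx, hx'⟩

end General

/-- **Rydh, Submersions 6.?**: the S-subtrusive property passes to cofiltered limits. -/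
theorem isSSubtrusive_limit_of_eventually {I : Type u} [SmallCategory I] [IsCofiltered I]
    (D : I ⥤ Scheme.{u}) (c : Limits.Cone D) (hc : Limits.IsLimit c)
    [∀ (i j : I) (a : i ⟶ j), IsAffineHom (D.map a)] (i₀ : I)
    {X₀ Y₀ : Scheme.{u}} (f₀ : X₀ ⟶ Y₀) (g₀ : Y₀ ⟶ D.obj i₀) [QuasiCompact f₀]
    (h : ∃ (i₁ : I) (ψ : i₁ ⟶ i₀), ∀ (i : I) (φ : i ⟶ i₁),
      Subtr.IsSSubtrusive (pullback.snd f₀ (pullback.fst g₀ (D.map (φ ≫ ψ))))) :
    Subtr.IsSSubtrusive (pullback.snd f₀ (pullback.fst g₀ (c.π.app i₀))) := by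
  obtain ⟨i₁, ψ, hψ⟩ := h
  have hAff : ∀ {i j : I} (a : i ⟶ j), IsAffineHom (D.map a) := fun a => inferInstance
  let α : pbDiagram D ψ (f₀ ≫ g₀) ⟶ pbDiagram D ψ g₀ :=
    { app := fun j => pbRel D ψ f₀ g₀ j
      naturality := fun j k a => pbMap_pbRel D ψ f₀ g₀ a }
  have hY : IsPullback (pullback.fst g₀ (c.π.app i₀)) (pullback.snd g₀ (c.π.app i₀)) g₀
      (c.π.app i₀) := IsPullback.of_hasPullback _ _
  have hX : IsPullback (pullback.fst f₀ (pullback.fst g₀ (c.π.app i₀)))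
      (pullback.snd f₀ (pullback.fst g₀ (c.π.app i₀))) f₀ (pullback.fst g₀ (c.π.app i₀)) :=
    IsPullback.of_hasPullback _ _
  have hcY := isLimitPbCone D ψ g₀ c hc _ _ hY
  have hcX := isLimitPbCone D ψ (f₀ ≫ g₀) c hc _ _ (hX.paste_vert hY)
  refine isSSubtrusive_of_isLimit (pbDiagram D ψ (f₀ ≫ g₀)) (pbDiagram D ψ g₀) α _ _ hcX hcY
    (pullback.snd f₀ (pullback.fst g₀ (c.π.app i₀))) ?_ ?_ ?_
  · intro j
    exact (pbLift_pbRel D ψ f₀ g₀ c _ _ _ _ hY hX j).symm
  · intro j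
    exact MorphismProperty.of_isPullback (P := @QuasiCompact) (isPullback_pbRel D ψ f₀ g₀ j)
      inferInstance
  · intro j
    have e := (isPullback_pbRel D ψ f₀ g₀ j).isoIsPullback _ _
      (IsPullback.of_hasPullback f₀ (pullback.fst g₀ (D.map (j.hom ≫ ψ))))
    have he : ((isPullback_pbRel D ψ f₀ g₀ j).isoIsPullback _ _
      (IsPullback.of_hasPullback f₀ (pullback.fst g₀ (D.map (j.hom ≫ ψ))))).hom ≫
        pullback.snd f₀ (pullback.fst g₀ (D.map (j.hom ≫ ψ))) = pbRel D ψ f₀ g₀ j :=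
      IsPullback.isoIsPullback_hom_snd _ _ _ _
    show Subtr.IsSSubtrusive (pbRel D ψ f₀ g₀ j)
    rw [← he]
    exact isSSubtrusive_iso_comp _ _ (hψ j.left j.hom)

end Groth.Agent.H24
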