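import Mathlib
import Groth.Agent.H24.SubtrLim

/-!
# Pairwise lifting of specializations through cofiltered limits (helper24)
-/

set_option autoImplicit false

open CategoryTheory AlgebraicGeometry Limits TopologicalSpace Topology

universe u

namespace Groth.Agent.H24

section General2

variable {J : Type u} [SmallCategory J] [IsCofiltered J]
  (𝒳 𝒴 : J ⥤ Scheme.{u}) (α : 𝒳 ⟶ 𝒴) (cX : Cone 𝒳) (cY : Cone 𝒴)
  (hcX : IsLimit cX) (hcY : IsLimit cY)
  [∀ {i j : J} (a : i ⟶ j), IsAffineHom (𝒳.map a)]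
  [∀ {i j : J} (a : i ⟶ j), IsAffineHom (𝒴.map a)]

include hcX hcY in
/-- Pairwise form of `isSSubtrusive_of_isLimit`: if a fixed pair `y' , y` of points of the limit
lifts to a specialization `x' ⤳ x` at every stage, it lifts to a specialization in the limit. -/
theorem exists_specializes_lift_of_isLimit (f : cX.pt ⟶ cY.pt)
    (hf : ∀ j, f ≫ cY.π.app j = cX.π.app j ≫ α.app j)
    (hqc : ∀ j, QuasiCompact (α.app j)) (y y' : cY.pt)
    (hss : ∀ j, ∃ x x' : 𝒳.obj j, x' ⤳ x ∧ α.app j x = cY.π.app j y ∧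
      α.app j x' = cY.π.app j y') :
    ∃ x x' : cX.pt, x' ⤳ x ∧ f x = y ∧ f x' = y' := by
  -- notation
  have hfpt : ∀ (j : J) (x : cX.pt), cY.π.app j (f x) = α.app j (cX.π.app j x) := by
    intro j x
    rw [← Scheme.Hom.comp_apply, hf j, Scheme.Hom.comp_apply]
  have hnat : ∀ {j k : J} (a : j ⟶ k) (z : 𝒳.obj j),
      α.app k (𝒳.map a z) = 𝒴.map a (α.app j z) := by
    intro j k a z
    rw [← Scheme.Hom.comp_apply, ← Scheme.Hom.comp_apply, α.naturality]
  have hcYw : ∀ {j k : J} (a : j ⟶ k) (t : cY.pt), 𝒴.map a (cY.π.app j t) = cY.π.app k t := by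
    intro j k a t
    rw [← Scheme.Hom.comp_apply, cY.w]
  have hcXw : ∀ {j k : J} (a : j ⟶ k) (t : cX.pt), 𝒳.map a (cX.π.app j t) = cX.π.app k t := by
    intro j k a t
    rw [← Scheme.Hom.comp_apply, cX.w]
  -- the fibres over the images of `y'` and `y`
  have hBpro : ∀ (j : J) (t : 𝒴.obj j), ProCons.IsProConstructible ((α.app j) ⁻¹' {t}) :=
    fun j t => Groth.Agent.S15542.result (α.app j) {t} (isProConstructible_singleton t)
  have hBnat : ∀ {j k : J} (a : j ⟶ k) (t : cY.pt),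
      Set.MapsTo (𝒳.map a) ((α.app j) ⁻¹' {cY.π.app j t}) ((α.app k) ⁻¹' {cY.π.app k t}) := by
    intro j k a t z hz
    have hz' : α.app j z = cY.π.app j t := hz
    show α.app k (𝒳.map a z) = cY.π.app k t
    rw [hnat, hz', hcYw]
  -- closedness for the constructible topology on affine pieces
  have hBclosed : ∀ (i₀ : J) (W : (𝒳.obj i₀).Opens) (hW : IsAffineOpen W) (j : Over i₀)
      (t : 𝒴.obj j.left),
      IsClosed[constructibleTopology ↥((opensDiagram 𝒳 i₀ W).obj j)]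
        ((𝒳.map j.hom ⁻¹ᵁ W).ι ⁻¹' ((α.app j.left) ⁻¹' {t})) := by
    intro i₀ W hW j t
    have : IsAffine (𝒳.map j.hom ⁻¹ᵁ W).toScheme := hW.preimage (𝒳.map j.hom)
    have : IsAffine ((opensDiagram 𝒳 i₀ W).obj j) := hW.preimage (𝒳.map j.hom)
    exact H17.isClosed_constructibleTopology_of_isProConstructible
      (H17.isProConstructible_preimage (hBpro j.left t) (𝒳.map j.hom ⁻¹ᵁ W).ι.isOpenEmbedding)
  -- Part A: the sets `E j`
  obtain ⟨E, hEdef⟩ : ∃ E : ∀ j : J, Set (𝒳.obj j), ∀ j, E j =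
      closure ((α.app j) ⁻¹' {cY.π.app j y'}) ∩ (α.app j) ⁻¹' {cY.π.app j y} := ⟨_, fun _ => rfl⟩
  have hEne : ∀ j, (E j).Nonempty := by
    intro j
    obtain ⟨x, x', hxx, hx, hx'⟩ := hss j
    refine ⟨x, ?_⟩
    rw [hEdef]
    refine ⟨?_, hx⟩
    have h1 : x ∈ closure ({x'} : Set (𝒳.obj j)) := specializes_iff_mem_closure.mp hxx
    refine closure_mono ?_ h1
    intro w hw
    rw [Set.mem_singleton_iff.mp hw]
    exact hx'
  have hEnat : ∀ {j k : J} (a : j ⟶ k), Set.MapsTo (𝒳.map a) (E j) (E k) := by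
    intro j k a z hz
    rw [hEdef] at hz ⊢
    exact ⟨map_mem_closure (𝒳.map a).continuous hz.1 (hBnat a y'), hBnat a y hz.2⟩
  have hEclosed : ∀ (i₀ : J) (W : (𝒳.obj i₀).Opens) (hW : IsAffineOpen W) (j : Over i₀),
      IsClosed[constructibleTopology ↥((opensDiagram 𝒳 i₀ W).obj j)]
        ((𝒳.map j.hom ⁻¹ᵁ W).ι ⁻¹' E j.left) := by
    intro i₀ W hW j
    have : IsAffine (𝒳.map j.hom ⁻¹ᵁ W).toScheme := hW.preimage (𝒳.map j.hom)
    have : IsAffine ((opensDiagram 𝒳 i₀ W).obj j) := hW.preimage (𝒳.map j.hom)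
    rw [hEdef]
    have h1 : IsClosed[constructibleTopology ↥((opensDiagram 𝒳 i₀ W).obj j)]
        ((𝒳.map j.hom ⁻¹ᵁ W).ι ⁻¹' closure ((α.app j.left) ⁻¹' {cY.π.app j.left y'})) :=
      isClosed_constructibleTopology_of_isClosed
        (isClosed_closure.preimage (𝒳.map j.hom ⁻¹ᵁ W).ι.continuous)
    exact @IsClosed.inter _ _ _ (constructibleTopology _) h1 (hBclosed i₀ W hW j _)
  -- A point of the limit in all `E j`
  have hexX : ∃ x : cX.pt, ∀ j, cX.π.app j x ∈ E j := by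
    classical
    obtain ⟨j₀⟩ := IsCofiltered.nonempty (C := J)
    obtain ⟨_, ⟨V, hV, rfl⟩, hyV, -⟩ := (𝒴.obj j₀).isBasis_affineOpens.exists_subset_of_mem_open
      (Set.mem_univ (cY.π.app j₀ y)) isOpen_univ
    have hV' : IsAffineOpen V := hV
    haveI := hqc j₀
    have hcomp : IsCompact ((α.app j₀) ⁻¹' (V : Set (𝒴.obj j₀))) :=
      QuasiCompact.isCompact_preimage (f := α.app j₀) _ V.isOpen hV'.isCompact
    obtain ⟨s, hsfin, hs⟩ := isCompact_and_isOpen_iff_finite_and_eq_biUnion_affineOpens.mp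
      ⟨hcomp, V.isOpen.preimage (α.app j₀).continuous⟩
    by_contra hno
    push Not at hno
    -- for each member of the cover a stage where `E` misses its preimage
    have hstage : ∀ W : (𝒳.obj j₀).affineOpens, ∃ j : Over j₀,
        ∀ z ∈ E j.left, 𝒳.map j.hom z ∉ W.1 := by
      intro W
      by_contra hW
      push Not at hW
      obtain ⟨x, -, hx⟩ := exists_point_of_nonempty_affine 𝒳 cX hcX j₀ W.1 W.2
        (fun j => E j.left) (hEclosed j₀ W.1 W.2) (fun a => hEnat a.left) hW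
      obtain ⟨j, hj⟩ := hno x
      apply hj
      have h1 : cX.π.app (IsCofiltered.min j j₀) x ∈ E (IsCofiltered.min j j₀) :=
        hx (Over.mk (IsCofiltered.minToRight j j₀))
      have h2 := hEnat (IsCofiltered.minToLeft j j₀) h1
      rwa [hcXw] at h2
    choose jW hjW using hstage
    obtain ⟨m, hm⟩ := IsCofiltered.inf_objs_exists (hsfin.toFinset.image jW)
    obtain ⟨z, hz⟩ := hEne m.left
    have hzfib : α.app m.left z = cY.π.app m.left y := by
      have := hz
      rw [hEdef] at this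
      exact this.2
    have hzV : 𝒳.map m.hom z ∈ (α.app j₀) ⁻¹' (V : Set (𝒴.obj j₀)) := by
      show α.app j₀ (𝒳.map m.hom z) ∈ V
      rw [hnat, hzfib, hcYw]
      exact hyV
    rw [hs] at hzV
    obtain ⟨W, hWs, hzW⟩ := Set.mem_iUnion₂.mp hzV
    have hWmem : jW W ∈ hsfin.toFinset.image jW :=
      Finset.mem_image.mpr ⟨W, hsfin.mem_toFinset.mpr hWs, rfl⟩
    obtain ⟨b⟩ := hm hWmem
    have hb : b.left ≫ (jW W).hom = m.hom := Over.w b
    apply hjW W (𝒳.map b.left z) (hEnat b.left hz)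
    rw [← Scheme.Hom.comp_apply, ← 𝒳.map_comp, hb]
    exact hzW
  obtain ⟨x, hx⟩ := hexX
  have hfx : f x = y := by
    apply point_ext 𝒴 cY hcY
    intro j
    rw [hfpt]
    have := hx j
    rw [hEdef] at this
    exact this.2
  -- `x` lies in the closure of the fibre over `y'`
  have hxcl : x ∈ closure (f ⁻¹' {y'}) := by
    rw [mem_closure_iff]
    intro O hO hxO
    obtain ⟨_, ⟨k, Ok, hOk, rfl⟩, hxOk, hOkO⟩ :=
      Opens.isBasis_iff_nbhd.mp (isBasis_preimage_isAffineOpen 𝒳 cX hcX) (U := ⟨O, hO⟩) hxO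
    have hne : ∀ j : Over k, ∃ z ∈ (α.app j.left) ⁻¹' {cY.π.app j.left y'},
        𝒳.map j.hom z ∈ Ok := by
      intro j
      have h1 := hx j.left
      rw [hEdef] at h1
      have hopen : IsOpen ((𝒳.map j.hom) ⁻¹' (Ok : Set (𝒳.obj k))) :=
        Ok.isOpen.preimage (𝒳.map j.hom).continuous
      have hmem : cX.π.app j.left x ∈ (𝒳.map j.hom) ⁻¹' (Ok : Set (𝒳.obj k)) := by
        show 𝒳.map j.hom (cX.π.app j.left x) ∈ Ok
        rw [hcXw]
        exact hxOk
      obtain ⟨z, hz1, hz2⟩ := mem_closure_iff.mp h1.1 _ hopen hmem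
      exact ⟨z, hz2, hz1⟩
    obtain ⟨x', hx'O, hx'⟩ := exists_point_of_nonempty_affine 𝒳 cX hcX k Ok hOk
      (fun j => (α.app j.left) ⁻¹' {cY.π.app j.left y'})
      (fun j => hBclosed k Ok hOk j _) (fun a => hBnat a.left y') hne
    refine ⟨x', hOkO hx'O, ?_⟩
    show f x' = y'
    apply point_ext 𝒴 cY hcY
    intro j
    have h1 : α.app (IsCofiltered.min j k) (cX.π.app (IsCofiltered.min j k) x') =
        cY.π.app (IsCofiltered.min j k) y' := hx' (Over.mk (IsCofiltered.minToRight j k))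
    rw [← hcYw (IsCofiltered.minToLeft j k) (f x'), ← hcYw (IsCofiltered.minToLeft j k) y',
      hfpt, h1]
  obtain ⟨x', hx', hxx⟩ := exists_specializes_of_mem_closure_proCons _
    (Groth.Agent.S15542.result f {y'} (isProConstructible_singleton y')) x hxcl
  exact ⟨x, x', hxx, hfx, hx'⟩

end General2

end Groth.Agent.H24
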