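import Mathlib
import Groth.Prelude.Def_Omega3
import Groth.Agent.H70.UTTrans.Defs
import Groth.Agent.H93.ThickAff

/-!
# (AF) for helper70's S9784 squad (helper24): an open whose preimage under a surjective closed
immersion is affine is affine
-/

set_option autoImplicit false
universe u
open AlgebraicGeometry CategoryTheory Limits
open Groth.Agent.H70.UTTrans

namespace Groth.Agent.H24.UTT_AF

/-- (AF) -/
theorem isAffineOpen_of_preimage {Z X : Scheme.{u}} (t : Z ⟶ X) [IsClosedImmersion t]
    (ht : Function.Surjective t) (O : X.Opens) (hO : IsAffineOpen (t ⁻¹ᵁ O)) :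
    IsAffineOpen O := by
  haveI : IsAffine (t ⁻¹ᵁ O).toScheme := hO
  have hsurj : Function.Surjective (t ∣_ O).base := by
    rintro ⟨x, hx⟩
    obtain ⟨z, rfl⟩ := ht x
    refine ⟨⟨z, hx⟩, ?_⟩
    apply Subtype.ext
    exact morphismRestrict_base_coe t O ⟨z, hx⟩
  exact Groth.Agent.H93.ThickAff.main (t ∣_ O) hsurj

end Groth.Agent.H24.UTT_AF
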