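import Mathlib
import Groth.Prelude.Def_Omega3
import Groth.Agent.H70.UTTrans.Defs

/-!
# (CV) for helper70's S9784 squad (helper24): bundled universal thickening of rings gives the
unbundled `UnivProp`
-/

set_option autoImplicit false
universe u
open AlgebraicGeometry CategoryTheory Limits
open Groth.Agent.H70.UTTrans

namespace Groth.Agent.H24.UTT_CV

/-- (CV) -/
theorem univProp_of_isUnivThickeningRing (A B B' : Type u) [CommRing A] [CommRing B] [CommRing B']
    [Algebra A B] [Algebra A B'] (π : B' →ₐ[A] B) (h : OmegaSh.IsUnivThickeningRing A B B' π) :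
    UnivProp (algebraMap A B') π.toRingHom := by
  obtain ⟨hsurj, hker, huniv⟩ := h
  refine ⟨hsurj, hker, ?_⟩
  intro D _ δ L hL a ha
  letI : Algebra A D := δ.toAlgebra
  have hδ : ∀ r : A, algebraMap A D r = δ r := fun r => rfl
  let aA : B →ₐ[A] D ⧸ L :=
    { a with
      commutes' := by
        intro r
        have h1 := congr_arg (fun φ : A →+* D ⧸ L => φ r) ha
        simp only [RingHom.comp_apply] at h1
        have h2 : π.toRingHom (algebraMap A B' r) = algebraMap A B r := π.commutes r
        rw [h2] at h1
        exact h1 }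
  have haA : ∀ x, aA x = a x := fun x => rfl
  obtain ⟨a', ha', huniq⟩ := huniv D L hL aA
  refine ⟨a'.toRingHom, ⟨?_, ?_⟩, ?_⟩
  · ext r
    exact a'.commutes r
  · ext x
    have := congr_arg (fun φ : B' →ₐ[A] D ⧸ L => φ x) ha'
    exact this
  · rintro a'' ⟨h1, h2⟩
    let aA'' : B' →ₐ[A] D :=
      { a'' with
        commutes' := by
          intro r
          exact congr_arg (fun φ : A →+* D => φ r) h1 }
    have := huniq aA'' (by
      ext x
      exact congr_arg (fun φ : B' →+* D ⧸ L => φ x) h2)
    rw [← this]

end Groth.Agent.H24.UTT_CV
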