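import Mathlib
import Groth.Prelude.Def_HTop
import Groth.Agent.H24.SubtrLim2

/-!
# Valuation-ring lifting (`HTop.HasValLift`) and cofiltered limits of affine schemes (helper24)

* `exists_specializes_of_valLift`: a lift `Spec W ⟶ X` along an extension of valuation rings
  `V ⟶ W` gives a specialization `z' ⤳ z` in `X ×_Y Spec V` over (generic point ⤳ closed point).
* `exists_valLift_of_specializes`: conversely such a specialization gives a lift.
* `exists_valLift_of_isLimit`: the lifting property passes to cofiltered limits of affine schemes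
  over an affine base.
-/

set_option autoImplicit false

open CategoryTheory AlgebraicGeometry Limits TopologicalSpace Topology IsLocalRing

universe u

namespace Groth.Agent.H24

/-- the generic point of the spectrum of a domain -/
noncomputable def genPt (V : CommRingCat.{u}) [IsDomain V] : ↥(Spec V) :=
  (⟨⊥, Ideal.isPrime_bot⟩ : PrimeSpectrum V)

theorem exists_specializes_of_valLift {X Y : Scheme.{u}} (f : X ⟶ Y) (V : CommRingCat.{u})
    [IsDomain V] [ValuationRing V] (g : Spec V ⟶ Y) (W : CommRingCat.{u}) [IsDomain W]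
    [ValuationRing W] (φ : V ⟶ W) (hφ : HTop.IsExtVal V W φ)
    (g' : Spec W ⟶ X) (hg' : g' ≫ f = Spec.map φ ≫ g) :
    ∃ z z' : ↥(pullback f g), z' ⤳ z ∧ pullback.snd f g z = closedPoint V ∧
      pullback.snd f g z' = genPt V := by
  obtain ⟨hinj, hloc⟩ := hφ
  let l : Spec W ⟶ pullback f g := pullback.lift g' (Spec.map φ) hg'
  have hl : l ≫ pullback.snd f g = Spec.map φ := pullback.lift_snd _ _ _
  have e1 : ∀ t : ↥(Spec W), pullback.snd f g (l t) = Spec.map φ t := fun t => by
    rw [← Scheme.Hom.comp_apply, hl]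
  refine ⟨l (closedPoint W), l (genPt W), ?_, ?_, ?_⟩
  · exact (specializes_closedPoint (R := W) _).map l.continuous
  · exact (e1 _).trans (comap_closedPoint (S := W) φ.hom)
  · refine (e1 _).trans ?_
    apply PrimeSpectrum.ext
    show Ideal.comap φ.hom ⊥ = ⊥
    exact Ideal.comap_bot_of_injective _ hinj

set_option backward.isDefEq.respectTransparency.types false in
theorem exists_valLift_of_specializes {X Y : Scheme.{u}} (f : X ⟶ Y) (V : CommRingCat.{u})
    [IsDomain V] [ValuationRing V] (g : Spec V ⟶ Y) (z z' : ↥(pullback f g)) (h : z' ⤳ z)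
    (hz : pullback.snd f g z = closedPoint V) (hz' : pullback.snd f g z' = genPt V) :
    ∃ (W : CommRingCat.{u}) (_ : IsDomain W) (_ : ValuationRing W) (φ : V ⟶ W),
      HTop.IsExtVal V W φ ∧ ∃ g' : Spec W ⟶ X, g' ≫ f = Spec.map φ ≫ g := by
  obtain ⟨Z, hZ⟩ : ∃ Z : Scheme.{u}, Z = pullback f g := ⟨_, rfl⟩
  subst hZ
  let ρ : (pullback f g).presheaf.stalk z ⟶ (pullback f g).residueField z' :=
    (pullback f g).presheaf.stalkSpecializes h ≫ (pullback f g).residue z'
  obtain ⟨A, hA, hA_local⟩ := exists_factor_valuationRing ρ.hom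
  let toA : (pullback f g).presheaf.stalk z ⟶ .of A :=
    CommRingCat.ofHom (ρ.hom.codRestrict _ hA)
  obtain ⟨k, hkdef⟩ : ∃ k : Spec (.of A) ⟶ pullback f g,
      k = Spec.map toA ≫ (pullback f g).fromSpecStalk z := ⟨_, rfl⟩
  let φ : V ⟶ .of A := Spec.preimage (k ≫ pullback.snd f g)
  have hφ : Spec.map φ = k ≫ pullback.snd f g := Spec.map_preimage _
  -- closed point
  have hk1 : k (closedPoint A) = z := by
    rw [hkdef]
    show (Spec.map toA ≫ (pullback f g).fromSpecStalk z) (closedPoint A) = z
    rw [Scheme.Hom.comp_apply]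
    have : Spec.map toA (closedPoint A) = closedPoint ((pullback f g).presheaf.stalk z) :=
      comap_closedPoint (S := A) (ρ.hom.codRestrict A.toSubring hA)
    rw [this, Scheme.fromSpecStalk_closedPoint]
  -- generic point
  have hw : Spec.map (CommRingCat.ofHom (algebraMap A ((pullback f g).residueField z'))) ≫ k =
      (pullback f g).fromSpecResidueField z' := by
    rw [hkdef]
    rw [Scheme.fromSpecResidueField, ← Scheme.SpecMap_stalkSpecializes_fromSpecStalk h]
    simp_rw [← Spec.map_comp_assoc]
    rfl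
  have hk2 : k (genPt (.of A)) = z' := by
    have h1 : genPt (.of A) =
        Spec.map (CommRingCat.ofHom (algebraMap A ((pullback f g).residueField z')))
          (closedPoint ((pullback f g).residueField z')) := by
      apply PrimeSpectrum.ext
      show (⊥ : Ideal A) = Ideal.comap (algebraMap A ((pullback f g).residueField z')) _
      have hm : maximalIdeal ((pullback f g).residueField z') = ⊥ :=
        IsLocalRing.maximalIdeal_eq_bot
      show (⊥ : Ideal A) = Ideal.comap (algebraMap A ((pullback f g).residueField z'))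
        (maximalIdeal ((pullback f g).residueField z'))
      rw [hm]
      exact (Ideal.comap_bot_of_injective _ (FaithfulSMul.algebraMap_injective _ _)).symm
    rw [h1, ← Scheme.Hom.comp_apply, hw, Scheme.fromSpecResidueField_apply]
  refine ⟨.of A, inferInstance, inferInstance, φ, ⟨?_, ?_⟩, k ≫ pullback.fst f g, ?_⟩
  · -- injective
    have h1 : Spec.map φ (genPt (.of A)) = genPt V := by
      rw [hφ, Scheme.Hom.comp_apply, hk2, hz']
    have h2 : Ideal.comap φ.hom ⊥ = ⊥ := congrArg PrimeSpectrum.asIdeal h1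
    rw [RingHom.injective_iff_ker_eq_bot]
    exact h2
  · -- local
    have h1 : Spec.map φ (closedPoint A) = closedPoint V := by
      rw [hφ, Scheme.Hom.comp_apply, hk1, hz]
    have h2 : Ideal.comap φ.hom (maximalIdeal A) = maximalIdeal V :=
      congrArg PrimeSpectrum.asIdeal h1
    exact ((local_hom_TFAE φ.hom).out 0 4).mpr h2
  · rw [hφ, Category.assoc, Category.assoc, pullback.condition]

section Lim

variable {Y : Scheme.{u}} {I : Type u} [SmallCategory I] [IsCofiltered I] (D : I ⥤ Over Y)
  [∀ i, IsAffine (D.obj i).left] (c : Cone D) (hc : IsLimit ((Over.forget Y).mapCone c))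

include hc in
theorem isAffine_left_of_isLimit_over : IsAffine c.pt.left := by
  haveI : ∀ i, IsAffine ((D ⋙ Over.forget Y).obj i) := fun i =>
    inferInstanceAs (IsAffine (D.obj i).left)
  exact Scheme.isAffine_of_isLimit _ hc

include hc in
/-- The valuation-ring lifting property passes to cofiltered limits of affine schemes over an
affine base. -/
theorem exists_valLift_of_isLimit [IsAffine Y]
    (V : CommRingCat.{u}) [IsDomain V] [ValuationRing V] (g : Spec V ⟶ Y)
    (h : ∀ i, ∃ (W : CommRingCat.{u}) (_ : IsDomain W) (_ : ValuationRing W) (φ : V ⟶ W),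
      HTop.IsExtVal V W φ ∧
        ∃ g' : Spec W ⟶ (D.obj i).left, g' ≫ (D.obj i).hom = Spec.map φ ≫ g) :
    ∃ (W : CommRingCat.{u}) (_ : IsDomain W) (_ : ValuationRing W) (φ : V ⟶ W),
      HTop.IsExtVal V W φ ∧ ∃ g' : Spec W ⟶ c.pt.left, g' ≫ c.pt.hom = Spec.map φ ≫ g := by
  haveI : IsConnected I := IsCofiltered.isConnected I
  have hc' : IsLimit c := isLimitOfReflects (Over.forget Y) hc
  let 𝒳 : I ⥤ Scheme.{u} := (D ⋙ Over.pullback g) ⋙ Over.forget (Spec V)
  let 𝒴 : I ⥤ Scheme.{u} := (Functor.const I).obj (Spec V)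
  let α : 𝒳 ⟶ 𝒴 :=
    { app := fun i => ((Over.pullback g).obj (D.obj i)).hom
      naturality := fun i j a => by
        show ((Over.pullback g).map (D.map a)).left ≫ ((Over.pullback g).obj (D.obj j)).hom =
          ((Over.pullback g).obj (D.obj i)).hom ≫ 𝟙 _
        rw [Over.w, Category.comp_id] }
  let cX : Cone 𝒳 := (Over.forget (Spec V)).mapCone ((Over.pullback g).mapCone c)
  have hcX : IsLimit cX :=
    isLimitOfPreserves (Over.forget (Spec V)) (isLimitOfPreserves (Over.pullback g) hc')
  let cY : Cone 𝒴 := constCone I (Spec V)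
  have hcY : IsLimit cY := isLimitConstCone I (Spec V)
  haveI hXaff : ∀ i, IsAffine (𝒳.obj i) := fun i =>
    inferInstanceAs (IsAffine (pullback (D.obj i).hom g))
  haveI : ∀ {i j : I} (a : i ⟶ j), IsAffineHom (𝒳.map a) := fun a => isAffineHom_of_isAffine _
  haveI : ∀ {i j : I} (a : i ⟶ j), IsAffineHom (𝒴.map a) := fun a => by
    show IsAffineHom (𝟙 (Spec V))
    infer_instance
  let f : cX.pt ⟶ cY.pt := ((Over.pullback g).obj c.pt).hom
  have hf : ∀ j, f ≫ cY.π.app j = cX.π.app j ≫ α.app j := by
    intro j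
    show ((Over.pullback g).obj c.pt).hom ≫ 𝟙 _ =
      ((Over.pullback g).map (c.π.app j)).left ≫ ((Over.pullback g).obj (D.obj j)).hom
    rw [Over.w, Category.comp_id]
    rfl
  have hqc : ∀ j, QuasiCompact (α.app j) := by
    intro j
    haveI : IsAffine (𝒴.obj j) := inferInstanceAs (IsAffine (Spec V))
    haveI : IsAffineHom (α.app j) := isAffineHom_of_isAffine _
    infer_instance
  have hss : ∀ j, ∃ x x' : 𝒳.obj j, x' ⤳ x ∧ α.app j x = cY.π.app j (closedPoint V) ∧
      α.app j x' = cY.π.app j (genPt V) := by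
    intro j
    obtain ⟨W, _, _, φ, hφ, g', hg'⟩ := h j
    obtain ⟨z, z', hzz, hz, hz'⟩ :=
      exists_specializes_of_valLift (D.obj j).hom V g W φ hφ g' hg'
    exact ⟨z, z', hzz, hz, hz'⟩
  obtain ⟨x, x', hxx, hx, hx'⟩ := exists_specializes_lift_of_isLimit 𝒳 𝒴 α cX cY hcX hcY f hf hqc
    (closedPoint V) (genPt V) hss
  exact exists_valLift_of_specializes c.pt.hom V g x x' hxx hx hx'

end Lim

end Groth.Agent.H24
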